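import Groth.Agent.Omega.RegularSmooth
import Mathlib.AlgebraicGeometry.Morphisms.Smooth
import Mathlib.AlgebraicGeometry.Morphisms.FiniteType

/-!
# Regular schemes of finite type over a perfect field are smooth
-/

universe u

open CategoryTheory AlgebraicGeometry

set_option linter.style.haveILetI false

namespace Groth.Agent.FFCurve

theorem smooth_of_regular {k : Type u} [Field k] [PerfectField k] {X : Scheme.{u}}
    (f : X ⟶ Spec (CommRingCat.of k)) [LocallyOfFiniteType f]
    (hreg : ∀ x : X, IsRegularLocalRing (X.presheaf.stalk x)) : Smooth f := by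
  refine (HasRingHomProperty.iff_of_iSup_eq_top (P := @Smooth) (fun V : X.affineOpens => V)
    (iSup_affineOpens_eq_top X)).2 fun V => ?_
  haveI : IsRegularRing Γ(X, V.1) := by
    haveI : IsLocallyNoetherian X := LocallyOfFiniteType.isLocallyNoetherian f
    haveI : IsNoetherianRing Γ(X, V.1) := IsLocallyNoetherian.component_noetherian V
    exact ⟨fun p _ => by
      let s : V.1 := ⟨V.2.fromSpec ⟨p, inferInstance⟩, by
        have := Set.mem_range_self (f := V.2.fromSpec) ⟨p, inferInstance⟩
        rwa [V.2.range_fromSpec] at this⟩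
      let := X.presheaf.algebra_section_stalk s
      have hloc : IsLocalization.AtPrime (X.presheaf.stalk (s : X)) p := V.2.isLocalization_stalk' ⟨p, inferInstance⟩ s.2
      exact @IsRegularLocalRing.of_ringEquiv _ _ (hreg s) _ _
        (IsLocalization.algEquiv p.primeCompl (X.presheaf.stalk (s : X)) (Localization.AtPrime p)).toRingEquiv⟩
  set φ := f.appLE ⊤ V.1 le_top
  refine (RingHom.Smooth.respectsIso.cancel_left_isIso (Scheme.ΓSpecIso (CommRingCat.of k)).inv φ).1 ?_
  algebraize [((Scheme.ΓSpecIso (CommRingCat.of k)).inv ≫ φ).hom]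
  haveI : Algebra.FiniteType k Γ(X, V.1) :=
    (f.finiteType_appLE (isAffineOpen_top _) V.2 le_top).comp
      (RingHom.FiniteType.of_surjective _
        (ConcreteCategory.bijective_of_isIso (Scheme.ΓSpecIso (CommRingCat.of k)).inv).2)
  haveI : Algebra.FinitePresentation k Γ(X, V.1) := Algebra.FinitePresentation.of_finiteType.mp inferInstance
  haveI : Algebra.FormallySmooth k Γ(X, V.1) :=
    (Omega.RegularSmooth.isRegularRing_iff_formallySmooth k Γ(X, V.1)).1 inferInstance
  exact ⟨inferInstance, inferInstance⟩

end Groth.Agent.FFCurve
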