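import Groth.Agent.FF.Linear
import Mathlib.FieldTheory.IsAlgClosed.Basic

/-!
# Special divisors over an algebraically closed field of constants
-/

set_option autoImplicit false

open FunFld WithZero Groth.Agent.FF

namespace Groth.Agent.FFCurve

variable {k K : Type*} [Field k] [Field K] [Algebra k K] (hK : IsFunctionField k K)
include hK

lemma exists_place_not_mem [Infinite k] (s : Finset (Place k K)) : ∃ P : Place k K, P ∉ s := by
  obtain ⟨t, ht⟩ := exists_transcendental hK.1
  have htc : ∀ c : k, Transcendental k (t - algebraMap k K c) := fun c h => ht (by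
    simpa using h.add (isAlgebraic_algebraMap c))
  choose P hP using fun c : k => exists_zero hK.1 (htc c)
  have hinj : Function.Injective P := by
    intro a b hab
    by_contra hne
    have h1 : (P a).1 (algebraMap k K (b - a)) < 1 := by
      rw [show algebraMap k K (b - a) = (t - algebraMap k K a) - (t - algebraMap k K b) by
        rw [map_sub]; ring]
      exact (Valuation.map_sub _ _ _).trans_lt (max_lt (hP a) (hab ▸ hP b))
    rw [val_const (P a) (sub_ne_zero.2 (Ne.symm hne))] at h1
    exact lt_irrefl _ h1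
  obtain ⟨-, ⟨c, rfl⟩, hc⟩ := (Set.infinite_range_of_injective hinj).exists_notMem_finset s
  exact ⟨P c, hc⟩

variable [IsAlgClosed k]

lemma exists_ell_drop {D : Divisor k K} (h : 0 < ell D) :
    ∃ P : Place k K, ell (D - Finsupp.single P 1) + 1 = ell D := by
  classical
  obtain ⟨x, hx, hx0⟩ := (L D).exists_mem_ne_zero_of_ne_bot fun e => by
    simp only [ell] at h
    rw [e, finrank_bot] at h
    exact lt_irrefl _ h
  obtain ⟨P, hP⟩ := exists_place_not_mem hK (D.support ∪ (finite_support_ord hK.1 x).toFinset)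
  simp only [Finset.mem_union, Finsupp.mem_support_iff, Set.Finite.mem_toFinset, Function.mem_support,
    not_or, not_not] at hP
  have h1 : ell (D - Finsupp.single P 1) < ell D :=
    (ell_lt_iff_exists hK D P).2 ⟨x, hx, by rw [hP.1, exp_zero, val_eq_one_iff P hx0]; exact hP.2⟩
  have h2 := (ell_sub_single_le hK D P).2
  rw [deg_eq_one hK P] at h2
  exact ⟨P, by omega⟩

lemma exists_deg_sub {D : Divisor k K} : ∀ (n : ℕ), n ≤ ell D →
    ∃ E : Divisor k K, E.deg = D.deg - n ∧ ell E + n = ell D
  | 0, _ => ⟨D, by simp, rfl⟩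
  | n + 1, h => by
    obtain ⟨E, hdeg, hell⟩ := exists_deg_sub n (Nat.le_of_succ_le h)
    obtain ⟨P, hP⟩ := exists_ell_drop hK (D := E) (by omega)
    refine ⟨E - Finsupp.single P 1, ?_, by omega⟩
    rw [deg_sub, deg_single, deg_eq_one hK P, hdeg]
    push_cast; ring

/-- Nonspecial divisors of degree `g + e - 1` with `ℓ = e`. -/
lemma exists_nonspecial {e : ℕ} (he : e ≤ genus k K + 1) :
    ∃ D : Divisor k K, D.deg = (genus k K : ℤ) + e - 1 ∧ ell D = e := by
  obtain ⟨P, -⟩ := exists_place_not_mem hK (∅ : Finset (Place k K))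
  set D : Divisor k K := Finsupp.single P (2 * genus k K : ℤ)
  have hd : D.deg = 2 * genus k K := by rw [deg_single, deg_eq_one hK P]; simp
  have hl : (ell D : ℤ) = genus k K + 1 := by
    rw [ell_eq_of_deg_ge hK (by omega), hd]; ring
  obtain ⟨E, h1, h2⟩ := exists_deg_sub hK (D := D) (genus k K + 1 - e) (by omega)
  exact ⟨E, by omega, by omega⟩

/-- For `r ≤ g` there is a divisor of degree `r` with `ℓ = 1`. -/
lemma exists_ell_one {r : ℕ} (hr : r ≤ genus k K) :
    ∃ D : Divisor k K, D.deg = r ∧ ell D = 1 := by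
  classical
  obtain ⟨D, hdeg, hell⟩ := exists_nonspecial hK (e := 1) (by omega)
  obtain ⟨z, hz, hzD⟩ := exists_nonneg_equiv hK (D := D) (by omega)
  have hE : (D + div k z).deg = genus k K ∧ ell (D + div k z) = 1 := by
    rw [deg_add, deg_div hK.1, ell_add_div hK hz]; omega
  have key : ∀ n : ℕ, n ≤ genus k K → ∃ E : Divisor k K, 0 ≤ E ∧ E.deg = (genus k K : ℤ) - n ∧ ell E = 1 := by
    intro n
    induction n with
    | zero => exact fun _ => ⟨_, hzD, by simpa using hE.1, hE.2⟩
    | succ n ih =>
      intro hn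
      obtain ⟨E, hE0, hEd, hEl⟩ := ih (Nat.le_of_succ_le hn)
      obtain ⟨Q, hQ⟩ : ∃ Q, 0 < E Q := by
        by_contra! hc
        have : E = 0 := Finsupp.ext fun Q => le_antisymm (hc Q) (hE0 Q)
        rw [this, Divisor.deg, Finsupp.sum_zero_index] at hEd
        omega
      have h0 : 0 ≤ E - Finsupp.single Q 1 := fun R => by
        rw [Finsupp.sub_apply, Finsupp.single_apply]
        split_ifs with e
        · subst e; simp only [Finsupp.coe_zero, Pi.zero_apply]; omega
        · simpa using hE0 R
      refine ⟨E - Finsupp.single Q 1, h0, by rw [deg_sub, deg_single, deg_eq_one hK Q, hEd]; push_cast; ring, ?_⟩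
      have h1 := (ell_sub_single_le hK E Q).1
      have h2 : 1 ≤ ell (E - Finsupp.single Q 1) := by
        haveI := finiteDimensional_L hK (E - Finsupp.single Q 1)
        refine Nat.one_le_iff_ne_zero.2 fun h3 => ?_
        have h4 : (1 : K) ∈ L (E - Finsupp.single Q 1) := fun R => by
          rw [map_one, ← exp_zero, exp_le_exp]; exact h0 R
        rw [Submodule.finrank_eq_zero.1 h3] at h4
        exact one_ne_zero ((Submodule.mem_bot k).1 h4)
      omega
  obtain ⟨E, -, h1, h2⟩ := key (genus k K - r) (Nat.sub_le _ _)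
  exact ⟨E, by omega, h2⟩

omit [IsAlgClosed k] in
lemma ell_eq_of_genus_lt {D : Divisor k K} (h : genus k K < ell D) :
    (ell D : ℤ) = D.deg + 1 - genus k K := by
  obtain ⟨C, hC⟩ := exists_canonical hK
  have hrr := riemann_roch hK hC D
  suffices ell (C - D) = 0 by omega
  by_contra hne
  obtain ⟨z, hz, hzD⟩ := exists_nonneg_equiv hK (D := C - D) (Nat.pos_of_ne_zero hne)
  haveI := finiteDimensional_L hK (C + div k z)
  have h1 : L D ≤ L (C + div k z) := L_mono (by
    rw [← sub_nonneg, show C + div k z - D = C - D + div k z by abel]; exact hzD)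
  have h2 : ell D ≤ ell (C + div k z) := Submodule.finrank_mono h1
  rw [ell_add_div hK hz, ell_canonical hK hC] at h2
  omega

lemma ell_le_deg_of_pos (hg : 1 ≤ genus k K) {D : Divisor k K}
    (hD : 0 < D.deg) : (ell D : ℤ) ≤ D.deg := by
  classical
  rcases Nat.eq_zero_or_pos (ell D) with h0 | h0
  · rw [h0]; push_cast; omega
  obtain ⟨z, hz, hzD⟩ := exists_nonneg_equiv hK h0
  rw [← ell_add_div hK hz (D := D), show D.deg = (D + div k z).deg by rw [deg_add, deg_div hK.1, add_zero]]
  set E := D + div k z
  have hE : 0 < E.deg := by simp only [E, deg_add, deg_div hK.1, add_zero]; exact hD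
  obtain ⟨Q, hQ⟩ : ∃ Q, 0 < E Q := by
    by_contra! hc
    rw [show E = 0 from Finsupp.ext fun Q => le_antisymm (hc Q) (hzD Q), Divisor.deg,
      Finsupp.sum_zero_index] at hE
    exact lt_irrefl _ hE
  have h1 : Finsupp.single Q 1 ≤ E := fun R => by
    rw [Finsupp.single_apply]
    split_ifs with e
    · subst e; omega
    · simpa using hzD R
  have h2 := spec_mono hK h1
  simp only [spec, deg_single, one_mul, deg_eq_one hK Q, ell_single_one hK hg (deg_eq_one hK Q)] at h2
  omega

end Groth.Agent.FFCurve
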