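import Groth.Agent.FFCurve.Curve
import Groth.Agent.FFCurve.Special

/-!
# Line bundles on curves over algebraically closed fields
-/

universe u

open CategoryTheory AlgebraicGeometry TopologicalSpace FunFld
open Groth.Agent.CurveCoh

set_option linter.style.haveILetI false
set_option backward.isDefEq.respectTransparency false
set_option backward.isDefEq.respectTransparency.types false

namespace Groth.Agent.FFCurve

variable (k : Type u) [Field k] {X : Scheme.{u}} [X.Over (Spec (CommRingCat.of k))]
  [IsProper (X ↘ Spec (CommRingCat.of k))]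

include k in
lemma isIntegral_of_connected [Smooth (X ↘ Spec (CommRingCat.of k))] [ConnectedSpace X] : IsIntegral X := by
  haveI : IsLocallyNoetherian X := LocallyOfFiniteType.isLocallyNoetherian (X ↘ Spec (CommRingCat.of k))
  haveI : CompactSpace X := QuasiCompact.compactSpace_of_compactSpace (X ↘ Spec (CommRingCat.of k))
  haveI : IsNoetherian X := { }
  haveI := irreducibleSpace_of_domain_stalks X (CurveCoh.isDomain_stalk k X)
  haveI : ∀ x : X, _root_.IsReduced (X.presheaf.stalk x) := fun x =>
    haveI := CurveCoh.isDomain_stalk k X x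
    inferInstance
  haveI : IsReduced X := isReduced_of_isReduced_stalk X
  exact isIntegral_of_irreducibleSpace_of_isReduced X

variable [IsIntegral X] [RegCurve X] (hdim : topologicalKrullDim X = 1) [IsAlgClosed k]
include hdim

/-- There is a line bundle of degree `g - 1` without cohomology. -/
theorem exists_deg_genus_sub_one :
    ∃ L : X.Modules, PicF.IsInvertible L ∧ Curv2.deg k X L 1 = (Curv2.genus k X : ℤ) - 1 ∧
      Subsingleton (Coh.HH X L 1) := by
  have hK := isFunctionField_of_isAlgClosed (X := X) k hdim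
  obtain ⟨D, hdeg, hell⟩ := exists_nonspecial hK (e := 0) (by omega)
  obtain ⟨M, hM, a, ha, hD⟩ := exists_divOf_eq k hdim D
  have hd : (divOf k hdim hM).deg = D.deg := by rw [hD, FF.deg_sub, FF.deg_div hK.1, sub_zero]
  have hl : ell (divOf k hdim hM) = ell D := by
    rw [hD, sub_eq_add_neg, ← FF.div_inv hK.1, FF.ell_add_div hK (inv_ne_zero ha)]
  refine ⟨M, hM, ?_, ?_⟩
  · rw [deg_eq k hdim hK hM, genus_eq_genus k hdim hK, hd]; omega
  · haveI := CurveCoh.finite_HH_one (k := k) M (FFCurve.hv k hdim) hdim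
      ⟨ProjTwist.isQCoh_of_isInvertible hM, (VBLib.isCoh_of_ofRank (VBLib.ofRank_one_of_invertible hM)).2⟩
    refine (Module.finrank_zero_iff (R := k)).1 ?_
    have := finrank_one k hdim hK hM
    rw [hd, hl] at this
    omega

/-- There is a line bundle of degree `r` with one section, for `r ≤ g`. -/
theorem exists_deg_h0_one {r : ℕ} (hr : r ≤ Curv2.genus k X) :
    ∃ L : X.Modules, PicF.IsInvertible L ∧ Curv2.deg k X L 1 = (r : ℤ) ∧
      Module.finrank k (Coh.HH X L 0) = 1 := by
  have hK := isFunctionField_of_isAlgClosed (X := X) k hdim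
  rw [genus_eq_genus k hdim hK] at hr
  obtain ⟨D, hdeg, hell⟩ := exists_ell_one hK hr
  obtain ⟨M, hM, a, ha, hD⟩ := exists_divOf_eq k hdim D
  refine ⟨M, hM, ?_, ?_⟩
  · rw [deg_eq k hdim hK hM, hD, FF.deg_sub, FF.deg_div hK.1, sub_zero, hdeg]
  · rw [finrank_zero k hdim hK hM, hD, sub_eq_add_neg, ← FF.div_inv hK.1,
      FF.ell_add_div hK (inv_ne_zero ha), hell]

theorem h0_le_deg (hg : 1 ≤ Curv2.genus k X) {L : X.Modules} (hL : PicF.IsInvertible L)
    (hdeg : 0 < Curv2.deg k X L 1) :
    (Module.finrank k (Coh.HH X L 0) : ℤ) ≤ Curv2.deg k X L 1 := by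
  have hK := isFunctionField_of_isAlgClosed (X := X) k hdim
  rw [deg_eq k hdim hK hL] at hdeg ⊢
  rw [finrank_zero k hdim hK hL]
  exact ell_le_deg_of_pos hK (genus_eq_genus (X := X) k hdim hK ▸ hg) hdeg

theorem h1_subsingleton_of_genus_lt {L : X.Modules} (hL : PicF.IsInvertible L)
    (h : Curv2.genus k X < Module.finrank k (Coh.HH X L 0)) : Subsingleton (Coh.HH X L 1) := by
  have hK := isFunctionField_of_isAlgClosed (X := X) k hdim
  rw [genus_eq_genus k hdim hK, finrank_zero k hdim hK hL] at h
  haveI := CurveCoh.finite_HH_one (k := k) L (FFCurve.hv k hdim) hdim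
    ⟨ProjTwist.isQCoh_of_isInvertible hL, (VBLib.isCoh_of_ofRank (VBLib.ofRank_one_of_invertible hL)).2⟩
  refine (Module.finrank_zero_iff (R := k)).1 ?_
  have := finrank_one k hdim hK hL
  have := ell_eq_of_genus_lt hK h
  omega

theorem h0_add_h0_le {L L' : X.Modules} (hL : PicF.IsInvertible L) (hL' : PicF.IsInvertible L')
    (hLL : PicF.IsInvertible (CohB1.tensorMod L L'))
    (hs : Nontrivial (Coh.HH X L 0)) (hs' : Nontrivial (Coh.HH X L' 0)) :
    Module.finrank k (Coh.HH X L 0) + Module.finrank k (Coh.HH X L' 0) ≤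
      Module.finrank k (Coh.HH X (CohB1.tensorMod L L') 0) + 1 := by
  have hK := isFunctionField_of_isAlgClosed (X := X) k hdim
  obtain ⟨P, -⟩ := exists_place_not_mem hK (∅ : Finset (Place k X.functionField))
  obtain ⟨a, ha, hT⟩ := exists_div_tensor k hdim hL hL' hLL
  have hpos : ∀ {M : X.Modules} (hM : PicF.IsInvertible M), Nontrivial (Coh.HH X M 0) →
      0 < ell (divOf k hdim hM) := fun {M} hM h => by
    haveI := h
    haveI := CurveCoh.finite_HH_zero (k := k) M (FFCurve.hv k hdim) hdim
      ⟨ProjTwist.isQCoh_of_isInvertible hM, (VBLib.isCoh_of_ofRank (VBLib.ofRank_one_of_invertible hM)).2⟩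
    rw [← finrank_zero k hdim hK hM]
    exact Module.finrank_pos
  rw [finrank_zero k hdim hK hL, finrank_zero k hdim hK hL', finrank_zero k hdim hK hLL, hT,
    sub_eq_add_neg, ← FF.div_inv hK.1, FF.ell_add_div hK (inv_ne_zero ha)]
  exact FF.ell_add_ell_le hK (FF.deg_eq_one hK P) (hpos hL hs) (hpos hL' hs')

end Groth.Agent.FFCurve
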