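import Groth.Agent.FFCurve.Canonical
import Groth.Agent.FFCurve.AlgClosed
import Groth.Agent.Omega.SheafBC
import Groth.Agent.CMReg.FieldBC
import Groth.Agent.S7673
import Groth.Agent.VBLib.RR
import Groth.Agent.EulerChar.AmpleCurve
import Groth.Agent.S4642
import Groth.Agent.PicLaw.Basic
import Groth.Agent.GGDesc.Basic
import Groth.Agent.CurveSimple.Degree
import Groth.Agent.FormalFun.Conn
import Groth.Agent.ProperFin.Descend

/-!
# The differentials of a smooth proper geometrically connected curve over any field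
-/

universe u

open CategoryTheory CategoryTheory.Limits AlgebraicGeometry
open Groth.Agent.CurveCoh

set_option linter.style.haveILetI false
set_option backward.isDefEq.respectTransparency false
set_option backward.isDefEq.respectTransparency.types false

namespace Groth.Agent.FFCurve.OmegaBC

variable (k : Type u) [Field k] {X : Scheme.{u}} [X.Over (Spec (CommRingCat.of k))]
  [IsProper (X ↘ Spec (CommRingCat.of k))] [Smooth (X ↘ Spec (CommRingCat.of k))]

local notation "Kbar" => AlgebraicClosure k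

/-- A scheme over a field whose global functions are the constants is geometrically connected. -/
theorem geometricallyConnected [Nonempty X]
    (h0 : Module.finrank k (Coh.HH X (Coh.structureModule X) 0) = 1) :
    GeometricallyConnected (X ↘ Spec (CommRingCat.of k)) := by
  refine FormalFun.geometricallyConnected_of_isIso_app _ fun U => ?_
  rcases TopologicalSpace.Opens.eq_bot_or_top U with rfl | rfl
  · haveI : Subsingleton Γ(Spec (CommRingCat.of k), ⊥) :=
      CommRingCat.subsingleton_of_isTerminal (Scheme.sheaf (Spec (CommRingCat.of k))).isTerminalOfEmpty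
    haveI : Subsingleton Γ(X, (X ↘ Spec (CommRingCat.of k)) ⁻¹ᵁ ⊥) :=
      CommRingCat.subsingleton_of_isTerminal (Scheme.sheaf X).isTerminalOfEmpty
    rw [ConcreteCategory.isIso_iff_bijective]
    exact ⟨fun a b _ => Subsingleton.elim a b, fun b => ⟨0, Subsingleton.elim _ _⟩⟩
  · haveI : Nontrivial Γ(X, ⊤) :=
      (X.presheaf.germ ⊤ (Classical.arbitrary X) trivial).hom.domain_nontrivial
    let e := ProperFin.h0Sec (Coh.structureModule X)
    have hinj : Function.Injective (Coh.toGlobal (X ↘ Spec (CommRingCat.of k))) :=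
      haveI : Nontrivial (Coh.Γtop X) := ‹Nontrivial Γ(X, ⊤)›
      RingHom.injective _
    obtain ⟨v, hv0, hv⟩ := finrank_eq_one_iff'.1 h0
    have hsurj : Function.Surjective (Coh.toGlobal (X ↘ Spec (CommRingCat.of k))) := by
      intro y
      obtain ⟨a, ha⟩ := hv (e.symm (show Γ(X, ⊤) from y))
      obtain ⟨b, hb⟩ := hv (e.symm (1 : Γ(X, ⊤)))
      let φ : k →+* Γ(X, ⊤) := Coh.toGlobal (X ↘ Spec (CommRingCat.of k))
      let w : Γ(X, ⊤) := e v
      have key : ∀ c : k, (show Γ(X, ⊤) from e (c • v)) = φ c * w :=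
        fun c => ProperFin.h0Sec_smul _ (Coh.toGlobal _ c) v
      have hb0 : b ≠ 0 := by
        rintro rfl
        rw [zero_smul] at hb
        have := congrArg e hb.symm
        rw [e.apply_symm_apply, map_zero] at this
        exact one_ne_zero (α := Γ(X, ⊤)) this
      have h1 : φ b * w = 1 := by
        rw [← key b, hb]; exact e.apply_symm_apply _
      have h2 : φ a * w = (show Γ(X, ⊤) from y) := by
        rw [← key a, ha]; exact e.apply_symm_apply _
      refine ⟨a / b, ?_⟩
      change φ (a / b) = (show Γ(X, ⊤) from y)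
      rw [← h2, ← mul_one (φ (a / b)), ← h1, ← _root_.mul_assoc, ← map_mul, div_mul_cancel₀ a hb0]
    have hb : Function.Bijective ((X ↘ Spec (CommRingCat.of k)).appTop.hom) :=
      (Function.Bijective.of_comp_iff _
        (ConcreteCategory.bijective_of_isIso (Scheme.ΓSpecIso (CommRingCat.of k)).inv)).1 ⟨hinj, hsurj⟩
    rw [ConcreteCategory.isIso_iff_bijective]
    exact hb

variable [GeometricallyConnected (X ↘ Spec (CommRingCat.of k))] (hdim : topologicalKrullDim X = 1)

local notation "X'" => Curv2.bc k X Kbar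
local notation "p" => Curv2.bcFst k X Kbar

omit [GeometricallyConnected (X ↘ Spec (CommRingCat.of k))] in
theorem finrank_HH_bc {F : X.Modules} (hF : Coh.IsCoh F) (j : ℕ) :
    letI : (X').Over (Spec (CommRingCat.of Kbar)) := ⟨Curv2.bcSnd k X Kbar⟩
    Module.finrank Kbar (Coh.HH X' ((Scheme.Modules.pullback p).obj F) j) =
      Module.finrank k (Coh.HH X F j) :=
  CMReg.finrank_baseChange (f := X ↘ Spec (CommRingCat.of k)) p (Curv2.bcSnd k X Kbar)
    (IsPullback.of_hasPullback _ _) _ hF j

omit [GeometricallyConnected (X ↘ Spec (CommRingCat.of k))] [Smooth (X ↘ Spec (CommRingCat.of k))] in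
theorem finrank_iso {M N : X.Modules} (e : M ≅ N) (j : ℕ) :
    Module.finrank k (Coh.HH X M j) = Module.finrank k (Coh.HH X N j) :=
  (LinearEquiv.ofBijective (CohLin.overLin k (CohLin.hMap e.hom j)) (CohLin.hIso e j).bijective).finrank_eq

omit [GeometricallyConnected (X ↘ Spec (CommRingCat.of k))] in
theorem genus_bc :
    letI : (X').Over (Spec (CommRingCat.of Kbar)) := ⟨Curv2.bcSnd k X Kbar⟩
    Curv2.genus Kbar X' = Curv2.genus k X := by
  letI : (X').Over (Spec (CommRingCat.of Kbar)) := ⟨Curv2.bcSnd k X Kbar⟩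
  haveI : IsProper ((X') ↘ Spec (CommRingCat.of Kbar)) :=
    (inferInstance : IsProper (pullback.snd (X ↘ Spec (CommRingCat.of k))
      (Spec.map (CommRingCat.ofHom (algebraMap k Kbar)))))
  haveI : Smooth ((X') ↘ Spec (CommRingCat.of Kbar)) :=
    (inferInstance : Smooth (pullback.snd (X ↘ Spec (CommRingCat.of k))
      (Spec.map (CommRingCat.ofHom (algebraMap k Kbar)))))
  unfold Curv2.genus
  rw [← finrank_iso Kbar (QCoh.pullbackUnitIso p)]
  exact finrank_HH_bc k (VBLib.isCoh_of_ofRank
    (ProjTwist.isFinLocFreeOfRank_one (PicLoc.isInvertible_structureModule X))) 1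

/-- `Ω` of the base change is the base change of `Ω`. -/
theorem omega_bc :
    Nonempty ((Scheme.Modules.pullback p).obj (Omega.sheaf (X ↘ Spec (CommRingCat.of k))) ≅
      Omega.sheaf (Curv2.bcSnd k X Kbar)) := by
  haveI : Flat (Spec.map (CommRingCat.ofHom (algebraMap k Kbar))) :=
    (HasRingHomProperty.Spec_iff (P := @Flat)).2 (RingHom.flat_algebraMap_iff.2 inferInstance)
  haveI : QuasiSeparated (Curv2.bcSnd k X Kbar) :=
    (inferInstance : QuasiSeparated (pullback.snd (X ↘ Spec (CommRingCat.of k))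
      (Spec.map (CommRingCat.ofHom (algebraMap k Kbar)))))
  exact Omega.SheafBC.nonempty_iso (IsPullback.of_hasPullback _ _)

include hdim

theorem isInvertible_omega : PicF.IsInvertible (Omega.sheaf (X ↘ Spec (CommRingCat.of k))) := by
  haveI : IsIntegral X := CurveCoh.isIntegral_of_smooth k X
  haveI := regCurve_of_smooth (X := X) k hdim
  exact FFCurve.isInvertible_omega k hdim

/-- The facts about the base change to an algebraic closure. -/
theorem bc_props :
    letI : (X').Over (Spec (CommRingCat.of Kbar)) := ⟨Curv2.bcSnd k X Kbar⟩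
    IsProper ((X') ↘ Spec (CommRingCat.of Kbar)) ∧ Smooth ((X') ↘ Spec (CommRingCat.of Kbar)) ∧
      IsIntegral X' ∧ topologicalKrullDim X' = 1 := by
  letI : (X').Over (Spec (CommRingCat.of Kbar)) := ⟨Curv2.bcSnd k X Kbar⟩
  haveI : IsProper ((X') ↘ Spec (CommRingCat.of Kbar)) :=
    (inferInstance : IsProper (pullback.snd (X ↘ Spec (CommRingCat.of k))
      (Spec.map (CommRingCat.ofHom (algebraMap k Kbar)))))
  haveI : Smooth ((X') ↘ Spec (CommRingCat.of Kbar)) :=
    (inferInstance : Smooth (pullback.snd (X ↘ Spec (CommRingCat.of k))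
      (Spec.map (CommRingCat.ofHom (algebraMap k Kbar)))))
  haveI : GeometricallyConnected ((X') ↘ Spec (CommRingCat.of Kbar)) :=
    (inferInstance : GeometricallyConnected (pullback.snd (X ↘ Spec (CommRingCat.of k))
      (Spec.map (CommRingCat.ofHom (algebraMap k Kbar)))))
  exact ⟨inferInstance, inferInstance, CurveCoh.isIntegral_of_smooth Kbar X',
    (S4642.result (K := Kbar) (X ↘ Spec (CommRingCat.of k))).trans hdim⟩

/-- The global functions are the constants. -/
theorem finrank_structure : Module.finrank k (Coh.HH X (Coh.structureModule X) 0) = 1 := by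
  letI : (X').Over (Spec (CommRingCat.of Kbar)) := ⟨Curv2.bcSnd k X Kbar⟩
  obtain ⟨h1, h2, h3, hdK⟩ := bc_props k hdim
  rw [← finrank_HH_bc k (VBLib.isCoh_of_ofRank
    (ProjTwist.isFinLocFreeOfRank_one (PicLoc.isInvertible_structureModule X))), finrank_iso Kbar (QCoh.pullbackUnitIso p)]
  exact VBLib.finrank_H0_structure_eq_one VBLib.bijective_toGlobal_of_isAlgClosed

/-- `h⁰(Ω) = g` and `deg Ω = 2g - 2`. -/
theorem finrank_and_deg :
    Module.finrank k (Coh.HH X (Omega.sheaf (X ↘ Spec (CommRingCat.of k))) 0) = Curv2.genus k X ∧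
      Curv2.deg k X (Omega.sheaf (X ↘ Spec (CommRingCat.of k))) 1 = 2 * (Curv2.genus k X : ℤ) - 2 := by
  letI : (X').Over (Spec (CommRingCat.of Kbar)) := ⟨Curv2.bcSnd k X Kbar⟩
  obtain ⟨h1, h2, h3, hdK⟩ := bc_props k hdim
  haveI := regCurve_of_smooth (X := X') Kbar hdK
  obtain ⟨e⟩ := omega_bc (X := X) k
  have hΩ := VBLib.isCoh_of_ofRank (ProjTwist.isFinLocFreeOfRank_one (isInvertible_omega k hdim))
  have hO := VBLib.isCoh_of_ofRank (ProjTwist.isFinLocFreeOfRank_one (PicLoc.isInvertible_structureModule X))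
  refine ⟨?_, ?_⟩
  · rw [← finrank_HH_bc k hΩ, finrank_iso Kbar e, ← genus_bc k]
    exact finrank_omega_zero Kbar hdK
  · rw [← genus_bc k, ← deg_omega (X := X') Kbar hdK]
    change _ = Curv2.deg Kbar X' (Omega.sheaf (Curv2.bcSnd k X Kbar)) 1
    rw [← EulerChar.deg_iso Kbar e, Curv2.deg, Curv2.deg, S7673.euler_pullback k X Kbar _ hΩ,
      ← EulerChar.euler_iso Kbar (QCoh.pullbackUnitIso p), S7673.euler_pullback k X Kbar _ hO]

/-- `Ω` is globally generated in genus at least one. -/
theorem isGloballyGenerated (hg : 1 ≤ Curv2.genus k X) :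
    Curv2.IsGloballyGenerated (Omega.sheaf (X ↘ Spec (CommRingCat.of k))) := by
  letI : (X').Over (Spec (CommRingCat.of Kbar)) := ⟨Curv2.bcSnd k X Kbar⟩
  obtain ⟨h1, h2, h3, hdK⟩ := bc_props k hdim
  haveI := regCurve_of_smooth (X := X') Kbar hdK
  obtain ⟨e⟩ := omega_bc (X := X) k
  haveI : (Omega.sheaf (X ↘ Spec (CommRingCat.of k))).IsQuasicoherent :=
    ProjTwist.isQCoh_of_isInvertible (isInvertible_omega k hdim)
  haveI : Flat (Spec.map (CommRingCat.ofHom (algebraMap k Kbar))) :=
    (HasRingHomProperty.Spec_iff (P := @Flat)).2 (RingHom.flat_algebraMap_iff.2 inferInstance)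
  haveI : Surjective (Spec.map (CommRingCat.ofHom (algebraMap k Kbar))) :=
    ⟨PrimeSpectrum.comap_surjective_of_faithfullyFlat⟩
  refine GGDesc.isGloballyGenerated_descend (IsPullback.of_hasPullback (X ↘ Spec (CommRingCat.of k)) (Spec.map (CommRingCat.ofHom (algebraMap k Kbar)))) _ ?_
  have hgg : Curv2.IsGloballyGenerated (Omega.sheaf (Curv2.bcSnd k X Kbar)) :=
    isGloballyGenerated_omega (X := X') Kbar hdK (by rw [genus_bc k]; exact hg)
  obtain ⟨I, π, hπ⟩ := hgg
  exact ⟨I, π ≫ e.inv, inferInstance⟩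

/-- An invertible module of degree `2g - 2` with at least `g` sections is `Ω`. -/
theorem iso_of_deg {L : X.Modules} (hL : PicF.IsInvertible L)
    (hdeg : Curv2.deg k X L 1 = 2 * (Curv2.genus k X : ℤ) - 2)
    (hh0 : Curv2.genus k X ≤ Module.finrank k (Coh.HH X L 0)) :
    Nonempty (L ≅ Omega.sheaf (X ↘ Spec (CommRingCat.of k))) := by
  letI : (X').Over (Spec (CommRingCat.of Kbar)) := ⟨Curv2.bcSnd k X Kbar⟩
  obtain ⟨h1, h2, h3, hdK⟩ := bc_props k hdim
  haveI := regCurve_of_smooth (X := X') Kbar hdK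
  haveI : IsIntegral X := CurveCoh.isIntegral_of_smooth k X
  obtain ⟨e⟩ := omega_bc (X := X) k
  set Ω := Omega.sheaf (X ↘ Spec (CommRingCat.of k))
  have hΩ : PicF.IsInvertible Ω := isInvertible_omega k hdim
  have h0 := finrank_structure (X := X) k hdim
  obtain ⟨M, hM, ⟨w⟩⟩ := PicLaw.exists_inverse hL
  have hO := PicLoc.isInvertible_structureModule X
  have hN : PicF.IsInvertible (CohB1.tensorMod Ω M) := AmpleLib.isInvertible_tensorMod hΩ hM
  have hc : ∀ {F : X.Modules}, PicF.IsInvertible F → Coh.IsCoh F := fun h =>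
    VBLib.isCoh_of_ofRank (ProjTwist.isFinLocFreeOfRank_one h)
  -- `h¹(L) = h⁰(Ω ⊗ L⁻¹)`
  obtain ⟨t1⟩ := PicLaw.pullback_tensor p hL hM
  obtain ⟨t2⟩ := PicLaw.pullback_tensor p hΩ hM
  have hdual := finrank_one_eq_dual Kbar hdK (PicCl.isInvertible_pullback p hL)
    ⟨t1.symm ≪≫ (Scheme.Modules.pullback p).mapIso w ≪≫ QCoh.pullbackUnitIso p⟩
    (PicCl.isInvertible_pullback p hM)
  have h1L : Module.finrank k (Coh.HH X L 1) = Module.finrank k (Coh.HH X (CohB1.tensorMod Ω M) 0) := by
    rw [← finrank_HH_bc k (hc hL), ← finrank_HH_bc k (hc hN), finrank_iso Kbar t2, hdual]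
    exact finrank_iso Kbar (PicGrp.tensorModIso e.symm (Iso.refl _)) 0
  have hpos : 0 < Module.finrank k (Coh.HH X (CohB1.tensorMod Ω M) 0) := by
    rw [← h1L]
    have h := CurveSimple.euler_eq k hdim L
    have h' := CurveSimple.euler_eq k hdim (Coh.structureModule X)
    simp only [Curv2.deg, Nat.cast_one, one_mul] at hdeg
    unfold Curv2.genus at hdeg hh0
    omega
  haveI := Module.nontrivial_of_finrank_pos hpos
  obtain ⟨σ, hσ⟩ := CurveSimple.exists_hom_ne_zero (L := CohB1.tensorMod Ω M) inferInstance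
  have hM1 := ProjTwist.isFinLocFreeOfRank_one hM
  have d1 := EulerChar.deg_tens k (ProjTwist.isFinLocFreeOfRank_one hΩ) hdim.le hM1
  have d2 := EulerChar.deg_tens k (ProjTwist.isFinLocFreeOfRank_one hL) hdim.le hM1
  rw [show Curv2.deg k X (CohDev.tens L M) (1 * 1) = 0 by
    simp only [Curv2.deg, one_mul, Nat.cast_one]
    rw [EulerChar.euler_iso k (show CohDev.tens L M ≅ _ from w), sub_self]] at d2
  have hd0 : Curv2.deg k X (CohB1.tensorMod Ω M) 1 = 0 := by
    have := (finrank_and_deg k hdim).2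
    change Curv2.deg k X (CohDev.tens Ω M) 1 = 0
    simp only [one_mul, Nat.cast_one] at d1 d2
    linarith
  obtain ⟨v⟩ := (CurveSimple.deg_nonneg_of_hom k hdim hN σ hσ).2 hd0
  obtain ⟨a1⟩ := PicLaw.tensor_structureModule hΩ
  obtain ⟨a2⟩ := PicLaw.tensor_comm hL hM
  obtain ⟨a3⟩ := PicLaw.tensor_assoc hΩ hM hL
  obtain ⟨a4⟩ := PicLaw.tensor_comm hO hL
  obtain ⟨a5⟩ := PicLaw.tensor_structureModule hL
  exact ⟨(a1.symm ≪≫ PicGrp.tensorModIso (Iso.refl Ω) (w.symm ≪≫ a2) ≪≫ a3.symm ≪≫
    PicGrp.tensorModIso v (Iso.refl L) ≪≫ a4 ≪≫ a5).symm⟩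

end Groth.Agent.FFCurve.OmegaBC
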