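import Groth.Agent.FFCurve.VeryAmple
import Groth.Agent.FFCurve.OmegaBC
import Groth.Agent.FF.LimitLin
import Groth.Agent.ProperFin.PnBase
import Groth.Agent.TwistFlat.Chart
import Groth.Agent.DimOneAmple.AmpleOfGG

/-!
# The canonical embedding
-/

universe u

open CategoryTheory CategoryTheory.Limits AlgebraicGeometry TopologicalSpace FunFld WithZero
open Groth.Agent.CurveCoh Groth.Agent.Props.GenLocus

set_option linter.style.haveILetI false
set_option linter.unusedSectionVars false
set_option synthInstance.maxHeartbeats 200000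
set_option maxHeartbeats 1000000
set_option backward.isDefEq.respectTransparency false
set_option backward.isDefEq.respectTransparency.types false

namespace Groth.Agent.FFCurve

variable {X : Scheme.{u}} [IsIntegral X] (k : Type u) [Field k] [X.Over (Spec (CommRingCat.of k))]
  [IsProper (X ↘ Spec (CommRingCat.of k))]

section AlgClosed

variable [RegCurve X] [IsAlgClosed k] (hdim : topologicalKrullDim X = 1)
include hdim

/-- A very ample invertible module separates. -/
theorem isSep_of_veryAmple {L : X.Modules} (hL : PicF.IsInvertible L) {n : ℕ}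
    (i : X ⟶ CohB1.ProjSpace n k) [IsClosedImmersion i]
    (hi : i ≫ CohB1.ProjSpace.toSpec n k = X ↘ Spec (CommRingCat.of k))
    (τ : (Scheme.Modules.pullback i).obj (Twist.twistProjSpace n k 1) ≅ L) :
    IsSep k (divOf k hdim hL) :=
  have h := PicCl.isInvertible_pullback i (ProjTwist.isInvertible_twistProjSpace n k 1)
  DivEq.isSep k hdim (DivEq.symm' k hdim (divEq_iso k hdim h hL τ)) (isSep_of_closedImmersion k hdim i hi h)

/-- The canonical divisor separates exactly when there is no `g¹₂`. -/
theorem isSep_canonical_iff {C : Divisor k X.functionField} (hC : IsCanonical k X.functionField C)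
    (hg : 2 ≤ Curv2.genus k X) :
    IsSep k C ↔ ¬ ∃ M : X.Modules, PicF.IsInvertible M ∧ Curv2.deg k X M 1 = 2 ∧
      Module.finrank k (Coh.HH X M 0) = 2 := by
  classical
  have hK := isFunctionField_of_isAlgClosed (X := X) k hdim
  have hg' := hg
  rw [genus_eq_genus k hdim hK] at hg'
  have hCl := FF.ell_canonical hK hC
  have hdeg : ∀ P : Place k X.functionField, P.deg = 1 := fun P => FF.deg_eq_one hK P
  have key : ∀ D : Divisor k X.functionField, D.deg = 2 →
      (ell (C - D) + 2 = ell C ↔ ell D = 1) := fun D hD => by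
    have h := FF.riemann_roch hK hC D
    rw [hD] at h
    omega
  have hPQ : ∀ P Q : Place k X.functionField,
      (Finsupp.single P 1 + Finsupp.single Q 1 : Divisor k X.functionField).deg = 2 := fun P Q => by
    rw [FF.deg_add, FF.deg_single, FF.deg_single, hdeg, hdeg]; norm_num
  constructor
  · rintro hs ⟨M, hM, hd, hh⟩
    rw [deg_eq k hdim hK hM] at hd
    rw [finrank_zero k hdim hK hM] at hh
    obtain ⟨w, hw, hnn⟩ := FF.exists_nonneg_equiv hK (D := divOf k hdim hM) (by omega)
    set D := divOf k hdim hM + div k w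
    have hD : D.deg = 2 := by rw [FF.deg_add, FF.deg_div hK.1, hd, add_zero]
    have hDl : ell D = 2 := by rw [FF.ell_add_div hK hw, hh]
    obtain ⟨P, hP⟩ : ∃ P, 1 ≤ D P := by
      by_contra! h
      rw [show D = 0 from Finsupp.ext fun P => le_antisymm
        (by have := h P; simp only [Finsupp.coe_zero, Pi.zero_apply]; omega) (hnn P), FF.deg_zero'] at hD
      exact absurd hD (by norm_num)
    set D1 := D - Finsupp.single P 1
    have hD1 : 0 ≤ D1 := fun Q => by
      simp only [D1, Finsupp.coe_zero, Pi.zero_apply]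
      rw [Finsupp.sub_apply, Finsupp.single_apply]
      have := hnn Q
      change 0 ≤ D Q at this
      split_ifs with e
      · subst e; omega
      · omega
    have hD1d : D1.deg = 1 := by rw [FF.deg_sub, FF.deg_single, hdeg, hD]; norm_num
    obtain ⟨Q, hQ⟩ : ∃ Q, 1 ≤ D1 Q := by
      by_contra! h
      rw [show D1 = 0 from Finsupp.ext fun Q => le_antisymm
        (by have := h Q; simp only [Finsupp.coe_zero, Pi.zero_apply]; omega) (hD1 Q), FF.deg_zero'] at hD1d
      exact absurd hD1d (by norm_num)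
    have hle : Finsupp.single P 1 + Finsupp.single Q 1 ≤ D := fun R => by
      have h1 := hnn R
      have h2 := hD1 R
      simp only [D1, Finsupp.coe_zero, Pi.zero_apply, Finsupp.sub_apply, Finsupp.add_apply] at h1 h2 hQ ⊢
      by_cases hQR : Q = R
      · subst hQR
        rw [Finsupp.single_eq_same]
        omega
      · rw [Finsupp.single_eq_of_ne (Ne.symm hQR)]
        omega
    have heq : Finsupp.single P 1 + Finsupp.single Q 1 = D := by
      by_contra hne
      obtain ⟨R, hR⟩ := Finsupp.ne_iff.1 hne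
      have h3 : Finsupp.single R 1 ≤ D - (Finsupp.single P 1 + Finsupp.single Q 1) := fun S => by
        have h4 := hle S
        simp only [Finsupp.sub_apply, Finsupp.single_apply] at h4 ⊢
        split_ifs with e
        · subst e
          omega
        · omega
      have h5 := FF.deg_mono h3
      rw [FF.deg_sub, hPQ, hD, FF.deg_single, hdeg] at h5
      norm_num at h5
    have h := (key D hD).1 (by
      rw [← heq, ← sub_sub]; exact hs P Q)
    omega
  · intro hno P Q
    rw [sub_sub]
    refine (key _ (hPQ P Q)).2 ?_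
    set D : Divisor k X.functionField := Finsupp.single P 1 + Finsupp.single Q 1
    have hD0 : (0 : Divisor k X.functionField) ≤ D :=
      add_nonneg (Finsupp.single_nonneg.2 zero_le_one) (Finsupp.single_nonneg.2 zero_le_one)
    have h1 : 1 ≤ ell D := by
      have := (FF.relDim_L_ell hK.1 hD0).1
      rw [FF.ell_zero hK] at this
      exact this
    by_contra hne
    obtain ⟨M, hM, a, ha, hMD⟩ := exists_divOf_eq k hdim D
    have hd : (divOf k hdim hM).deg = 2 := by rw [hMD, FF.deg_sub, FF.deg_div hK.1, sub_zero, hPQ]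
    have hl : ell (divOf k hdim hM) = ell D := by
      rw [hMD, sub_eq_add_neg, ← FF.div_inv hK.1, FF.ell_add_div hK (inv_ne_zero ha)]
    have hdM : Curv2.deg k X M 1 = 2 := by rw [deg_eq k hdim hK hM, hd]
    have hub := h0_le_deg k hdim (by omega) hM (by rw [hdM]; norm_num)
    rw [finrank_zero k hdim hK hM, hl, hdM] at hub
    exact hno ⟨M, hM, hdM, by rw [finrank_zero k hdim hK hM, hl]; omega⟩

/-- The canonical module is very ample exactly when there is no `g¹₂`. -/
theorem omega_veryAmple_iff [Smooth (X ↘ Spec (CommRingCat.of k))] (hg : 2 ≤ Curv2.genus k X) :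
    (∃ (n : ℕ) (i : X ⟶ CohB1.ProjSpace n k), IsClosedImmersion i ∧
        i ≫ CohB1.ProjSpace.toSpec n k = X ↘ Spec (CommRingCat.of k) ∧
        Nonempty ((Scheme.Modules.pullback i).obj (Twist.twistProjSpace n k 1) ≅
          Omega.sheaf (X ↘ Spec (CommRingCat.of k)))) ↔
      ¬ ∃ M : X.Modules, PicF.IsInvertible M ∧ Curv2.deg k X M 1 = 2 ∧
        Module.finrank k (Coh.HH X M 0) = 2 := by
  rw [← isSep_canonical_iff k hdim (isCanonical_omega (X := X) k hdim) hg]
  refine ⟨?_, fun h => exists_closedImmersion_of_isSep k hdim (isInvertible_omega k hdim) h⟩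
  rintro ⟨n, i, hi, hi', ⟨τ⟩⟩
  haveI := hi
  exact isSep_of_veryAmple k hdim _ i hi' τ

end AlgClosed

section Field

variable [Smooth (X ↘ Spec (CommRingCat.of k))] [GeometricallyConnected (X ↘ Spec (CommRingCat.of k))]
  (hdim : topologicalKrullDim X = 1)
include hdim

local notation "Kbar" => AlgebraicClosure k
local notation "X'" => Curv2.bc k X Kbar
local notation "p" => Curv2.bcFst k X Kbar

/-- The canonical module is very ample exactly when the geometric curve has no `g¹₂`. -/
theorem omega_veryAmple_iff_bc [GeometricallyIntegral (X ↘ Spec (CommRingCat.of k))]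
    (hg : 2 ≤ Curv2.genus k X) :
    (∃ (n : ℕ) (i : X ⟶ CohB1.ProjSpace n k), IsClosedImmersion i ∧
        i ≫ CohB1.ProjSpace.toSpec n k = X ↘ Spec (CommRingCat.of k) ∧
        Nonempty ((Scheme.Modules.pullback i).obj (Twist.twistProjSpace n k 1) ≅
          Omega.sheaf (X ↘ Spec (CommRingCat.of k)))) ↔
      letI : (X').Over (Spec (CommRingCat.of Kbar)) := ⟨Curv2.bcSnd k X Kbar⟩
      ¬ ∃ L : (X').Modules, PicF.IsInvertible L ∧ Curv2.deg Kbar X' L 1 = 2 ∧
        Module.finrank Kbar (Coh.HH X' L 0) = 2 := by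
  letI : (X').Over (Spec (CommRingCat.of Kbar)) := ⟨Curv2.bcSnd k X Kbar⟩
  obtain ⟨h1, h2, h3, hdK⟩ := OmegaBC.bc_props (X := X) k hdim
  haveI := regCurve_of_smooth (X := X') Kbar hdK
  obtain ⟨e⟩ := OmegaBC.omega_bc (X := X) k
  have hgK : 2 ≤ Curv2.genus Kbar X' := by rw [OmegaBC.genus_bc k]; exact hg
  rw [← omega_veryAmple_iff (X := X') Kbar hdK hgK]
  set Ω := Omega.sheaf (X ↘ Spec (CommRingCat.of k))
  have hΩ : PicF.IsInvertible Ω := OmegaBC.isInvertible_omega k hdim
  constructor
  · rintro ⟨n, i, hi, hi', ⟨τ⟩⟩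
    haveI := hi
    have hsq := ProperFin.isPullback_pnMap n (algebraMap k Kbar)
    let ψ : X' ⟶ CohB1.ProjSpace n Kbar := hsq.lift (p ≫ i) (Curv2.bcSnd k X Kbar)
      (by rw [Category.assoc, hi']; exact pullback.condition)
    have h1' : ψ ≫ ProperFin.pnMap n (algebraMap k Kbar) = p ≫ i := hsq.lift_fst _ _ _
    have h2' : ψ ≫ CohB1.ProjSpace.toSpec n Kbar = Curv2.bcSnd k X Kbar := hsq.lift_snd _ _ _
    have hsq' : IsPullback p ψ i (ProperFin.pnMap n (algebraMap k Kbar)) := by
      refine IsPullback.of_bot ?_ h1'.symm hsq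
      rw [hi', h2']
      exact IsPullback.of_hasPullback _ _
    haveI : IsClosedImmersion ψ := MorphismProperty.of_isPullback hsq' hi
    obtain ⟨w⟩ := TwistFlat.nonempty_pullback_twist n (algebraMap k Kbar) 1
    refine ⟨n, ψ, inferInstance, h2', ⟨?_⟩⟩
    exact (Scheme.Modules.pullback ψ).mapIso w.symm ≪≫
      (Scheme.Modules.pullbackComp ψ (ProperFin.pnMap n (algebraMap k Kbar))).app _ ≪≫
      (Scheme.Modules.pullbackCongr h1').app _ ≪≫
      ((Scheme.Modules.pullbackComp p i).app _).symm ≪≫
      (Scheme.Modules.pullback p).mapIso τ ≪≫ e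
  · rintro ⟨m, j, hj, hj', ⟨σ⟩⟩
    haveI := hj
    have hΩK := PicCl.isInvertible_pullback p hΩ
    have hΩK' : PicF.IsInvertible (Omega.sheaf ((X') ↘ Spec (CommRingCat.of Kbar))) :=
      FFCurve.isInvertible_omega Kbar hdK
    have hs : IsSep Kbar (divOf Kbar hdK hΩK) :=
      DivEq.isSep Kbar hdK (DivEq.symm' Kbar hdK (divEq_iso Kbar hdK hΩK' hΩK e.symm))
        (isSep_of_veryAmple Kbar hdK hΩK' j hj' σ)
    obtain ⟨hh, hd⟩ := OmegaBC.finrank_and_deg (X := X) k hdim
    have hgg := OmegaBC.isGloballyGenerated (X := X) k hdim (by omega)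
    obtain ⟨n, hn⟩ : ∃ n, Module.finrank k (Coh.HH X Ω 0) = n + 1 :=
      ⟨Curv2.genus k X - 1, by rw [hh]; omega⟩
    haveI := EulerChar.finite_HH k Ω (VBLib.isCoh_of_ofRank (ProjTwist.isFinLocFreeOfRank_one hΩ)) 0
    obtain ⟨b, hb⟩ := CurveSimple.exists_generatedBy k hn fun y => by
      obtain ⟨σ, hσ⟩ := DimOneAmple.exists_genLocus_mem hΩ hgg y
      exact ⟨homOfSec σ, by rwa [AmpleLib.genLocus_homOfSec]⟩
    obtain ⟨i, hi, hi', hτ⟩ := CurveSimple.exists_closedImmersion_of_bc k hdim hΩ (by rw [hd]; omega) _ hb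
      (fun σ => ⟨fun j => b.repr ((ProperFin.h0Sec Ω).symm σ) j, by
        conv_lhs => rw [← (ProperFin.h0Sec Ω).apply_symm_apply σ, ← b.sum_repr ((ProperFin.h0Sec Ω).symm σ),
          map_sum]
        exact Finset.sum_congr rfl fun j _ => ProperFin.h0Sec_smul Ω
          (Coh.toGlobal (X ↘ Spec (CommRingCat.of k)) _) (b j)⟩)
      (isTwoNonspecial_of_isSep Kbar hdK hΩK hs)
    exact ⟨n, i, hi, hi', hτ⟩

end Field

omit [IsIntegral X] in
/-- Smooth proper geometrically connected curves are geometrically integral. -/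
theorem geometricallyIntegral [Smooth (X ↘ Spec (CommRingCat.of k))]
    [GeometricallyConnected (X ↘ Spec (CommRingCat.of k))] :
    GeometricallyIntegral (X ↘ Spec (CommRingCat.of k)) := by
  haveI : ObjectProperty.IsClosedUnderIsomorphisms (IsIntegral : Scheme.{u} → Prop) :=
    ⟨fun {A B} e (hA : IsIntegral A) => by
      haveI := hA
      haveI : Nonempty B := ⟨e.hom (Classical.arbitrary A)⟩
      exact isIntegral_of_isOpenImmersion e.inv⟩
  refine ⟨geometrically_iff_of_isClosedUnderIsomorphisms.mpr fun K _ t => ?_⟩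
  letI : (pullback (X ↘ Spec (CommRingCat.of k)) t).Over (Spec (CommRingCat.of K)) :=
    ⟨pullback.snd (X ↘ Spec (CommRingCat.of k)) t⟩
  haveI : IsProper (pullback (X ↘ Spec (CommRingCat.of k)) t ↘ Spec (CommRingCat.of K)) :=
    (inferInstance : IsProper (pullback.snd (X ↘ Spec (CommRingCat.of k)) t))
  haveI : Smooth (pullback (X ↘ Spec (CommRingCat.of k)) t ↘ Spec (CommRingCat.of K)) :=
    (inferInstance : Smooth (pullback.snd (X ↘ Spec (CommRingCat.of k)) t))
  haveI : GeometricallyConnected (pullback (X ↘ Spec (CommRingCat.of k)) t ↘ Spec (CommRingCat.of K)) :=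
    (inferInstance : GeometricallyConnected (pullback.snd (X ↘ Spec (CommRingCat.of k)) t))
  exact CurveCoh.isIntegral_of_smooth K _

end Groth.Agent.FFCurve
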