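import Groth.Agent.FFCurve.GlobGen
import Groth.Agent.FFCurve.Smooth
import Groth.Agent.Omega.DiagUniv
import Groth.Agent.Omega.LocalStructure
import Groth.Agent.Omega.Stalks
import Groth.Agent.Omega.RankDimGen
import Groth.Agent.FFWr.DegDiff
import Groth.Agent.FFWr.Count
import Mathlib.FieldTheory.RatFunc.Basic

/-!
# The sheaf of differentials of a curve and canonical divisors
-/

universe u

open CategoryTheory AlgebraicGeometry TopologicalSpace FunFld WithZero
open Groth.Agent.CurveCoh Groth.Agent.PullStalk.Sky Groth.Agent.Props.GenLocus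

set_option linter.style.haveILetI false
set_option backward.isDefEq.respectTransparency false
set_option backward.isDefEq.respectTransparency.types false

namespace Groth.Agent.FFCurve

variable (k : Type u) [Field k]

/-- The trace of the base field in the local rings. -/
lemma exists_toGlobal_eq {X : Scheme.{u}} (f : X ⟶ Spec (CommRingCat.of k)) (x : X)
    (c : (Spec (CommRingCat.of k)).presheaf.stalk (f x)) :
    ∃ a : k, f.stalkMap x c = X.presheaf.germ ⊤ x trivial (Coh.toGlobal f a) := by
  obtain ⟨U, hy, s, rfl⟩ := (Spec (CommRingCat.of k)).presheaf.exists_germ_eq (x := f x) c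
  have hU : U = ⊤ := Opens.ext (Set.eq_univ_of_forall fun y => Subsingleton.elim (f x) y ▸ hy)
  subst hU
  refine ⟨(Scheme.ΓSpecIso (CommRingCat.of k)).hom s, ?_⟩
  rw [Scheme.Hom.germ_stalkMap_apply]
  change _ = X.presheaf.germ ⊤ x trivial (f.app ⊤ ((Scheme.ΓSpecIso (CommRingCat.of k)).inv
    ((Scheme.ΓSpecIso (CommRingCat.of k)).hom s)))
  rw [Iso.hom_inv_id_apply]
  rfl

lemma germ_toGlobal_eq_stalkMap {X : Scheme.{u}} (f : X ⟶ Spec (CommRingCat.of k)) (x : X) (a : k) :
    X.presheaf.germ ⊤ x trivial (Coh.toGlobal f a) =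
      f.stalkMap x ((Spec (CommRingCat.of k)).presheaf.germ ⊤ (f x) trivial
        ((Scheme.ΓSpecIso (CommRingCat.of k)).inv a)) := by
  rw [Scheme.Hom.germ_stalkMap_apply]
  rfl

lemma trdeg_eq_one_of_isFF {K : Type u} [Field K] [Algebra k K] (hK : FF.IsFF k K) :
    Algebra.trdeg k K = 1 := by
  obtain ⟨f, hf, hfin⟩ := hK
  haveI := hfin
  obtain ⟨e, -⟩ := FF.exists_gen_hom f hf
  haveI : FaithfulSMul (Polynomial k) (RatFunc k) :=
    (faithfulSMul_iff_algebraMap_injective _ _).2 (IsFractionRing.injective (Polynomial k) (RatFunc k))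
  have h0 : Algebra.trdeg (Polynomial k) (RatFunc k) = 0 :=
    haveI : Algebra.IsAlgebraic (Polynomial k) (RatFunc k) := IsLocalization.isAlgebraic _ (nonZeroDivisors (Polynomial k))
    trdeg_eq_zero
  have h1 : Algebra.trdeg k (RatFunc k) = 1 := by
    rw [← trdeg_add_eq k (Polynomial k) (A := RatFunc k), Polynomial.trdeg_of_isDomain, h0, add_zero]
  haveI : Algebra.IsAlgebraic (IntermediateField.adjoin k ({f} : Set K)) K := Algebra.IsAlgebraic.of_finite _ _
  rw [← trdeg_add_eq k (IntermediateField.adjoin k ({f} : Set K)) (A := K),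
    trdeg_eq_zero (R := IntermediateField.adjoin k ({f} : Set K)) (A := K), add_zero,
    ← e.trdeg_eq, h1]

variable {X : Scheme.{u}} [IsIntegral X] [X.Over (Spec (CommRingCat.of k))]
  {Ω : X.Modules} {d : OmegaSh.Der (X ↘ Spec (CommRingCat.of k)) Ω}

/-- The generic stalk is the module of differentials of the function field. -/
lemma exists_generic_equiv (hd : OmegaSh.IsUniversal d) :
    Nonempty (Ω.presheaf.stalk (genericPoint X) ≃ₗ[X.presheaf.stalk (genericPoint X)] Ω[X.functionField⁄k]) := by
  obtain ⟨δ, h1, h2, -, h4⟩ := Omega.Stalks.exists_stalk_universal hd (genericPoint X)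
  letI : Module X.functionField (Ω.presheaf.stalk (genericPoint X)) :=
    inferInstanceAs (Module (X.presheaf.stalk (genericPoint X)) (Ω.presheaf.stalk (genericPoint X)))
  letI : Module k (Ω.presheaf.stalk (genericPoint X)) := Module.compHom _ (algebraMap k X.functionField)
  haveI : IsScalarTower k X.functionField (Ω.presheaf.stalk (genericPoint X)) := ⟨fun c a m => by
    rw [Algebra.smul_def, mul_smul]; rfl⟩
  have hc : ∀ c : k, δ (algebraMap k X.functionField c) = 0 := fun c => by
    show δ (X.presheaf.germ ⊤ (genericPoint X) trivial (Coh.toGlobal (X ↘ Spec (CommRingCat.of k)) c)) = 0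
    rw [germ_toGlobal_eq_stalkMap]
    exact h2 _
  let D₁ : Derivation k X.functionField (Ω.presheaf.stalk (genericPoint X)) :=
    Derivation.mk'
      { toFun := δ
        map_add' := map_add δ
        map_smul' := fun c a => by
          rw [RingHom.id_apply, Algebra.smul_def]
          erw [h1, hc, smul_zero, add_zero]
          rfl }
      h1
  let l₁ : Ω[X.functionField⁄k] →ₗ[X.functionField] Ω.presheaf.stalk (genericPoint X) :=
    D₁.liftKaehlerDifferential
  letI : Module (X.presheaf.stalk (genericPoint X)) Ω[X.functionField⁄k] :=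
    inferInstanceAs (Module X.functionField Ω[X.functionField⁄k])
  obtain ⟨l₂, hl₂, -⟩ := h4 Ω[X.functionField⁄k] (KaehlerDifferential.D k X.functionField).toLinearMap.toAddMonoidHom
    (fun a b => (KaehlerDifferential.D k X.functionField).leibniz a b) (fun c => by
      obtain ⟨a, ha⟩ := exists_toGlobal_eq k (X ↘ Spec (CommRingCat.of k)) (genericPoint X) c
      rw [ha]
      exact (KaehlerDifferential.D k X.functionField).map_algebraMap a)
  have hl₁ : ∀ a, l₁ (KaehlerDifferential.D k X.functionField a) = δ a :=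
    D₁.liftKaehlerDifferential_comp_D
  have e12 : l₁ ∘ₗ l₂ = LinearMap.id := by
    obtain ⟨l, -, hl⟩ := h4 (Ω.presheaf.stalk (genericPoint X)) δ h1 h2
    rw [hl (l₁ ∘ₗ l₂) (fun a => (congrArg l₁ (hl₂ a)).trans (hl₁ a)), hl LinearMap.id fun a => rfl]
  have e21 : l₂ ∘ₗ l₁ = LinearMap.id := by
    refine LinearMap.ext_on_range (KaehlerDifferential.span_range_derivation k X.functionField) fun a => ?_
    exact (congrArg l₂ (hl₁ a)).trans (hl₂ a)
  exact ⟨LinearEquiv.ofLinearMap l₂ l₁ e21 e12⟩

/-- The function field of a smooth integral scheme is formally smooth of finite transcendence degree. -/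
lemma formallySmooth_functionField [Smooth (X ↘ Spec (CommRingCat.of k))] :
    Algebra.FormallySmooth k X.functionField ∧ Algebra.EssFiniteType k X.functionField := by
  obtain ⟨_, ⟨V, hV, rfl⟩, hη, -⟩ :=
    X.isBasis_affineOpens.exists_subset_of_mem_open (Set.mem_univ (genericPoint X)) isOpen_univ
  haveI : Nonempty V := ⟨⟨_, hη⟩⟩
  haveI := functionField_isFractionRing_of_isAffineOpen X V hV
  letI : Algebra k Γ(X, V) := (kMap k V).toAlgebra
  haveI : IsScalarTower k Γ(X, V) X.functionField := IsScalarTower.of_algebraMap_eq fun c =>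
    (germ_kMap k V hη c).symm
  have hs : RingHom.Smooth (kMap (X := X) k V) := by
    have h := (X ↘ Spec (CommRingCat.of k)).smooth_appLE (isAffineOpen_top _) hV (le_top (a := V))
    have e : kMap (X := X) k V =
        ((Scheme.ΓSpecIso (CommRingCat.of k)).inv ≫ (X ↘ Spec (CommRingCat.of k)).appLE ⊤ V le_top).hom := by
      rw [Scheme.Hom.appLE]; rfl
    rw [e]
    exact (RingHom.Smooth.respectsIso.cancel_left_isIso _ _).2 h
  haveI : Algebra.Smooth k Γ(X, V) := hs
  haveI : Algebra.FormallySmooth Γ(X, V) X.functionField :=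
    Algebra.FormallySmooth.of_isLocalization (nonZeroDivisors Γ(X, V))
  haveI : Algebra.EssFiniteType Γ(X, V) X.functionField :=
    Algebra.EssFiniteType.of_isLocalization _ (nonZeroDivisors Γ(X, V))
  exact ⟨Algebra.FormallySmooth.comp k Γ(X, V) X.functionField,
    Algebra.EssFiniteType.comp k Γ(X, V) X.functionField⟩

variable [IsProper (X ↘ Spec (CommRingCat.of k))] [Smooth (X ↘ Spec (CommRingCat.of k))] [RegCurve X]
  (hdim : topologicalKrullDim X = 1)
include hdim

lemma finrank_kaehler_functionField : Module.finrank X.functionField Ω[X.functionField⁄k] = 1 := by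
  obtain ⟨h1, h2⟩ := formallySmooth_functionField (X := X) k
  exact Omega.RankDim.finrank_kaehler_eq_trdeg (k := k) X.functionField 1
    (by rw [trdeg_eq_one_of_isFF k (isFF (X := X) k hdim), Nat.cast_one])

omit [Smooth (X ↘ Spec (CommRingCat.of k))] in
/-- There is no non-zero map from larger to smaller degree. -/
lemma hom_eq_zero_of_deg_lt {L M : X.Modules} (hL : PicF.IsInvertible L) (hM : PicF.IsInvertible M)
    (h : (divOf k hdim hM).deg < (divOf k hdim hL).deg) (θ : L ⟶ M) : θ = 0 := by
  obtain ⟨a, ha⟩ := exists_crd_app (triv hL) (triv hM) θ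
  by_cases ha0 : a = 0
  · refine Scheme.Modules.hom_ext _ _ fun W => ?_
    ext m
    by_cases hW : genericPoint X ∈ W
    · refine crd_injective (triv hM) hM W hW ?_
      change crd (triv hM) W hW (θ.app W m) = crd (triv hM) W hW 0
      rw [ha W hW m, ha0, zero_mul, map_zero]
    · refine TopCat.Presheaf.section_ext (⟨M.presheaf, M.isSheaf⟩ : TopCat.Sheaf Ab X) W _ _ fun y hy => ?_
      exact absurd (genericPoint_mem hy) hW
  · exfalso
    have hle : divOf k hdim hL ≤ divOf k hdim hM + div k a := fun P => by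
      obtain ⟨x, rfl⟩ := (placeEquiv k hdim).surjective P
      rw [Finsupp.add_apply, div_apply' k hdim]
      obtain ⟨U, g, hxU, hg⟩ := exists_isGen hL x.1
      have h1 := val_crd_le (triv hM) k hdim hM (genericPoint_mem hxU) (θ.app U g) x hxU
      rw [ha U _ g, map_mul, val_gen' (triv hL) k hdim hL hg x hxU, FF.val_eq_exp_ord _ ha0, ← exp_add,
        exp_le_exp] at h1
      change -(toPlace k hdim x).ord a + divOf k hdim hL (toPlace k hdim x) ≤
        divOf k hdim hM (toPlace k hdim x) at h1
      change divOf k hdim hL (toPlace k hdim x) ≤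
        divOf k hdim hM (toPlace k hdim x) + (toPlace k hdim x).ord a
      omega
    have := FF.deg_mono hle
    rw [FF.deg_add, FF.deg_div (isFF k hdim), add_zero] at this
    omega

lemma isInvertible_of_universal (hd : OmegaSh.IsUniversal d) : PicF.IsInvertible Ω := by
  have hlf : FlatMod.IsFinLocFree Ω := by
    refine Omega.LocalStructure.isFinLocFree_of_smooth hd fun {U} hU {V} hV e => ?_
    let := ((X ↘ Spec (CommRingCat.of k)).appLE U V e).hom.toAlgebra
    haveI : Algebra.Smooth Γ(Spec (CommRingCat.of k), U) Γ(X, V) :=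
      (X ↘ Spec (CommRingCat.of k)).smooth_appLE hU hV e
    exact ⟨inferInstance, inferInstance⟩
  intro x
  obtain ⟨U, n, e, hx, he⟩ := LFFrame.exists_isFrame_of_isFinLocFree hlf x
  obtain ⟨E⟩ := exists_generic_equiv k hd
  have hn : n = 1 := by
    have h1 := (LinearEquiv.ofBijective (LFFrame.stalkComb Ω e (genericPoint X) (genericPoint_mem hx))
      (he.stalkComb_bijective _ _)).trans E
    have h2 := h1.finrank_eq
    rw [Module.finrank_fin_fun] at h2
    exact h2.trans (finrank_kaehler_functionField k hdim)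
  subst hn
  exact ⟨U, hx, he.nonempty_restrict_iso⟩

theorem isInvertible_omega : PicF.IsInvertible (Omega.sheaf (X ↘ Spec (CommRingCat.of k))) :=
  isInvertible_of_universal k hdim (Omega.DiagUniv.isUniversal_dOmega _)

section AlgClosed

variable [IsAlgClosed k]

omit [IsAlgClosed k] [IsProper (X ↘ Spec (CommRingCat.of k))] [Smooth (X ↘ Spec (CommRingCat.of k))] [RegCurve X] hdim in
/-- The derivation of the function field read in a coordinate. -/
lemma exists_derivation (φ : Ω.presheaf.stalk (genericPoint X) ≃ₗ[X.presheaf.stalk (genericPoint X)]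
      X.presheaf.stalk (genericPoint X)) (d : OmegaSh.Der (X ↘ Spec (CommRingCat.of k)) Ω) :
    ∃ D : Derivation k X.functionField X.functionField, ∀ (W : X.Opens) (hW : genericPoint X ∈ W)
      (s : Γ(X, W)), D (secK W hW s) = crd φ W hW (d.app W s) := by
  obtain ⟨δ, h1, h2, h3⟩ := Omega.Stalks.exists_stalkDer d (genericPoint X)
  have hc : ∀ c : k, δ (algebraMap k X.functionField c) = 0 := fun c => by
    show δ (X.presheaf.germ ⊤ (genericPoint X) trivial (Coh.toGlobal (X ↘ Spec (CommRingCat.of k)) c)) = 0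
    rw [germ_toGlobal_eq_stalkMap]
    exact h2 _
  have hmul : ∀ a b : X.functionField, φ (δ (a * b)) = a * φ (δ b) + b * φ (δ a) := fun a b => by
    erw [h1, map_add, map_smul, map_smul]
    rfl
  refine ⟨Derivation.mk'
    { toFun := fun a => φ (δ a)
      map_add' := fun a b => by erw [map_add, map_add]
      map_smul' := fun c a => by
        rw [RingHom.id_apply, Algebra.smul_def, Algebra.smul_def]
        erw [hmul, hc, map_zero, mul_zero, add_zero] }
    hmul, fun W hW s => ?_⟩
  exact congrArg φ (h3 W hW s)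

/-- At a closed point the coordinate of a generator is the derivative of a uniformizer. -/
lemma exp_divOf_eq (hΩ : PicF.IsInvertible Ω) (hd : OmegaSh.IsUniversal d)
    (D : Derivation k X.functionField X.functionField)
    (hD : ∀ (W : X.Opens) (hW : genericPoint X ∈ W) (s : Γ(X, W)),
      D (secK W hW s) = crd (triv hΩ) W hW (d.app W s))
    (x : ZetaLib.ClosedPt X) {t : X.functionField} (ht : (toPlace k hdim x).1 t = exp (-1 : ℤ)) :
    exp (divOf k hdim hΩ (toPlace k hdim x)) = (toPlace k hdim x).1 (D t) := by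
  have hK := isFunctionField_of_isAlgClosed (X := X) k hdim
  set P := toPlace k hdim x
  refine le_antisymm ?_ ?_
  · obtain ⟨φ, hφ⟩ := FFWr.exists_isCoord hK P ht
    have hts := FFWr.isSepVar_uniformizer hK ht
    obtain ⟨H, hH⟩ := FF.exists_hasse hts
    have hy : ∀ y : X.functionField, P.1 y ≤ 1 → P.1 (D y) ≤ P.1 (D t) := fun y hy => by
      have h1 := congrArg D.liftKaehlerDifferential (FF.D_eq_smul hts hH y)
      rw [map_smul, Derivation.liftKaehlerDifferential_comp_D, Derivation.liftKaehlerDifferential_comp_D,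
        smul_eq_mul] at h1
      rw [h1, map_mul]
      refine mul_le_of_le_one_left' ?_
      have h2 := FF.vDiff_eq hφ.isExp ht hts hH 1 y
      rw [one_mul] at h2
      rw [← h2, LocRes.vDiff, map_one, one_mul]
      obtain ⟨F, hF⟩ := (LaurentSeries.val_le_one_iff_eq_coe k (φ y)).1 (by rw [hφ.isExp.1]; exact hy)
      rw [← hF, LocRes.D_coe]
      exact (LaurentSeries.val_le_one_iff_eq_coe k _).2 ⟨_, rfl⟩
    obtain ⟨δ, h1, h2, h3, h4⟩ := Omega.Stalks.exists_stalk_universal hd x.1
    have hspan : Submodule.span (X.presheaf.stalk x.1) (Set.range δ) = ⊤ := by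
      set S := Submodule.span (X.presheaf.stalk x.1) (Set.range δ)
      obtain ⟨l, -, hl⟩ := h4 (Ω.presheaf.stalk x.1 ⧸ S) 0 (fun a b => by simp) (fun c => rfl)
      have := (hl S.mkQ fun a => (Submodule.Quotient.mk_eq_zero S).2 (Submodule.subset_span ⟨a, rfl⟩)).trans
        (hl 0 fun a => rfl).symm
      rw [← Submodule.ker_mkQ S, this, LinearMap.ker_zero]
    have hall : ∀ v ∈ Submodule.span (X.presheaf.stalk x.1) (Set.range δ),
        P.1 (triv hΩ (Ref1.toη Ω x.1 v)) ≤ P.1 (D t) := by
      intro v hv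
      induction hv using Submodule.span_induction with
      | mem w hw =>
        obtain ⟨a, rfl⟩ := hw
        obtain ⟨U, hxU, s, rfl⟩ := X.presheaf.exists_germ_eq (x := x.1) a
        rw [h3, Ref1.toη, Ref1.sp_germ]
        change P.1 (crd (triv hΩ) U (genericPoint_mem hxU) (d.app U s)) ≤ _
        rw [← hD]
        exact hy _ (val_secK_le k hdim _ s x hxU)
      | zero => simp
      | add a b _ _ ha hb =>
        rw [map_add, map_add]
        exact (P.1.map_add _ _).trans (max_le ha hb)
      | smul r w _ hw =>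
        rw [Ref1.toη, Ref1.sp_smul, map_smul, smul_eq_mul, map_mul]
        refine (mul_le_mul' ?_ hw).trans_eq (one_mul _)
        exact (val_toPlace_le_one_iff k hdim x _).2 ⟨r, rfl⟩
    obtain ⟨U, e, hxU, he⟩ := exists_isGen hΩ x.1
    have := hall (germM Ω U x.1 hxU e) (hspan ▸ trivial)
    rw [Ref1.toη, Ref1.sp_germ] at this
    change P.1 (crd (triv hΩ) U (genericPoint_mem hxU) e) ≤ _ at this
    rwa [val_gen' (triv hΩ) k hdim hΩ he x hxU] at this
  · obtain ⟨z, hz⟩ := (val_toPlace_le_one_iff k hdim x t).1 (by rw [ht]; exact exp_le_exp.2 (by norm_num) |>.trans_eq exp_zero)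
    obtain ⟨U, hxU, s, rfl⟩ := X.presheaf.exists_germ_eq (x := x.1) z
    rw [← hz, algebraMap_germ_secK hxU, hD]
    exact val_crd_le (triv hΩ) k hdim hΩ _ _ x hxU

/-- The divisor of the sheaf of differentials is canonical. -/
theorem isCanonical_divOf (hΩ : PicF.IsInvertible Ω) (hd : OmegaSh.IsUniversal d) :
    IsCanonical k X.functionField (divOf k hdim hΩ) := by
  have hK := isFunctionField_of_isAlgClosed (X := X) k hdim
  obtain ⟨D, hD⟩ := exists_derivation k (triv hΩ) d
  obtain ⟨s, hs⟩ := FF.exists_isSepVar hK FF.good_of_perfect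
  obtain ⟨H, hH⟩ := FF.exists_hasse hs
  obtain ⟨Φ, hΦ⟩ := FFWr.exists_expansions hK
  have key : ∀ P : Place k X.functionField, D s ≠ 0 ∧
      divOf k hdim hΩ P = FunFld.divDiff Φ 1 s P - P.ord (D s) := fun P => by
    obtain ⟨x, rfl⟩ := (placeEquiv k hdim).surjective P
    change D s ≠ 0 ∧ divOf k hdim hΩ (toPlace k hdim x) =
      FunFld.divDiff Φ 1 s (toPlace k hdim x) - (toPlace k hdim x).ord (D s)
    obtain ⟨t, ht⟩ := FF.exists_uniformizer (toPlace k hdim x)
    have hts := FFWr.isSepVar_uniformizer hK ht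
    obtain ⟨Ht, hHt⟩ := FF.exists_hasse hts
    have h1 := congrArg D.liftKaehlerDifferential (FF.D_eq_smul hts hHt s)
    rw [map_smul, Derivation.liftKaehlerDifferential_comp_D, Derivation.liftKaehlerDifferential_comp_D,
      smul_eq_mul] at h1
    have hne := FFWr.hasseD_one_ne_zero hK hH hHt
    have h2 := exp_divOf_eq k hdim hΩ hd D hD x ht
    have hDt : D t ≠ 0 := fun h => by rw [h, map_zero] at h2; exact exp_ne_zero h2
    refine ⟨by rw [h1]; exact mul_ne_zero hne hDt, ?_⟩
    rw [FFWr.divDiff_apply hK hH hΦ, FF.ordDiff_eq (hΦ _) ht hts hHt, one_mul, h1,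
      FF.ord_mul _ hne hDt]
    rw [FF.val_eq_exp_ord _ hDt, exp_inj] at h2
    change _ = _ at h2
    linarith
  obtain ⟨ω, hω0, hω⟩ := FFWr.isCanonical_divDiff hK hH hΦ
  obtain ⟨x⟩ := exists_closedPt (X := X) k hdim
  have hDs : D s ≠ 0 := (key (toPlace k hdim x)).1
  refine ⟨mulW (D s)⁻¹ (FF.mul_mem_adele hK.1 (D s)⁻¹) ω, fun h0 => ?_, ?_⟩
  · exact inv_ne_zero hDs (FF.mulWHom_injective hK hω0
      (show FF.mulWHom hK ω (D s)⁻¹ = FF.mulWHom hK ω 0 by rw [map_zero]; exact h0))
  · have := FF.isDivOf_mulW hK (inv_ne_zero hDs) (FF.mul_mem_adele hK.1 (D s)⁻¹) hω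
    rwa [show FunFld.divDiff Φ 1 s + div k (D s)⁻¹ = divOf k hdim hΩ from Finsupp.ext fun P => by
      rw [(key P).2, Finsupp.add_apply, div_apply' k hdim, FF.ord_inv]; ring] at this

theorem isCanonical_omega : IsCanonical k X.functionField
    (divOf k hdim (isInvertible_omega (X := X) k hdim)) :=
  isCanonical_divOf k hdim _ (Omega.DiagUniv.isUniversal_dOmega _)

/-- `h⁰(Ω) = g`. -/
theorem finrank_omega_zero :
    Module.finrank k (Coh.HH X (Omega.sheaf (X ↘ Spec (CommRingCat.of k))) 0) = Curv2.genus k X := by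
  have hK := isFunctionField_of_isAlgClosed (X := X) k hdim
  rw [finrank_zero k hdim hK (isInvertible_omega k hdim), genus_eq_genus k hdim hK,
    FF.ell_canonical hK (isCanonical_omega k hdim)]

/-- `deg Ω = 2g - 2`. -/
theorem deg_omega :
    Curv2.deg k X (Omega.sheaf (X ↘ Spec (CommRingCat.of k))) 1 = 2 * (Curv2.genus k X : ℤ) - 2 := by
  have hK := isFunctionField_of_isAlgClosed (X := X) k hdim
  rw [deg_eq k hdim hK (isInvertible_omega k hdim), genus_eq_genus k hdim hK,
    FF.deg_canonical hK (isCanonical_omega k hdim)]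

/-- Serre duality in dimensions: `h¹(L) = h⁰(Ω ⊗ M)` for `M` inverse to `L`. -/
theorem finrank_one_eq_dual {L M : X.Modules} (hL : PicF.IsInvertible L) (hLM : ClSub.IsInverseOf L M)
    (hM : PicF.IsInvertible M) :
    Module.finrank k (Coh.HH X L 1) =
      Module.finrank k (Coh.HH X (CohB1.tensorMod (Omega.sheaf (X ↘ Spec (CommRingCat.of k))) M) 0) := by
  have hK := isFunctionField_of_isAlgClosed (X := X) k hdim
  have hΩ := isInvertible_omega (X := X) k hdim
  have hΩM := AmpleLib.isInvertible_tensorMod hΩ hM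
  obtain ⟨e⟩ := hLM
  have h1 : DivEq k (divOf k hdim hL + divOf k hdim hM) 0 :=
    DivEq.trans' k hdim (DivEq.symm' k hdim (divEq_tensor k hdim hL hM))
      (DivEq.trans' k hdim (DivEq.symm' k hdim (divEq_iso k hdim (AmpleLib.isInvertible_tensorMod hL hM) isInvertible_structureModule e)) (divEq_structureModule k hdim))
  have h2 := finrank_one k hdim hK hL
  have h3 := FF.riemann_roch hK (isCanonical_omega (X := X) k hdim) (divOf k hdim hL)
  have h4 : ell (divOf k hdim hΩM) = ell (divOf k hdim hΩ - divOf k hdim hL) := by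
    obtain ⟨z, hz, hzD⟩ := h1
    refine DivEq.ell_eq k hdim (DivEq.trans' k hdim (divEq_tensor k hdim hΩ hM) ⟨z, hz, ?_⟩)
    rw [← sub_eq_zero]
    rw [← sub_eq_zero] at hzD
    refine Eq.trans ?_ hzD
    abel
  rw [finrank_zero k hdim hK hΩM, h4]
  omega

/-- `Ω` is globally generated in genus at least one. -/
theorem isGloballyGenerated_omega (hg : 1 ≤ Curv2.genus k X) :
    Curv2.IsGloballyGenerated (Omega.sheaf (X ↘ Spec (CommRingCat.of k))) := by
  have hK := isFunctionField_of_isAlgClosed (X := X) k hdim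
  rw [genus_eq_genus k hdim hK] at hg
  refine (isGloballyGenerated_iff k hdim (isInvertible_omega k hdim)).2 fun x => ?_
  set P := toPlace k hdim x
  have hC := isCanonical_omega (X := X) k hdim
  have hP := FF.deg_eq_one hK P
  refine (FF.ell_lt_iff_exists hK (divOf k hdim (isInvertible_omega (X := X) k hdim)) P).1 ?_
  have h1 := FF.riemann_roch hK hC (Finsupp.single P 1)
  rw [FF.ell_single_one hK hg hP, FF.deg_single, hP] at h1
  rw [FF.ell_canonical hK hC]
  omega

end AlgClosed

end Groth.Agent.FFCurve
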