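import Groth.Agent.FFCurve.Point
import Groth.Agent.AmpleLib.Basic
import Groth.Agent.FF.Linear
import Groth.Agent.FF.RiemannAny

/-!
# Riemann–Roch for modules attached to points
-/

universe u

open CategoryTheory AlgebraicGeometry FunFld

set_option linter.style.haveILetI false
set_option backward.isDefEq.respectTransparency false
set_option backward.isDefEq.respectTransparency.types false

namespace Groth.Agent.FFCurve

variable {X : Scheme.{u}} [IsIntegral X] (k : Type u) [Field k] [X.Over (Spec (CommRingCat.of k))]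
  [IsProper (X ↘ Spec (CommRingCat.of k))] [RegCurve X] (hdim : topologicalKrullDim X = 1)
include k hdim

/-- Equality of divisor classes. -/
def DivEq (D E : Divisor k X.functionField) : Prop :=
  ∃ z : X.functionField, z ≠ 0 ∧ D = E + div k z

lemma divEq_of_sub {D E : Divisor k X.functionField} {z : X.functionField} (hz : z ≠ 0)
    (h : D = E - div k z) : DivEq k D E :=
  ⟨z⁻¹, inv_ne_zero hz, by rw [h, FF.div_inv (isFF k hdim), sub_eq_add_neg]⟩

lemma divEq_refl (D : Divisor k X.functionField) : DivEq k D D :=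
  ⟨1, one_ne_zero, by
    have h := FF.div_mul (k := k) (isFF (X := X) k hdim) (one_ne_zero (α := X.functionField)) one_ne_zero
    rw [mul_one] at h
    rw [add_eq_left.1 h.symm, add_zero]⟩

lemma DivEq.symm' {D E : Divisor k X.functionField} (h : DivEq k D E) : DivEq k E D := by
  obtain ⟨z, hz, rfl⟩ := h
  exact ⟨z⁻¹, inv_ne_zero hz, by rw [FF.div_inv (isFF k hdim)]; abel⟩

lemma DivEq.trans' {D E G : Divisor k X.functionField} (h : DivEq k D E) (h' : DivEq k E G) :
    DivEq k D G := by
  obtain ⟨z, hz, rfl⟩ := h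
  obtain ⟨w, hw, rfl⟩ := h'
  exact ⟨w * z, mul_ne_zero hw hz, by rw [FF.div_mul (isFF k hdim) hw hz]; abel⟩

lemma DivEq.add' {D E D' E' : Divisor k X.functionField} (h : DivEq k D E) (h' : DivEq k D' E') :
    DivEq k (D + D') (E + E') := by
  obtain ⟨z, hz, rfl⟩ := h
  obtain ⟨w, hw, rfl⟩ := h'
  exact ⟨z * w, mul_ne_zero hz hw, by rw [FF.div_mul (isFF k hdim) hz hw]; abel⟩

lemma DivEq.ell_eq {D E : Divisor k X.functionField} (h : DivEq k D E) : ell D = ell E := by
  obtain ⟨z, hz, rfl⟩ := h
  exact FF.Any.ell_add_div (isFF k hdim) hz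

lemma DivEq.deg_eq {D E : Divisor k X.functionField} (h : DivEq k D E) : D.deg = E.deg := by
  obtain ⟨z, hz, rfl⟩ := h
  rw [FF.deg_add, FF.deg_div (isFF k hdim), add_zero]

lemma divEq_structureModule :
    DivEq k (divOf k hdim (isInvertible_structureModule (X := X))) 0 := by
  obtain ⟨c, hc, h⟩ := exists_divOf_structureModule (X := X) k hdim
  exact ⟨c⁻¹, inv_ne_zero hc, by rw [h, zero_add]⟩

lemma divEq_tensor {L M : X.Modules} (hL : PicF.IsInvertible L) (hM : PicF.IsInvertible M) :
    DivEq k (divOf k hdim (AmpleLib.isInvertible_tensorMod hL hM))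
      (divOf k hdim hL + divOf k hdim hM) := by
  obtain ⟨a, ha, h⟩ := exists_div_tensor k hdim hL hM (AmpleLib.isInvertible_tensorMod hL hM)
  exact divEq_of_sub k hdim ha h

lemma divEq_iso {L M : X.Modules} (hL : PicF.IsInvertible L) (hM : PicF.IsInvertible M) (e : L ≅ M) :
    DivEq k (divOf k hdim hM) (divOf k hdim hL) := by
  obtain ⟨a, ha, h⟩ := exists_div_of_iso k hdim hL hM e
  exact divEq_of_sub k hdim ha h

lemma divEq_pointI (x : ZetaLib.ClosedPt X) :
    DivEq k (divOf k hdim (isInvertible_pointI k hdim x)) (-Finsupp.single (toPlace k hdim x) 1) := by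
  obtain ⟨b, hb, h⟩ := exists_divOf_pointI k hdim x
  exact divEq_of_sub k hdim hb h

lemma divEq_tensorPow {L : X.Modules} (hL : PicF.IsInvertible L) {D : Divisor k X.functionField}
    (h : DivEq k (divOf k hdim hL) D) :
    ∀ n : ℕ, DivEq k (divOf k hdim (AmpleLib.isInvertible_tensorPow hL n)) (n • D)
  | 0 => by rw [zero_smul]; exact divEq_structureModule k hdim
  | n + 1 => by
      rw [succ_nsmul]
      exact DivEq.trans' k hdim
        (divEq_tensor k hdim (AmpleLib.isInvertible_tensorPow hL n) hL)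
        (DivEq.add' k hdim (divEq_tensorPow hL h n) h)

/-- An inverse of the ideal of a point has divisor that point. -/
lemma divEq_of_isInverseOf_pointI (x : ZetaLib.ClosedPt X) {L : X.Modules} (hL : PicF.IsInvertible L)
    (h : ClSub.IsInverseOf L (ClSub.idealMod (pointI x))) :
    DivEq k (divOf k hdim hL) (Finsupp.single (toPlace k hdim x) 1) := by
  obtain ⟨e⟩ := h
  have hI := isInvertible_pointI k hdim x
  have hO := isInvertible_structureModule (X := X)
  have hLI := AmpleLib.isInvertible_tensorMod hL hI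
  have h1 : DivEq k (divOf k hdim hO) (divOf k hdim hLI) := divEq_iso k hdim hLI hO e
  have h2 : DivEq k (divOf k hdim hLI) (divOf k hdim hL + divOf k hdim hI) := divEq_tensor k hdim hL hI
  have h3 : DivEq k (divOf k hdim hI) (-Finsupp.single (toPlace k hdim x) 1) := divEq_pointI k hdim x
  have h4 : DivEq k (divOf k hdim hL + divOf k hdim hI) 0 :=
    DivEq.trans' k hdim (DivEq.symm' k hdim h2)
      (DivEq.trans' k hdim (DivEq.symm' k hdim h1) (divEq_structureModule k hdim))
  obtain ⟨z, hz, hz'⟩ := h4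
  obtain ⟨w, hw, hw'⟩ := h3
  refine ⟨z * w⁻¹, mul_ne_zero hz (inv_ne_zero hw), ?_⟩
  rw [FF.div_mul (isFF k hdim) hz (inv_ne_zero hw), FF.div_inv (isFF k hdim)]
  rw [hw', zero_add] at hz'
  rw [← hz']
  abel

end Groth.Agent.FFCurve
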