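import Groth.Agent.FFCurve.Aut
import Groth.Agent.REq71.Line
import Groth.Agent.ProjProper.Basic
import Groth.Agent.ProperFin.PnBase
import Groth.Agent.CohOps.PnSmooth
import Groth.Agent.CurveCoh.Integral
import Groth.Agent.S10829
import Groth.Agent.S18573
import Mathlib.AlgebraicGeometry.ZariskisMainTheorem
import Mathlib.FieldTheory.Separable

/-!
# Morphisms to the projective line from rational functions
-/

universe u

open CategoryTheory CategoryTheory.Limits AlgebraicGeometry TopologicalSpace

set_option linter.style.haveILetI false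
set_option backward.isDefEq.respectTransparency false
set_option backward.isDefEq.respectTransparency.types false

namespace Groth.Agent.FFCurve

variable (k : Type u) [Field k]

/-- The affine line inside the projective line. -/
lemma exists_lineChart : ∃ j : Spec (CommRingCat.of (Polynomial k)) ⟶ CohB1.ProjSpace 1 k,
    IsOpenImmersion j ∧ j ≫ CohB1.ProjSpace.toSpec 1 k = Spec.map (CommRingCat.ofHom Polynomial.C) := by
  obtain ⟨j, hj, hjs⟩ := REq71.exists_line k
  obtain ⟨e, he⟩ := Groth.Agent.ProperFin.exists_iso_projSpaceOver 1 k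
  haveI := hj
  refine ⟨j ≫ e.hom, inferInstance, ?_⟩
  rw [Category.assoc, he]
  exact hjs

lemma range_stalkClosedPointTo_aeval {K : Type u} [Field K] [Algebra k K] (f : K) :
    Set.range (Scheme.stalkClosedPointTo
      (Spec.map (CommRingCat.ofHom (Polynomial.aeval (R := k) f).toRingHom))) =
      (IntermediateField.adjoin k ({f} : Set K) : Set K) := by
  set φ := CommRingCat.ofHom (Polynomial.aeval (R := k) f).toRingHom
  set g := Spec.map φ
  set y := g (IsLocalRing.closedPoint K)
  set l := Scheme.stalkClosedPointTo g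
  letI : Algebra (Polynomial k) ((Spec (CommRingCat.of (Polynomial k))).presheaf.stalk y) :=
    StructureSheaf.stalkAlgebra (Polynomial k) y
  haveI : IsLocalization y.asIdeal.primeCompl ((Spec (CommRingCat.of (Polynomial k))).presheaf.stalk y) :=
    StructureSheaf.IsLocalization.to_stalk (Polynomial k) y
  have hl : ∀ p : Polynomial k, l (algebraMap _ _ p) = Polynomial.aeval f p := fun p => by
    have h := congrArg (fun m => (CommRingCat.Hom.hom m) ((Scheme.ΓSpecIso (CommRingCat.of (Polynomial k))).inv p))
      (Scheme.germ_stalkClosedPointTo_Spec φ)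
    refine Eq.trans ?_ (h.trans ?_)
    · rfl
    · exact congrArg φ.hom (Iso.inv_hom_id_apply (Scheme.ΓSpecIso (CommRingCat.of (Polynomial k))) p)
  ext z
  rw [SetLike.mem_coe, IntermediateField.mem_adjoin_simple_iff]
  constructor
  · rintro ⟨w, rfl⟩
    obtain ⟨⟨a, b⟩, hab⟩ := IsLocalization.surj y.asIdeal.primeCompl w
    refine ⟨a, b.1, ?_⟩
    have hb : IsUnit (l (algebraMap _ _ b.1)) := (IsLocalization.map_units _ b).map l.hom
    rw [hl] at hb
    rw [eq_div_iff hb.ne_zero, ← hl, ← hl, ← map_mul, hab]
  · rintro ⟨a, b, rfl⟩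
    by_cases hb : Polynomial.aeval f b = 0
    · exact ⟨0, by rw [hb, div_zero, map_zero]⟩
    · have hby : b ∈ y.asIdeal.primeCompl := fun h => hb (by
        have : φ b ∈ (IsLocalRing.closedPoint K).asIdeal := h
        rw [show (IsLocalRing.closedPoint K).asIdeal = (⊥ : Ideal K) from
          IsLocalRing.maximalIdeal_eq_bot, Ideal.mem_bot] at this
        exact this)
      refine ⟨IsLocalization.mk' _ a (⟨b, hby⟩ : y.asIdeal.primeCompl), ?_⟩
      rw [eq_div_iff hb, ← hl, ← hl, ← map_mul, IsLocalization.mk'_spec]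

lemma not_isClosed_aeval {K : Type u} [Field K] [Algebra k K] {f : K} (hf : Transcendental k f) :
    ¬ IsClosed ({Spec.map (CommRingCat.ofHom (Polynomial.aeval (R := k) f).toRingHom)
      (IsLocalRing.closedPoint K)} : Set (Spec (CommRingCat.of (Polynomial k)))) := by
  intro h
  have hmax := (PrimeSpectrum.isClosed_singleton_iff_isMaximal _).1 h
  have hbot : (Spec.map (CommRingCat.ofHom (Polynomial.aeval (R := k) f).toRingHom)
      (IsLocalRing.closedPoint K)).asIdeal = ⊥ := by
    rw [eq_bot_iff]
    intro p hp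
    have : Polynomial.aeval f p ∈ (IsLocalRing.closedPoint K).asIdeal := hp
    rw [show (IsLocalRing.closedPoint K).asIdeal = (⊥ : Ideal K) from
      IsLocalRing.maximalIdeal_eq_bot, Ideal.mem_bot] at this
    exact (transcendental_iff.1 hf) p this
  rw [hbot] at hmax
  have hlt : (⊥ : Ideal (Polynomial k)) < Ideal.span {Polynomial.X} :=
    bot_lt_iff_ne_bot.2 fun h0 => Polynomial.X_ne_zero (Ideal.span_singleton_eq_bot.1 h0)
  exact Polynomial.not_isUnit_X (Ideal.span_singleton_eq_top.1 (hmax.out.2 _ hlt))

/-- The projective line is an integral smooth curve. -/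
lemma p1_facts :
    IsProper (CohB1.ProjSpace.toSpec 1 k) ∧ Smooth (CohB1.ProjSpace.toSpec 1 k) ∧
      IsIntegral (CohB1.ProjSpace 1 k) ∧ topologicalKrullDim (CohB1.ProjSpace 1 k) = 1 := by
  letI : (CohB1.ProjSpace 1 k).Over (Spec (CommRingCat.of k)) := ⟨CohB1.ProjSpace.toSpec 1 k⟩
  haveI : Smooth (CohB1.ProjSpace.toSpec 1 k) := CohOps.PnSmooth.smooth_toSpec 1 k
  haveI : Smooth ((CohB1.ProjSpace 1 k) ↘ Spec (CommRingCat.of k)) :=
    ‹Smooth (CohB1.ProjSpace.toSpec 1 k)›
  haveI : ∀ y : CohB1.ProjSpace 1 k, _root_.IsReduced ((CohB1.ProjSpace 1 k).presheaf.stalk y) := fun y =>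
    haveI := CurveCoh.isDomain_stalk k (CohB1.ProjSpace 1 k) y
    inferInstance
  haveI : IsReduced (CohB1.ProjSpace 1 k) := isReduced_of_isReduced_stalk _
  haveI := S18573.irreducibleSpace_projSpace 1 k
  exact ⟨ProjProper.Basic.isProper_toSpec 1 k, inferInstance,
    isIntegral_of_irreducibleSpace_of_isReduced _, by exact_mod_cast S10829.result k 1⟩

variable {X : Scheme.{u}} [IsIntegral X] [X.Over (Spec (CommRingCat.of k))]
  [IsProper (X ↘ Spec (CommRingCat.of k))] [RegCurve X] (hdim : topologicalKrullDim X = 1)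
include hdim

/-- A transcendental rational function gives a finite morphism to the projective line. -/
theorem exists_p1Map {f : X.functionField} (hf : Transcendental k f) :
    ∃ φ : X ⟶ CohB1.ProjSpace 1 k, φ ≫ CohB1.ProjSpace.toSpec 1 k = X ↘ Spec (CommRingCat.of k) ∧
      IsFinite φ ∧ ¬ IsClosed ({φ (genericPoint X)} : Set (CohB1.ProjSpace 1 k)) ∧
      φ.residueDegree (genericPoint X) =
        Module.finrank (IntermediateField.adjoin k ({f} : Set X.functionField)) X.functionField ∧
      (Algebra.IsSeparable (IntermediateField.adjoin k ({f} : Set X.functionField)) X.functionField →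
        letI := (φ.residueFieldMap (genericPoint X)).hom.toAlgebra
        Algebra.IsSeparable ((CohB1.ProjSpace 1 k).residueField (φ (genericPoint X)))
          (X.residueField (genericPoint X))) := by
  obtain ⟨j, hj, hjs⟩ := exists_lineChart k
  haveI := hj
  haveI : IsProper (CohB1.ProjSpace.toSpec 1 k) := ProjProper.Basic.isProper_toSpec 1 k
  set g : Spec X.functionField ⟶ Spec (CommRingCat.of (Polynomial k)) :=
    Spec.map (CommRingCat.ofHom (Polynomial.aeval (R := k) f).toRingHom)
  have hG : (g ≫ j) ≫ CohB1.ProjSpace.toSpec 1 k =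
      X.fromSpecStalk (genericPoint X) ≫ (X ↘ Spec (CommRingCat.of k)) := by
    rw [Category.assoc, hjs, fromSpecStalk_str, ← Spec.map_comp]
    congr 1
    ext c
    exact Polynomial.aeval_C f c
  obtain ⟨s, hs, hη⟩ := GITLib.exists_section_of_genericPoint
    (Y := pullback (X ↘ Spec (CommRingCat.of k)) (CohB1.ProjSpace.toSpec 1 k))
    RegCurve.val (pullback.fst _ _)
    (pullback.lift (X.fromSpecStalk (genericPoint X)) (g ≫ j) hG.symm) (pullback.lift_fst _ _ _)
  set φ := s ≫ pullback.snd (X ↘ Spec (CommRingCat.of k)) (CohB1.ProjSpace.toSpec 1 k)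
  have hφ : φ ≫ CohB1.ProjSpace.toSpec 1 k = X ↘ Spec (CommRingCat.of k) := by
    rw [Category.assoc, ← pullback.condition, ← Category.assoc, hs, Category.id_comp]
  have hφη : X.fromSpecStalk (genericPoint X) ≫ φ = g ≫ j := by
    rw [← Category.assoc, hη, pullback.lift_snd]
  have hpt : φ (genericPoint X) = j (g (IsLocalRing.closedPoint X.functionField)) := by
    have := congrArg (fun m : Spec X.functionField ⟶ CohB1.ProjSpace 1 k =>
      m (IsLocalRing.closedPoint X.functionField)) hφη
    have h0 : X.fromSpecStalk (genericPoint X) (IsLocalRing.closedPoint X.functionField) = genericPoint X :=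
      Scheme.fromSpecStalk_closedPoint
    refine (congrArg φ h0.symm).trans ?_
    simp only [Scheme.Hom.comp_apply] at this
    exact this
  haveI : IsProper φ := by
    haveI : IsProper (φ ≫ CohB1.ProjSpace.toSpec 1 k) := hφ ▸ inferInstance
    exact IsProper.of_comp φ (CohB1.ProjSpace.toSpec 1 k)
  have hnc : ¬ IsClosed ({φ (genericPoint X)} : Set (CohB1.ProjSpace 1 k)) := by
    intro h
    refine not_isClosed_aeval k hf ?_
    rw [hpt] at h
    have h2 := h.preimage j.continuous
    rwa [← Set.image_singleton, Set.preimage_image_eq _ j.isOpenEmbedding.injective] at h2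
  have hfib : ∀ y : CohB1.ProjSpace 1 k, (φ ⁻¹' {y}).Finite := by
    haveI : CompactSpace X := QuasiCompact.compactSpace_of_compactSpace (X ↘ Spec (CommRingCat.of k))
    have himg : ∀ x, x ≠ genericPoint X → IsClosed ({φ x} : Set (CohB1.ProjSpace 1 k)) := fun x hx => by
      have := φ.isClosedMap _ (VarDim.isClosed_singleton_of_ne_genericPoint k hdim hx)
      rwa [Set.image_singleton] at this
    intro y
    by_cases hy : y = φ (genericPoint X)
    · refine (Set.finite_singleton (genericPoint X)).subset fun x hx => ?_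
      by_contra hne
      refine hnc ?_
      rw [← hy, ← (show φ x = y from hx)]
      exact himg x hne
    · by_cases hne : (φ ⁻¹' {y}).Nonempty
      · obtain ⟨x, hx⟩ := hne
        have hxne : x ≠ genericPoint X := fun h => hy (by rw [← (show φ x = y from hx), h])
        have hcl : IsClosed ({y} : Set (CohB1.ProjSpace 1 k)) := (show φ x = y from hx) ▸ himg x hxne
        exact VarDim.finite_of_isClosed k hdim (hcl.preimage φ.continuous) fun h => hy h.symm
      · rw [Set.not_nonempty_iff_eq_empty.1 hne]; exact Set.finite_empty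
  haveI : LocallyQuasiFinite φ := LocallyQuasiFinite.of_finite_preimage_singleton φ hfib
  have hrange : Set.range (φ.stalkMap (genericPoint X)) =
      (IntermediateField.adjoin k ({f} : Set X.functionField) : Set X.functionField) := by
    rw [← range_stalkClosedPointTo_aeval k f]
    have h1 : Set.range (Scheme.stalkClosedPointTo (g ≫ j)) = Set.range (Scheme.stalkClosedPointTo g) := by
      rw [Scheme.stalkClosedPointTo_comp]
      refine Set.ext fun z => ⟨fun ⟨w, hw⟩ => ⟨_, hw⟩, fun ⟨w, hw⟩ => ?_⟩
      obtain ⟨w', rfl⟩ := (ConcreteCategory.bijective_of_isIso (j.stalkMap (g (IsLocalRing.closedPoint X.functionField)))).2 w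
      exact ⟨w', hw⟩
    have key : ∀ (y : CohB1.ProjSpace 1 k) (hy : φ (genericPoint X) = y)
        (α : (CohB1.ProjSpace 1 k).presheaf.stalk y ⟶ X.functionField),
        Spec.map α ≫ (CohB1.ProjSpace 1 k).fromSpecStalk y = X.fromSpecStalk (genericPoint X) ≫ φ →
          Set.range (φ.stalkMap (genericPoint X)) = Set.range α := by
      rintro y rfl α hα
      rw [← Scheme.SpecMap_stalkMap_fromSpecStalk] at hα
      rw [Spec.map_injective ((cancel_mono _).1 hα)]
    exact (key _ hpt _ ((Scheme.Spec_stalkClosedPointTo_fromSpecStalk (g ≫ j)).trans hφη.symm)).trans h1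
  have hres : Function.Injective (X.residue (genericPoint X)) :=
    RingHom.injective (R := X.functionField) (X.residue (genericPoint X)).hom
  let e : X.functionField ≃+* X.residueField (genericPoint X) :=
    RingEquiv.ofBijective (X.residue (genericPoint X)).hom ⟨hres, X.residue_surjective _⟩
  let i₀ : (CohB1.ProjSpace 1 k).residueField (φ (genericPoint X)) →+* X.functionField :=
    e.symm.toRingHom.comp (φ.residueFieldMap (genericPoint X)).hom
  have hi₀ : ∀ a, i₀ ((CohB1.ProjSpace 1 k).residue (φ (genericPoint X)) a) =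
      φ.stalkMap (genericPoint X) a := fun a => by
    refine (RingEquiv.symm_apply_eq e).2 ?_
    exact (congrArg (fun m => (CommRingCat.Hom.hom m) a)
      (Scheme.residue_residueFieldMap φ (genericPoint X)))
  have hi₀mem : ∀ b, i₀ b ∈ IntermediateField.adjoin k ({f} : Set X.functionField) := fun b => by
    obtain ⟨a, rfl⟩ := (CohB1.ProjSpace 1 k).residue_surjective _ b
    rw [hi₀, ← SetLike.mem_coe, ← hrange]
    exact ⟨a, rfl⟩
  let i : (CohB1.ProjSpace 1 k).residueField (φ (genericPoint X)) ≃+*
      IntermediateField.adjoin k ({f} : Set X.functionField) :=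
    RingEquiv.ofBijective (i₀.codRestrict _ hi₀mem) ⟨fun a b h => i₀.injective (congrArg Subtype.val h),
      fun w => by
        obtain ⟨a, ha⟩ := hrange.symm.subset w.2
        exact ⟨_, Subtype.ext ((hi₀ a).trans ha)⟩⟩
  letI := (φ.residueFieldMap (genericPoint X)).hom.toAlgebra
  have hcomp : (algebraMap ((CohB1.ProjSpace 1 k).residueField (φ (genericPoint X)))
      (X.residueField (genericPoint X))).comp i.symm.toRingHom =
      e.toRingHom.comp (algebraMap (IntermediateField.adjoin k ({f} : Set X.functionField)) X.functionField) := by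
    refine RingHom.ext fun w => ?_
    obtain ⟨b, rfl⟩ := i.surjective w
    refine (congrArg (algebraMap ((CohB1.ProjSpace 1 k).residueField (φ (genericPoint X)))
      (X.residueField (genericPoint X))) (i.symm_apply_apply b)).trans ?_
    exact (e.apply_symm_apply _).symm
  refine ⟨φ, hφ, IsFinite.of_isProper_of_locallyQuasiFinite φ, hnc, ?_, fun hsep => ?_⟩
  · exact (Algebra.finrank_eq_of_equiv_equiv i.symm e hcomp).symm
  · exact Algebra.IsSeparable.of_equiv_equiv i.symm e hcomp

/-- A rational function generating the function field gives an isomorphism with the line. -/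
theorem exists_iso_p1 {f : X.functionField} (hf : Transcendental k f)
    (htop : IntermediateField.adjoin k ({f} : Set X.functionField) = ⊤) :
    ∃ e : X ≅ CohB1.ProjSpace 1 k, e.hom ≫ CohB1.ProjSpace.toSpec 1 k = X ↘ Spec (CommRingCat.of k) := by
  obtain ⟨hPp, hPs, hPi, hPd⟩ := p1_facts k
  haveI := hPi
  letI : (CohB1.ProjSpace 1 k).Over (Spec (CommRingCat.of k)) := ⟨CohB1.ProjSpace.toSpec 1 k⟩
  haveI : IsProper ((CohB1.ProjSpace 1 k) ↘ Spec (CommRingCat.of k)) := hPp
  haveI : Smooth ((CohB1.ProjSpace 1 k) ↘ Spec (CommRingCat.of k)) := hPs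
  haveI : RegCurve (CohB1.ProjSpace 1 k) := regCurve_of_smooth k hPd
  obtain ⟨φ, hφ, hfin, hnc, hdeg, -⟩ := exists_p1Map k hdim hf
  have hdeg1 : φ.residueDegree (genericPoint X) = 1 := by
    rw [hdeg, htop, IntermediateField.finrank_top]
  have hξ : φ (genericPoint X) = genericPoint (CohB1.ProjSpace 1 k) := by_contra fun hne =>
    hnc (VarDim.isClosed_singleton_of_ne_genericPoint (X := CohB1.ProjSpace 1 k) k hPd hne)
  have hres : Function.Bijective (φ.residueFieldMap (genericPoint X)) := by
    refine ⟨(φ.residueFieldMap (genericPoint X)).hom.injective, fun z => ?_⟩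
    letI := (φ.residueFieldMap (genericPoint X)).hom.toAlgebra
    obtain ⟨c, hc⟩ := (finrank_eq_one_iff_of_nonzero' (1 : X.residueField (genericPoint X)) one_ne_zero).1
      hdeg1 z
    exact ⟨c, by rw [← hc, Algebra.smul_def, mul_one]; rfl⟩
  have key : ∀ (ξ : CohB1.ProjSpace 1 k), φ (genericPoint X) = ξ → ξ = genericPoint (CohB1.ProjSpace 1 k) →
      ∃ z : Spec ((CohB1.ProjSpace 1 k).presheaf.stalk ξ) ⟶ X,
        z ≫ φ = (CohB1.ProjSpace 1 k).fromSpecStalk ξ ∧
          ∀ ψ : CohB1.ProjSpace 1 k ⟶ X, (CohB1.ProjSpace 1 k).fromSpecStalk ξ ≫ ψ = z →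
            X.fromSpecStalk (genericPoint X) ≫ φ ≫ ψ = X.fromSpecStalk (genericPoint X) := by
    intro ξ h hg
    subst h
    haveI : IsIso (φ.stalkMap (genericPoint X)) := by
      refine (ConcreteCategory.isIso_iff_bijective _).2 ⟨?_, fun z => ?_⟩
      · have hfield : IsField ((CohB1.ProjSpace 1 k).presheaf.stalk (φ (genericPoint X))) := by
          rw [hg]; exact Field.toIsField (CohB1.ProjSpace 1 k).functionField
        letI := hfield.toField
        exact RingHom.injective (R := (CohB1.ProjSpace 1 k).presheaf.stalk (φ (genericPoint X)))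
          (φ.stalkMap (genericPoint X)).hom
      · obtain ⟨w, hw⟩ := hres.2 (X.residue (genericPoint X) z)
        obtain ⟨a, rfl⟩ := (CohB1.ProjSpace 1 k).residue_surjective _ w
        refine ⟨a, RingHom.injective (R := X.functionField) (X.residue (genericPoint X)).hom ?_⟩
        exact (congrArg (fun m => (CommRingCat.Hom.hom m) a)
          (Scheme.residue_residueFieldMap φ (genericPoint X))).symm.trans hw
    refine ⟨Spec.map (inv (φ.stalkMap (genericPoint X))) ≫ X.fromSpecStalk (genericPoint X), ?_, fun ψ hψ => ?_⟩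
    · rw [Category.assoc, ← Scheme.SpecMap_stalkMap_fromSpecStalk, ← Spec.map_comp_assoc, IsIso.hom_inv_id,
        Spec.map_id, Category.id_comp]
    · rw [← Category.assoc, ← Scheme.SpecMap_stalkMap_fromSpecStalk, Category.assoc, hψ,
        ← Spec.map_comp_assoc, IsIso.inv_hom_id, Spec.map_id, Category.id_comp]
  obtain ⟨z, hz, hzψ⟩ := key _ hξ rfl
  have hcond : (CohB1.ProjSpace 1 k).fromSpecStalk (genericPoint _) ≫ CohB1.ProjSpace.toSpec 1 k =
      z ≫ (X ↘ Spec (CommRingCat.of k)) := by rw [← hφ, ← Category.assoc, hz]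
  obtain ⟨s, hs, hη⟩ := GITLib.exists_section_of_genericPoint
    (Y := pullback (CohB1.ProjSpace.toSpec 1 k) (X ↘ Spec (CommRingCat.of k)))
    (RegCurve.val (X := CohB1.ProjSpace 1 k)) (pullback.fst _ _)
    (pullback.lift ((CohB1.ProjSpace 1 k).fromSpecStalk (genericPoint _)) z hcond) (pullback.lift_fst _ _ _)
  set ψ := s ≫ pullback.snd (CohB1.ProjSpace.toSpec 1 k) (X ↘ Spec (CommRingCat.of k))
  have hψ : ψ ≫ (X ↘ Spec (CommRingCat.of k)) = CohB1.ProjSpace.toSpec 1 k := by
    rw [Category.assoc, ← pullback.condition, ← Category.assoc, hs, Category.id_comp]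
  have hψη : (CohB1.ProjSpace 1 k).fromSpecStalk (genericPoint _) ≫ ψ = z := by
    rw [← Category.assoc, hη, pullback.lift_snd]
  refine ⟨⟨φ, ψ, ?_, ?_⟩, hφ⟩
  · refine hom_ext_generic k ?_ ?_
    · rw [Category.assoc, hψ, hφ, Category.id_comp]
    · rw [Category.comp_id]
      exact hzψ ψ hψη
  · refine hom_ext_generic (X := CohB1.ProjSpace 1 k) k ?_ ?_
    · rw [Category.id_comp, Category.assoc]
      exact (congrArg (ψ ≫ ·) hφ).trans hψ
    · rw [← Category.assoc, hψη, hz, Category.comp_id]

end Groth.Agent.FFCurve
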