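import Groth.Agent.FFCurve.ChartForms
import Groth.Agent.LefHyp.Ideal
import Groth.Agent.RegLoc.AdicNoeth
import Mathlib.RingTheory.Polynomial.UniqueFactorization

/-!
# Forms in three variables on the charts of the plane
-/

set_option autoImplicit false
set_option linter.style.haveILetI false

universe u

open CategoryTheory AlgebraicGeometry TopologicalSpace HomogeneousLocalization

noncomputable section

namespace Groth.Agent.FFCurve.Plane

open Groth.Agent.QCoh Groth.Agent.ProjMorph Groth.Agent.Props.ProjFrame Groth.Agent.SepTang48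

variable {k : Type u} [Field k]

local notation "S" => MvPolynomial (Fin 3) k

/-- Evaluation at the affine coordinates of a chart. -/
def ev (i : Fin 3) : S →+* Γ(CohB1.ProjSpace 2 k, D k 2 i) :=
  MvPolynomial.eval₂Hom (const k 2 i) (ρ k 2 i)

lemma dehom_eq_ev {e : ℕ} (G : LefPen.Form 2 k e) (i : Fin 3) : LefPen.dehom G i = ev i G.1 :=
  LefHyp.dehom_eq_eval₂ G i

lemma ev_X_self (i : Fin 3) : ev (k := k) i (MvPolynomial.X i) = 1 := by
  rw [ev, MvPolynomial.eval₂Hom_X', ρ_self]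

lemma ev_eq_zero {G : S} {e : ℕ} (hG : G.IsHomogeneous e) (i : Fin 3) (h : ev i G = 0) : G = 0 := by
  let G' : LefPen.Form 2 k e := ⟨G, (MvPolynomial.mem_homogeneousSubmodule _ _).2 hG⟩
  rw [← dehom_eq_ev G' i] at h
  let m := Away.mk (CohB1.polyGrading 2 k) (LefPen.X_mem 2 k i) e G
    (by rw [smul_eq_mul, mul_one]; exact (MvPolynomial.mem_homogeneousSubmodule _ _).2 hG)
  have h0 : m = 0 := by
    refine (ConcreteCategory.bijective_of_isIso
      (Proj.basicOpenIsoAway (CohB1.polyGrading 2 k) _ (LefPen.X_mem 2 k i) one_pos).hom).1 ?_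
    rw [map_zero, Proj.basicOpenIsoAway_hom]
    exact h
  have h1 : m.val = 0 := by rw [h0, HomogeneousLocalization.val_zero]
  rw [Away.val_mk, Localization.mk_eq_mk', IsLocalization.mk'_eq_zero_iff] at h1
  obtain ⟨⟨_, n, rfl⟩, hn⟩ := h1
  exact (mul_eq_zero.1 hn).resolve_left (pow_ne_zero _ (MvPolynomial.X_ne_zero i))

lemma exists_homog_ev (i : Fin 3) (a : Γ(CohB1.ProjSpace 2 k, D k 2 i)) :
    ∃ (N : ℕ) (F : S), F.IsHomogeneous N ∧ ev i F = a := by
  obtain ⟨Q, rfl⟩ := exists_eval₂ k 2 i a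
  obtain ⟨N, F, hF, -, h⟩ := ChartForms.exists_homogenise k 2 i Q
  exact ⟨N, F, hF, h _ _ (ρ_self k 2 i)⟩

lemma dvd_of_dvd_pow_mul {f G : S} {i : Fin 3} (hX : ¬ MvPolynomial.X i ∣ f) : ∀ {N : ℕ},
    f ∣ MvPolynomial.X i ^ N * G → f ∣ G
  | 0, h => by simpa using h
  | N + 1, h => by
    obtain ⟨c, hc⟩ := h
    obtain ⟨c', rfl⟩ := ((MvPolynomial.X_prime (i := i)).dvd_or_dvd
      (show MvPolynomial.X i ∣ f * c from ⟨MvPolynomial.X i ^ N * G, by rw [← hc]; ring⟩)).resolve_left hX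
    exact dvd_of_dvd_pow_mul hX (N := N)
      ⟨c', mul_left_cancel₀ (MvPolynomial.X_ne_zero i) (by linear_combination hc)⟩

lemma exists_dvd_pow_mul {f G : S} {d e : ℕ} (hf : f.IsHomogeneous d) (hG : G.IsHomogeneous e)
    (i : Fin 3) (h : ev i G ∈ Ideal.span {ev i f}) : ∃ N, f ∣ MvPolynomial.X i ^ N * G := by
  obtain ⟨a, ha⟩ := Ideal.mem_span_singleton'.1 h
  obtain ⟨M, F, hF, rfl⟩ := exists_homog_ev i a
  refine ⟨M + d, MvPolynomial.X i ^ e * F, sub_eq_zero.1 (ev_eq_zero (e := e + d + M) ?_ i ?_)⟩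
  · have hX : ∀ n : ℕ, (MvPolynomial.X i ^ n : S).IsHomogeneous n := fun n => by
      simpa using (MvPolynomial.isHomogeneous_X k i).pow n
    refine MvPolynomial.IsHomogeneous.sub ?_ ?_
    · have := (hX (M + d)).mul hG
      rwa [show M + d + e = e + d + M by omega] at this
    · have := hf.mul ((hX e).mul hF)
      rwa [show d + (e + M) = e + d + M by omega] at this
  · simp only [map_sub, map_mul, map_pow, ev_X_self, one_pow, one_mul, ← ha]
    ring

/-- A form whose zero set is contained in a coordinate line. -/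
lemma X_dvd_of_isUnit {f : S} {d : ℕ} (hf : f.IsHomogeneous d) (hd : 0 < d) (i : Fin 3)
    (h : IsUnit (ev i f)) : MvPolynomial.X i ∣ f := by
  obtain ⟨N, hN⟩ := exists_dvd_pow_mul hf (MvPolynomial.isHomogeneous_one (Fin 3) k) i
    (by rw [Ideal.span_singleton_eq_top.2 h]; trivial)
  rw [mul_one] at hN
  obtain ⟨j, -, hj⟩ := (dvd_prime_pow (MvPolynomial.X_prime (i := i)) N).1 hN
  rcases Nat.eq_zero_or_pos j with rfl | hj0
  · rw [pow_zero] at hj
    obtain ⟨c, -, hc⟩ := MvPolynomial.isUnit_iff_eq_C_of_isReduced.1 (associated_one_iff_isUnit.1 hj)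
    have h0 := MvPolynomial.isHomogeneous_C (Fin 3) c
    rw [← hc] at h0
    rcases eq_or_ne f 0 with rfl | hf0
    · exact dvd_zero _
    · exact absurd (hf.inj_right h0 hf0) (by omega)
  · exact (dvd_pow_self _ hj0.ne').trans hj.symm.dvd

/-- A form without zero divisors on the charts is not divisible by a coordinate. -/
lemma not_X_dvd {f : S} {d : ℕ} (hf : f.IsHomogeneous d) (hf0 : f ≠ 0) (hd : 2 ≤ d)
    (hnz : ∀ (j : Fin 3) (a b : Γ(CohB1.ProjSpace 2 k, D k 2 j)), a * b ∈ Ideal.span {ev j f} →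
      a ∈ Ideal.span {ev j f} ∨ b ∈ Ideal.span {ev j f}) (i : Fin 3) : ¬ MvPolynomial.X i ∣ f := by
  rintro ⟨g, rfl⟩
  have hg0 : g ≠ 0 := right_ne_zero_of_mul hf0
  have hXi := MvPolynomial.isHomogeneous_X k i
  have hg : g.IsHomogeneous (d - 1) := by
    have h := congrArg (MvPolynomial.homogeneousComponent d) (mul_comm (MvPolynomial.X i) g)
    rw [MvPolynomial.homogeneousComponent_of_mem hf, if_pos rfl,
      RegLoc.AdicNoeth.homogeneousComponent_mul_of_isHomogeneous hXi, if_pos (by omega), mul_comm] at h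
    rw [show g = MvPolynomial.homogeneousComponent (d - 1) g from
      mul_left_cancel₀ (MvPolynomial.X_ne_zero i) (by linear_combination h)]
    exact MvPolynomial.homogeneousComponent_isHomogeneous _ _
  have hassoc : ∀ j, j ≠ i → ∃ n : ℕ, Associated g (MvPolynomial.X j ^ n) := by
    intro j hj
    have hmem : ev j (MvPolynomial.X i) * ev j g ∈ Ideal.span {ev j (MvPolynomial.X i * g)} := by
      rw [← map_mul]; exact Ideal.mem_span_singleton_self _
    rcases hnz j _ _ hmem with h | h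
    · obtain ⟨N, hN⟩ := exists_dvd_pow_mul hf hXi j h
      rw [mul_comm (MvPolynomial.X i) g] at hN
      obtain ⟨n, -, hn⟩ := (dvd_prime_pow (MvPolynomial.X_prime (i := j)) N).1
        ((mul_dvd_mul_iff_right (MvPolynomial.X_ne_zero i)).1 hN)
      exact ⟨n, hn⟩
    · obtain ⟨N, hN⟩ := exists_dvd_pow_mul hf hg j h
      have := (MvPolynomial.X_prime (i := i)).dvd_of_dvd_pow
        ((mul_dvd_mul_iff_right hg0).1 hN)
      obtain ⟨c, hc⟩ := this
      have := congrArg (MvPolynomial.eval (fun l => if l = j then (1 : k) else 0)) hc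
      simp [Ne.symm hj] at this
  obtain ⟨j, l, hj, hl, hjl⟩ : ∃ j l : Fin 3, j ≠ i ∧ l ≠ i ∧ j ≠ l :=
    ⟨i + 1, i + 2, by fin_cases i <;> decide⟩
  obtain ⟨n, hn⟩ := hassoc j hj
  obtain ⟨m, hm⟩ := hassoc l hl
  obtain ⟨u, hu⟩ := hn.symm.trans hm
  have hn0 : n = 0 := by
    by_contra hn0
    have := congrArg (MvPolynomial.eval (fun x => if x = l then (1 : k) else 0)) hu
    simp [hjl, zero_pow hn0] at this
  rw [hn0, pow_zero, associated_one_iff_isUnit] at hn
  obtain ⟨c, -, hc⟩ := MvPolynomial.isUnit_iff_eq_C_of_isReduced.1 hn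
  have h0 := MvPolynomial.isHomogeneous_C (Fin 3) c
  rw [← hc] at h0
  exact absurd (hg.inj_right h0 hg0) (by omega)

end Groth.Agent.FFCurve.Plane
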