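import Groth.Agent.FF.RR
import Groth.Agent.FF.Exist

/-!
# Repartitions modulo integral ones, seen through one transcendental element
-/

set_option autoImplicit false

open FunFld WithZero Groth.Agent.FF
open scoped IntermediateField

namespace Groth.Agent.FFCurve

variable {k K : Type*} [Field k] [Field K] [Algebra k K] (hK : IsFunctionField k K)
include hK

open scoped Classical in
/-- The repartition equal to `z` at the poles of `t` and `0` elsewhere. -/
noncomputable def atPoles (t z : K) : adele k K :=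
  ⟨fun P => if 1 < P.1 t then z else 0, mem_adele.2 ((finite_poles hK.1 t).subset fun P hP => by
    by_contra h
    have h' : ¬ 1 < P.1 t := h
    simp [h'] at hP)⟩

lemma atPoles_apply_pole {t z : K} {P : Place k K} (h : 1 < P.1 t) :
    (atPoles hK t z).1 P = z := if_pos h

lemma atPoles_apply_not {t z : K} {P : Place k K} (h : ¬ 1 < P.1 t) :
    (atPoles hK t z).1 P = 0 := if_neg h

lemma atPoles_add (t z z' : K) : atPoles hK t (z + z') = atPoles hK t z + atPoles hK t z' := by
  refine Subtype.ext (funext fun P => ?_)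
  show (atPoles hK t (z + z')).1 P = (atPoles hK t z).1 P + (atPoles hK t z').1 P
  by_cases h : 1 < P.1 t
  · simp only [atPoles_apply_pole hK h]
  · simp only [atPoles_apply_not hK h, add_zero]

/-- Every repartition is, modulo `A(E) + K`, supported where `t` vanishes or any prescribed large set. -/
lemma exists_large {t : K} (ht : Transcendental k t) :
    ∃ m : ℕ, spec ((m : ℤ) • zeroDiv (k := k) t) = genus k K := by
  obtain ⟨N, hN⟩ := riemann hK
  refine ⟨N.toNat, hN _ ?_⟩
  rw [deg_zsmul, deg_zeroDiv hK.1 ht]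
  have := finite_adjoin hK.1 ht
  have h1 : (1 : ℤ) ≤ Module.finrank k⟮t⟯ K := by exact_mod_cast Module.finrank_pos
  have h2 : N ≤ (N.toNat : ℤ) := Int.self_le_toNat N
  nlinarith

omit hK in
lemma zeroDiv_apply_eq_zero {x : K} {P : Place k K} (hd : div k x P = P.ord x) (h : ¬ P.1 x < 1) :
    zeroDiv (k := k) x P = 0 := by
  rcases eq_or_ne x 0 with rfl | hx
  · simp at h
  · rw [val_lt_one_iff P hx, not_lt] at h
    rw [zeroDiv, Finsupp.sup_apply, Finsupp.coe_zero, Pi.zero_apply, hd]
    exact sup_of_le_right h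

lemma exists_decomp {t : K} (ht : Transcendental k t) (a : adele k K) :
    ∃ (β : Place k K → K) (y : K), (∀ P : Place k K, ¬ P.1 t < 1 → P.1 (β P) ≤ 1) ∧
      ∀ P, a.1 P = β P + y := by
  obtain ⟨m, hm⟩ := exists_large hK ht
  obtain ⟨β, hβ, z, ⟨y, rfl⟩, hz⟩ := Submodule.mem_sup.1 (adele_le_of_spec_eq hK hm a.2)
  refine ⟨β, y, fun P hP => ?_, fun P => (congrFun hz P).symm⟩
  have h := hβ P
  rw [Finsupp.smul_apply, zeroDiv_apply_eq_zero (div_apply hK.1 t P) hP, smul_zero, exp_zero] at h
  exact h

lemma exists_rep {t : K} (ht : Transcendental k t) (a : adele k K) :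
    ∃ y : K, (∀ P : Place k K, P.1 t = 1 → P.1 y ≤ 1) ∧ a - atPoles hK t y ∈ ADK (0 : Divisor k K) := by
  have ht0 : t ≠ 0 := fun h => ht (h ▸ isAlgebraic_zero)
  obtain ⟨β, w, hβ, hw⟩ := exists_decomp hK (t := t⁻¹) (fun h => ht (by simpa using h.inv)) a
  classical
  let b : Place k K → K := fun P => if 1 < P.1 t then β P else 0
  have hbm : b ∈ adele k K := mem_adele.2 ((finite_poles hK.1 t).subset fun P hP => by
    by_contra h
    have h' : ¬ 1 < P.1 t := h
    simp [b, h'] at hP)
  obtain ⟨γ, y, hγ, hy⟩ := exists_decomp hK ht ⟨b, hbm⟩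
  refine ⟨y, fun P hP => ?_, ?_⟩
  · have h := hy P
    have h' : ¬ 1 < P.1 t := by rw [hP]; exact lt_irrefl _
    simp only [b, if_neg h'] at h
    rw [show y = -γ P by linear_combination -h, Valuation.map_neg]
    exact hγ P (by rw [hP]; exact lt_irrefl _)
  · refine Submodule.mem_sup.2 ⟨fun P => a.1 P - (atPoles hK t y).1 P - w, fun P => ?_, diag k K w,
      ⟨w, rfl⟩, funext fun P => ?_⟩
    · beta_reduce
      rw [Finsupp.coe_zero, Pi.zero_apply, exp_zero, hw P]
      by_cases h : 1 < P.1 t
      · rw [atPoles_apply_pole hK h, show β P + w - y - w = γ P by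
          have := hy P; simp only [b, if_pos h] at this; linear_combination this]
        exact hγ P (not_lt.2 h.le)
      · rw [atPoles_apply_not hK h, sub_zero, add_sub_cancel_right]
        refine hβ P ?_
        rw [map_inv₀, not_lt, one_le_inv₀ (zero_lt_iff.2 (by simpa using ht0))]
        exact not_lt.1 h
    · simp [diag]

lemma natCard_quotient [Finite k] :
    Nat.card (↥(adele k K) ⧸ ADK (0 : Divisor k K)) = Nat.card k ^ genus k K := by
  obtain ⟨hfd, h⟩ := finrank_quotient_ADK hK (0 : Divisor k K)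
  rw [spec_zero hK, sub_zero, Nat.cast_inj] at h
  rw [Module.natCard_eq_pow_finrank (K := k), h]

end Groth.Agent.FFCurve

namespace Groth.Agent.FFCurve

variable {k K : Type*} [Field k] [Field K] [Algebra k K] (hK : IsFunctionField k K)
include hK

lemma atPoles_smul (t : K) (c : k) (z : K) : atPoles hK t (c • z) = c • atPoles hK t z := by
  refine Subtype.ext (funext fun P => ?_)
  show (atPoles hK t (c • z)).1 P = c • (atPoles hK t z).1 P
  by_cases h : 1 < P.1 t
  · simp only [atPoles_apply_pole hK h]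
  · simp only [atPoles_apply_not hK h, smul_zero]

lemma exists_decomp_div {t : K} (ht : Transcendental k t) (D : Divisor k K) (a : adele k K) :
    ∃ (β : Place k K → K) (y : K), (∀ P : Place k K, ¬ P.1 t < 1 → P.1 (β P) ≤ exp (D P)) ∧
      ∀ P, a.1 P = β P + y := by
  obtain ⟨N, hN⟩ := riemann hK
  set m : ℕ := (N - D.deg).toNat
  have hm : spec (D + (m : ℤ) • zeroDiv (k := k) t) = genus k K := by
    refine hN _ ?_
    rw [deg_add, deg_zsmul, deg_zeroDiv hK.1 ht]
    have := finite_adjoin hK.1 ht
    have h1 : (1 : ℤ) ≤ Module.finrank k⟮t⟯ K := by exact_mod_cast Module.finrank_pos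
    have h2 : N - D.deg ≤ (m : ℤ) := Int.self_le_toNat _
    nlinarith
  obtain ⟨β, hβ, z, ⟨y, rfl⟩, hz⟩ := Submodule.mem_sup.1 (adele_le_of_spec_eq hK hm a.2)
  refine ⟨β, y, fun P hP => ?_, fun P => (congrFun hz P).symm⟩
  have h := hβ P
  rw [Finsupp.add_apply, Finsupp.smul_apply, zeroDiv_apply_eq_zero (div_apply hK.1 t P) hP, smul_zero,
    add_zero] at h
  exact h

lemma exists_rep_div {t : K} (ht : Transcendental k t) (D : Divisor k K) (a : adele k K) :
    ∃ y : K, (∀ P : Place k K, P.1 t = 1 → P.1 y ≤ exp (D P)) ∧ a - atPoles hK t y ∈ ADK D := by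
  have ht0 : t ≠ 0 := fun h => ht (h ▸ isAlgebraic_zero)
  obtain ⟨β, w, hβ, hw⟩ := exists_decomp_div hK (t := t⁻¹) (fun h => ht (by simpa using h.inv)) D a
  classical
  let b : Place k K → K := fun P => if 1 < P.1 t then β P else 0
  have hbm : b ∈ adele k K := mem_adele.2 ((finite_poles hK.1 t).subset fun P hP => by
    by_contra h
    have h' : ¬ 1 < P.1 t := h
    simp [b, h'] at hP)
  obtain ⟨γ, y, hγ, hy⟩ := exists_decomp_div hK ht D ⟨b, hbm⟩
  refine ⟨y, fun P hP => ?_, ?_⟩
  · have h := hy P
    have h' : ¬ 1 < P.1 t := by rw [hP]; exact lt_irrefl _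
    simp only [b, if_neg h'] at h
    rw [show y = -γ P by linear_combination -h, Valuation.map_neg]
    exact hγ P (by rw [hP]; exact lt_irrefl _)
  · refine Submodule.mem_sup.2 ⟨fun P => a.1 P - (atPoles hK t y).1 P - w, fun P => ?_, diag k K w,
      ⟨w, rfl⟩, funext fun P => ?_⟩
    · beta_reduce
      rw [hw P]
      by_cases h : 1 < P.1 t
      · rw [atPoles_apply_pole hK h, show β P + w - y - w = γ P by
          have := hy P; simp only [b, if_pos h] at this; linear_combination this]
        exact hγ P (not_lt.2 h.le)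
      · rw [atPoles_apply_not hK h, sub_zero, add_sub_cancel_right]
        refine hβ P ?_
        rw [map_inv₀, not_lt, one_le_inv₀ (zero_lt_iff.2 (by simpa using ht0))]
        exact not_lt.1 h
    · simp [diag]

end Groth.Agent.FFCurve
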