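import Groth.Agent.FFCurve.Curve
import Groth.Agent.GITLib.ExtendPoint

/-!
# Automorphisms of a curve from automorphisms of its function field
-/

universe u

open CategoryTheory CategoryTheory.Limits AlgebraicGeometry

set_option linter.style.haveILetI false

namespace Groth.Agent.FFCurve

variable {X : Scheme.{u}} [IsIntegral X] (k : Type u) [Field k] [X.Over (Spec (CommRingCat.of k))]

lemma fromSpecStalk_str :
    X.fromSpecStalk (genericPoint X) ≫ (X ↘ Spec (CommRingCat.of k)) =
      Spec.map (CommRingCat.ofHom (algebraMap k X.functionField)) := by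
  have h : (X ↘ Spec (CommRingCat.of k)) =
      X.toSpecΓ ≫ Spec.map ((Scheme.ΓSpecIso (CommRingCat.of k)).inv ≫ (X ↘ Spec (CommRingCat.of k)).appTop) := by
    rw [Spec.map_comp, ← Scheme.toSpecΓ_naturality_assoc, ← SpecMap_ΓSpecIso_hom, ← Spec.map_comp,
      Iso.inv_hom_id, Spec.map_id, Category.comp_id]
  conv_lhs => rw [h, ← Category.assoc, Scheme.fromSpecStalk_toSpecΓ, ← Spec.map_comp]
  rfl

/-- The action of a function field automorphism at the generic point. -/
noncomputable def genMap (σ : X.functionField ≃ₐ[k] X.functionField) : Spec X.functionField ⟶ X :=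
  Spec.map (CommRingCat.ofHom (σ : X.functionField →+* X.functionField)) ≫ X.fromSpecStalk (genericPoint X)

lemma genMap_str (σ : X.functionField ≃ₐ[k] X.functionField) :
    genMap k σ ≫ (X ↘ Spec (CommRingCat.of k)) =
      X.fromSpecStalk (genericPoint X) ≫ (X ↘ Spec (CommRingCat.of k)) := by
  rw [genMap, Category.assoc, fromSpecStalk_str, ← Spec.map_comp]
  congr 1
  ext c
  exact σ.commutes c

variable [IsProper (X ↘ Spec (CommRingCat.of k))]

lemma exists_extension [RegCurve X] (σ : X.functionField ≃ₐ[k] X.functionField) :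
    ∃ f : X ⟶ X, f ≫ (X ↘ Spec (CommRingCat.of k)) = X ↘ Spec (CommRingCat.of k) ∧
      X.fromSpecStalk (genericPoint X) ≫ f = genMap k σ := by
  obtain ⟨s, hs, hη⟩ := GITLib.exists_section_of_genericPoint (Y := pullback (X ↘ Spec (CommRingCat.of k)) (X ↘ Spec (CommRingCat.of k)))
    RegCurve.val (pullback.fst _ _)
    (pullback.lift (X.fromSpecStalk (genericPoint X)) (genMap k σ) (genMap_str k σ).symm)
    (pullback.lift_fst _ _ _)
  refine ⟨s ≫ pullback.snd _ _, ?_, ?_⟩
  · rw [Category.assoc, ← pullback.condition, ← Category.assoc, hs, Category.id_comp]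
  · rw [← Category.assoc, hη, pullback.lift_snd]

instance isDominant_fromSpecStalk_generic : IsDominant (X.fromSpecStalk (genericPoint X)) := ⟨by
  intro q
  refine closure_mono (Set.singleton_subset_iff.mpr ?_) ((genericPoint_spec X).specializes trivial).mem_closure
  exact ⟨IsLocalRing.closedPoint X.functionField, Scheme.fromSpecStalk_closedPoint⟩⟩

lemma hom_ext_generic {f g : X ⟶ X}
    (h : f ≫ (X ↘ Spec (CommRingCat.of k)) = g ≫ (X ↘ Spec (CommRingCat.of k)))
    (h' : X.fromSpecStalk (genericPoint X) ≫ f = X.fromSpecStalk (genericPoint X) ≫ g) : f = g :=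
  ext_of_isDominant_of_isSeparated (X ↘ Spec (CommRingCat.of k)) h _ h'

/-- Function field automorphisms give automorphisms, injectively. -/
theorem infinite_autCurve [RegCurve X] [Infinite (X.functionField ≃ₐ[k] X.functionField)] :
    Infinite {e : X ≅ X // e.hom ≫ (X ↘ Spec (CommRingCat.of k)) = X ↘ Spec (CommRingCat.of k)} := by
  choose f hf hη using exists_extension (X := X) k
  have hinv : ∀ σ, f σ ≫ f σ.symm = 𝟙 X := fun σ => by
    refine hom_ext_generic k (by rw [Category.assoc, hf, hf, Category.id_comp]) ?_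
    rw [← Category.assoc, hη, genMap, Category.assoc, hη, genMap, ← Spec.map_comp_assoc, Category.comp_id]
    have he : CommRingCat.ofHom (σ.symm : X.functionField →+* X.functionField) ≫
        CommRingCat.ofHom (σ : X.functionField →+* X.functionField) = 𝟙 _ := by
      ext z
      exact σ.apply_symm_apply z
    erw [he, Spec.map_id, Category.id_comp]
  let F : (X.functionField ≃ₐ[k] X.functionField) →
      {e : X ≅ X // e.hom ≫ (X ↘ Spec (CommRingCat.of k)) = X ↘ Spec (CommRingCat.of k)} :=
    fun σ => ⟨⟨f σ, f σ.symm, hinv σ, hinv σ.symm⟩, hf σ⟩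
  refine Infinite.of_injective F fun σ τ h => ?_
  have h1 : genMap k σ = genMap k τ := by
    rw [← hη σ, ← hη τ]
    exact congrArg (fun e => X.fromSpecStalk (genericPoint X) ≫ e.1.hom) h
  haveI : Mono (X.fromSpecStalk (genericPoint X)) := inferInstance
  have h2 := Spec.map_injective ((cancel_mono (X.fromSpecStalk (genericPoint X))).1 h1)
  exact AlgEquiv.ext fun z => RingHom.congr_fun (congrArg CommRingCat.Hom.hom h2) z

end Groth.Agent.FFCurve
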