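import Groth.Agent.FFCurve.Aut
import Groth.Agent.FF.AutFix

/-!
# The action of curve automorphisms on places
-/

universe u

open CategoryTheory CategoryTheory.Limits AlgebraicGeometry FunFld
open Groth.Agent.CurveCoh

set_option linter.style.haveILetI false
set_option backward.isDefEq.respectTransparency.types false

namespace Groth.Agent.FFCurve

variable {X : Scheme.{u}} [IsIntegral X] (k : Type u) [Field k] [X.Over (Spec (CommRingCat.of k))]

lemma apply_genericPoint {f : X ⟶ X} {σ : X.functionField ≃ₐ[k] X.functionField}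
    (h : X.fromSpecStalk (genericPoint X) ≫ f = genMap k σ) : f (genericPoint X) = genericPoint X := by
  haveI : IsLocalHom (σ : X.functionField →+* X.functionField) :=
    ⟨fun a ha => (isUnit_map_iff σ a).1 ha⟩
  have h1 : f (X.fromSpecStalk (genericPoint X) (IsLocalRing.closedPoint X.functionField)) =
      genMap k σ (IsLocalRing.closedPoint X.functionField) := by
    rw [← Scheme.Hom.comp_apply, h]
  rw [Scheme.fromSpecStalk_closedPoint] at h1
  rw [h1, genMap, Scheme.Hom.comp_apply]
  refine Eq.trans (congrArg _ ?_) Scheme.fromSpecStalk_closedPoint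
  exact Subsingleton.elim (α := PrimeSpectrum X.functionField) _ _

lemma secK_app {f : X ⟶ X} {σ : X.functionField ≃ₐ[k] X.functionField}
    (h : X.fromSpecStalk (genericPoint X) ≫ f = genMap k σ) {W : X.Opens} (hW : genericPoint X ∈ W)
    (hW' : genericPoint X ∈ f ⁻¹ᵁ W) (a : Γ(X, W)) :
    secK (f ⁻¹ᵁ W) hW' (f.app W a) = σ (secK W hW a) := by
  have hη := apply_genericPoint k h
  have hsp : genericPoint X ⤳ f (genericPoint X) := by rw [hη]
  have h1 : Spec.map (f.stalkMap (genericPoint X)) =
      Spec.map (X.presheaf.stalkSpecializes hsp ≫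
        CommRingCat.ofHom (σ : X.functionField →+* X.functionField)) := by
    rw [← cancel_mono (X.fromSpecStalk (f (genericPoint X))), Scheme.SpecMap_stalkMap_fromSpecStalk,
      Spec.map_comp, Category.assoc, Scheme.SpecMap_stalkSpecializes_fromSpecStalk]
    exact h
  have h2 := congrArg (fun φ => φ (X.presheaf.germ W (f (genericPoint X)) (hη.symm ▸ hW) a))
    (Spec.map_injective h1)
  erw [Scheme.Hom.germ_stalkMap_apply] at h2
  refine h2.trans ?_
  change σ (X.presheaf.stalkSpecializes hsp _) = _
  exact congrArg σ (TopCat.Presheaf.germ_stalkSpecializes_apply _ _ _ _)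

variable [IsProper (X ↘ Spec (CommRingCat.of k))] [RegCurve X] (hdim : topologicalKrullDim X = 1)
include hdim

/-- An automorphism moves the places by the field automorphism. -/
lemma pullK_toPlace {f : X ⟶ X} {σ : X.functionField ≃ₐ[k] X.functionField}
    (h : X.fromSpecStalk (genericPoint X) ≫ f = genMap k σ) (x y : ZetaLib.ClosedPt X) (hxy : f x.1 = y.1) :
    FF.pullK (toPlace k hdim x) σ = toPlace k hdim y := by
  refine (FF.ext_of_O fun z hz => ?_).symm
  obtain ⟨s, hs⟩ := (val_toPlace_le_one_iff k hdim y z).1 hz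
  obtain ⟨W, hyW, a, rfl⟩ := X.presheaf.exists_germ_eq s
  have hxW : x.1 ∈ f ⁻¹ᵁ W := by change f x.1 ∈ W; rw [hxy]; exact hyW
  rw [← hs]
  change (toPlace k hdim x).1 (σ _) ≤ 1
  rw [algebraMap_germ_secK hyW, ← secK_app k h (genericPoint_mem hyW) (genericPoint_mem hxW) a]
  exact (val_toPlace_le_one_iff k hdim x _).2 ⟨_, algebraMap_germ_secK hxW _⟩

end Groth.Agent.FFCurve
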