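import Groth.Agent.CurveCoh.Finite
import Groth.Agent.CurveCoh.Integral
import Groth.Agent.VarBC.Basic
import Groth.Agent.FF.Exist

/-!
# The function field of a curve over a field as a function field of one variable
-/

universe u

open CategoryTheory AlgebraicGeometry Limits FunFld
open Groth.Agent.CurveCoh

set_option linter.style.haveILetI false

namespace Groth.Agent.FFCurve

variable (k : Type u) [Field k] {X : Scheme.{u}} [IsIntegral X] [X.Over (Spec (CommRingCat.of k))]

noncomputable instance algebraFunctionField : Algebra k X.functionField := (kFun (X := X) k).toAlgebra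

lemma algebraMap_def : algebraMap k X.functionField = kFun (X := X) k := rfl

lemma aeval_eq (f : X.functionField) (p : Polynomial k) :
    Polynomial.aeval f p = Polynomial.eval₂ (kFun (X := X) k) f p := rfl

/-- The image of a section over an open in the function field. -/
noncomputable def secK (W : X.Opens) (hW : genericPoint X ∈ W) : Γ(X, W) →+* X.functionField :=
  (X.presheaf.germ W (genericPoint X) hW).hom

lemma secK_injective (W : X.Opens) (hW : genericPoint X ∈ W) : Function.Injective (secK W hW) :=
  germ_injective_of_isIntegral X (genericPoint X) hW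

lemma secK_kMap (W : X.Opens) (hW : genericPoint X ∈ W) (c : k) :
    secK W hW (kMap k W c) = algebraMap k X.functionField c := germ_kMap k W hW c

lemma secK_res {V W : X.Opens} (h : W ≤ V) (hW : genericPoint X ∈ W) (s : Γ(X, V)) :
    secK W hW (X.presheaf.map (homOfLE h).op s) = secK V (h hW) s := by
  simp only [secK]
  exact TopCat.Presheaf.germ_res_apply _ _ _ _ _

lemma isFractionRing_secK {W : X.Opens} (hW : IsAffineOpen W) (hη : genericPoint X ∈ W)
    (z : X.functionField) : ∃ a b : Γ(X, W), b ≠ 0 ∧ z = secK W hη a / secK W hη b := by
  haveI : Nonempty W := ⟨⟨_, hη⟩⟩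
  haveI := functionField_isFractionRing_of_isAffineOpen X W hW
  obtain ⟨a, b, hb, h⟩ := IsFractionRing.div_surjective Γ(X, W) z
  exact ⟨a, b, nonZeroDivisors.ne_zero hb, h.symm⟩

/-- An integral scheme whose local rings are valuation rings. -/
class RegCurve (X : Scheme.{u}) [IsIntegral X] : Prop where
  val : ∀ x : X, ValuationRing (X.presheaf.stalk x)

lemma regCurve_of_smooth [Smooth (X ↘ Spec (CommRingCat.of k))] (hdim : topologicalKrullDim X = 1) :
    RegCurve X := ⟨valuationRing_stalk k X hdim⟩

/-- Regular curves qualify. -/
lemma regCurve_of_regular [LocallyOfFiniteType (X ↘ Spec (CommRingCat.of k))]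
    (hdim : topologicalKrullDim X = 1) (hreg : ∀ x : X, IsRegularLocalRing (X.presheaf.stalk x)) :
    RegCurve X := ⟨fun x => by
  by_cases hx : x = genericPoint X
  · subst hx
    change ValuationRing X.functionField
    infer_instance
  · haveI := hreg x
    haveI : IsDiscreteValuationRing (X.presheaf.stalk x) :=
      CurveDVR.isDiscreteValuationRing_of_regular _ (by
        rw [ringKrullDim_stalk_eq_coheight, CurveDVR.coheight_eq_one (X ↘ Spec (CommRingCat.of k)) hdim
          (VarDim.isClosed_singleton_of_ne_genericPoint k hdim hx)]
        rfl)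
    infer_instance⟩

section Proper

variable [IsProper (X ↘ Spec (CommRingCat.of k))]

lemma secK_polyMap (f : X.functionField) (p : Polynomial k) :
    secK (regLocus f) (genericPoint_mem_regLocus f) (polyMap k f p) = Polynomial.aeval f p :=
  germ_polyMap k f p

lemma transc_iff (f : X.functionField) : IsTransc k f ↔ Transcendental k f := by
  rw [transcendental_iff]; rfl


section

variable (hv : ∀ x : X, ValuationRing (X.presheaf.stalk x)) (hdim : topologicalKrullDim X = 1)
include hv hdim

lemma isFF_of_transc {f : X.functionField} (hf : Transcendental k f) :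
    FiniteDimensional (IntermediateField.adjoin k ({f} : Set X.functionField)) X.functionField := by
  have hf' := (transc_iff k f).2 hf
  have hη := genericPoint_mem_regLocus f
  letI : Algebra (Polynomial k) Γ(X, regLocus f) := (polyMap k f).hom.toAlgebra
  haveI hfin : Module.Finite (Polynomial k) Γ(X, regLocus f) := finite_polyMap k hv hdim f hf'
  obtain ⟨s, hs⟩ := hfin.fg_top
  classical
  let F := IntermediateField.adjoin k ({f} : Set X.functionField)
  let B : Set X.functionField := (s.image (secK (regLocus f) hη) : Finset X.functionField)
  let E := IntermediateField.adjoin F B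
  have hp : ∀ p : Polynomial k, Polynomial.aeval f p ∈ E := fun p => by
    have h1 : Polynomial.aeval f p ∈ F :=
      IntermediateField.algebra_adjoin_le_adjoin k _ (Polynomial.aeval_mem_adjoin_singleton k f)
    exact E.algebraMap_mem ⟨_, h1⟩
  have hmem : ∀ a : Γ(X, regLocus f), secK (regLocus f) hη a ∈ E := by
    intro a
    have ha : a ∈ Submodule.span (Polynomial k) (s : Set Γ(X, regLocus f)) := hs ▸ trivial
    induction ha using Submodule.span_induction with
    | mem x hx => exact IntermediateField.subset_adjoin _ _ (by
        exact Finset.mem_coe.2 (Finset.mem_image_of_mem _ hx))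
    | zero => rw [map_zero]; exact E.zero_mem
    | add x y _ _ hx hy => rw [map_add]; exact E.add_mem hx hy
    | smul p x _ hx =>
      rw [Algebra.smul_def, map_mul]
      refine E.mul_mem ?_ hx
      rw [show secK (regLocus f) hη (algebraMap (Polynomial k) _ p) = Polynomial.aeval f p from
        secK_polyMap k f p]
      exact hp p
  have htop : E = ⊤ := by
    rw [eq_top_iff]
    intro z _
    obtain ⟨a, b, -, rfl⟩ := isFractionRing_secK (isAffineOpen_regLocus k hv hdim f hf') hη z
    exact E.div_mem (hmem a) (hmem b)
  have halg : ∀ z ∈ B, IsIntegral F z := by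
    intro z hz
    obtain ⟨a, -, rfl⟩ := Finset.mem_image.1 (Finset.mem_coe.1 hz)
    obtain ⟨p, hpm, hp0⟩ := Algebra.IsIntegral.isIntegral (R := Polynomial k) a
    let φ : Polynomial k →+* F :=
      ((Polynomial.aeval (⟨f, IntermediateField.mem_adjoin_simple_self k f⟩ : F)).toRingHom)
    refine ⟨p.map φ, hpm.map φ, ?_⟩
    rw [Polynomial.eval₂_map]
    have hcomp : (algebraMap F X.functionField).comp φ =
        (secK (regLocus f) hη).comp (algebraMap (Polynomial k) Γ(X, regLocus f)) := by
      refine RingHom.ext fun q => ?_
      rw [RingHom.comp_apply, RingHom.comp_apply,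
        show secK (regLocus f) hη (algebraMap (Polynomial k) _ q) = Polynomial.aeval f q from
          secK_polyMap k f q]
      exact (Polynomial.aeval_algebraMap_apply X.functionField
        (⟨f, IntermediateField.mem_adjoin_simple_self k f⟩ : F) q).symm
    rw [hcomp, ← Polynomial.hom_eval₂, hp0, map_zero]
  haveI : FiniteDimensional F E := IntermediateField.finiteDimensional_adjoin halg
  have := (IntermediateField.equivOfEq htop).trans IntermediateField.topEquiv
  exact this.toLinearEquiv.finiteDimensional

end

variable (hdim : topologicalKrullDim X = 1)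
include hdim

lemma exists_transcendental : ∃ f : X.functionField, Transcendental k f := by
  obtain ⟨f, hf⟩ := exists_isTransc (X := X) k hdim
  exact ⟨f, (transc_iff k f).1 hf⟩

variable [RegCurve X]

include k in
lemma hv : ∀ x : X, ValuationRing (X.presheaf.stalk x) := RegCurve.val

lemma isFF : FF.IsFF k X.functionField := by
  obtain ⟨f, hf⟩ := exists_transcendental (X := X) k hdim
  exact ⟨f, hf, isFF_of_transc k (hv k hdim) hdim hf⟩

end Proper

lemma fromSpecStalk_comp :
    X.fromSpecStalk (genericPoint X) ≫ (X ↘ Spec (CommRingCat.of k)) =
      Spec.map (CommRingCat.ofHom (algebraMap k X.functionField)) := by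
  set f := X ↘ Spec (CommRingCat.of k)
  have h : f = X.toSpecΓ ≫ Spec.map ((Scheme.ΓSpecIso (CommRingCat.of k)).inv ≫ f.appTop) := by
    have h1 := Scheme.toSpecΓ_naturality f
    rw [← SpecMap_ΓSpecIso_hom] at h1
    rw [Spec.map_comp, ← Category.assoc,
      ← h1, Category.assoc, ← Spec.map_comp, Iso.inv_hom_id, Spec.map_id, Category.comp_id]
  rw [h, ← Category.assoc, Scheme.fromSpecStalk_toSpecΓ, ← Spec.map_comp]
  rfl

lemma range_fromSpecStalk_generic :
    Set.range (X.fromSpecStalk (genericPoint X)) = {genericPoint X} := by
  rw [Scheme.range_fromSpecStalk]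
  ext y
  exact ⟨fun h => ((genericPoint_spec X).specializes trivial |>.antisymm h).eq.symm, fun h => h ▸ specializes_rfl⟩

/-- The constants of a geometrically irreducible curve over a finite field. -/
lemma constants [Finite k] [GeometricallyIrreducible (X ↘ Spec (CommRingCat.of k))]
    (y : X.functionField) (hy : IsAlgebraic k y) : y ∈ Set.range (algebraMap k X.functionField) := by
  set f := X ↘ Spec (CommRingCat.of k)
  have hbot := VarBC.separableClosure_eq_bot_of_finite f (κ := X.functionField)
    (X.fromSpecStalk (genericPoint X)) (fromSpecStalk_comp k) range_fromSpecStalk_generic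
    (fun K _ _ _ _ => GeometricallyIrreducible.geometrically_irreducibleSpace (f := f)
      (FBase.BC.specMap k K) _ _ (IsPullback.of_hasPullback _ _))
  have : y ∈ separableClosure k X.functionField :=
    mem_separableClosure_iff.2 (PerfectField.separable_of_irreducible (minpoly.irreducible hy.isIntegral))
  rw [hbot] at this
  exact IntermediateField.mem_bot.1 this

lemma isFunctionField [IsProper (X ↘ Spec (CommRingCat.of k))]
    [RegCurve X] (hdim : topologicalKrullDim X = 1) [Finite k]
    [GeometricallyIrreducible (X ↘ Spec (CommRingCat.of k))] :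
    IsFunctionField k X.functionField :=
  ⟨isFF k hdim, constants k⟩

end Groth.Agent.FFCurve
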