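import Groth.Agent.FFCurve.CastelnuovoSeveri

/-!
# Equality in the Castelnuovo–Severi inequality for two double covers

If the bound is attained, the two subfields together separate any two places and every tangent.
-/

set_option autoImplicit false
set_option linter.style.haveILetI false
set_option linter.unusedSectionVars false

open FunFld WithZero Groth.Agent.FF

namespace Groth.Agent.FFCurve.CS

variable {k K K₁ K₂ : Type*} [Field k] [Field K] [Field K₁] [Field K₂]
  [Algebra k K] [Algebra k K₁] [Algebra k K₂] [Algebra K₁ K] [Algebra K₂ K]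
  [IsScalarTower k K₁ K] [IsScalarTower k K₂ K]
  [IsAlgClosed k] [Algebra.IsSeparable K₁ K] [Algebra.IsSeparable K₂ K]

/-- Two different subfields of index two are told apart by a function whose only pole, of low
order, avoids a given finite set. -/
theorem exists_sep_fun_avoid (hK : IsFunctionField k K) (hK₂ : IsFunctionField k K₂)
    (h₁ : Module.finrank K₁ K = 2) (h₂ : Module.finrank K₂ K = 2)
    (hne : Set.range (algebraMap K₁ K) ≠ Set.range (algebraMap K₂ K))
    {T : Set (Place k K₂)} (hT : T.Finite) :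
    ∃ (Q : Place k K₂) (y : K₂), Q ∉ T ∧ y ∈ L (Finsupp.single Q ((genus k K₂ : ℤ) + 1)) ∧
      algebraMap K₂ K y ∉ Set.range (algebraMap K₁ K) := by
  classical
  by_contra hall
  push Not at hall
  obtain ⟨σ₁, h1ne, h11, -, hfix₁⟩ := exists_involution K₁ K h₁
  obtain ⟨σ₂, h2ne, h22, hall₂, hfix₂⟩ := exists_involution K₂ K h₂
  haveI : FiniteDimensional K₂ K := Module.finite_of_finrank_pos (by omega)
  haveI : Algebra.IsQuadraticExtension K₂ K := { finrank_eq_two' := h₂ }
  let s₁ : K ≃ₐ[k] K := σ₁.restrictScalars k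
  let s₂ : K ≃ₐ[k] K := σ₂.restrictScalars k
  let E : Set (Place k K) := ⋃ Q ∈ T, {R : Place k K | IsOver R Q}
  have hE : E.Finite := hT.biUnion fun Q _ => finite_over hK₂.1 Q
  have key : ∀ R : Place k K, R ∉ E →
      (∀ x, R.1 (s₁ x) = R.1 x) ∨ (∀ x, R.1 (s₁ x) = R.1 (s₂ x)) := by
    intro R hR0
    obtain ⟨Q, hQ⟩ := exists_below (K := K₂) hK₂.1 R
    have hQT : Q ∉ T := fun h => hR0 (Set.mem_biUnion h hQ)
    set D := Finsupp.single Q ((genus k K₂ : ℤ) + 1) with hD
    have hell : 2 ≤ ell D := by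
      have := spec_le_genus hK₂ D
      rw [spec, hD, deg_single, deg_eq_one hK₂] at this
      push_cast at this
      rw [hD]
      omega
    obtain ⟨y, hy, hy0⟩ : ∃ y ∈ L D, y ∉ L (0 : Divisor k K₂) := by
      by_contra! hle
      haveI := finiteDimensional_L hK₂.1 (0 : Divisor k K₂)
      have := Submodule.finrank_mono (show L D ≤ L (0 : Divisor k K₂) from fun y hy => hle y hy)
      have h0 := ell_zero hK₂
      simp only [ell] at this h0 hell
      omega
    have hQy : 1 < Q.1 y := by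
      by_contra! hle
      refine hy0 fun P => ?_
      rw [Finsupp.zero_apply, exp_zero]
      by_cases hPQ : P = Q
      · exact hPQ ▸ hle
      · have := hy P
        rwa [hD, Finsupp.single_eq_of_ne hPQ, exp_zero] at this
    have hR : 1 < (pull R σ₂).1 (algebraMap K₂ K y) := by
      rw [pull_val, σ₂.commutes]
      by_contra! hle
      exact absurd ((val_algebraMap_le_one_iff hQ y).1 hle) (not_le.2 hQy)
    have hR' : 1 < (pullK R s₁).1 (algebraMap K₂ K y) := by
      obtain ⟨z, hz⟩ := hall Q y hQT hy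
      have : R.1 (algebraMap K₂ K y) = (pullK R s₁).1 (algebraMap K₂ K y) := by
        show _ = R.1 (σ₁ (algebraMap K₂ K y))
        rw [← hz, σ₁.commutes]
      rw [← this]
      rw [pull_val, σ₂.commutes] at hR
      exact hR
    obtain ⟨Q', hQ'⟩ := exists_below (K := K₂) hK₂.1 (pullK R s₁)
    have hQQ : Q' = Q := by
      by_contra hne'
      have := hy Q'
      rw [hD, Finsupp.single_eq_of_ne hne', exp_zero] at this
      exact absurd ((val_algebraMap_le_one_iff hQ' y).2 this) (not_le.2 hR')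
    rw [hQQ] at hQ'
    obtain ⟨τ, hτ⟩ := exists_pull_eq hK₂.1 hQ hQ'
    rcases hall₂ τ with rfl | rfl
    · exact .inl fun x => (congrArg (fun P : Place k K => P.1 x) hτ).symm
    · exact .inr fun x => (congrArg (fun P : Place k K => P.1 x) hτ).symm
  let A : Set (Place k K) := {P | ∀ x : K, P.1 x < 1 → P.1 (s₁ x) < 1}
  let B : Set (Place k K) := {P | ∀ x : K, P.1 x < 1 → P.1 ((s₁ * s₂) x) < 1}
  have hcov : Eᶜ ⊆ A ∪ B := fun R hR => by
    rcases key R hR with h | h
    · exact .inl fun x hx => (h x).trans_lt hx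
    · refine .inr fun x hx => ?_
      show R.1 (s₁ (s₂ x)) < 1
      rw [h (s₂ x), show s₂ (s₂ x) = x from AlgEquiv.congr_fun h22 x]
      exact hx
  have hinf : ∀ {T : Set (Place k K)}, T.Infinite → ((2 * genus k K + 2 : ℕ) : ℕ∞) < T.encard :=
    fun h => h.encard_eq ▸ ENat.coe_lt_top _
  have huniv : (Eᶜ : Set (Place k K)).Infinite := fun h =>
    infinite_places hK.1 ((h.union hE).subset fun x _ => (em (x ∈ E)).symm)
  rcases Set.infinite_union.1 (huniv.mono hcov) with h | h
  · exact h1ne (AlgEquiv.ext fun x => AlgEquiv.congr_fun (algEquiv_eq_one hK s₁ (hinf h)) x)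
  · have he := algEquiv_eq_one hK (s₁ * s₂) (hinf h)
    have heq : ∀ x : K, σ₁ x = σ₂ x := fun x => by
      have := AlgEquiv.congr_fun he (σ₂ x)
      change σ₁ (σ₂ (σ₂ x)) = σ₂ x at this
      rwa [show σ₂ (σ₂ x) = x from AlgEquiv.congr_fun h22 x] at this
    refine hne (Set.ext fun x => ⟨?_, ?_⟩)
    · rintro ⟨a, rfl⟩
      exact hfix₂ _ (by rw [← heq, σ₁.commutes])
    · rintro ⟨a, rfl⟩
      exact hfix₁ _ (by rw [heq, σ₂.commutes])

omit [Algebra K₁ K] [Algebra K₂ K] in
/-- Values at the effective divisor `E` up to constants. -/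
def NearConst (E : Divisor k K) (s : K) : Prop :=
  ∃ c : k, ∀ P : Place k K, E P ≠ 0 → P.1 (s - algebraMap k K c) ≤ exp (-E P)

lemma NearConst.add {E : Divisor k K} {s t : K} (hs : NearConst E s) (ht : NearConst E t) :
    NearConst E (s + t) := by
  obtain ⟨c, hc⟩ := hs
  obtain ⟨d, hd⟩ := ht
  refine ⟨c + d, fun P hP => ?_⟩
  rw [map_add, add_sub_add_comm]
  exact (Valuation.map_add _ _ _).trans (max_le (hc P hP) (hd P hP))

lemma NearConst.mul {E : Divisor k K} (hE : 0 ≤ E) {s t : K} (hs : NearConst E s)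
    (ht : NearConst E t) : NearConst E (s * t) := by
  obtain ⟨c, hc⟩ := hs
  obtain ⟨d, hd⟩ := ht
  refine ⟨c * d, fun P hP => ?_⟩
  have hle : exp (-E P) ≤ 1 := by
    rw [← exp_zero, exp_le_exp]
    have := hE P
    simp only [Finsupp.coe_zero, Pi.zero_apply] at this
    omega
  have ht1 : P.1 t ≤ 1 := by
    rw [← sub_add_cancel t (algebraMap k K d)]
    exact (Valuation.map_add _ _ _).trans (max_le ((hd P hP).trans hle) (P.2.1 d))
  rw [show s * t - algebraMap k K (c * d) =
    (s - algebraMap k K c) * t + algebraMap k K c * (t - algebraMap k K d) by rw [map_mul]; ring]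
  refine (Valuation.map_add _ _ _).trans (max_le ?_ ?_) <;> rw [map_mul]
  · exact (mul_le_mul' (hc P hP) ht1).trans_eq (mul_one _)
  · exact (mul_le_mul' (P.2.1 c) (hd P hP)).trans_eq (one_mul _)

/-- If the bound is attained no divisor of degree two is invisible to both subfields. -/
theorem not_nearConst (hK : IsFunctionField k K) (hK₁ : IsFunctionField k K₁)
    (hK₂ : IsFunctionField k K₂) (h₁ : Module.finrank K₁ K = 2) (h₂ : Module.finrank K₂ K = 2)
    (hne : Set.range (algebraMap K₁ K) ≠ Set.range (algebraMap K₂ K))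
    (hg : genus k K = 2 * genus k K₁ + 2 * genus k K₂ + 1) (R R' : Place k K)
    (H₁ : ∀ x : K₁, R.1 (algebraMap K₁ K x) ≤ 1 → R'.1 (algebraMap K₁ K x) ≤ 1 →
      NearConst (Finsupp.single R 1 + Finsupp.single R' 1) (algebraMap K₁ K x))
    (H₂ : ∀ x : K₂, R.1 (algebraMap K₂ K x) ≤ 1 → R'.1 (algebraMap K₂ K x) ≤ 1 →
      NearConst (Finsupp.single R 1 + Finsupp.single R' 1) (algebraMap K₂ K x)) : False := by
  classical
  haveI : FiniteDimensional K₁ K := Module.finite_of_finrank_pos (by omega)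
  haveI : FiniteDimensional K₂ K := Module.finite_of_finrank_pos (by omega)
  set E : Divisor k K := Finsupp.single R 1 + Finsupp.single R' 1 with hEdef
  have hE : 0 ≤ E := add_nonneg (Finsupp.single_nonneg.2 zero_le_one) (Finsupp.single_nonneg.2 zero_le_one)
  have hEsupp : ∀ P, E P ≠ 0 → P = R ∨ P = R' := fun P hP => by
    by_contra! h
    exact hP (by simp [hEdef, h.1.symm, h.2.symm])
  obtain ⟨T1, hT1⟩ := exists_below (K := K₁) hK₁.1 R
  obtain ⟨T1', hT1'⟩ := exists_below (K := K₁) hK₁.1 R'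
  obtain ⟨T2, hT2⟩ := exists_below (K := K₂) hK₂.1 R
  obtain ⟨T2', hT2'⟩ := exists_below (K := K₂) hK₂.1 R'
  obtain ⟨P, -, hP⟩ := (infinite_places hK₁.1).exists_notMem_finite (Set.toFinite {T1, T1'})
  obtain ⟨Q, y, hQ, hy, hy'⟩ := exists_sep_fun_avoid hK hK₂ h₁ h₂ hne (Set.toFinite {T2, T2'})
  simp only [Set.mem_insert_iff, Set.mem_singleton_iff, not_or] at hP hQ
  let a : ℕ := 2 * genus k K + 2 * genus k K₁ + 2
  let A : Divisor k K₁ := Finsupp.single P (a : ℤ)
  let B : Divisor k K₂ := Finsupp.single Q ((genus k K₂ : ℤ) + 1)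
  let D : Divisor k K := conorm K A + conorm K B
  have hA : 0 ≤ A := Finsupp.single_nonneg.2 (by positivity)
  have hB : 0 ≤ B := Finsupp.single_nonneg.2 (by positivity)
  have hval : ∀ (x : K₁) (R : Place k K), x ∈ L A → R.1 (algebraMap K₁ K x) ≤ exp (conorm K A R) := by
    intro x R hx
    obtain ⟨P', hP'⟩ := exists_below (K := K₁) hK₁.1 R
    rw [isOverWith_ramIdx hP' x, conorm_apply hK₁.1 A hP', ← nsmul_eq_mul, exp_nsmul]
    exact pow_le_pow_left₀ zero_le (hx P') _
  have hvalB : ∀ R : Place k K, R.1 (algebraMap K₂ K y) ≤ exp (conorm K B R) ∧ (0 : ℤ) ≤ conorm K B R := by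
    intro R
    obtain ⟨Q', hQ'⟩ := exists_below (K := K₂) hK₂.1 R
    rw [isOverWith_ramIdx hQ' y, conorm_apply hK₂.1 B hQ']
    refine ⟨?_, mul_nonneg (Int.natCast_nonneg _) (hB Q')⟩
    rw [← nsmul_eq_mul, exp_nsmul]
    exact pow_le_pow_left₀ zero_le (hy Q') _
  have hD0 : ∀ S, (0 : ℤ) ≤ D S := fun S => by
    obtain ⟨P', hP'⟩ := exists_below (K := K₁) hK₁.1 S
    show 0 ≤ conorm K A S + conorm K B S
    rw [conorm_apply hK₁.1 A hP']
    exact add_nonneg (mul_nonneg (Int.natCast_nonneg _) (hA P')) (hvalB S).2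
  have hDR : ∀ S, S = R ∨ S = R' → conorm K A S = 0 ∧ conorm K B S = 0 := by
    rintro S (rfl | rfl)
    · rw [conorm_apply hK₁.1 A hT1, conorm_apply hK₂.1 B hT2,
        Finsupp.single_eq_of_ne (Ne.symm hP.1), Finsupp.single_eq_of_ne (Ne.symm hQ.1)]
      simp
    · rw [conorm_apply hK₁.1 A hT1', conorm_apply hK₂.1 B hT2',
        Finsupp.single_eq_of_ne (Ne.symm hP.2), Finsupp.single_eq_of_ne (Ne.symm hQ.2)]
      simp
  let ι₁ := (IsScalarTower.toAlgHom k K₁ K).toLinearMap
  let φ : (L A × L A) →ₗ[k] K :=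
    LinearMap.coprod (ι₁.comp (L A).subtype) ((LinearMap.mulRight k (algebraMap K₂ K y)).comp (ι₁.comp (L A).subtype))
  have hφ : ∀ p, φ p = algebraMap K₁ K p.1 + algebraMap K₁ K p.2 * algebraMap K₂ K y := fun p => rfl
  have hle : LinearMap.range φ ≤ L D := by
    rintro _ ⟨p, rfl⟩ R
    rw [hφ, Finsupp.add_apply]
    refine (Valuation.map_add _ _ _).trans (max_le ?_ ?_)
    · exact (hval _ R p.1.2).trans (exp_le_exp.2 (le_add_of_nonneg_right (hvalB R).2))
    · rw [map_mul, exp_add]
      exact mul_le_mul' (hval _ R p.2.2) (hvalB R).1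
  have hinj : Function.Injective φ := by
    rw [injective_iff_map_eq_zero]
    rintro ⟨x₁, x₂⟩ h
    rw [hφ] at h
    by_cases hx : (x₂ : K₁) = 0
    · simp only [hx, map_zero, zero_mul, add_zero, map_eq_zero_iff _ (algebraMap K₁ K).injective] at h
      exact Prod.ext (Subtype.ext h) (Subtype.ext hx)
    · refine absurd ⟨-(x₁ : K₁) / x₂, ?_⟩ hy'
      rw [map_div₀, map_neg, div_eq_iff ((map_ne_zero _).2 hx)]
      linear_combination -h
  haveI := finiteDimensional_L hK.1 D
  haveI := finiteDimensional_L hK₁.1 A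
  have hreg : ∀ (z : K₁) (S : Place k K), S = R ∨ S = R' → z ∈ L A → S.1 (algebraMap K₁ K z) ≤ 1 :=
    fun z S hS hz => (hval z S hz).trans_eq (by rw [(hDR S hS).1, exp_zero])
  have hnear : ∀ s ∈ LinearMap.range φ, NearConst E s := by
    rintro _ ⟨p, rfl⟩
    rw [hφ]
    exact (H₁ _ (hreg _ R (.inl rfl) p.1.2) (hreg _ R' (.inr rfl) p.1.2)).add
      ((H₁ _ (hreg _ R (.inl rfl) p.2.2) (hreg _ R' (.inr rfl) p.2.2)).mul hE
        (H₂ y ((hvalB R).1.trans_eq (by rw [(hDR R (.inl rfl)).2, exp_zero]))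
          ((hvalB R').1.trans_eq (by rw [(hDR R' (.inr rfl)).2, exp_zero]))))
  have h := LinearMap.finrank_range_of_inj hinj
  rw [Module.finrank_prod] at h
  have hAl := ell_eq_of_deg_ge hK₁ (D := A) (by rw [deg_single, deg_eq_one hK₁]; push_cast [a]; omega)
  rw [deg_single, deg_eq_one hK₁] at hAl
  have hDd : D.deg = 2 * (a : ℤ) + 2 * ((genus k K₂ : ℤ) + 1) := by
    rw [deg_add, deg_conorm hK₁, deg_conorm hK₂, h₁, h₂, deg_single, deg_single, deg_eq_one hK₁, deg_eq_one hK₂]
    push_cast; ring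
  have hEd : E.deg = 2 := by
    rw [deg_add, deg_single, deg_single, deg_eq_one hK, deg_eq_one hK]; norm_num
  have hDl := ell_eq_of_deg_ge hK (D := D) (by rw [hDd]; push_cast [a]; omega)
  have hDEl := ell_eq_of_deg_ge hK (D := D - E) (by rw [FF.deg_sub, hDd, hEd]; push_cast [a]; omega)
  rw [hDd] at hDl
  rw [FF.deg_sub, hDd, hEd] at hDEl
  have htop : LinearMap.range φ = L D := by
    refine Submodule.eq_of_le_of_finrank_le hle ?_
    rw [h]
    simp only [ell] at hDl hAl
    push_cast [a] at hDl hAl ⊢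
    omega
  haveI := finiteDimensional_L hK.1 (D - E)
  have hsub : L D ≤ L (D - E) ⊔ (k ∙ (1 : K)) := fun s hs => by
    obtain ⟨c, hc⟩ := hnear s (htop.symm ▸ hs)
    refine Submodule.mem_sup.2 ⟨s - algebraMap k K c, fun S => ?_, algebraMap k K c,
      Submodule.mem_span_singleton.2 ⟨c, (Algebra.algebraMap_eq_smul_one c).symm⟩, sub_add_cancel _ _⟩
    rw [Finsupp.sub_apply]
    by_cases hS : E S = 0
    · rw [hS, sub_zero]
      refine (Valuation.map_sub _ _ _).trans (max_le (hs S) ((S.2.1 c).trans ?_))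
      rw [← exp_zero, exp_le_exp]; exact hD0 S
    · refine (hc S hS).trans (exp_le_exp.2 ?_)
      have := hD0 S
      omega
  have hfin := (Submodule.finrank_mono hsub).trans (Submodule.finrank_add_le_finrank_add_finrank _ _)
  rw [finrank_span_singleton (one_ne_zero (α := K))] at hfin
  simp only [ell] at hDl hDEl
  push_cast [a] at hDl hDEl
  omega

end Groth.Agent.FFCurve.CS
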