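import Groth.Agent.FF.GalBasic
import Groth.Agent.FF.AutFix
import Groth.Agent.FF.InfSep
import Mathlib.FieldTheory.Galois.Basic

/-!
# The Castelnuovo–Severi inequality for two double covers
-/

set_option autoImplicit false
set_option linter.style.haveILetI false
set_option linter.unusedSectionVars false

open FunFld WithZero Groth.Agent.FF

namespace Groth.Agent.FFCurve.CS

variable {k K K₁ K₂ : Type*} [Field k] [Field K] [Field K₁] [Field K₂]
  [Algebra k K] [Algebra k K₁] [Algebra k K₂] [Algebra K₁ K] [Algebra K₂ K]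
  [IsScalarTower k K₁ K] [IsScalarTower k K₂ K]

/-- The involution of a separable quadratic extension. -/
lemma exists_involution (E L : Type*) [Field E] [Field L] [Algebra E L] [Algebra.IsSeparable E L]
    (h : Module.finrank E L = 2) :
    ∃ σ : L ≃ₐ[E] L, σ ≠ 1 ∧ σ * σ = 1 ∧ (∀ τ, τ = 1 ∨ τ = σ) ∧
      ∀ x : L, σ x = x → x ∈ Set.range (algebraMap E L) := by
  classical
  haveI : Algebra.IsQuadraticExtension E L := { finrank_eq_two' := h }
  haveI : FiniteDimensional E L := Module.finite_of_finrank_pos (by omega)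
  have hc : Nat.card (L ≃ₐ[E] L) = 2 := (IsGalois.card_aut_eq_finrank E L).trans h
  haveI : Fintype (L ≃ₐ[E] L) := Fintype.ofFinite _
  rw [Nat.card_eq_fintype_card] at hc
  obtain ⟨σ, hσ⟩ := Fintype.exists_ne_of_one_lt_card (by omega) (1 : L ≃ₐ[E] L)
  have hall : ∀ τ : L ≃ₐ[E] L, τ = 1 ∨ τ = σ := fun τ => by
    by_contra! hτ
    have := Finset.card_le_univ ({1, σ, τ} : Finset (L ≃ₐ[E] L))
    rw [Finset.card_insert_of_notMem (by simp [Ne.symm hσ, Ne.symm hτ.1]),
      Finset.card_pair (Ne.symm hτ.2)] at this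
    omega
  refine ⟨σ, hσ, ?_, hall, fun x hx => ?_⟩
  · rcases hall (σ * σ) with h' | h'
    · exact h'
    · exact absurd (mul_eq_right.1 h') hσ
  · rw [IsGalois.mem_range_algebraMap_iff_fixed]
    intro τ
    rcases hall τ with rfl | rfl
    · rfl
    · exact hx

variable [IsAlgClosed k] [Algebra.IsSeparable K₁ K] [Algebra.IsSeparable K₂ K]

/-- Two different subfields of index two are told apart by a function with one pole of low order. -/
theorem exists_sep_fun (hK : IsFunctionField k K) (hK₂ : IsFunctionField k K₂)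
    (h₁ : Module.finrank K₁ K = 2) (h₂ : Module.finrank K₂ K = 2)
    (hne : Set.range (algebraMap K₁ K) ≠ Set.range (algebraMap K₂ K)) :
    ∃ (Q : Place k K₂) (y : K₂), y ∈ L (Finsupp.single Q ((genus k K₂ : ℤ) + 1)) ∧
      algebraMap K₂ K y ∉ Set.range (algebraMap K₁ K) := by
  classical
  by_contra hall
  push Not at hall
  obtain ⟨σ₁, h1ne, h11, -, hfix₁⟩ := exists_involution K₁ K h₁
  obtain ⟨σ₂, h2ne, h22, hall₂, hfix₂⟩ := exists_involution K₂ K h₂
  haveI : FiniteDimensional K₂ K := Module.finite_of_finrank_pos (by omega)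
  haveI : Algebra.IsQuadraticExtension K₂ K := { finrank_eq_two' := h₂ }
  let s₁ : K ≃ₐ[k] K := σ₁.restrictScalars k
  let s₂ : K ≃ₐ[k] K := σ₂.restrictScalars k
  have key : ∀ R : Place k K, (∀ x, R.1 (s₁ x) = R.1 x) ∨ (∀ x, R.1 (s₁ x) = R.1 (s₂ x)) := by
    intro R
    obtain ⟨Q, hQ⟩ := exists_below (K := K₂) hK₂.1 R
    set D := Finsupp.single Q ((genus k K₂ : ℤ) + 1) with hD
    have hell : 2 ≤ ell D := by
      have := spec_le_genus hK₂ D
      rw [spec, hD, deg_single, deg_eq_one hK₂] at this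
      push_cast at this
      rw [hD]
      omega
    obtain ⟨y, hy, hy0⟩ : ∃ y ∈ L D, y ∉ L (0 : Divisor k K₂) := by
      by_contra! hle
      haveI := finiteDimensional_L hK₂.1 (0 : Divisor k K₂)
      have := Submodule.finrank_mono (show L D ≤ L (0 : Divisor k K₂) from fun y hy => hle y hy)
      have h0 := ell_zero hK₂
      simp only [ell] at this h0 hell
      omega
    have hQy : 1 < Q.1 y := by
      by_contra! hle
      refine hy0 fun P => ?_
      rw [Finsupp.zero_apply, exp_zero]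
      by_cases hPQ : P = Q
      · exact hPQ ▸ hle
      · have := hy P
        rwa [hD, Finsupp.single_eq_of_ne hPQ, exp_zero] at this
    have hR : 1 < (pull R σ₂).1 (algebraMap K₂ K y) := by
      rw [pull_val, σ₂.commutes]
      by_contra! hle
      exact absurd ((val_algebraMap_le_one_iff hQ y).1 hle) (not_le.2 hQy)
    have hR' : 1 < (pullK R s₁).1 (algebraMap K₂ K y) := by
      obtain ⟨z, hz⟩ := hall Q y hy
      have : R.1 (algebraMap K₂ K y) = (pullK R s₁).1 (algebraMap K₂ K y) := by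
        show _ = R.1 (σ₁ (algebraMap K₂ K y))
        rw [← hz, σ₁.commutes]
      rw [← this]
      rw [pull_val, σ₂.commutes] at hR
      exact hR
    obtain ⟨Q', hQ'⟩ := exists_below (K := K₂) hK₂.1 (pullK R s₁)
    have hQQ : Q' = Q := by
      by_contra hne'
      have := hy Q'
      rw [hD, Finsupp.single_eq_of_ne hne', exp_zero] at this
      exact absurd ((val_algebraMap_le_one_iff hQ' y).2 this) (not_le.2 hR')
    rw [hQQ] at hQ'
    obtain ⟨τ, hτ⟩ := exists_pull_eq hK₂.1 hQ hQ'
    rcases hall₂ τ with rfl | rfl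
    · exact .inl fun x => (congrArg (fun P : Place k K => P.1 x) hτ).symm
    · exact .inr fun x => (congrArg (fun P : Place k K => P.1 x) hτ).symm
  let A : Set (Place k K) := {P | ∀ x : K, P.1 x < 1 → P.1 (s₁ x) < 1}
  let B : Set (Place k K) := {P | ∀ x : K, P.1 x < 1 → P.1 ((s₁ * s₂) x) < 1}
  have hcov : Set.univ ⊆ A ∪ B := fun R _ => by
    rcases key R with h | h
    · exact .inl fun x hx => (h x).trans_lt hx
    · refine .inr fun x hx => ?_
      show R.1 (s₁ (s₂ x)) < 1
      rw [h (s₂ x), show s₂ (s₂ x) = x from AlgEquiv.congr_fun h22 x]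
      exact hx
  have hinf : ∀ {T : Set (Place k K)}, T.Infinite → ((2 * genus k K + 2 : ℕ) : ℕ∞) < T.encard :=
    fun h => h.encard_eq ▸ ENat.coe_lt_top _
  rcases Set.infinite_union.1 ((infinite_places hK.1).mono hcov) with h | h
  · exact h1ne (AlgEquiv.ext fun x => AlgEquiv.congr_fun (algEquiv_eq_one hK s₁ (hinf h)) x)
  · have he := algEquiv_eq_one hK (s₁ * s₂) (hinf h)
    have heq : ∀ x : K, σ₁ x = σ₂ x := fun x => by
      have := AlgEquiv.congr_fun he (σ₂ x)
      change σ₁ (σ₂ (σ₂ x)) = σ₂ x at this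
      rwa [show σ₂ (σ₂ x) = x from AlgEquiv.congr_fun h22 x] at this
    refine hne (Set.ext fun x => ⟨?_, ?_⟩)
    · rintro ⟨a, rfl⟩
      exact hfix₂ _ (by rw [← heq, σ₁.commutes])
    · rintro ⟨a, rfl⟩
      exact hfix₁ _ (by rw [heq, σ₂.commutes])

/-- The Castelnuovo–Severi inequality for two double covers. -/
theorem genus_le (hK : IsFunctionField k K) (hK₁ : IsFunctionField k K₁) (hK₂ : IsFunctionField k K₂)
    (h₁ : Module.finrank K₁ K = 2) (h₂ : Module.finrank K₂ K = 2)
    (hne : Set.range (algebraMap K₁ K) ≠ Set.range (algebraMap K₂ K)) :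
    genus k K ≤ 2 * genus k K₁ + 2 * genus k K₂ + 1 := by
  classical
  obtain ⟨Q, y, hy, hy'⟩ := exists_sep_fun hK hK₂ h₁ h₂ hne
  haveI : FiniteDimensional K₁ K := Module.finite_of_finrank_pos (by omega)
  haveI : FiniteDimensional K₂ K := Module.finite_of_finrank_pos (by omega)
  obtain ⟨P⟩ := nonempty_place hK₁.1
  let a : ℕ := 2 * genus k K + 2 * genus k K₁ + 1
  let A : Divisor k K₁ := Finsupp.single P (a : ℤ)
  let B : Divisor k K₂ := Finsupp.single Q ((genus k K₂ : ℤ) + 1)
  let D : Divisor k K := conorm K A + conorm K B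
  have hA : 0 ≤ A := Finsupp.single_nonneg.2 (by positivity)
  have hB : 0 ≤ B := Finsupp.single_nonneg.2 (by positivity)
  have hval : ∀ (x : K₁) (R : Place k K), x ∈ L A → R.1 (algebraMap K₁ K x) ≤ exp (conorm K A R) := by
    intro x R hx
    obtain ⟨P', hP'⟩ := exists_below (K := K₁) hK₁.1 R
    rw [isOverWith_ramIdx hP' x, conorm_apply hK₁.1 A hP', ← nsmul_eq_mul, exp_nsmul]
    exact pow_le_pow_left₀ zero_le (hx P') _
  have hvalB : ∀ R : Place k K, R.1 (algebraMap K₂ K y) ≤ exp (conorm K B R) ∧ (0 : ℤ) ≤ conorm K B R := by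
    intro R
    obtain ⟨Q', hQ'⟩ := exists_below (K := K₂) hK₂.1 R
    rw [isOverWith_ramIdx hQ' y, conorm_apply hK₂.1 B hQ']
    refine ⟨?_, mul_nonneg (Int.natCast_nonneg _) (hB Q')⟩
    rw [← nsmul_eq_mul, exp_nsmul]
    exact pow_le_pow_left₀ zero_le (hy Q') _
  let ι₁ := (IsScalarTower.toAlgHom k K₁ K).toLinearMap
  let φ : (L A × L A) →ₗ[k] K :=
    LinearMap.coprod (ι₁.comp (L A).subtype) ((LinearMap.mulRight k (algebraMap K₂ K y)).comp (ι₁.comp (L A).subtype))
  have hφ : ∀ p, φ p = algebraMap K₁ K p.1 + algebraMap K₁ K p.2 * algebraMap K₂ K y := fun p => rfl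
  have hle : LinearMap.range φ ≤ L D := by
    rintro _ ⟨p, rfl⟩ R
    rw [hφ, Finsupp.add_apply]
    refine (Valuation.map_add _ _ _).trans (max_le ?_ ?_)
    · exact (hval _ R p.1.2).trans (exp_le_exp.2 (le_add_of_nonneg_right (hvalB R).2))
    · rw [map_mul, exp_add]
      exact mul_le_mul' (hval _ R p.2.2) (hvalB R).1
  have hinj : Function.Injective φ := by
    rw [injective_iff_map_eq_zero]
    rintro ⟨x₁, x₂⟩ h
    rw [hφ] at h
    by_cases hx : (x₂ : K₁) = 0
    · simp only [hx, map_zero, zero_mul, add_zero, map_eq_zero_iff _ (algebraMap K₁ K).injective] at h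
      exact Prod.ext (Subtype.ext h) (Subtype.ext hx)
    · refine absurd ⟨-(x₁ : K₁) / x₂, ?_⟩ hy'
      rw [map_div₀, map_neg, div_eq_iff ((map_ne_zero _).2 hx)]
      linear_combination -h
  haveI := finiteDimensional_L hK.1 D
  haveI := finiteDimensional_L hK₁.1 A
  have h := Submodule.finrank_mono hle
  rw [LinearMap.finrank_range_of_inj hinj, Module.finrank_prod] at h
  have hAl := spec_le_genus hK₁ A
  rw [spec, deg_single, deg_eq_one hK₁] at hAl
  have hDd : D.deg = 2 * (a : ℤ) + 2 * ((genus k K₂ : ℤ) + 1) := by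
    rw [deg_add, deg_conorm hK₁, deg_conorm hK₂, h₁, h₂, deg_single, deg_single, deg_eq_one hK₁, deg_eq_one hK₂]
    push_cast; ring
  have hDl := ell_eq_of_deg_ge hK (D := D) (by rw [hDd]; push_cast [a]; omega)
  rw [hDd] at hDl
  simp only [ell] at hDl hAl
  push_cast at hDl hAl
  omega

end Groth.Agent.FFCurve.CS
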