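import Groth.Agent.SepTang48.Main
import Groth.Prelude.Def_LefPen

/-!
# Forms on the charts of projective space
-/

set_option autoImplicit false
set_option linter.style.haveILetI false

universe u

open CategoryTheory AlgebraicGeometry TopologicalSpace HomogeneousLocalization

noncomputable section

namespace Groth.Agent.FFCurve.ChartForms

open Groth.Agent.QCoh Groth.Agent.ProjMorph Groth.Agent.Props.ProjFrame Groth.Agent.SepTang48

variable (k : Type u) [Field k] (n : ℕ)

local notation "𝒜" => CohB1.polyGrading n k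

/-- Homogenisation with respect to a coordinate. -/
theorem exists_homogenise (j : Fin (n + 1)) (Q : MvPolynomial (Fin (n + 1)) k) :
    ∃ (N : ℕ) (F : MvPolynomial (Fin (n + 1)) k), F.IsHomogeneous N ∧ 1 ≤ N ∧
      ∀ {B : Type u} [CommRing B] (φ : k →+* B) (v : Fin (n + 1) → B), v j = 1 →
        MvPolynomial.eval₂Hom φ v F = MvPolynomial.eval₂Hom φ v Q := by
  refine ⟨Q.totalDegree + 1, ∑ i ∈ Finset.range (Q.totalDegree + 1),
    MvPolynomial.homogeneousComponent i Q * MvPolynomial.X j ^ (Q.totalDegree + 1 - i),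
    MvPolynomial.IsHomogeneous.sum _ _ _ fun i hi => ?_, by omega, fun φ v hv => ?_⟩
  · have h := (MvPolynomial.homogeneousComponent_isHomogeneous i Q).mul
      ((MvPolynomial.isHomogeneous_X k j).pow (Q.totalDegree + 1 - i))
    have e : i + 1 * (Q.totalDegree + 1 - i) = Q.totalDegree + 1 := by
      have := Finset.mem_range.1 hi; omega
    rw [e] at h
    exact h
  · conv_rhs => rw [← MvPolynomial.sum_homogeneousComponent Q]
    rw [map_sum, map_sum]
    refine Finset.sum_congr rfl fun i _ => ?_
    rw [map_mul, map_pow, MvPolynomial.eval₂Hom_X', hv, one_pow, mul_one]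

/-- The dehomogenisation of a form is its value at the coordinates `T_l / T_i`. -/
theorem dehom_eq {d : ℕ} (G : LefPen.Form n k d) (i : Fin (n + 1)) :
    LefPen.dehom G i = MvPolynomial.eval₂Hom (const k n i) (ρ k n i) (G : MvPolynomial (Fin (n + 1)) k) := by
  let x : Fin (n + 1) → Away 𝒜 (MvPolynomial.X i) := fun j =>
    Away.mk 𝒜 (SepTang48.X_mem k n i) 1 (MvPolynomial.X j)
      (by rw [smul_eq_mul, one_mul]; exact SepTang48.X_mem k n j)
  let c : k →+* Away 𝒜 (MvPolynomial.X i) := (fromZeroRingHom 𝒜 _).comp (algebraMap k (𝒜 0))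
  have hmem : (G : MvPolynomial (Fin (n + 1)) k) ∈ 𝒜 (d • 1) := by rw [smul_eq_mul, mul_one]; exact G.2
  have key : Away.mk 𝒜 (SepTang48.X_mem k n i) d (G : MvPolynomial (Fin (n + 1)) k) hmem =
      MvPolynomial.eval₂Hom c x (G : MvPolynomial (Fin (n + 1)) k) := by
    refine HomogeneousLocalization.val_injective _ ?_
    rw [Away.val_mk, show (MvPolynomial.eval₂Hom c x (G : MvPolynomial (Fin (n + 1)) k)).val =
      algebraMap (Away 𝒜 (MvPolynomial.X i)) (Localization.Away (MvPolynomial.X i))
        (MvPolynomial.eval₂Hom c x (G : MvPolynomial (Fin (n + 1)) k)) from rfl,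
      MvPolynomial.map_eval₂Hom, MvPolynomial.coe_eval₂Hom]
    let w : Localization.Away (MvPolynomial.X i : MvPolynomial (Fin (n + 1)) k) :=
      Localization.mk 1 ⟨MvPolynomial.X i, 1, pow_one _⟩
    have hx : ∀ j, algebraMap (Away 𝒜 (MvPolynomial.X i)) (Localization.Away (MvPolynomial.X i)) (x j) =
        w * algebraMap (MvPolynomial (Fin (n + 1)) k) (Localization.Away (MvPolynomial.X i)) (MvPolynomial.X j) :=
      fun j => by
      change (x j).val = _
      rw [Away.val_mk, ← Localization.mk_one_eq_algebraMap, Localization.mk_mul]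
      simp
    have hc : (algebraMap (Away 𝒜 (MvPolynomial.X i)) (Localization.Away (MvPolynomial.X i))).comp c =
        (algebraMap (MvPolynomial (Fin (n + 1)) k) (Localization.Away (MvPolynomial.X i))).comp
          (algebraMap k (MvPolynomial (Fin (n + 1)) k)) := RingHom.ext fun b => by
      rw [RingHom.comp_apply, RingHom.comp_apply]
      simp only [fromZeroRingHom, RingHom.comp_apply]
      erw [HomogeneousLocalization.algebraMap_apply, HomogeneousLocalization.val_mk]
    rw [hc, funext hx, eval₂_mul_of_isHomogeneous _ _ _ ((MvPolynomial.mem_homogeneousSubmodule d _).1 G.2),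
      show MvPolynomial.eval₂ ((algebraMap (MvPolynomial (Fin (n + 1)) k) (Localization.Away (MvPolynomial.X i))).comp
          (algebraMap k (MvPolynomial (Fin (n + 1)) k)))
          (fun x => algebraMap (MvPolynomial (Fin (n + 1)) k) (Localization.Away (MvPolynomial.X i)) (MvPolynomial.X x))
          (G : MvPolynomial (Fin (n + 1)) k) =
          algebraMap (MvPolynomial (Fin (n + 1)) k) (Localization.Away (MvPolynomial.X i))
            (G : MvPolynomial (Fin (n + 1)) k) from
        (MvPolynomial.eval₂_comp_left _ _ MvPolynomial.X _).symm.trans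
          (congrArg _ (MvPolynomial.eval₂_eta _)),
      ← Localization.mk_one_eq_algebraMap, Localization.mk_pow, Localization.mk_mul, one_pow, one_mul]
    exact congrArg _ (Subtype.ext (by simp))
  unfold LefPen.dehom
  rw [show (Proj.awayToSection 𝒜 (MvPolynomial.X i)).hom
      (Away.mk 𝒜 (LefPen.X_mem n k i) d G.1 _) = (Proj.awayToSection 𝒜 (MvPolynomial.X i)).hom
      (MvPolynomial.eval₂Hom c x (G : MvPolynomial (Fin (n + 1)) k)) from congrArg _ key,
    MvPolynomial.map_eval₂Hom, const_eq]
  refine congrFun (congrArg _ ?_) _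
  rw [RingHom.comp_assoc]
  exact congrArg (fun g => MvPolynomial.eval₂Hom _ g)
    (funext fun j => awayToSection_mk_one (SepTang48.X_mem k n i) (SepTang48.X_mem k n j) _)

variable {k n}

/-- A closed immersion whose chart rings are cut out by the dehomogenised form has ideal `hypIdeal`. -/
theorem ker_eq_hypIdeal {X : Scheme.{u}} (f : X ⟶ CohB1.ProjSpace n k) [QuasiCompact f] {d : ℕ}
    (W : LefPen.Form n k d) (hW : ∀ i, f.app (D k n i) (LefPen.dehom W i) = 0)
    (hker : ∀ i (a : Γ(CohB1.ProjSpace n k, D k n i)), f.app (D k n i) a = 0 →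
      a ∈ Ideal.span {LefPen.dehom W i})
    (hsep : ∀ U V : (CohB1.ProjSpace n k).affineOpens, IsAffineOpen (U.1 ⊓ V.1)) :
    f.ker = LefPen.hypIdeal W := by
  let V : Fin (n + 1) → (CohB1.ProjSpace n k).affineOpens := fun i => ⟨D k n i, isAffineOpen_D k n i⟩
  have hV : ∀ i, f.ker.ideal (V i) = Ideal.span {LefPen.dehom W i} := fun i => by
    rw [Scheme.Hom.ker_apply]
    refine le_antisymm (fun a ha => hker i a ha) ?_
    rw [Ideal.span_le, Set.singleton_subset_iff]
    exact hW i
  refine le_antisymm ?_ ?_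
  · refine Scheme.IdealSheafData.le_ofIdeals_iff.2 fun U => ?_
    refine le_iInf fun i => ?_
    intro a ha
    rw [Ideal.mem_comap]
    have hm := f.ker.map_ideal (U := ⟨U.1 ⊓ D k n i, hsep U (V i)⟩) (V := V i) (show U.1 ⊓ D k n i ≤ D k n i from inf_le_right)
    have hm' := f.ker.map_ideal (U := ⟨U.1 ⊓ D k n i, hsep U (V i)⟩) (V := U) (show U.1 ⊓ D k n i ≤ U.1 from inf_le_left)
    rw [hV i, Ideal.map_span, Set.image_singleton] at hm
    have h := Ideal.mem_map_of_mem
      ((CohB1.ProjSpace n k).presheaf.map (homOfLE (inf_le_left : U.1 ⊓ D k n i ≤ U.1)).op).hom ha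
    exact hm.ge (hm'.le h)
  · refine Scheme.IdealSheafData.le_of_iSup_eq_top V (iSup_D k n) fun i => ?_
    rw [hV i]
    refine (Scheme.IdealSheafData.ideal_ofIdeals_le _ (V i)).trans ((iInf_le _ i).trans ?_)
    intro a ha
    rw [Ideal.mem_comap] at ha
    have hid : ∀ {A B : (CohB1.ProjSpace n k).Opens} (h₁ : B ≤ A) (h₂ : A ≤ B) (z : Γ(CohB1.ProjSpace n k, A)),
        (CohB1.ProjSpace n k).presheaf.map (homOfLE h₂).op ((CohB1.ProjSpace n k).presheaf.map (homOfLE h₁).op z) = z := by
      intro A B h₁ h₂ z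
      rw [← ConcreteCategory.comp_apply, ← Functor.map_comp,
        show (homOfLE h₁).op ≫ (homOfLE h₂).op = 𝟙 _ from Subsingleton.elim _ _, CategoryTheory.Functor.map_id]
      rfl
    let e : D k n i ⊓ D k n i = D k n i := inf_idem _
    have h := Ideal.mem_map_of_mem
      ((CohB1.ProjSpace n k).presheaf.map (homOfLE e.ge).op).hom ha
    rw [Ideal.map_span, Set.image_singleton] at h
    rwa [hid, hid] at h

end Groth.Agent.FFCurve.ChartForms
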