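import Groth.Agent.FFCurve.DegSix

/-!
# Clifford index one: trigonal or a plane quintic

`exists_trigonal_or_quintic`: if some divisor has Clifford index `1` and none has less, there is a
`g¹₃`, or the genus is six and there is a separating `g²₅`.
-/

set_option autoImplicit false
set_option linter.style.haveILetI false
set_option linter.unusedSectionVars false

open FunFld WithZero

namespace Groth.Agent.FF

variable {k K : Type*} [Field k] [Field K] [Algebra k K] [IsAlgClosed k]
variable (hK : IsFunctionField k K)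

include hK

lemma ell_sub_single_add_one (D : Divisor k K) (P : Place k K) :
    ell D ≤ ell (D - Finsupp.single P 1) + 1 := by
  have h := (ell_sub_single_le hK D P).2
  rwa [deg_eq_one hK P] at h

lemma deg_sub_single (D : Divisor k K) (P : Place k K) : (D - Finsupp.single P 1).deg = D.deg - 1 := by
  rw [deg_sub, deg_single, deg_eq_one hK P]
  norm_num

lemma sub_single_nonneg {D : Divisor k K} (hD : 0 ≤ D) {P : Place k K} (hP : 1 ≤ D P) :
    0 ≤ D - Finsupp.single P 1 := fun Q => by
  classical
  rw [Finsupp.sub_apply, Finsupp.single_apply]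
  have := hD Q
  simp only [Finsupp.coe_zero, Pi.zero_apply] at this ⊢
  split_ifs with e
  · subst e; omega
  · omega

/-- The pencil trick for a base point free pencil. -/
lemma two_mul_ell_le_pencil {G D : Divisor k K} (hG : ell G = 2)
    (hbpf : ∀ R : Place k K, ell (G - Finsupp.single R 1) ≤ 1) :
    2 * ell D ≤ ell (D + G) + ell (D - G) := by
  classical
  obtain ⟨w, hw, hnn⟩ := exists_nonneg_equiv hK (D := G) (by omega)
  set G' := G + div k w
  have hG' : ell G' = 2 := by rw [ell_add_div hK hw, hG]
  obtain ⟨x, hxG, hx1⟩ : ∃ x ∈ L G', x ∉ L (0 : Divisor k K) := by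
    by_contra! hc
    haveI := finiteDimensional_L hK (0 : Divisor k K)
    have h : ell G' ≤ ell (0 : Divisor k K) := Submodule.finrank_mono hc
    rw [ell_zero hK, hG'] at h
    omega
  have hx : x ≠ 0 := fun h => hx1 (h ▸ Submodule.zero_mem _)
  have hval : ∀ R : Place k K, 0 < G' R → R.1 x = exp (G' R) := by
    intro R hR
    refine le_antisymm (hxG R) (not_lt.1 fun hlt => hx1 ?_)
    have hmem : x ∈ L (G' - Finsupp.single R 1) :=
      (mem_L_sub_single zero_le_one).2 ⟨hxG, (lt_exp_iff _ _).1 hlt⟩
    haveI := finiteDimensional_L hK (G' - Finsupp.single R 1)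
    have hle : ell (G' - Finsupp.single R 1) ≤ 1 := by
      rw [show G' - Finsupp.single R 1 = G - Finsupp.single R 1 + div k w by simp only [G']; abel,
        ell_add_div hK hw]
      exact hbpf R
    have heq : L (0 : Divisor k K) = L (G' - Finsupp.single R 1) :=
      Submodule.eq_of_le_of_finrank_le (L_mono (sub_single_nonneg hK hnn (by omega))) (by
        have h0 := ell_zero hK
        simp only [ell] at hle h0
        omega)
    rw [heq]
    exact hmem
  have h := two_mul_ell_le hK (D := D) hx hxG hval hnn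
  rw [show D + G' = D + G + div k w by simp only [G']; abel, ell_add_div hK hw,
    show D - G' = D - G + div k w⁻¹ by rw [div_inv hK.1]; simp only [G']; abel,
    ell_add_div hK (inv_ne_zero hw)] at h
  exact h

/-- The square of a section not vanishing at `P` does not vanish at `P`. -/
lemma ell_two_smul_lt {D : Divisor k K} {P : Place k K} (h : ell (D - Finsupp.single P 1) < ell D) :
    ell (D + D - Finsupp.single P 1) < ell (D + D) := by
  obtain ⟨x, hx, hxP⟩ := (ell_lt_iff_exists hK D P).1 h
  refine (ell_lt_iff_exists hK (D + D) P).2 ⟨x * x, fun Q => ?_, ?_⟩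
  · rw [map_mul, Finsupp.add_apply, exp_add]
    exact mul_le_mul' (hx Q) (hx Q)
  · rw [map_mul, hxP, Finsupp.add_apply, exp_add]

variable {C : Divisor k K} (hC : IsCanonical k K C)
  (hmin : ∀ E : Divisor k K, 2 ≤ ell E → 2 ≤ ell (C - E) → 2 * (ell E : ℤ) - 1 ≤ E.deg)

include hC hmin

/-- Reduction to a pencil or a net. -/
lemma exists_small : ∀ (n : ℕ) (M : Divisor k K), ell M = n → 2 ≤ n → 2 ≤ ell (C - M) →
    M.deg = 2 * (n : ℤ) - 1 →
    ∃ M' : Divisor k K, (ell M' = 2 ∨ ell M' = 3) ∧ 2 ≤ ell (C - M') ∧
      M'.deg = 2 * (ell M' : ℤ) - 1 := by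
  classical
  intro n
  induction n using Nat.strong_induction_on with
  | _ n ih =>
  intro M hn h2 hs hd
  rcases (show n = 2 ∨ n = 3 ∨ 4 ≤ n by omega) with h | h | h
  · exact ⟨M, Or.inl (by omega), hs, by rw [hn]; exact hd⟩
  · exact ⟨M, Or.inr (by omega), hs, by rw [hn]; exact hd⟩
  obtain ⟨w, hw, hE⟩ := exists_nonneg_equiv hK (D := C - M) (by omega)
  set E := C - M + div k w
  have hlE : ell E = ell (C - M) := ell_add_div hK hw
  have hdE : (C - M).deg = E.deg := by rw [deg_add, deg_div hK.1, add_zero]
  have hEd : 3 ≤ E.deg := by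
    have := hmin (C - M) hs (by rw [sub_sub_cancel]; omega)
    omega
  obtain ⟨P, hP⟩ := exists_place_pos hK (D := E) (by omega)
  have hE1 := sub_single_nonneg hK hE hP
  obtain ⟨P', hP'⟩ := exists_place_pos hK (D := E - Finsupp.single P 1) (by rw [deg_sub_single hK]; omega)
  have hE2 := sub_single_nonneg hK hE1 hP'
  obtain ⟨Q, hQ⟩ := FFCurve.exists_place_not_mem hK (insert P (insert P' E.support))
  simp only [Finset.mem_insert, not_or, Finsupp.notMem_support_iff] at hQ
  have hlt : 0 < ell (M - Finsupp.single P 1 - Finsupp.single P' 1 - Finsupp.single Q 1) := by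
    have a1 := ell_sub_single_add_one hK M P
    have a2 := ell_sub_single_add_one hK (M - Finsupp.single P 1) P'
    have a3 := ell_sub_single_add_one hK (M - Finsupp.single P 1 - Finsupp.single P' 1) Q
    omega
  obtain ⟨a, ha, hF⟩ := exists_nonneg_equiv hK hlt
  set D' := M + div k a
  have hD' : 0 ≤ D' - Finsupp.single P 1 - Finsupp.single P' 1 - Finsupp.single Q 1 := by
    refine hF.trans_eq ?_
    simp only [D']
    abel
  set G := D' ⊓ E
  have hG2 : Finsupp.single P 1 + Finsupp.single P' 1 ≤ G := by
    refine le_inf (fun R => ?_) (fun R => ?_)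
    · have := hD' R
      have h0 : (0 : ℤ) ≤ (Finsupp.single Q (1 : ℤ)) R := Finsupp.single_nonneg.2 zero_le_one R
      simp only [Finsupp.sub_apply, Finsupp.add_apply, Finsupp.coe_zero, Pi.zero_apply] at this ⊢
      omega
    · have := hE2 R
      simp only [Finsupp.sub_apply, Finsupp.add_apply, Finsupp.coe_zero, Pi.zero_apply] at this ⊢
      omega
  have hG0 : 0 ≤ G := (add_nonneg (Finsupp.single_nonneg.2 zero_le_one)
    (Finsupp.single_nonneg.2 zero_le_one)).trans hG2
  have hGd2 : 2 ≤ G.deg := by
    have h' := deg_mono hG2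
    rw [deg_add, deg_single, deg_single, deg_eq_one hK P, deg_eq_one hK P'] at h'
    push_cast at h'
    omega
  have hD'd : D'.deg = M.deg := by rw [deg_add, deg_div hK.1, add_zero]
  have hGlt : G.deg < M.deg := by
    have hle : G + Finsupp.single Q 1 ≤ D' := fun R => by
      have h1 : G R ≤ D' R := (inf_le_left : G ≤ D') R
      rw [Finsupp.add_apply, Finsupp.single_apply]
      split_ifs with e
      · subst e
        have h3 : G Q ≤ E Q := (inf_le_right : G ≤ E) Q
        have h5 := hD' Q
        have h6 : 0 ≤ E Q := hE Q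
        simp [Ne.symm hQ.1, Ne.symm hQ.2.1, hQ.1, hQ.2.1] at h5
        omega
      · omega
    have h' := deg_mono hle
    rw [deg_add, deg_single, deg_eq_one hK Q, hD'd] at h'
    push_cast at h'
    omega
  have hsum := ell_add_ell_le_inf_sup hK D' E
  have hsup : D' ⊔ E = C - G + div k (a * w) := by
    have h' := inf_add_sup D' E
    rw [div_mul hK.1 ha hw]
    change G + (D' ⊔ E) = D' + E at h'
    rw [eq_sub_of_add_eq' h']
    simp only [D', E]
    abel
  rw [hsup, ell_add_div hK (mul_ne_zero ha hw), ell_add_div hK ha, hlE] at hsum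
  change ell M + _ ≤ ell G + _ at hsum
  have hmono : ell (C - M) ≤ ell (C - G) := by
    haveI := finiteDimensional_L hK (D' ⊔ E)
    rw [← hlE, ← ell_add_div hK (mul_ne_zero ha hw) (D := C - G), ← hsup]
    exact Submodule.finrank_mono (L_mono le_sup_right)
  have hrrM := riemann_roch hK hC M
  have hrrG := riemann_roch hK hC G
  have hlG : 2 ≤ ell G := by omega
  have hminG := hmin G hlG (by omega)
  exact ih (ell G) (by omega) G rfl hlG (by omega) (by omega)

/-- Clifford index one: trigonal, or genus six with a separating net of degree five. -/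
theorem exists_trigonal_or_quintic (hg : 4 ≤ genus k K)
    (hex : ∃ M : Divisor k K, 2 ≤ ell M ∧ 2 ≤ ell (C - M) ∧ M.deg = 2 * (ell M : ℤ) - 1) :
    (∃ E : Divisor k K, E.deg = 3 ∧ 2 ≤ ell E) ∨
      (genus k K = 6 ∧ ∃ M : Divisor k K, M.deg = 5 ∧ ell M = 3 ∧
        ∀ P Q : Place k K, ell (M - Finsupp.single P 1 - Finsupp.single Q 1) + 2 = ell M) := by
  classical
  by_cases h3 : ∃ E : Divisor k K, E.deg = 3 ∧ 2 ≤ ell E
  · exact Or.inl h3
  right
  obtain ⟨M₀, hM₀, hs₀, hd₀⟩ := hex
  obtain ⟨M, hl, hs, hd⟩ := exists_small hK hC hmin (ell M₀) M₀ rfl hM₀ hs₀ hd₀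
  rcases hl with hl | hl
  · exact (h3 ⟨M, by omega, by omega⟩).elim
  rw [hl] at hd
  push_cast at hd
  have hrr := riemann_roch hK hC M
  have hCd : (C - M).deg = 2 * (genus k K : ℤ) - 7 := by
    rw [deg_sub, deg_canonical hK hC, hd]; ring
  have hg5 : genus k K ≠ 5 := fun e => h3 ⟨C - M, by omega, hs⟩
  have hsep1 : ∀ P Q : Place k K, ell (M - Finsupp.single P 1 - Finsupp.single Q 1) = 1 := by
    intro P Q
    have a1 := ell_sub_single_add_one hK M P
    have a2 := ell_sub_single_add_one hK (M - Finsupp.single P 1) Q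
    have hno : ¬ 2 ≤ ell (M - Finsupp.single P 1 - Finsupp.single Q 1) := fun h2 =>
      h3 ⟨_, by rw [deg_sub_single hK, deg_sub_single hK]; omega, h2⟩
    omega
  refine ⟨?_, M, by omega, hl, fun P Q => by rw [hsep1, hl]⟩
  obtain ⟨P⟩ := nonempty_place hK.1
  have hG : ell (M - Finsupp.single P 1) = 2 := by
    have a1 := ell_sub_single_add_one hK M P
    have a2 := ell_sub_single_add_one hK (M - Finsupp.single P 1) P
    rw [hsep1] at a2
    omega
  have htrick := two_mul_ell_le_pencil hK (D := M) hG fun R => (hsep1 P R).le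
  rw [show M - (M - Finsupp.single P 1) = Finsupp.single P 1 by abel,
    show M + (M - Finsupp.single P 1) = M + M - Finsupp.single P 1 by abel] at htrick
  have hP1 : ell (Finsupp.single P 1 : Divisor k K) ≤ 1 := by
    have hdP : Divisor.deg (Finsupp.single P 1 : Divisor k K) = 1 := by
      rw [deg_single, deg_eq_one hK P]; norm_num
    have := clifford hK (deg_eq_one hK P) (D := Finsupp.single P 1) (by omega) (by omega)
    omega
  have hdrop := ell_two_smul_lt hK (D := M) (P := P) (by omega)
  have hrr2 := riemann_roch hK hC (M + M)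
  have hd2 : (M + M).deg = 10 := by rw [deg_add]; omega
  by_contra hne
  have := hmin (M + M) (by omega) (by omega)
  omega

end Groth.Agent.FF
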