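import Groth.Agent.FFCurve.CliffOne
import Groth.Agent.FFCurve.CanonicalEmbed
import Groth.Prelude.Def_LinSer

/-!
# Clifford index one on curves

`exists_linSer`: two sections give a pencil. `exists_closedImmersion_of_isSep_dim`: the embedding of a
separating divisor lands in the projective space of its sections.
-/

set_option autoImplicit false

universe u

open CategoryTheory CategoryTheory.Limits AlgebraicGeometry TopologicalSpace FunFld WithZero
open Groth.Agent.CurveCoh Groth.Agent.Props.GenLocus Groth.Agent.PullStalk.Sky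

set_option linter.style.haveILetI false
set_option linter.unusedSectionVars false
set_option synthInstance.maxHeartbeats 200000
set_option maxHeartbeats 1000000
set_option backward.isDefEq.respectTransparency false
set_option backward.isDefEq.respectTransparency.types false

namespace Groth.Agent.FFCurve

variable {X : Scheme.{u}} [IsIntegral X] (k : Type u) [Field k] [X.Over (Spec (CommRingCat.of k))]
  [IsProper (X ↘ Spec (CommRingCat.of k))] [RegCurve X] (hdim : topologicalKrullDim X = 1)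
include hdim

variable {L : X.Modules} (hL : PicF.IsInvertible L)
include hL

variable [IsAlgClosed k]

theorem exists_closedImmersion_of_isSep_dim {n : ℕ} (hell : ell (divOf k hdim hL) = n + 1) (hs : IsSep k (divOf k hdim hL)) :
    ∃ i : X ⟶ CohB1.ProjSpace n k, IsClosedImmersion i ∧
      i ≫ CohB1.ProjSpace.toSpec n k = X ↘ Spec (CommRingCat.of k) ∧
      Nonempty ((Scheme.Modules.pullback i).obj (Twist.twistProjSpace n k 1) ≅ L) := by
  have hK := isFunctionField_of_isAlgClosed (X := X) k hdim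
  set D := divOf k hdim hL
  obtain ⟨P0⟩ := FF.nonempty_place (isFF (X := X) k hdim)
  have h2 : 2 ≤ ell D := by have := hs P0 P0; omega
  have hgg : ∀ x : ZetaLib.ClosedPt X, ∃ z : X.functionField, z ∈ FunFld.L D ∧
      (toPlace k hdim x).1 z = exp (D (toPlace k hdim x)) := fun x => by
    refine (FF.ell_lt_iff_exists hK D _).1 ?_
    have h := hs (toPlace k hdim x) (toPlace k hdim x)
    have h' := (FF.ell_sub_single_le hK (D - Finsupp.single (toPlace k hdim x) 1) (toPlace k hdim x)).2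
    have := FF.deg_eq_one (k := k) hK (toPlace k hdim x)
    omega
  have hLc := VBLib.isCoh_of_ofRank (ProjTwist.isFinLocFreeOfRank_one hL)
  haveI := EulerChar.finite_HH k L hLc 0
  have hf0 := finrank_zero k hdim hK hL
  have hn : Module.finrank k (Coh.HH X L 0) = n + 1 := by rw [hf0]; exact hell
  have hgen : ∀ y : X, ∃ t : Coh.structureModule X ⟶ L, y ∈ CohB1.genLocus L t := by
    have key : ∀ x : ZetaLib.ClosedPt X, ∃ s : Coh.structureModule X ⟶ L,
        x.1 ∈ CohB1.genLocus L s := by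
      intro x
      obtain ⟨z, hz, hzx⟩ := hgg x
      obtain ⟨σ, hσ⟩ := exists_crd_eq (triv hL) k hdim hL ⊤ trivial z fun w _ => hz _
      exact ⟨homOfSec σ, mem_genLocus_of_val k hdim hL σ x (by rw [hσ]; exact hzx)⟩
    intro y
    by_cases hy : y = genericPoint X
    · obtain ⟨x⟩ := exists_closedPt (X := X) k hdim
      obtain ⟨s, hs⟩ := key x
      exact ⟨s, hy ▸ genericPoint_mem hs⟩
    · exact key ⟨y, VarDim.isClosed_singleton_of_ne_genericPoint k hdim hy⟩
  obtain ⟨b, hb⟩ := CurveSimple.exists_generatedBy k hn hgen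
  have hd : Curv2.deg k X L 1 ≠ 0 := by
    rw [deg_eq k hdim hK hL]
    intro h0
    obtain ⟨z, hz, hzP⟩ := hgg ((placeEquiv k hdim).symm P0)
    have h1 := hs P0 P0
    have h3 : D - Finsupp.single P0 1 - Finsupp.single P0 1 ≤ D :=
      (sub_le_self _ (Finsupp.single_nonneg.2 zero_le_one)).trans (sub_le_self _ (Finsupp.single_nonneg.2 zero_le_one))
    have h4 := (FF.relDim_L_ell (isFF (X := X) k hdim) h3).2.1
    have hz0 : z ≠ 0 := fun e => by rw [e, map_zero] at hzP; exact exp_pos.ne hzP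
    have h5 : 0 ≤ D + div k z := (FF.mem_L_iff (isFF (X := X) k hdim) hz0).1 hz
    have h6 := FF.ell_le_of_nonneg hK h5
    rw [FF.deg_add, FF.deg_div (isFF (X := X) k hdim), FF.Any.ell_add_div (isFF (X := X) k hdim) hz0] at h6
    rw [FF.deg_sub, FF.deg_sub, FF.deg_single, FF.deg_eq_one hK P0] at h4
    change D.deg = 0 at h0
    push_cast at h4 h6
    omega
  obtain ⟨φ, hfin, hφ, hτ, hgen', hcoef⟩ := CurveSimple.exists_finite_morph k hdim hL hd _ hb
  refine ⟨φ, ?_, hφ, hτ⟩
  haveI := hfin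
  haveI := ProjProper.Basic.isProper_toSpec n k
  letI : (CohB1.ProjSpace n k).Over (Spec (CommRingCat.of k)) := ⟨CohB1.ProjSpace.toSpec n k⟩
  haveI : LocallyOfFiniteType ((CohB1.ProjSpace n k) ↘ Spec (CommRingCat.of k)) :=
    (inferInstance : LocallyOfFiniteType (CohB1.ProjSpace.toSpec n k))
  refine CurveSimple.isClosedImmersion_of_lin k hdim φ hφ hL (isTwoNonspecial_of_isSep k hdim hL hs)
    (fun i => SepTang48.D k n i) (fun i => SepTang48.isAffineOpen_D k n i) (SepTang48.iSup_D k n)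
    (fun i => QCoh.res L le_top (ProperFin.h0Sec L (b i))) hgen' fun σ i => ?_
  choose r hr using hcoef i
  set c := fun j => b.repr ((ProperFin.h0Sec L).symm σ) j
  refine ⟨∑ j, QCoh.rres le_top (ProperFin.glob k (CohB1.ProjSpace n k) (c j)) * r j, ?_⟩
  conv_lhs => rw [← (ProperFin.h0Sec L).apply_symm_apply σ, ← b.sum_repr ((ProperFin.h0Sec L).symm σ),
    map_sum, map_sum]
  rw [map_sum, Finset.sum_smul]
  refine Finset.sum_congr rfl fun j _ => ?_
  rw [show ProperFin.h0Sec L (c j • b j) = (show Γ(X, ⊤) from Coh.toGlobal (X ↘ Spec (CommRingCat.of k)) (c j)) • ProperFin.h0Sec L (b j)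
    from ProperFin.h0Sec_smul L (Coh.toGlobal (X ↘ Spec (CommRingCat.of k)) (c j)) (b j),
    QCoh.res_smul, map_mul, mul_smul, ← hr j, Props.GenPull.app_rres,
    ProperFin.toGlobal_comp (Y := CohB1.ProjSpace n k) φ hφ (c j)]
  rfl


/-- Two sections give a pencil. -/
theorem exists_linSer {d : ℤ} {n : ℕ} (hd : Curv2.deg k X L 1 = d) (hn : (n : ℤ) = d)
    (h2 : 2 ≤ Module.finrank k (Coh.HH X L 0)) :
    ∃ (s : Fin (1 + 1) → LinSer.Sect X L), LinSer.IsLinSer k X L n 1 s := by
  haveI := EulerChar.finite_HH k L (VBLib.isCoh_of_ofRank (ProjTwist.isFinLocFreeOfRank_one hL)) 0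
  obtain ⟨b, hb⟩ := exists_linearIndependent_of_le_finrank (R := k) (M := Coh.HH X L 0) h2
  refine ⟨fun j => ProperFin.h0Sec L (b j), hL, by rw [hd, hn], fun c hc => ?_⟩
  have h0 : ProperFin.h0Sec L (∑ j, c j • b j) = 0 := by
    rw [map_sum]
    refine Eq.trans (Finset.sum_congr rfl fun j _ => ?_) hc
    exact ProperFin.h0Sec_smul L (Coh.toGlobal (X ↘ Spec (CommRingCat.of k)) (c j)) (b j)
  exact funext (Fintype.linearIndependent_iff.1 hb c ((ProperFin.h0Sec L).injective (h0.trans (map_zero _).symm)))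

omit hL in
/-- Clifford index one: trigonal, or a smooth plane quintic. -/
theorem trigonal_or_quintic (hg : 4 ≤ Curv2.genus k X)
    (hex : ∃ M : X.Modules, PicF.IsInvertible M ∧ 2 ≤ Module.finrank k (Coh.HH X M 0) ∧
      2 ≤ Module.finrank k (Coh.HH X M 1) ∧ Curv2.deg k X M 1 = 2 * (Module.finrank k (Coh.HH X M 0) : ℤ) - 1)
    (hmin : ∀ M : X.Modules, PicF.IsInvertible M → 2 ≤ Module.finrank k (Coh.HH X M 0) →
      2 ≤ Module.finrank k (Coh.HH X M 1) → 2 * (Module.finrank k (Coh.HH X M 0) : ℤ) - 1 ≤ Curv2.deg k X M 1) :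
    (∃ (L : X.Modules) (s : Fin (1 + 1) → LinSer.Sect X L), LinSer.IsLinSer k X L 3 1 s) ∨
      (Curv2.genus k X = 6 ∧ ∃ i : X ⟶ CohB1.ProjSpace 2 k, IsClosedImmersion i ∧
        i ≫ CohB1.ProjSpace.toSpec 2 k = X ↘ Spec (CommRingCat.of k)) := by
  have hK := isFunctionField_of_isAlgClosed (X := X) k hdim
  have hgen := genus_eq_genus (X := X) k hdim hK
  obtain ⟨C, hC⟩ := FF.exists_canonical hK
  have hlift : ∀ E : Divisor k X.functionField, ∃ (M : X.Modules) (hM : PicF.IsInvertible M),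
      Module.finrank k (Coh.HH X M 0) = ell E ∧ (Module.finrank k (Coh.HH X M 1) : ℤ) = ell (C - E) ∧
        Curv2.deg k X M 1 = E.deg ∧ (∀ D, ell (divOf k hdim hM - D) = ell (E - D)) := by
    intro E
    obtain ⟨M, hM, a, ha, hMD⟩ := exists_divOf_eq k hdim E
    have e : ∀ D, ell (divOf k hdim hM - D) = ell (E - D) := fun D => by
      rw [hMD, show E - div k a - D = E - D + div k a⁻¹ by rw [FF.div_inv hK.1]; abel,
        FF.ell_add_div hK (inv_ne_zero ha)]
    have hdE : (divOf k hdim hM).deg = E.deg := by rw [hMD, FF.deg_sub, FF.deg_div hK.1, sub_zero]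
    have hlE : ell (divOf k hdim hM) = ell E := by simpa using e 0
    refine ⟨M, hM, by rw [finrank_zero k hdim hK hM, hlE], ?_, by rw [deg_eq k hdim hK hM, hdE], e⟩
    have hrr := FF.riemann_roch hK hC E
    rw [finrank_one k hdim hK hM, hlE, hdE]
    omega
  have hmin' : ∀ E : Divisor k X.functionField, 2 ≤ ell E → 2 ≤ ell (C - E) → 2 * (ell E : ℤ) - 1 ≤ E.deg := by
    intro E h1 h2
    obtain ⟨M, hM, e0, e1, ed, -⟩ := hlift E
    have := hmin M hM (by omega) (by omega)
    omega
  obtain ⟨M₀, hM₀, a0, a1, ad⟩ := hex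
  have hrr₀ := FF.riemann_roch hK hC (divOf k hdim hM₀)
  have e1 := finrank_one k hdim hK hM₀
  rw [finrank_zero k hdim hK hM₀] at a0 ad
  rw [deg_eq k hdim hK hM₀] at ad
  rcases FF.exists_trigonal_or_quintic hK hC hmin' (by omega)
    ⟨divOf k hdim hM₀, a0, by omega, ad⟩ with ⟨E, hEd, hEl⟩ | ⟨hg6, E, hEd, hEl, hEsep⟩
  · left
    obtain ⟨M, hM, e0, -, ed, -⟩ := hlift E
    obtain ⟨s, hs⟩ := exists_linSer k hdim hM (n := 3) ed (by rw [hEd]; norm_num) (by omega)
    exact ⟨M, s, hs⟩
  · right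
    obtain ⟨M, hM, e0, -, -, e⟩ := hlift E
    rw [finrank_zero k hdim hK hM] at e0
    obtain ⟨i, hi, hi', -⟩ := exists_closedImmersion_of_isSep_dim k hdim hM (n := 2) (by omega) (fun P Q => by
      rw [sub_sub, e, e0, ← sub_sub]
      exact hEsep P Q)
    exact ⟨by omega, i, hi, hi'⟩

end Groth.Agent.FFCurve
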