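import Groth.Agent.FFCurve.CliffTwo
import Groth.Agent.FFEmb.Basic
import Groth.Agent.FFEmb.MapStatements
import Groth.Agent.FFEmb.Plane

/-! Clifford index three in genus nine: pentagonal. -/

set_option autoImplicit false
set_option linter.unusedSectionVars false

open FunFld WithZero

namespace Groth.Agent.FF

variable {k K : Type*} [Field k] [Field K] [Algebra k K] [IsAlgClosed k]
  (hK : IsFunctionField k K)

include hK

/-- A separating net makes the function field that of a smooth plane curve. -/
theorem exists_two_genus_eq_of_sep_net {D : Divisor k K} (hd : 1 ≤ D.deg) (hl : ell D = 3)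
    (hbp : ∀ P : Place k K, ell (D - Finsupp.single P 1) < ell D)
    (hsep : ∀ P Q : Place k K,
      ell (D - Finsupp.single P 1 - Finsupp.single Q 1) < ell (D - Finsupp.single P 1)) :
    ∃ d : ℕ, 2 * (genus k K : ℤ) = ((d : ℤ) - 1) * ((d : ℤ) - 2) := by
  classical
  haveI := finiteDimensional_L hK D
  obtain ⟨f, hf, hf0⟩ := Submodule.exists_mem_ne_zero_of_ne_bot (p := L D) fun h => by
    have := hl; rw [ell, h, finrank_bot] at this; omega
  let D' := D + div k f
  have e : ∀ F, ell (D' - F) = ell (D - F) := fun F => by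
    rw [show D' - F = D - F + div k f by simp only [D']; abel, ell_add_div hK hf0]
  have hl' : ell D' = 3 := by rw [← hl]; exact ell_add_div hK hf0
  haveI := finiteDimensional_L hK D'
  have h1 : (1 : K) ∈ L D' := by
    rw [← mul_mem_L_iff hK hf0, mul_one]; exact hf
  obtain ⟨g, hg⟩ : ∃ g : Fin 2 → K, Submodule.span k (Set.range ![(1 : K), g 0, g 1]) = L D' := by
    let v : Fin 1 → L D' := ![⟨1, h1⟩]
    have hv : LinearIndependent k v := by
      rw [linearIndependent_unique_iff]; simp [v, Subtype.ext_iff]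
    obtain ⟨x, hx⟩ := exists_linearIndependent_cons_of_lt_finrank hv
      (show 1 < Module.finrank k (L D') by rw [← ell]; omega)
    obtain ⟨y, hy⟩ := exists_linearIndependent_cons_of_lt_finrank hx
      (show 2 < Module.finrank k (L D') by rw [← ell]; omega)
    refine ⟨![x.1, y.1], ?_⟩
    have htop := hy.span_eq_top_of_card_eq_finrank (by rw [← ell, hl']; rfl)
    have := congrArg (Submodule.map (L D').subtype) htop
    rw [Submodule.map_top, Submodule.range_subtype, Submodule.map_span, ← Set.range_comp] at this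
    refine (congrArg (Submodule.span k) ?_).trans this
    ext z
    simp [v, Fin.exists_fin_succ]
    tauto
  have hns : ∀ P : Place k K, IsNonsingularAt ![(1 : K), g 0, g 1] P := fun P =>
    FFEmb.isNonsingularAt hK D' (by rw [deg_add, deg_div hK.1]; omega) _ hg
      (fun Q => by rw [e, hl', ← hl]; exact hbp Q)
      (fun P Q => by
        rw [sub_sub, e, e, ← sub_sub]
        exact hsep P Q) P
  obtain ⟨P⟩ := nonempty_place hK.1
  have htop := FFEmb.MapS.adjoin_eq_top hK ![(1 : K), g 0, g 1] (by simp) P (hns P)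
  have hxy : IntermediateField.adjoin k ({g 0, g 1} : Set K) = ⊤ := by
    rw [eq_top_iff, ← htop, IntermediateField.adjoin_le_iff]
    rintro _ ⟨i, rfl⟩
    fin_cases i <;> simp
    · exact IntermediateField.subset_adjoin k _ (by simp)
    · exact IntermediateField.subset_adjoin k _ (by simp)
  obtain ⟨v, w, d, hc⟩ := FFEmb.Plane.exists_coord hK (g 0) (g 1) hxy
  exact ⟨d, hc.genus_eq_iff.2 hns⟩

variable {C : Divisor k K} (hC : IsCanonical k K C)

include hC

/-- Genus nine, Clifford index three: pentagonal. -/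
theorem exists_pentagonal (hg : genus k K = 9)
    (hmin : ∀ E : Divisor k K, 2 ≤ ell E → 2 ≤ ell (C - E) → 2 * (ell E : ℤ) + 1 ≤ E.deg)
    (hex : ∃ M : Divisor k K, 2 ≤ ell M ∧ 2 ≤ ell (C - M) ∧ M.deg = 2 * (ell M : ℤ) + 1) :
    ∃ E : Divisor k K, E.deg = 5 ∧ 2 ≤ ell E := by
  classical
  obtain ⟨M, hl, hs, hd, hl3⟩ : ∃ M : Divisor k K, 2 ≤ ell M ∧ 2 ≤ ell (C - M) ∧
      M.deg = 2 * (ell M : ℤ) + 1 ∧ ell M ≤ 3 := by
    obtain ⟨M, hl, hs, hd⟩ := hex
    rcases Nat.lt_or_ge 3 (ell M) with h | h
    · have hrr := riemann_roch hK hC M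
      have hd' : (C - M).deg = 2 * (genus k K : ℤ) - 2 - M.deg := by rw [deg_sub, deg_canonical hK hC]
      exact ⟨C - M, hs, by rw [sub_sub_cancel]; exact hl, by omega, by omega⟩
    · exact ⟨M, hl, hs, hd, h⟩
  rcases (show ell M = 2 ∨ ell M = 3 by omega) with h | h
  · exact ⟨M, by omega, by omega⟩
  by_contra hne
  push Not at hne
  have hone : ∀ P : Place k K, ell (M - Finsupp.single P 1) = 2 := fun P => by
    have a1 := ell_sub_single_add_one hK M P
    by_contra h2
    have hrr := riemann_roch hK hC (M - Finsupp.single P 1)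
    rw [deg_sub_single hK] at hrr
    have := hmin (M - Finsupp.single P 1) (by omega) (by omega)
    rw [deg_sub_single hK] at this
    omega
  obtain ⟨d, hdg⟩ := exists_two_genus_eq_of_sep_net hK (D := M) (by omega) h
    (fun P => by rw [hone, h]; norm_num)
    (fun P Q => by
      have := hne (M - Finsupp.single P 1 - Finsupp.single Q 1)
        (by rw [deg_sub_single hK, deg_sub_single hK]; omega)
      rw [hone]; omega)
  rw [hg] at hdg
  push_cast at hdg
  rcases Nat.lt_or_ge d 7 with h7 | h7
  · interval_cases d <;> norm_num at hdg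
  · have : (7 : ℤ) ≤ d := by exact_mod_cast h7
    nlinarith

end Groth.Agent.FF
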