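import Groth.Agent.FFCurve.CliffOne
import Mathlib.LinearAlgebra.QuadraticForm.Basic
import Mathlib.LinearAlgebra.Matrix.BilinearForm

/-!
# Clifford index two in genus nine: tetragonal

`exists_tetragonal`: the `g³₈` case is split by a quadric through the image.
-/

set_option autoImplicit false
set_option linter.style.haveILetI false
set_option linter.unusedSectionVars false

open FunFld WithZero

namespace Groth.Agent.FF

variable {k K : Type*} [Field k] [Field K] [Algebra k K] [IsAlgClosed k]
variable (hK : IsFunctionField k K)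

include hK

lemma ell_ge_two_of_nonconst {E : Divisor k K} (hE : 0 ≤ E) {z : K} (hz : z ∈ L E)
    (hnc : ∀ c : k, algebraMap k K c ≠ z) : 2 ≤ ell E := by
  haveI := finiteDimensional_L hK E
  have h1 : (1 : K) ∈ L E := fun P => by
    have h0 : (0 : ℤ) ≤ E P := hE P
    rw [map_one, ← exp_zero]
    exact exp_le_exp.2 h0
  have hind : LinearIndependent k ![(⟨1, h1⟩ : L E), ⟨z, hz⟩] := by
    rw [LinearIndependent.pair_iff' (fun h => one_ne_zero (congrArg Subtype.val h))]
    intro c h
    exact hnc c (by simpa [Algebra.smul_def] using congrArg Subtype.val h)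
  simpa [ell] using hind.fintype_card_le_finrank

/-- A relation `ab = cd` splits the linear system into two pencils. -/
lemma exists_split {M : Divisor k K} {a b c d : K} (ha : a ∈ L M) (hb : b ∈ L M) (hc : c ∈ L M) (hd : d ∈ L M)
    (hac : LinearIndependent k ![a, c]) (had : LinearIndependent k ![a, d]) (h : a * b = c * d) :
    ∃ E N : Divisor k K, 2 ≤ ell E ∧ 2 ≤ ell N ∧ E.deg + N.deg = M.deg := by
  classical
  have ha0 : a ≠ 0 := by simpa using hac.ne_zero 0
  have hc0 : c ≠ 0 := by simpa using hac.ne_zero 1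
  have hd0 : d ≠ 0 := by simpa using had.ne_zero 1
  have hb0 : b ≠ 0 := fun e => mul_ne_zero hc0 hd0 (by rw [← h, e, mul_zero])
  have nn : ∀ z : K, z ≠ 0 → z ∈ L M → ∀ P : Place k K, 0 ≤ M P + P.ord z := by
    intro z hz0 hz P
    have := hz P
    rw [val_eq_exp_ord P hz0, exp_le_exp] at this
    omega
  have hdiv : ∀ z : K, ∀ P : Place k K, div k z P = P.ord z := fun z P => div_apply hK.1 z P
  set A := M + div k a
  set C' := M + div k c
  set B0 := A ⊓ C'
  have hsum : ∀ P : Place k K, P.ord a + P.ord b = P.ord c + P.ord d := fun P => by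
    rw [← ord_mul P ha0 hb0, ← ord_mul P hc0 hd0, h]
  set E := A - B0
  set N := M + div k d - E
  have hE : 0 ≤ E := sub_nonneg.2 inf_le_left
  have hN : 0 ≤ N := fun P => by
    have h1 := hsum P
    have h2 := nn b hb0 hb P
    have h3 := nn d hd0 hd P
    simp only [N, E, B0, A, C', Finsupp.coe_zero, Pi.zero_apply, Finsupp.sub_apply, Finsupp.add_apply,
      Finsupp.inf_apply, hdiv]
    omega
  have hnc : ∀ {x y : K}, LinearIndependent k ![x, y] → x ≠ 0 → ∀ t : k, algebraMap k K t ≠ y / x := by
    intro x y hi hx t e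
    refine (LinearIndependent.pair_iff' hx).1 hi t ?_
    rw [Algebra.smul_def, e, div_mul_cancel₀ _ hx]
  refine ⟨E, N, ell_ge_two_of_nonconst hK hE (z := c / a) ?_ (hnc hac ha0),
    ell_ge_two_of_nonconst hK hN (z := a / d) ?_ (hnc (LinearIndependent.pair_symm_iff.1 had) hd0), ?_⟩
  · refine (mem_L_iff hK.1 (div_ne_zero hc0 ha0)).2 fun P => ?_
    have h2 := nn c hc0 hc P
    simp only [E, B0, A, C', Finsupp.coe_zero, Pi.zero_apply, Finsupp.sub_apply, Finsupp.add_apply,
      Finsupp.inf_apply, hdiv, div_eq_mul_inv, ord_mul P hc0 (inv_ne_zero ha0), ord_inv]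
    omega
  · refine (mem_L_iff hK.1 (div_ne_zero ha0 hd0)).2 fun P => ?_
    have h2 := nn a ha0 ha P
    have h4 := nn c hc0 hc P
    simp only [N, E, B0, A, C', Finsupp.coe_zero, Pi.zero_apply, Finsupp.sub_apply, Finsupp.add_apply,
      Finsupp.inf_apply, hdiv, div_eq_mul_inv, ord_mul P ha0 (inv_ne_zero hd0), ord_inv]
    omega
  · rw [show N.deg = M.deg - E.deg by simp only [N]; rw [deg_sub, deg_add, deg_div hK.1]; ring]
    ring

omit hK in
/-- A quadratic relation among four independent elements can be written `ab = cd`. -/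
lemma exists_ab_eq_cd (h2 : (2 : k) ≠ 0) {f : Fin 4 → K} (hf : LinearIndependent k f)
    {c : Fin 4 → Fin 4 → k} (hne : ∃ i j, c i j ≠ 0) (hsupp : ∀ i j, j < i → c i j = 0)
    (hrel : ∑ i, ∑ j, c i j • (f i * f j) = 0) :
    ∃ a b x d : K, a ∈ Submodule.span k (Set.range f) ∧ b ∈ Submodule.span k (Set.range f) ∧
      x ∈ Submodule.span k (Set.range f) ∧ d ∈ Submodule.span k (Set.range f) ∧
      LinearIndependent k ![a, x] ∧ LinearIndependent k ![a, d] ∧ a * b = x * d := by
  classical
  haveI : Invertible (2 : k) := invertibleOfNonzero h2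
  let Bm : Matrix (Fin 4) (Fin 4) k := Matrix.of fun i j => c i j + c j i
  let B : LinearMap.BilinForm k (Fin 4 → k) := Matrix.toBilin' Bm
  have hBs : LinearMap.IsSymm B := by
    refine ⟨fun x y => ?_⟩
    simp only [B, Matrix.toBilin'_apply, Bm, Matrix.of_apply, RingHom.id_apply]
    rw [Finset.sum_comm]
    exact Finset.sum_congr rfl fun i _ => Finset.sum_congr rfl fun j _ => by ring
  obtain ⟨v, hv⟩ := LinearMap.BilinForm.exists_orthogonal_basis hBs
  let v' := v.reindex (finCongr (Module.finrank_fin_fun k))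
  let D : Fin 4 → k := fun l => B (v' l) (v' l)
  have hB : ∀ x y, B x y = ∑ l, D l * (v'.repr x l * v'.repr y l) := by
    intro x y
    conv_lhs => rw [← v'.sum_repr x, ← v'.sum_repr y]
    simp only [map_sum, map_smul, LinearMap.coe_sum, Finset.sum_apply, LinearMap.smul_apply, smul_eq_mul]
    refine Finset.sum_congr rfl fun l _ => ?_
    rw [Finset.sum_eq_single l]
    · simp only [D]; ring
    · intro m _ hm
      have : B (v' m) (v' l) = 0 := by
        simp only [v', Module.Basis.reindex_apply]
        exact hv fun e => hm (by simpa using e)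
      rw [this]; ring
    · simp
  let φ : Fin 4 → Fin 4 → k := fun l i => v'.repr (Pi.single i 1) l
  have hBij : ∀ i j, c i j + c j i = ∑ l, D l * (φ l i * φ l j) := fun i j => by
    rw [← hB]
    simp [B, Bm]
  let g : Fin 4 → K := fun l => ∑ i, φ l i • f i
  have hgmem : ∀ l, g l ∈ Submodule.span k (Set.range f) := fun l =>
    Submodule.sum_mem _ fun i _ => Submodule.smul_mem _ _ (Submodule.subset_span ⟨i, rfl⟩)
  have hg : ∑ l, D l • (g l * g l) = 0 := by
    have h1 : ∑ l, D l • (g l * g l) = ∑ i, ∑ j, (c i j + c j i) • (f i * f j) := by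
      simp only [g, hBij, Finset.sum_mul_sum, Finset.smul_sum, smul_mul_smul_comm, smul_smul,
        Finset.sum_smul]
      rw [Finset.sum_comm]
      exact Finset.sum_congr rfl fun i _ => Finset.sum_comm
    rw [h1]
    simp only [add_smul, Finset.sum_add_distrib, hrel, zero_add]
    rw [Finset.sum_comm]
    simpa [mul_comm] using hrel
  have hind : LinearIndependent k g := by
    rw [Fintype.linearIndependent_iff]
    intro a ha
    simp only [g, Finset.smul_sum, smul_smul] at ha
    rw [Finset.sum_comm] at ha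
    simp only [← Finset.sum_smul] at ha
    have h0 := Fintype.linearIndependent_iff.1 hf _ ha
    intro m
    have hlin : ∀ x : Fin 4 → k, ∑ l, a l * v'.repr x l = 0 := by
      intro x
      rw [← Finset.univ_sum_single x]
      simp only [map_sum, Finsupp.coe_finset_sum, Finset.sum_apply, Finset.mul_sum]
      rw [Finset.sum_comm]
      refine Finset.sum_eq_zero fun i _ => ?_
      have hs : (Pi.single i (x i) : Fin 4 → k) = x i • Pi.single i 1 := by
        ext q; simp [Pi.single_apply]
      calc ∑ l, a l * v'.repr (Pi.single i (x i)) l = x i * ∑ l, a l * φ l i := by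
            rw [Finset.mul_sum, hs]
            exact Finset.sum_congr rfl fun l _ => by simp [φ]; ring
        _ = 0 := by rw [h0 i, mul_zero]
    have := hlin (v' m)
    simpa [Finsupp.single_apply] using this
  obtain ⟨l₀, hl₀⟩ : ∃ l₀, ∀ l, l ≠ l₀ → D l ≠ 0 := by
    by_contra! hc
    obtain ⟨l₁, -, hl₁⟩ := hc 0
    obtain ⟨l₂, h12, hl₂⟩ := hc l₁
    have hD : ∃ l, D l ≠ 0 := by
      by_contra! hD
      obtain ⟨i, j, hij⟩ := hne
      have h := hBij i j
      simp only [hD, zero_mul, Finset.sum_const_zero] at h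
      rcases lt_trichotomy i j with e | e | e
      · rw [hsupp j i e, add_zero] at h
        exact hij h
      · subst e
        rw [← two_mul] at h
        exact hij ((mul_eq_zero.1 h).resolve_left h2)
      · exact hij (hsupp i j e)
    obtain ⟨p, hp⟩ := hD
    have hp1 : p ≠ l₁ := fun e => hp (e ▸ hl₁)
    have hp2 : p ≠ l₂ := fun e => hp (e ▸ hl₂)
    obtain ⟨q, hq1, hq2, hq3⟩ : ∃ q : Fin 4, q ≠ l₁ ∧ q ≠ l₂ ∧ q ≠ p := by
      have hcard : ({l₁, l₂, p} : Finset (Fin 4)).card < Fintype.card (Fin 4) :=
        lt_of_le_of_lt Finset.card_le_three (by simp)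
      obtain ⟨q, hq⟩ : ∃ q, q ∉ ({l₁, l₂, p} : Finset (Fin 4)) := by
        by_contra! hc
        rw [Finset.eq_univ_of_forall hc, Finset.card_univ] at hcard
        exact lt_irrefl _ hcard
      simp only [Finset.mem_insert, Finset.mem_singleton, not_or] at hq
      exact ⟨q, hq⟩
    obtain ⟨s, hs⟩ := IsAlgClosed.exists_eq_mul_self (-(D q / D p))
    have huniv : (Finset.univ : Finset (Fin 4)) = {l₁, l₂, p, q} := by
      refine (Finset.eq_univ_of_card _ ?_).symm
      simp [h12.symm, hp1.symm, hp2.symm, hq1.symm, hq2.symm, hq3.symm]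
    rw [huniv, Finset.sum_insert (by simp [h12.symm, hp1.symm, hq1.symm]),
      Finset.sum_insert (by simp [hp2.symm, hq2.symm]), Finset.sum_insert (by simp [hq3.symm]),
      Finset.sum_singleton, hl₁, hl₂, zero_smul, zero_add, zero_smul, zero_add] at hg
    have hq' : D q = -(D p * (s * s)) := by rw [← hs]; field_simp
    have hfac : D p • ((g p - s • g q) * (g p + s • g q)) = 0 := by
      rw [hq'] at hg
      simp only [Algebra.smul_def, map_neg, map_mul] at hg ⊢
      linear_combination hg
    rw [smul_eq_zero, mul_eq_zero] at hfac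
    have hpair : LinearIndependent k ![g q, g p] := by
      have h' := hind.comp ![q, p] (by
        intro i j; fin_cases i <;> fin_cases j <;> simp [hq3, hq3.symm])
      convert h' using 1
      funext i; fin_cases i <;> rfl
    rw [LinearIndependent.pair_iff' (hind.ne_zero q)] at hpair
    rcases hfac with h | h | h
    · exact hp h
    · exact hpair s (sub_eq_zero.1 h).symm
    · exact hpair (-s) (by rw [neg_smul]; exact (eq_neg_of_add_eq_zero_left h).symm)
  let e : Fin 4 ≃ Fin 4 := Equiv.swap l₀ 3
  rw [← e.sum_comp] at hg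
  choose s hs using fun l => IsAlgClosed.exists_eq_mul_self (D (e l))
  obtain ⟨ι, hι⟩ := IsAlgClosed.exists_eq_mul_self (-1 : k)
  have hι0 : ι ≠ 0 := fun e => by simp [e] at hι
  have hsne : ∀ l, l ≠ 3 → s l ≠ 0 := fun l hl e' => by
    refine hl₀ (e l) (fun e'' => hl ?_) (by rw [hs l, e', mul_zero])
    exact e.injective (by rw [e'']; simp [e])
  let h : Fin 4 → K := fun l => s l • g (e l)
  refine ⟨h 0 + ι • h 1, h 0 - ι • h 1, h 2 + ι • h 3, -(h 2 - ι • h 3), ?_, ?_, ?_, ?_, ?_, ?_, ?_⟩
  · exact Submodule.add_mem _ (Submodule.smul_mem _ _ (hgmem _))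
      (Submodule.smul_mem _ _ (Submodule.smul_mem _ _ (hgmem _)))
  · exact Submodule.sub_mem _ (Submodule.smul_mem _ _ (hgmem _))
      (Submodule.smul_mem _ _ (Submodule.smul_mem _ _ (hgmem _)))
  · exact Submodule.add_mem _ (Submodule.smul_mem _ _ (hgmem _))
      (Submodule.smul_mem _ _ (Submodule.smul_mem _ _ (hgmem _)))
  · exact Submodule.neg_mem _ (Submodule.sub_mem _ (Submodule.smul_mem _ _ (hgmem _))
      (Submodule.smul_mem _ _ (Submodule.smul_mem _ _ (hgmem _))))
  · rw [LinearIndependent.pair_iff]
    intro x y hxy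
    have h0 := Fintype.linearIndependent_iff.1 (hind.comp e e.injective)
      ![x * s 0, x * ι * s 1, y * s 2, y * ι * s 3] (by
        simp [Fin.sum_univ_four, h, smul_add, smul_smul, mul_assoc] at hxy ⊢
        linear_combination hxy)
    exact ⟨(mul_eq_zero.1 (h0 0)).resolve_right (hsne 0 (by decide)),
      (mul_eq_zero.1 (h0 2)).resolve_right (hsne 2 (by decide))⟩
  · rw [LinearIndependent.pair_iff]
    intro x y hxy
    have h0 := Fintype.linearIndependent_iff.1 (hind.comp e e.injective)
      ![x * s 0, x * ι * s 1, -(y * s 2), y * ι * s 3] (by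
        simp [Fin.sum_univ_four, h, smul_add, smul_sub, smul_smul, mul_assoc] at hxy ⊢
        linear_combination hxy)
    exact ⟨(mul_eq_zero.1 (h0 0)).resolve_right (hsne 0 (by decide)),
      (mul_eq_zero.1 (neg_eq_zero.1 (h0 2))).resolve_right (hsne 2 (by decide))⟩
  · have hι' : algebraMap k K ι * algebraMap k K ι = -1 := by rw [← map_mul, ← hι, map_neg, map_one]
    simp only [Fin.sum_univ_four, hs, Algebra.smul_def, map_mul] at hg
    simp only [h, Algebra.smul_def]
    linear_combination hg - (algebraMap k K (s 1) ^ 2 * g (e 1) ^ 2 + algebraMap k K (s 3) ^ 2 * g (e 3) ^ 2) * hι'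

variable {C : Divisor k K} (hC : IsCanonical k K C)
  (hmin : ∀ E : Divisor k K, 2 ≤ ell E → 2 ≤ ell (C - E) → 2 * (ell E : ℤ) ≤ E.deg)

include hC hmin

lemma exists_small_two : ∀ (n : ℕ) (M : Divisor k K), ell M = n → 2 ≤ n → 2 ≤ ell (C - M) →
    M.deg = 2 * (n : ℤ) →
    ∃ M' : Divisor k K, ell M' ≤ 4 ∧ 2 ≤ ell M' ∧ 2 ≤ ell (C - M') ∧ M'.deg = 2 * (ell M' : ℤ) := by
  classical
  intro n
  induction n using Nat.strong_induction_on with
  | _ n ih =>
  intro M hn h2 hs hd
  rcases (show n ≤ 4 ∨ 5 ≤ n by omega) with h | h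
  · exact ⟨M, by omega, by omega, hs, by rw [hn]; exact hd⟩
  obtain ⟨w, hw, hE⟩ := exists_nonneg_equiv hK (D := C - M) (by omega)
  set E := C - M + div k w
  have hlE : ell E = ell (C - M) := ell_add_div hK hw
  have hdE : (C - M).deg = E.deg := by rw [deg_add, deg_div hK.1, add_zero]
  have hEd : 4 ≤ E.deg := by
    have := hmin (C - M) hs (by rw [sub_sub_cancel]; omega)
    omega
  obtain ⟨P, hP⟩ := exists_place_pos hK (D := E) (by omega)
  have hE1 := sub_single_nonneg hK hE hP
  obtain ⟨P', hP'⟩ := exists_place_pos hK (D := E - Finsupp.single P 1) (by rw [deg_sub_single hK]; omega)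
  have hE2 := sub_single_nonneg hK hE1 hP'
  obtain ⟨P'', hP''⟩ := exists_place_pos hK (D := E - Finsupp.single P 1 - Finsupp.single P' 1)
    (by rw [deg_sub_single hK, deg_sub_single hK]; omega)
  have hE3 := sub_single_nonneg hK hE2 hP''
  obtain ⟨Q, hQ⟩ := FFCurve.exists_place_not_mem hK (insert P (insert P' (insert P'' E.support)))
  simp only [Finset.mem_insert, not_or, Finsupp.notMem_support_iff] at hQ
  have hlt : 0 < ell (M - Finsupp.single P 1 - Finsupp.single P' 1 - Finsupp.single P'' 1 -
      Finsupp.single Q 1) := by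
    have a1 := ell_sub_single_add_one hK M P
    have a2 := ell_sub_single_add_one hK (M - Finsupp.single P 1) P'
    have a3 := ell_sub_single_add_one hK (M - Finsupp.single P 1 - Finsupp.single P' 1) P''
    have a4 := ell_sub_single_add_one hK
      (M - Finsupp.single P 1 - Finsupp.single P' 1 - Finsupp.single P'' 1) Q
    omega
  obtain ⟨a, ha, hF⟩ := exists_nonneg_equiv hK hlt
  set D' := M + div k a
  have hD' : 0 ≤ D' - Finsupp.single P 1 - Finsupp.single P' 1 - Finsupp.single P'' 1 - Finsupp.single Q 1 := by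
    refine hF.trans_eq ?_
    simp only [D']
    abel
  set G := D' ⊓ E
  have hG2 : Finsupp.single P 1 + Finsupp.single P' 1 + Finsupp.single P'' 1 ≤ G := by
    refine le_inf (fun R => ?_) (fun R => ?_)
    · have := hD' R
      have h0 : (0 : ℤ) ≤ (Finsupp.single Q (1 : ℤ)) R := Finsupp.single_nonneg.2 zero_le_one R
      simp only [Finsupp.sub_apply, Finsupp.add_apply, Finsupp.coe_zero, Pi.zero_apply] at this ⊢
      omega
    · have := hE3 R
      simp only [Finsupp.sub_apply, Finsupp.add_apply, Finsupp.coe_zero, Pi.zero_apply] at this ⊢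
      omega
  have hG0 : 0 ≤ G := (add_nonneg (add_nonneg (Finsupp.single_nonneg.2 zero_le_one)
    (Finsupp.single_nonneg.2 zero_le_one)) (Finsupp.single_nonneg.2 zero_le_one)).trans hG2
  have hGd2 : 3 ≤ G.deg := by
    have h' := deg_mono hG2
    rw [deg_add, deg_add, deg_single, deg_single, deg_single, deg_eq_one hK P, deg_eq_one hK P',
      deg_eq_one hK P''] at h'
    push_cast at h'
    omega
  have hD'd : D'.deg = M.deg := by rw [deg_add, deg_div hK.1, add_zero]
  have hGlt : G.deg < M.deg := by
    have hle : G + Finsupp.single Q 1 ≤ D' := fun R => by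
      have h1 : G R ≤ D' R := (inf_le_left : G ≤ D') R
      rw [Finsupp.add_apply, Finsupp.single_apply]
      split_ifs with e
      · subst e
        have h3 : G Q ≤ E Q := (inf_le_right : G ≤ E) Q
        have h5 := hD' Q
        have h6 : 0 ≤ E Q := hE Q
        simp [Ne.symm hQ.1, Ne.symm hQ.2.1, Ne.symm hQ.2.2.1, hQ.1, hQ.2.1, hQ.2.2.1] at h5
        omega
      · omega
    have h' := deg_mono hle
    rw [deg_add, deg_single, deg_eq_one hK Q, hD'd] at h'
    push_cast at h'
    omega
  have hsum := ell_add_ell_le_inf_sup hK D' E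
  have hsup : D' ⊔ E = C - G + div k (a * w) := by
    have h' := inf_add_sup D' E
    rw [div_mul hK.1 ha hw]
    change G + (D' ⊔ E) = D' + E at h'
    rw [eq_sub_of_add_eq' h']
    simp only [D', E]
    abel
  rw [hsup, ell_add_div hK (mul_ne_zero ha hw), ell_add_div hK ha, hlE] at hsum
  change ell M + _ ≤ ell G + _ at hsum
  have hmono : ell (C - M) ≤ ell (C - G) := by
    haveI := finiteDimensional_L hK (D' ⊔ E)
    rw [← hlE, ← ell_add_div hK (mul_ne_zero ha hw) (D := C - G), ← hsup]
    exact Submodule.finrank_mono (L_mono le_sup_right)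
  have hrrM := riemann_roch hK hC M
  have hrrG := riemann_roch hK hC G
  have hlG : 2 ≤ ell G := by omega
  have hminG := hmin G hlG (by omega)
  exact ih (ell G) (by omega) G rfl hlG (by omega) (by omega)

/-- Genus nine and Clifford index two: tetragonal. -/
theorem exists_tetragonal (h2 : (2 : k) ≠ 0) (hg : genus k K = 9)
    (hex : ∃ M : Divisor k K, 2 ≤ ell M ∧ 2 ≤ ell (C - M) ∧ M.deg = 2 * (ell M : ℤ)) :
    ∃ E : Divisor k K, E.deg = 4 ∧ 2 ≤ ell E := by
  classical
  by_contra! h4
  have hno : ∀ E : Divisor k K, E.deg ≤ 4 → ell E ≤ 1 := by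
    intro E hd
    by_contra hl
    have hrr := riemann_roch hK hC E
    have hm := hmin E (by omega) (by omega)
    exact absurd (h4 E (by omega)) (by omega)
  -- a net of degree six gives a g¹₄
  have hnet : ∀ M : Divisor k K, M.deg = 6 → ell M ≤ 2 := by
    intro M hd
    by_contra hl
    have hrr := riemann_roch hK hC M
    have hm := hmin M (by omega) (by omega)
    have hsep : ∀ P Q : Place k K, ell (M - Finsupp.single P 1 - Finsupp.single Q 1) ≤ 1 := fun P Q =>
      hno _ (by rw [deg_sub_single hK, deg_sub_single hK]; omega)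
    obtain ⟨P⟩ := nonempty_place hK.1
    have a1 := ell_sub_single_add_one hK M P
    have a2 := ell_sub_single_add_one hK (M - Finsupp.single P 1) P
    have a3 := hsep P P
    have htrick := two_mul_ell_le_pencil hK (D := M) (G := M - Finsupp.single P 1) (by omega) fun R => hsep P R
    rw [show M - (M - Finsupp.single P 1) = Finsupp.single P 1 by abel,
      show M + (M - Finsupp.single P 1) = M + M - Finsupp.single P 1 by abel] at htrick
    have hP1 := hno (Finsupp.single P 1 : Divisor k K)
      (by rw [deg_single, deg_eq_one hK P]; norm_num)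
    have hdrop := ell_two_smul_lt hK (D := M) (P := P) (by omega)
    have hrr2 := riemann_roch hK hC (M + M)
    have hd2 : (M + M).deg = 12 := by rw [deg_add]; omega
    have := h4 (C - (M + M)) (by rw [deg_sub, deg_canonical hK hC, hd2, hg]; norm_num)
    omega
  obtain ⟨M₀, a0, a1, a2⟩ := hex
  obtain ⟨M, hl4, hl2, hs, hd⟩ := exists_small_two hK hC hmin (ell M₀) M₀ rfl a0 a1 a2
  rcases (show ell M = 2 ∨ ell M = 3 ∨ ell M = 4 by omega) with hl | hl | hl
  · have := h4 M (by omega); omega
  · have := hnet M (by omega); omega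
  have hd8 : M.deg = 8 := by omega
  have hPQ : ∀ P Q : Place k K, ell (M - Finsupp.single P 1 - Finsupp.single Q 1) = 2 := by
    intro P Q
    have b1 := ell_sub_single_add_one hK M P
    have b2 := ell_sub_single_add_one hK (M - Finsupp.single P 1) Q
    have b3 := hnet (M - Finsupp.single P 1 - Finsupp.single Q 1)
      (by rw [deg_sub_single hK, deg_sub_single hK]; omega)
    omega
  have hPQR : ∀ P Q R : Place k K,
      ell (M - Finsupp.single P 1 - Finsupp.single Q 1 - Finsupp.single R 1) ≤ 1 := by
    intro P Q R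
    by_contra hG
    have hGd : (M - Finsupp.single P 1 - Finsupp.single Q 1 - Finsupp.single R 1).deg = 5 := by
      rw [deg_sub_single hK, deg_sub_single hK, deg_sub_single hK]; omega
    set G := M - Finsupp.single P 1 - Finsupp.single Q 1 - Finsupp.single R 1
    have hGle : ell G ≤ 2 := by
      have b := ell_sub_single_add_one hK G P
      have := hno (G - Finsupp.single P 1) (by rw [deg_sub_single hK]; omega)
      omega
    have htrick := two_mul_ell_le_pencil hK (D := M) (G := G) (by omega) fun S =>
      hno _ (by rw [deg_sub_single hK]; omega)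
    have b := hno (M - G) (by rw [deg_sub]; omega)
    have hdd : (M + G).deg = 13 := by rw [deg_add]; omega
    have hrr := riemann_roch hK hC (M + G)
    have := hmin (M + G) (by omega) (by omega)
    omega
  obtain ⟨P⟩ := nonempty_place hK.1
  obtain ⟨Q, hQ⟩ := FFCurve.exists_place_not_mem hK {P}
  rw [Finset.mem_singleton] at hQ
  have hGeq := hPQ P Q
  have htrick := two_mul_ell_le_pencil hK (D := M) hGeq fun R => hPQR P Q R
  have hd2 : (M + M).deg = 16 := by rw [deg_add]; omega
  have hrr2 := riemann_roch hK hC (M + M)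
  have hb := hno (M - (M - Finsupp.single P 1 - Finsupp.single Q 1))
    (by rw [deg_sub, deg_sub_single hK, deg_sub_single hK]; omega)
  rw [show M + (M - Finsupp.single P 1 - Finsupp.single Q 1) =
    M + M - Finsupp.single P 1 - Finsupp.single Q 1 by abel] at htrick
  have hdropP : ell (M + M - Finsupp.single P 1) < ell (M + M) := by
    refine ell_two_smul_lt hK ?_
    have := ell_sub_single_add_one hK (M - Finsupp.single P 1) Q
    have := hnet (M - Finsupp.single P 1 - Finsupp.single Q 1) (by rw [deg_sub_single hK, deg_sub_single hK]; omega)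
    have := hPQ P P
    have := ell_sub_single_add_one hK (M - Finsupp.single P 1) P
    omega
  have hdropQ : ell (M + M - Finsupp.single P 1 - Finsupp.single Q 1) < ell (M + M - Finsupp.single P 1) := by
    have hx1 : ell (M - Finsupp.single P 1 - Finsupp.single Q 1) < ell (M - Finsupp.single P 1) := by
      have := ell_sub_single_add_one hK M P
      omega
    obtain ⟨x, hx, hxQ⟩ := (ell_lt_iff_exists hK _ Q).1 hx1
    have hy1 : ell (M - Finsupp.single Q 1) < ell M := by
      have := hPQ Q Q
      have := ell_sub_single_add_one hK (M - Finsupp.single Q 1) Q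
      omega
    obtain ⟨y, hy, hyQ⟩ := (ell_lt_iff_exists hK _ Q).1 hy1
    refine (ell_lt_iff_exists hK _ Q).2 ⟨x * y, fun R => ?_, ?_⟩
    · rw [map_mul]
      refine le_of_le_of_eq (mul_le_mul' (hx R) (hy R)) ?_
      rw [← exp_add]
      congr 1
      simp only [Finsupp.sub_apply, Finsupp.add_apply]; ring
    · rw [map_mul, hxQ, hyQ, ← exp_add]
      congr 1
      simp only [Finsupp.sub_apply, Finsupp.add_apply]; ring
  have h2M : ell (M + M) ≤ 9 := by
    have := clifford hK (deg_eq_one hK P) (D := M + M) (by omega) (by omega)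
    omega
  haveI := finiteDimensional_L hK M
  haveI := finiteDimensional_L hK (M + M)
  let b := Module.finBasisOfFinrankEq k (L M) hl
  let f : Fin 4 → K := fun i => (b i).1
  have hf : LinearIndependent k f := b.linearIndependent.map' (L M).subtype (Submodule.ker_subtype _)
  have hmul : ∀ i j, f i * f j ∈ L (M + M) := fun i j R => by
    rw [map_mul, Finsupp.add_apply, exp_add]
    exact mul_le_mul' ((b i).2 R) ((b j).2 R)
  let T := {p : Fin 4 × Fin 4 // p.1 ≤ p.2}
  let prodf : T → L (M + M) := fun p => ⟨f p.1.1 * f p.1.2, hmul _ _⟩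
  have hdep : ¬ LinearIndependent k prodf := fun h => by
    have := h.fintype_card_le_finrank
    rw [show Fintype.card T = 10 from by decide] at this
    change 10 ≤ ell (M + M) at this
    omega
  obtain ⟨c₀, hc₀, ⟨p, hp⟩⟩ := Fintype.not_linearIndependent_iff.1 hdep
  let c : Fin 4 → Fin 4 → k := fun i j => if h : i ≤ j then c₀ ⟨(i, j), h⟩ else 0
  obtain ⟨a, b', x, d, ha, hb', hx, hd', hax, had, heq⟩ := exists_ab_eq_cd h2 hf (c := c)
    ⟨p.1.1, p.1.2, by simp only [c, dif_pos p.2]; exact hp⟩
    (fun i j hij => dif_neg (not_le.2 hij)) (by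
      have hc₁ := congrArg (L (M + M)).subtype hc₀
      simp only [map_sum, map_smul, map_zero, Submodule.subtype_apply, prodf] at hc₁
      rw [← Fintype.sum_prod_type', ← Finset.sum_subset
        (Finset.subset_univ {q : Fin 4 × Fin 4 | q.1 ≤ q.2}) (fun q _ hq => by
          simp only [Finset.mem_filter, Finset.mem_univ, true_and] at hq
          simp [c, dif_neg hq])]
      refine Eq.trans ?_ hc₁
      rw [Finset.sum_subtype (p := fun q : Fin 4 × Fin 4 => q.1 ≤ q.2) _ (by simp)]
      exact Finset.sum_congr rfl fun q _ => by simp [c, dif_pos q.2])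
  have hle : Submodule.span k (Set.range f) ≤ L M := Submodule.span_le.2 (by rintro _ ⟨i, rfl⟩; exact (b i).2)
  obtain ⟨E, N, hE, hN, hEN⟩ := exists_split hK (hle ha) (hle hb') (hle hx) (hle hd') hax had heq
  rcases (show E.deg ≤ 4 ∨ N.deg ≤ 4 by omega) with h | h
  · have := hno E h; omega
  · have := hno N h; omega

end Groth.Agent.FF
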