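import Groth.Agent.FFCurve.Places
import Groth.Agent.FF.ZetaMain

/-!
# Point counts of a curve and of its function field
-/

universe u

open CategoryTheory AlgebraicGeometry FunFld
open Groth.Agent.CurveCoh

set_option linter.style.haveILetI false

namespace Groth.Agent.FFCurve

variable (k : Type u) [Field k] [Finite k] {X : Scheme.{u}} [IsIntegral X] [X.Over (Spec (CommRingCat.of k))]
  [IsProper (X ↘ Spec (CommRingCat.of k))] [RegCurve X]
  (hdim : topologicalKrullDim X = 1)
include hdim

/-- Closed points of degree `e` are places of degree `e`. -/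
lemma degCount_eq (e : ℕ) :
    Zeta.degCount (X ↘ Spec (CommRingCat.of k)) e =
      Nat.card {P : Place k X.functionField // P.deg = e} := by
  unfold Zeta.degCount
  refine Nat.card_congr ((Equiv.subtypeSubtypeEquivSubtypeInter _ _).symm.trans ?_)
  exact (placeEquiv k hdim).subtypeEquiv fun x => by
    change _ ↔ (toPlace k hdim x).deg = e
    rw [finrank_residueField k hdim x]

lemma nPts_eq_ptCount {j : ℕ} (hj : j ≠ 0) :
    Zeta.nPts (X ↘ Spec (CommRingCat.of k)) j = FF.Zeta.ptCount k X.functionField j := by
  classical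
  have hfin : {P : Place k X.functionField | P.deg ∣ j}.Finite := by
    have h := ZetaLib.finite_degree_dvd (X ↘ Spec (CommRingCat.of k)) hj
    refine Set.Finite.subset ((h.preimage (f := fun P : Place k X.functionField => ((placeEquiv k hdim).symm P).1)
      fun a _ b _ hab => (placeEquiv k hdim).symm.injective (Subtype.ext hab))) fun P hP => ?_
    obtain ⟨x, rfl⟩ := (placeEquiv k hdim).surjective P
    refine ⟨((placeEquiv k hdim).symm (placeEquiv k hdim x)).2, ?_⟩
    beta_reduce
    rw [Equiv.symm_apply_apply, finrank_residueField k hdim x]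
    exact hP
  unfold Zeta.nPts FF.Zeta.ptCount
  rw [finsum_mem_eq_finite_toFinset_sum _ hfin,
    ← Finset.sum_fiberwise_of_maps_to (t := j.divisors) (g := fun P : Place k X.functionField => P.deg)
      (fun P hP => Nat.mem_divisors.2 ⟨hfin.mem_toFinset.1 hP, hj⟩)]
  refine Finset.sum_congr rfl fun d hd => ?_
  rw [degCount_eq k hdim d, Finset.sum_congr rfl (g := fun _ => d)
    (fun P hP => (Finset.mem_filter.1 hP).2), Finset.sum_const, smul_eq_mul, mul_comm]
  congr 1
  rw [← Nat.card_eq_finsetCard]
  refine Nat.card_congr (Equiv.subtypeEquivRight fun P => ?_)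
  rw [Finset.mem_filter, hfin.mem_toFinset]
  exact ⟨fun h => ⟨show P.deg ∣ j by rw [h]; exact (Nat.mem_divisors.1 hd).1, h⟩, fun h => h.2⟩

lemma pointCount_eq (k' : Type u) [Field k'] [Algebra k k'] [Finite k'] :
    SgaExt.pointCount (X ↘ Spec (CommRingCat.of k)) k' =
      FF.Zeta.ptCount k X.functionField (Module.finrank k k') := by
  haveI : Module.Finite k k' := .of_finite
  rw [ZetaLib.pointCount_eq_nPts, nPts_eq_ptCount k hdim Module.finrank_pos.ne']

lemma pointCount_eq_roots [GeometricallyIrreducible (X ↘ Spec (CommRingCat.of k))]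
    (α : Fin (2 * genus k X.functionField) → ℂ)
    (hα : PowerSeries.map (Int.castRingHom ℂ) (numerZ k X.functionField) =
      ((∏ i, (1 - Polynomial.C (α i) * Polynomial.X) : Polynomial ℂ) : PowerSeries ℂ))
    (k' : Type u) [Field k'] [Algebra k k'] [Finite k'] :
    (SgaExt.pointCount (X ↘ Spec (CommRingCat.of k)) k' : ℂ) =
      (Nat.card k : ℂ) ^ Module.finrank k k' + 1 - ∑ i, α i ^ Module.finrank k k' := by
  haveI : Module.Finite k k' := .of_finite
  rw [pointCount_eq k hdim k', FF.Zeta.ptCount_eq (isFunctionField k hdim) α hα Module.finrank_pos]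
  ring

end Groth.Agent.FFCurve
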