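import Groth.Agent.EulerChar.FiniteMap
import Groth.Agent.FEtCat.Rank
import Groth.Agent.EtStruct.Residue
import Mathlib.AlgebraicGeometry.Morphisms.Etale

/-!
# Finite flat covers of curves: degree and separability at the generic point
-/

universe u

open CategoryTheory CategoryTheory.Limits AlgebraicGeometry TopologicalSpace

set_option linter.style.haveILetI false
set_option backward.isDefEq.respectTransparency false
set_option backward.isDefEq.respectTransparency.types false

namespace Groth.Agent.FFCurve.Cover

variable {X Y : Scheme.{u}} [IsIntegral X] [IsIntegral Y] (f : X ⟶ Y)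

/-- A flat morphism maps the generic point to the generic point. -/
lemma map_genericPoint [Flat f] : f (genericPoint X) = genericPoint Y := by
  obtain ⟨x, hx, hxe⟩ := Flat.generalizingMap f (genericPoint_specializes (f (genericPoint X)))
  have : x = genericPoint X := (hx.antisymm (genericPoint_specializes x)).eq
  rw [this] at hxe
  exact hxe

/-- Separability of the residue extension from étaleness on an open. -/
lemma isSeparable_of_etale (V : X.Opens) (hV : (V : Set X).Nonempty) [Etale (V.ι ≫ f)]
    [LocallyOfFiniteType f] :
    letI := (f.residueFieldMap (genericPoint X)).hom.toAlgebra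
    Algebra.IsSeparable (Y.residueField (f (genericPoint X))) (X.residueField (genericPoint X)) := by
  have hη : genericPoint X ∈ V := ((genericPoint_spec X).mem_open_set_iff V.2).2 (by simpa using hV)
  have h := FormallyUnramified.stalkMap (V.ι ≫ f) ⟨genericPoint X, hη⟩
  rw [Scheme.Hom.stalkMap_comp, CommRingCat.hom_comp,
    RingHom.FormallyUnramified.respectsIso.cancel_right_isIso] at h
  exact ((EtStruct.stalkMap_formallyUnramified_iff f _).1 h).2.2

variable (k : Type u) [Field k] [X.Over (Spec (CommRingCat.of k))] [Y.Over (Spec (CommRingCat.of k))]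
  [IsProper (X ↘ Spec (CommRingCat.of k))] [IsProper (Y ↘ Spec (CommRingCat.of k))]
  (hf : f ≫ (Y ↘ Spec (CommRingCat.of k)) = X ↘ Spec (CommRingCat.of k))
  (hX : topologicalKrullDim X = 1) (hY : topologicalKrullDim Y = 1)
include k hf hX hY

/-- The rank of a finite flat cover of curves is its residue degree at the generic point. -/
theorem residueDegree_eq [IsFinite f] [Flat f] {n : ℕ} (hn : ∀ y : Y, Scheme.Hom.finrank f y = n) :
    f.residueDegree (genericPoint X) = n := by
  haveI : IsLocallyNoetherian Y := LocallyOfFiniteType.isLocallyNoetherian (Y ↘ Spec (CommRingCat.of k))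
  have hr := FEtCat.Rank.isFinLocFreeOfRank_of_finrank f n hn
  have hξ := map_genericPoint f
  obtain ⟨e⟩ := EulerChar.stalk_ofRank hr (f (genericPoint X))
  rw [← EulerChar.finrank_stalk_push f (fun x => EulerChar.eq_genericPoint_of_map_eq f hf hX hY hξ) hξ,
    ← e.finrank_eq, Module.finrank_fin_fun]

end Groth.Agent.FFCurve.Cover
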