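import Groth.Agent.FF.GenusOne
import Groth.Agent.PlanePts.Forms

/-!
# Weierstrass normal form and the homogeneous ideal of the cubic of a genus one function field
-/

set_option linter.style.haveILetI false
set_option linter.unusedSectionVars false

namespace Groth.Agent.FFCurve.Weierstrass

open FunFld WithZero MvPolynomial

universe v w

variable {k : Type v} {K : Type w} [Field k] [Field K] [Algebra k K]

/-- The normal form polynomial. -/
noncomputable def cubic (a₁ a₂ a₃ a₄ a₆ : k) : MvPolynomial (Fin 3) k :=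
  X 1 ^ 2 * X 2 + C a₁ * X 0 * X 1 * X 2 + C a₃ * X 1 * X 2 ^ 2 - X 0 ^ 3
    - C a₂ * X 0 ^ 2 * X 2 - C a₄ * X 0 * X 2 ^ 2 - C a₆ * X 2 ^ 3

lemma isHomogeneous_cubic (a₁ a₂ a₃ a₄ a₆ : k) : (cubic a₁ a₂ a₃ a₄ a₆).IsHomogeneous 3 := by
  have hX : ∀ i : Fin 3, (X i : MvPolynomial (Fin 3) k).IsHomogeneous 1 := isHomogeneous_X k
  refine (((((IsHomogeneous.add (IsHomogeneous.add ?_ ?_) ?_).sub ?_).sub ?_).sub ?_).sub ?_)
  · exact ((hX 1).pow 2).mul (hX 2)
  · exact (((hX 0).C_mul a₁).mul (hX 1)).mul (hX 2)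
  · exact ((hX 1).C_mul a₃).mul ((hX 2).pow 2)
  · exact (hX 0).pow 3
  · exact (((hX 0).pow 2).C_mul a₂).mul (hX 2)
  · exact ((hX 0).C_mul a₄).mul ((hX 2).pow 2)
  · exact ((hX 2).pow 3).C_mul a₆

lemma cubic_ne_zero (a₁ a₂ a₃ a₄ a₆ : k) : cubic a₁ a₂ a₃ a₄ a₆ ≠ 0 := by
  intro h
  have := congrArg (MvPolynomial.eval (![1, 0, 0] : Fin 3 → k)) h
  simp [cubic] at this

variable (hK : IsFunctionField k K)
include hK

/-- A Weierstrass pair at a rational place. -/
theorem exists_normal_form (hg : genus k K = 1) {P : Place k K} (hP : P.deg = 1) :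
    ∃ (a₁ a₂ a₃ a₄ a₆ : k) (x y : K), x ∈ L (Finsupp.single P 2) ∧ P.ord x = -2 ∧
      y ∈ L (Finsupp.single P 3) ∧ P.ord y = -3 ∧
      aeval ![x, y, 1] (cubic a₁ a₂ a₃ a₄ a₆) = 0 := by
  obtain ⟨x, hx, hx2⟩ := FF.exists_pole_order hK hg hP (le_refl 2)
  obtain ⟨y, hy, hy3⟩ := FF.exists_pole_order hK hg hP (show 2 ≤ 3 by norm_num)
  obtain ⟨f, g, hf, hgd, hrel⟩ := FF.weierstrass_relation hK hg hP hx hx2 hy hy3
  set c := g.coeff 3
  have hc : c ≠ 0 := by
    have := Polynomial.leadingCoeff_ne_zero.2 (Polynomial.ne_zero_of_natDegree_gt (n := 0) (by omega : 0 < g.natDegree))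
    rwa [Polynomial.leadingCoeff, hgd] at this
  set l := algebraMap k K (-c) with hl
  have hl0 : l ≠ 0 := by simpa [hl] using hc
  have hlc : l = -algebraMap k K c := map_neg _ _
  have hordl : P.ord l = 0 := FF.ord_const P _
  refine ⟨f.coeff 1, -g.coeff 2, f.coeff 0 * (-c), -(g.coeff 1 * (-c)), -(g.coeff 0 * (-c) ^ 2),
    l * x, l * y, ?_, ?_, ?_, ?_, ?_⟩
  · rw [hl, ← Algebra.smul_def]; exact Submodule.smul_mem _ _ hx
  · rw [FF.ord_mul P hl0 (fun e => by simp [e] at hx2), hordl, hx2]; norm_num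
  · rw [hl, ← Algebra.smul_def]; exact Submodule.smul_mem _ _ hy
  · rw [FF.ord_mul P hl0 (fun e => by simp [e] at hy3), hordl, hy3]; norm_num
  · have ef : Polynomial.aeval x f = algebraMap k K (f.coeff 0) + algebraMap k K (f.coeff 1) * x := by
      rw [Polynomial.aeval_eq_sum_range' (show f.natDegree < 2 by omega)]
      simp [Finset.sum_range_succ, Algebra.smul_def]
    have eg : Polynomial.aeval x g = algebraMap k K (g.coeff 0) + algebraMap k K (g.coeff 1) * x +
        algebraMap k K (g.coeff 2) * x ^ 2 + algebraMap k K c * x ^ 3 := by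
      rw [Polynomial.aeval_eq_sum_range' (show g.natDegree < 4 by omega)]
      simp [Finset.sum_range_succ, Algebra.smul_def, c]
    rw [ef, eg] at hrel
    simp only [cubic, map_sub, map_add, map_mul, map_pow, aeval_X, aeval_C, map_neg,
      Matrix.cons_val_zero, Matrix.cons_val_one, Matrix.cons_val]
    rw [hlc]
    linear_combination (algebraMap k K c) ^ 2 * hrel

variable {P : Place k K} {x y : K}
  (hx : x ∈ L (Finsupp.single P 2)) (hx2 : P.ord x = -2)
  (hy : y ∈ L (Finsupp.single P 3)) (hy3 : P.ord y = -3)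
include hx hx2 hy hy3

lemma val_q_le (j : Fin 3) (Q : Place k K) :
    Q.1 (![x, y, 1] j) ≤ exp (Finsupp.single P (3 : ℤ) Q) := by
  classical
  fin_cases j
  · refine (hx Q).trans ?_
    rw [exp_le_exp, Finsupp.single_apply, Finsupp.single_apply]
    split_ifs <;> norm_num
  · exact hy Q
  · show Q.1 (1 : K) ≤ _
    rw [map_one, ← exp_zero, exp_le_exp, Finsupp.single_apply]
    split_ifs <;> norm_num

/-- Forms of degree `N` give functions in `L(3NP)`. -/
lemma aeval_mem {N : ℕ} {F : MvPolynomial (Fin 3) k} (hF : F.IsHomogeneous N) :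
    aeval ![x, y, 1] F ∈ L (Finsupp.single P (3 * (N : ℤ))) := by
  classical
  rw [F.as_sum, map_sum]
  refine Submodule.sum_mem _ fun m hm => ?_
  rw [aeval_monomial, ← Algebra.smul_def]
  refine Submodule.smul_mem _ _ fun Q => ?_
  have hd : m 0 + m 1 + m 2 = N := by
    have h := hF (mem_support_iff.1 hm)
    rw [← h, Finsupp.weight_apply, Finsupp.sum_fintype _ _ (by simp), Fin.sum_univ_three]
    simp
  rw [Finsupp.prod_fintype _ _ (by simp), Fin.prod_univ_three,
    map_mul, map_mul, map_pow, map_pow, map_pow]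
  have hb := fun j : Fin 3 => val_q_le hK hx hx2 hy hy3 j Q
  refine (mul_le_mul' (mul_le_mul' (pow_le_pow_left₀ zero_le (hb 0) _) (pow_le_pow_left₀ zero_le (hb 1) _))
    (pow_le_pow_left₀ zero_le (hb 2) _)).trans_eq ?_
  rw [← exp_nsmul, ← exp_nsmul, ← exp_nsmul, ← exp_add, ← exp_add]
  congr 1
  rw [← add_smul, ← add_smul, hd, Finsupp.single_apply, Finsupp.single_apply]
  split_ifs <;> simp [mul_comm]

variable (hg : genus k K = 1) (hP : P.deg = 1)
include hg hP

/-- Every function in `L(3NP)` is a form of degree `N`. -/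
theorem exists_form {N : ℕ} (hN : 1 ≤ N) {z : K} (hz : z ∈ L (Finsupp.single P (3 * (N : ℤ)))) :
    ∃ F : MvPolynomial (Fin 3) k, F.IsHomogeneous N ∧ aeval ![x, y, 1] F = z := by
  classical
  have hx0 : x ≠ 0 := fun e => by simp [e] at hx2
  have hy0 : y ≠ 0 := fun e => by simp [e] at hy3
  let m : Fin (N + 1) ⊕ (Fin N ⊕ Fin (N - 1)) → ℕ × ℕ :=
    Sum.elim (fun j => (0, j.1)) (Sum.elim (fun j => (1, j.1)) (fun j => (2, j.1)))
  let F : Fin (N + 1) ⊕ (Fin N ⊕ Fin (N - 1)) → MvPolynomial (Fin 3) k := fun i =>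
    X 0 ^ (m i).1 * X 1 ^ (m i).2 * X 2 ^ (N - (m i).1 - (m i).2)
  let v : Fin (N + 1) ⊕ (Fin N ⊕ Fin (N - 1)) → K := fun i => x ^ (m i).1 * y ^ (m i).2
  have hle : ∀ i, (m i).1 + (m i).2 ≤ N ∧ (m i).1 ≤ 2 := by
    rintro (j | j | j) <;> simp only [m, Sum.elim_inl, Sum.elim_inr] <;> omega
  have hF : ∀ i, (F i).IsHomogeneous N := fun i => by
    have h := (((isHomogeneous_X k (0 : Fin 3)).pow (m i).1).mul ((isHomogeneous_X k (1 : Fin 3)).pow (m i).2)).mul
      ((isHomogeneous_X k (2 : Fin 3)).pow (N - (m i).1 - (m i).2))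
    have e : 1 * (m i).1 + 1 * (m i).2 + 1 * (N - (m i).1 - (m i).2) = N := by
      have := hle i; omega
    rw [e] at h
    exact h
  have hev : ∀ i, aeval ![x, y, 1] (F i) = v i := fun i => by
    simp only [F, v, map_mul, map_pow, aeval_X]
    simp
  have hli : LinearIndependent k v := by
    refine FF.linearIndependent_of_ord_injective P v (fun i => mul_ne_zero (pow_ne_zero _ hx0) (pow_ne_zero _ hy0)) ?_
    intro i i' h
    simp only [v] at h
    rw [FF.ord_mul P (pow_ne_zero _ hx0) (pow_ne_zero _ hy0), FF.ord_mul P (pow_ne_zero _ hx0) (pow_ne_zero _ hy0),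
      FF.ord_pow, FF.ord_pow, FF.ord_pow, FF.ord_pow, hx2, hy3] at h
    have := hle i
    have := hle i'
    rcases i with j | j | j <;> rcases i' with j' | j' | j' <;>
      simp only [m, Sum.elim_inl, Sum.elim_inr, Sum.inl.injEq, Sum.inr.injEq, Fin.ext_iff,
        Nat.cast_ofNat, Nat.cast_zero, Nat.cast_one] at h ⊢ <;> omega
  have hsub : Submodule.span k (Set.range v) ≤ L (Finsupp.single P (3 * (N : ℤ))) := by
    rw [Submodule.span_le]
    rintro _ ⟨i, rfl⟩
    rw [← hev i]
    exact aeval_mem hK hx hx2 hy hy3 (hF i)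
  haveI := FF.finiteDimensional_L hK.1 (Finsupp.single P (3 * (N : ℤ)))
  have heq : Submodule.span k (Set.range v) = L (Finsupp.single P (3 * (N : ℤ))) := by
    refine Submodule.eq_of_le_of_finrank_le hsub ?_
    rw [finrank_span_eq_card hli, Fintype.card_sum, Fintype.card_sum, Fintype.card_fin, Fintype.card_fin,
      Fintype.card_fin]
    have := FF.ell_nsmul_point hK hg hP (n := 3 * N) (by omega)
    push_cast at this
    change ell (Finsupp.single P (3 * (N : ℤ))) ≤ _
    omega
  rw [← heq, Submodule.mem_span_range_iff_exists_fun] at hz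
  obtain ⟨c, rfl⟩ := hz
  refine ⟨∑ i, C (c i) * F i, IsHomogeneous.sum _ _ _ fun i _ => (hF i).C_mul _, ?_⟩
  rw [map_sum]
  exact Finset.sum_congr rfl fun i _ => by rw [map_mul, aeval_C, hev, Algebra.smul_def]

/-- A form vanishing at the generic point is a multiple of the cubic. -/
theorem dvd_of_aeval_eq_zero {a₁ a₂ a₃ a₄ a₆ : k}
    (hW : aeval ![x, y, 1] (cubic a₁ a₂ a₃ a₄ a₆) = 0) {N : ℕ} {F : MvPolynomial (Fin 3) k}
    (hF : F.IsHomogeneous N) (hz : aeval ![x, y, 1] F = 0) :
    cubic a₁ a₂ a₃ a₄ a₆ ∣ F := by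
  classical
  set W := cubic a₁ a₂ a₃ a₄ a₆
  -- raise the degree to at least three
  suffices key : ∀ (N : ℕ) (F : MvPolynomial (Fin 3) k), 3 ≤ N → F.IsHomogeneous N →
      aeval ![x, y, 1] F = 0 → W ∣ F by
    rcases le_or_gt 3 N with h | h
    · exact key N F h hF hz
    · obtain ⟨H, hH⟩ := key (3 + N) (X 1 ^ 3 * F) (by omega)
        (((isHomogeneous_X k (1 : Fin 3)).pow 3).mul hF) (by rw [map_mul, hz, mul_zero])
      rcases eq_or_ne F 0 with rfl | hF0
      · exact dvd_zero _
      exfalso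
      -- a form of degree `N < 3` vanishing at `(x, y, 1)` is zero
      have hker : ∀ G : MvPolynomial (Fin 3) k, G.IsHomogeneous N → aeval ![x, y, 1] G = 0 → G = 0 := by
        intro G hG hG0
        rcases Nat.eq_zero_or_pos N with rfl | hN
        · obtain ⟨c, rfl⟩ : ∃ c, G = C c := ⟨coeff 0 G, (totalDegree_eq_zero_iff_eq_C).1
            (Nat.le_zero.1 hG.totalDegree_le)⟩
          rw [aeval_C] at hG0
          rw [(map_eq_zero_iff _ (algebraMap k K).injective).1 hG0, map_zero]
        · let T : homogeneousSubmodule (Fin 3) k N →ₗ[k] L (Finsupp.single P (3 * (N : ℤ))) :=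
            ((aeval ![x, y, 1]).toLinearMap.comp (homogeneousSubmodule (Fin 3) k N).subtype).codRestrict _
              fun F => aeval_mem hK hx hx2 hy hy3 F.2
          have hT : Function.Surjective T := fun w => by
            obtain ⟨F, hF, hFw⟩ := exists_form hK hx hx2 hy hy3 hg hP hN w.2
            exact ⟨⟨F, hF⟩, Subtype.ext hFw⟩
          have hrk : Module.finrank k (homogeneousSubmodule (Fin 3) k N) =
              Module.finrank k (L (Finsupp.single P (3 * (N : ℤ)))) := by
            rw [PlanePts.finrank_forms]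
            have := FF.ell_nsmul_point hK hg hP (n := 3 * N) (by omega)
            push_cast at this
            change _ = ell (Finsupp.single P (3 * (N : ℤ)))
            rw [this]
            interval_cases N <;> rfl
          haveI := FF.finiteDimensional_L hK.1 (Finsupp.single P (3 * (N : ℤ)))
          have hinj := (LinearMap.injective_iff_surjective_of_finrank_eq_finrank hrk).2 hT
          exact congrArg Subtype.val (@hinj ⟨G, hG⟩ 0 (by rw [map_zero]; exact Subtype.ext hG0))
      exact hF0 (hker F hF hz)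
  intro N F hN hF hz
  obtain ⟨M, rfl⟩ : ∃ M, N = M + 3 := ⟨N - 3, by omega⟩
  let T : homogeneousSubmodule (Fin 3) k (M + 3) →ₗ[k] L (Finsupp.single P (3 * ((M + 3 : ℕ) : ℤ))) :=
    ((aeval ![x, y, 1]).toLinearMap.comp (homogeneousSubmodule (Fin 3) k (M + 3)).subtype).codRestrict _
      fun F => aeval_mem hK hx hx2 hy hy3 F.2
  have hT : Function.Surjective T := fun w => by
    obtain ⟨F, hF, hFw⟩ := exists_form hK hx hx2 hy hy3 hg hP (by omega) w.2
    exact ⟨⟨F, hF⟩, Subtype.ext hFw⟩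
  have hW3 : W.IsHomogeneous 3 := isHomogeneous_cubic a₁ a₂ a₃ a₄ a₆
  let S : homogeneousSubmodule (Fin 3) k M →ₗ[k] homogeneousSubmodule (Fin 3) k (M + 3) :=
    ((LinearMap.mulLeft k W).comp (homogeneousSubmodule (Fin 3) k M).subtype).codRestrict _
      fun H => (mem_homogeneousSubmodule _ _).2 (by
        show (W * H.1).IsHomogeneous (M + 3)
        rw [add_comm M 3]; exact hW3.mul H.2)
  have hS : Function.Injective S := fun a b h => Subtype.ext
    (mul_left_cancel₀ (cubic_ne_zero a₁ a₂ a₃ a₄ a₆) (congrArg Subtype.val h))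
  have hle : LinearMap.range S ≤ LinearMap.ker T := by
    rintro _ ⟨H, rfl⟩
    exact Subtype.ext (show aeval ![x, y, 1] (W * H.1) = 0 by rw [map_mul, hW, zero_mul])
  have heq : LinearMap.range S = LinearMap.ker T := by
    refine Submodule.eq_of_le_of_finrank_eq hle ?_
    have h1 := T.finrank_range_add_finrank_ker
    rw [LinearMap.range_eq_top.2 hT, finrank_top, PlanePts.finrank_forms] at h1
    have h2 := LinearMap.finrank_range_of_inj hS
    rw [PlanePts.finrank_forms] at h2
    have h3 := FF.ell_nsmul_point hK hg hP (n := 3 * (M + 3)) (by omega)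
    push_cast at h3 h1
    change ell (Finsupp.single P (3 * ((M : ℤ) + 3))) + _ = _ at h1
    rw [h3] at h1
    rw [h2]
    have e1 : (2 + (M + 3)).choose 2 = (2 + M).choose 2 + 3 * (M + 3) := by
      rw [Nat.choose_two_right, Nat.choose_two_right]
      have : (2 + (M + 3)) * (2 + (M + 3) - 1) = (2 + M) * (2 + M - 1) + 2 * (3 * (M + 3)) := by
        rw [show 2 + (M + 3) - 1 = M + 4 by omega, show 2 + M - 1 = M + 1 by omega]; ring
      rw [this, Nat.add_mul_div_left _ _ (by norm_num)]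
    omega
  obtain ⟨H, hH⟩ : (⟨F, hF⟩ : homogeneousSubmodule (Fin 3) k (M + 3)) ∈ LinearMap.range S :=
    heq ▸ (LinearMap.mem_ker.2 (Subtype.ext hz))
  exact ⟨H.1, (congrArg Subtype.val hH).symm⟩

end Groth.Agent.FFCurve.Weierstrass
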