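import Groth.Agent.FFCurve.CubicMap
import Groth.Agent.FFCurve.Weierstrass

/-!
# A genus one curve with a rational point is a Weierstrass cubic
-/

set_option autoImplicit false

universe u

open CategoryTheory AlgebraicGeometry TopologicalSpace FunFld WithZero
open Groth.Agent.CurveCoh
open Groth.Agent.SepTang48 (D const ρ exists_eval₂ isAffineOpen_D iSup_D ρ_self)

set_option linter.style.haveILetI false
set_option linter.unusedSectionVars false
set_option backward.isDefEq.respectTransparency false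
set_option backward.isDefEq.respectTransparency.types false

noncomputable section

namespace Groth.Agent.FFCurve.Weierstrass

variable (k : Type u) [Field k] {X : Scheme.{u}} [IsIntegral X] [X.Over (Spec (CommRingCat.of k))]
  [IsProper (X ↘ Spec (CommRingCat.of k))] [RegCurve X] (hdim : topologicalKrullDim X = 1)


theorem exists_iso_cubic (hg : Curv2.genus k X = 1) (x₀ : ZetaLib.ClosedPt X)
    (hP : (toPlace k hdim x₀).deg = 1) :
    ∃ (a₁ a₂ a₃ a₄ a₆ : k) (W : LefPen.Form 2 k 3),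
      (W : MvPolynomial (Fin 3) k) = cubic a₁ a₂ a₃ a₄ a₆ ∧
      ∃ e : X ≅ (LefPen.hypIdeal W).subscheme,
        e.hom ≫ (LefPen.hypIdeal W).subschemeι ≫ CohB1.ProjSpace.toSpec 2 k = X ↘ Spec (CommRingCat.of k) := by
  set P := toPlace k hdim x₀ with hPdef
  have hK : IsFunctionField k X.functionField := isFunctionField_of_place_deg_one (isFF k hdim) hP
  have hg' : genus k X.functionField = 1 := (genus_eq_genus k hdim hK).symm.trans hg
  obtain ⟨a₁, a₂, a₃, a₄, a₆, x, y, hx, hx2, hy, hy3, hW⟩ := exists_normal_form hK hg' hP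
  have hx0 : x ≠ 0 := fun e => by simp [e] at hx2
  have hy0 : y ≠ 0 := fun e => by simp [e] at hy3
  have hvx : P.1 x = exp (2 : ℤ) := by rw [FF.val_eq_exp_ord P hx0, hx2]; rfl
  have hvy : P.1 y = exp (3 : ℤ) := by rw [FF.val_eq_exp_ord P hy0, hy3]; rfl
  have hoff : ∀ Q : Place k X.functionField, Q ≠ P → Q.1 x ≤ 1 ∧ Q.1 y ≤ 1 := fun Q hQ => by
    constructor
    · have := hx Q; rwa [Finsupp.single_eq_of_ne hQ, exp_zero] at this
    · have := hy Q; rwa [Finsupp.single_eq_of_ne hQ, exp_zero] at this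
  let q : Fin 3 → X.functionField := ![x, y, 1]
  have hq : ∀ i, q i ≠ 0 := by intro i; fin_cases i <;> simp [q, hx0, hy0]
  have hqD : ∀ (Q : Place k X.functionField) (l : Fin 3), Q.1 (q l) ≤ exp (Finsupp.single P (3 : ℤ) Q) :=
    fun Q l => val_q_le hK hx hx2 hy hy3 l Q
  have hmax : ∀ Q : Place k X.functionField, ∃ j : Fin 3, Q.1 (q j) = exp (Finsupp.single P (3 : ℤ) Q) := by
    intro Q
    by_cases hQ : Q = P
    · exact ⟨1, by subst hQ; rw [Finsupp.single_eq_same]; exact hvy⟩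
    · exact ⟨2, by rw [Finsupp.single_eq_of_ne hQ, exp_zero]; exact map_one _⟩
  obtain ⟨r, hr, hri⟩ := exists_morph k hdim (q := q) hq fun z => by
    obtain ⟨j, hj⟩ := hmax (toPlace k hdim z)
    exact ⟨j, fun l => (hqD _ l).trans hj.ge⟩
  -- affineness of the charts
  have htr : ∀ {f : X.functionField}, P.ord f ≠ 0 → IsTransc k f := fun {f} hf =>
    (transc_iff k f).2 fun ha => hf (FF.ord_eq_zero_of_isAlgebraic P ha)
  have hAx := isAffineOpen_regLocus k (FFCurve.hv k hdim) hdim x (htr (by rw [hx2]; norm_num))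
  have hAx' := isAffineOpen_regLocus k (FFCurve.hv k hdim) hdim x⁻¹
    (htr (by rw [FF.ord_inv, hx2]; norm_num))
  have hAy' := isAffineOpen_regLocus k (FFCurve.hv k hdim) hdim y⁻¹
    (htr (by rw [FF.ord_inv, hy3]; norm_num))
  have hchart : ∀ (i : Fin 3) (V : X.Opens), genericPoint X ∈ V →
      (∀ z : ZetaLib.ClosedPt X, (∀ l, (toPlace k hdim z).1 (q l) ≤ (toPlace k hdim z).1 (q i)) ↔ z.1 ∈ V) →
      r ⁻¹ᵁ D k 2 i = V := fun i V hV h => by
    rw [(hri i).1]
    exact le_antisymm (opens_le_of_closedPt k hdim hV fun z hz => (h z).1 ((mem_ratioLocus_iff_val k hdim hq z).1 hz))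
      (opens_le_of_closedPt k hdim (genericPoint_mem_ratioLocus i)
        fun z hz => (mem_ratioLocus_iff_val k hdim hq z).2 ((h z).2 hz))
  have hsplit : ∀ Q : Place k X.functionField,
      (Q = P ∧ Q.1 x = exp (2 : ℤ) ∧ Q.1 y = exp (3 : ℤ)) ∨ (Q.1 x ≤ 1 ∧ Q.1 y ≤ 1) := fun Q => by
    by_cases hQ : Q = P
    · exact .inl ⟨hQ, hQ ▸ hvx, hQ ▸ hvy⟩
    · exact .inr (hoff Q hQ)
  have h3 : ∀ (Q : Place k X.functionField) (i : Fin 3), (∀ l, Q.1 (q l) ≤ Q.1 (q i)) ↔
      Q.1 x ≤ Q.1 (q i) ∧ Q.1 y ≤ Q.1 (q i) ∧ 1 ≤ Q.1 (q i) := fun Q i => by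
    rw [Fin.forall_fin_succ, Fin.forall_fin_succ, Fin.forall_fin_succ]
    simp [q]
  have h23 : ¬ (exp (3 : ℤ) ≤ exp (2 : ℤ)) := by rw [exp_le_exp]; norm_num
  have h21 : ¬ (exp (2 : ℤ) ≤ (1 : ℤᵐ⁰)) := by rw [← exp_zero, exp_le_exp]; norm_num
  have h03 : (1 : ℤᵐ⁰) ≤ exp (3 : ℤ) ∧ exp (2 : ℤ) ≤ exp (3 : ℤ) := by
    rw [← exp_zero, exp_le_exp, exp_le_exp]; norm_num
  have haff : ∀ i, IsAffineOpen (r ⁻¹ᵁ D k 2 i) := by
    haveI : X.IsSeparated :=
      ⟨by rw [← Limits.terminal.comp_from (X ↘ Spec (CommRingCat.of k))]; infer_instance⟩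
    intro i
    obtain rfl | rfl | rfl : i = 0 ∨ i = 1 ∨ i = 2 := by fin_cases i <;> simp
    · rw [hchart 0 (regLocus x ⊓ regLocus x⁻¹)
        ⟨genericPoint_mem_regLocus _, genericPoint_mem_regLocus _⟩ fun z => by
          rw [h3]
          change _ ↔ z.1 ∈ regLocus x ∧ z.1 ∈ regLocus x⁻¹
          rw [mem_regLocus_iff_val k hdim, mem_regLocus_inv_iff k hdim hx0]
          simp only [q, Matrix.cons_val_zero]
          rcases hsplit (toPlace k hdim z) with ⟨-, ex, ey⟩ | ⟨ex, ey⟩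
          · rw [ex, ey]; simp [h23, h21]
          · exact ⟨fun h => ⟨ex, h.2.2⟩, fun h => ⟨le_rfl, ey.trans h.2, h.2⟩⟩]
      exact hAx.inf hAx'
    · rw [hchart 1 (regLocus y⁻¹) (genericPoint_mem_regLocus _) fun z => by
          rw [h3, mem_regLocus_inv_iff k hdim hy0]
          simp only [q, Matrix.cons_val_one, Matrix.cons_val_zero]
          rcases hsplit (toPlace k hdim z) with ⟨-, ex, ey⟩ | ⟨ex, ey⟩
          · rw [ex, ey]; simp [h03]
          · exact ⟨fun h => h.2.2, fun h => ⟨ex.trans h, le_rfl, h⟩⟩]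
      exact hAy'
    · rw [hchart 2 (regLocus x) (genericPoint_mem_regLocus _) fun z => by
          rw [h3, mem_regLocus_iff_val k hdim]
          simp only [q, Matrix.cons_val, map_one]
          rcases hsplit (toPlace k hdim z) with ⟨-, ex, ey⟩ | ⟨ex, ey⟩
          · rw [ex, ey]; simp [h21]
          · exact ⟨fun h => h.1, fun h => ⟨h, ey, le_rfl⟩⟩]
      exact hAx
  have hη : ∀ i, genericPoint X ∈ r ⁻¹ᵁ D k 2 i := fun i => by
    rw [(hri i).1]; exact genericPoint_mem_ratioLocus i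
  have hdeh : ∀ (i : Fin 3) (N : ℕ) (F : LefPen.Form 2 k N),
      secK (r ⁻¹ᵁ D k 2 i) (hη i) (r.app (D k 2 i) (LefPen.dehom F i)) =
        MvPolynomial.aeval q (F : MvPolynomial (Fin 3) k) / q i ^ N := fun i N F => (hri i).2 N F _
  -- surjectivity on the charts
  have hsurj : ∀ i, Function.Surjective (r.app (D k 2 i)) := by
    intro i z
    set g := secK (r ⁻¹ᵁ D k 2 i) (hη i) z with hgdef
    obtain ⟨B, hB⟩ : ∃ B : ℕ, ∀ Q : Place k X.functionField, |Q.ord g| ≤ B := by
      classical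
      refine ⟨∑ Q ∈ (FF.finite_support_ord (isFF (X := X) k hdim) g).toFinset, (Q.ord g).natAbs, fun Q => ?_⟩
      by_cases hQ : Q.ord g = 0
      · rw [hQ, abs_zero]; exact Nat.cast_nonneg _
      · rw [Int.abs_eq_natAbs]
        exact_mod_cast Finset.single_le_sum (f := fun Q : Place k X.functionField => (Q.ord g).natAbs)
          (fun _ _ => Nat.zero_le _) ((Set.Finite.mem_toFinset _).2 hQ)
    set N := B + 1
    have hmem : g * q i ^ N ∈ L (Finsupp.single P (3 * (N : ℤ))) := fun Q => by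
      obtain ⟨w, rfl⟩ := toPlace_surjective k hdim Q
      set Q := toPlace k hdim w with hQdef
      have hs : Finsupp.single P (3 * (N : ℤ)) Q = (N : ℤ) * Finsupp.single P (3 : ℤ) Q := by
        classical
        rw [Finsupp.single_apply, Finsupp.single_apply]
        split_ifs <;> ring
      rw [hs, map_mul, map_pow]
      by_cases hw : w.1 ∈ r ⁻¹ᵁ D k 2 i
      · refine (mul_le_mul' (val_secK_le k hdim (hη i) z w hw) (pow_le_pow_left₀ zero_le (hqD Q i) _)).trans_eq ?_
        rw [one_mul, ← exp_nsmul, nsmul_eq_mul]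
      · have hlt : Q.1 (q i) < exp (Finsupp.single P (3 : ℤ) Q) := by
          refine (hqD Q i).lt_of_ne fun he => hw ?_
          rw [(hri i).1, mem_ratioLocus_iff_val k hdim hq]
          exact fun l => (hqD Q l).trans he.ge
        have hle := (FF.lt_exp_iff _ _).1 hlt
        rcases eq_or_ne g 0 with hg0 | hg0
        · simp [hg0]
        refine (mul_le_mul' (FF.val_eq_exp_ord Q hg0).le (pow_le_pow_left₀ zero_le hle _)).trans ?_
        rw [← exp_nsmul, ← exp_add, exp_le_exp, nsmul_eq_mul]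
        have := abs_le.1 (hB Q)
        push_cast [N]
        linarith
    obtain ⟨F, hF, hFg⟩ := exists_form hK hx hx2 hy hy3 hg' hP (Nat.le_add_left 1 B) hmem
    refine ⟨LefPen.dehom (⟨F, (MvPolynomial.mem_homogeneousSubmodule _ _).2 hF⟩ : LefPen.Form 2 k N) i,
      secK_injective _ (hη i) ?_⟩
    rw [hdeh, hFg, mul_div_assoc, div_self (pow_ne_zero _ (hq i)), mul_one]
  -- closed immersion
  haveI := ProjProper.Basic.isProper_toSpec 2 k
  haveI : IsClosedImmersion r := by
    let V : Fin 3 → (CohB1.ProjSpace 2 k).affineOpens := fun i => ⟨D k 2 i, isAffineOpen_D k 2 i⟩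
    rw [IsZariskiLocalAtTarget.iff_of_iSup_eq_top (P := @IsClosedImmersion) (fun i => (V i).1) (iSup_D k 2)]
    intro i
    haveI : IsAffine ↑(r ⁻¹ᵁ D k 2 i) := haff i
    haveI : IsAffine ↑(V i).1 := isAffineOpen_D k 2 i
    refine IsClosedImmersion.of_surjective_of_isAffine _ ?_
    have : ∀ U : (CohB1.ProjSpace 2 k).Opens, U = D k 2 i → Function.Surjective (r.app U) := by
      rintro U rfl
      exact hsurj i
    rw [morphismRestrict_appTop]
    exact (ConcreteCategory.bijective_of_isIso (X.presheaf.map _)).2.comp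
      (this _ (Scheme.Opens.ι_image_top _))
  -- the ideal
  let W : LefPen.Form 2 k 3 := ⟨cubic a₁ a₂ a₃ a₄ a₆,
    (MvPolynomial.mem_homogeneousSubmodule _ _).2 (isHomogeneous_cubic a₁ a₂ a₃ a₄ a₆)⟩
  have hker : r.ker = LefPen.hypIdeal W := by
    haveI : (CohB1.ProjSpace 2 k).IsSeparated := ⟨by
      rw [← Limits.terminal.comp_from (CohB1.ProjSpace.toSpec 2 k)]; infer_instance⟩
    refine ChartForms.ker_eq_hypIdeal r W (fun i => secK_injective _ (hη i) ?_) (fun i a ha => ?_)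
      (fun U V => U.2.inf V.2)
    · rw [hdeh, map_zero]
      exact div_eq_zero_iff.2 (.inl hW)
    · obtain ⟨Q, rfl⟩ := exists_eval₂ k 2 i a
      obtain ⟨N, F, hF, -, hFQ⟩ := ChartForms.exists_homogenise k 2 i Q
      have hFQ' := hFQ (const k 2 i) (ρ k 2 i) (ρ_self k 2 i)
      rw [← hFQ'] at ha ⊢
      let F' : LefPen.Form 2 k N := ⟨F, (MvPolynomial.mem_homogeneousSubmodule _ _).2 hF⟩
      have hd := ChartForms.dehom_eq k 2 F' i
      rw [← hd] at ha
      have h0 : MvPolynomial.aeval q F = 0 := by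
        have h := hdeh i N F'
        rw [ha, map_zero] at h
        exact (div_eq_zero_iff.1 h.symm).resolve_right (pow_ne_zero _ (hq i))
      obtain ⟨H, hH⟩ := dvd_of_aeval_eq_zero hK hx hx2 hy hy3 hg' hP hW hF h0
      rw [hH, map_mul, ← ChartForms.dehom_eq k 2 W i]
      exact Ideal.mul_mem_right _ _ (Ideal.mem_span_singleton_self _)
  refine ⟨a₁, a₂, a₃, a₄, a₆, W, rfl, ?_⟩
  have key : ∀ I, r.ker = I → ∃ e : X ≅ I.subscheme, e.hom ≫ I.subschemeι = r := by
    rintro I rfl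
    exact ⟨asIso r.toImage, r.toImage_imageι⟩
  obtain ⟨e, he⟩ := key _ hker
  exact ⟨e, by rw [reassoc_of% he]; exact hr⟩

end Groth.Agent.FFCurve.Weierstrass
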