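import Groth.Agent.FFCurve.RatPoint
import Groth.Agent.FFCurve.ChartForms

/-!
# The morphism to projective space given by rational functions on a curve
-/

set_option autoImplicit false

universe u

open CategoryTheory AlgebraicGeometry TopologicalSpace FunFld WithZero
open Groth.Agent.CurveCoh Groth.Agent.ProjMorph
open Groth.Agent.QCoh (rres)
open Groth.Agent.SepTang48 (D)

set_option linter.style.haveILetI false
set_option linter.unusedSectionVars false
set_option backward.isDefEq.respectTransparency false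
set_option backward.isDefEq.respectTransparency.types false

noncomputable section

namespace Groth.Agent.FFCurve

variable (k : Type u) [Field k] {X : Scheme.{u}} [IsIntegral X] [X.Over (Spec (CommRingCat.of k))]
  [IsProper (X ↘ Spec (CommRingCat.of k))] [RegCurve X] (hdim : topologicalKrullDim X = 1)
  {n : ℕ} (q : Fin (n + 1) → X.functionField)

local notation "𝒜" => CohB1.polyGrading n k

/-- Where all the ratios `q_l / q_i` are regular. -/
def ratioLocus (i : Fin (n + 1)) : X.Opens := Finset.univ.inf fun l => regLocus (q l / q i)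

variable {q}

lemma mem_ratioLocus {i : Fin (n + 1)} {z : X} :
    z ∈ ratioLocus q i ↔ ∀ l, IsReg (q l / q i) z := by
  rw [ratioLocus, ← SetLike.mem_coe, TopologicalSpace.Opens.coe_finset_inf, Finset.inf_set_eq_iInter,
    Set.mem_iInter₂]
  exact ⟨fun h l => h l (Finset.mem_univ l), fun h l _ => h l⟩

lemma genericPoint_mem_ratioLocus (i : Fin (n + 1)) : genericPoint X ∈ ratioLocus q i :=
  mem_ratioLocus.2 fun _ => genericPoint_mem_regLocus _

include hdim

lemma mem_ratioLocus_iff_val (hq : ∀ i, q i ≠ 0) {i : Fin (n + 1)} (z : ZetaLib.ClosedPt X) :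
    z.1 ∈ ratioLocus q i ↔ ∀ l, (toPlace k hdim z).1 (q l) ≤ (toPlace k hdim z).1 (q i) := by
  rw [mem_ratioLocus]
  refine forall_congr' fun l => ?_
  rw [← val_toPlace_le_one_iff k hdim z, map_div₀,
    div_le_one₀ (zero_lt_iff.2 ((Valuation.ne_zero_iff _).2 (hq i)))]

/-- The morphism given by rational functions. -/
theorem exists_morph (hq : ∀ i, q i ≠ 0)
    (hcov : ∀ z : ZetaLib.ClosedPt X, ∃ i, ∀ l, (toPlace k hdim z).1 (q l) ≤ (toPlace k hdim z).1 (q i)) :
    ∃ r : X ⟶ CohB1.ProjSpace n k,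
      r ≫ CohB1.ProjSpace.toSpec n k = X ↘ Spec (CommRingCat.of k) ∧
      ∀ i, r ⁻¹ᵁ D k n i = ratioLocus q i ∧
        ∀ (N : ℕ) (F : LefPen.Form n k N) (hη : genericPoint X ∈ r ⁻¹ᵁ D k n i),
          secK (r ⁻¹ᵁ D k n i) hη (r.app (D k n i) (LefPen.dehom F i)) =
            MvPolynomial.aeval q (F : MvPolynomial (Fin (n + 1)) k) / q i ^ N := by
  have hex : ∀ i l, ∃ s : Γ(X, ratioLocus q i),
      secK (ratioLocus q i) (genericPoint_mem_ratioLocus i) s = q l / q i := fun i l =>
    exists_secK_eq k hdim _ _ _ fun z hz => (val_toPlace_le_one_iff k hdim z _).2 (mem_ratioLocus.1 hz l)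
  choose c hc using hex
  let q₀ : k →+* Γ(X, ⊤) := ProjUP.toGlobal (X ↘ Spec (CommRingCat.of k))
  let f : ∀ i, MvPolynomial (Fin (n + 1)) k →+* Γ(X, ratioLocus q i) := fun i =>
    MvPolynomial.eval₂Hom ((rres (le_top : ratioLocus q i ≤ ⊤)).hom.comp q₀) (c i)
  have hfe : ∀ i (N : ℕ) (F : MvPolynomial (Fin (n + 1)) k), F.IsHomogeneous N →
      secK (ratioLocus q i) (genericPoint_mem_ratioLocus i) (f i F) =
        MvPolynomial.aeval q F / q i ^ N := by
    intro i N F hF
    rw [MvPolynomial.map_eval₂Hom, MvPolynomial.coe_eval₂Hom,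
      show (secK (ratioLocus q i) (genericPoint_mem_ratioLocus i)).comp
          ((rres (le_top : ratioLocus q i ≤ ⊤)).hom.comp q₀) = algebraMap k X.functionField from
        RingHom.ext fun b => secK_kMap k _ _ b,
      show (fun l => secK (ratioLocus q i) (genericPoint_mem_ratioLocus i) (c i l)) =
          fun l => (q i)⁻¹ * q l from funext fun l => by rw [hc, div_eq_inv_mul],
      eval₂_mul_of_isHomogeneous _ _ _ hF, inv_pow, div_eq_inv_mul]
    rfl
  have hX : ∀ i l, f i (MvPolynomial.X l) = c i l := fun i l => MvPolynomial.eval₂Hom_X' _ _ _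
  have hf1 : ∀ i, f i (MvPolynomial.X i) = 1 := fun i => by
    rw [hX]
    exact secK_injective _ (genericPoint_mem_ratioLocus i) (by rw [hc, map_one, div_self (hq i)])
  have hcov' : ⊤ ≤ iSup (ratioLocus q) := by
    refine opens_le_of_closedPt k hdim (Opens.mem_iSup.2 ⟨0, genericPoint_mem_ratioLocus 0⟩) fun z _ => ?_
    obtain ⟨i, hi⟩ := hcov z
    exact Opens.mem_iSup.2 ⟨i, (mem_ratioLocus_iff_val k hdim hq z).2 hi⟩
  have hinf : ∀ i j, ratioLocus q i ⊓ ratioLocus q j = X.basicOpen (f i (MvPolynomial.X j)) := by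
    intro i j
    rw [hX]
    ext z
    constructor
    · rintro ⟨hi, hj⟩
      rw [SetLike.mem_coe, Scheme.mem_basicOpen _ _ z hi]
      obtain ⟨b, hb⟩ := mem_ratioLocus.1 hj i
      refine IsUnit.of_mul_eq_one b (algebraMap_stalk_injective z ?_)
      rw [map_mul, algebraMap_germ_secK hi, hb, map_one]
      rw [hc, div_mul_div_cancel₀ (hq i), div_self (hq j)]
    · intro hz
      have hi : z ∈ ratioLocus q i := X.basicOpen_le _ hz
      rw [SetLike.mem_coe, Scheme.mem_basicOpen _ _ z hi] at hz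
      obtain ⟨w, hw⟩ := hz
      refine ⟨hi, mem_ratioLocus.2 fun l => ?_⟩
      obtain ⟨a, ha⟩ := mem_ratioLocus.1 hi l
      refine ⟨a * ((w⁻¹ : (X.presheaf.stalk z)ˣ) : X.presheaf.stalk z), ?_⟩
      rw [map_mul, map_units_inv, ha, hw, algebraMap_germ_secK hi]
      rw [hc, inv_div, div_mul_div_cancel₀ (hq i)]
  have hcoc : ∀ i j l, rres (inf_le_left : ratioLocus q i ⊓ ratioLocus q j ≤ ratioLocus q i)
      (f i (MvPolynomial.X l)) =
      rres (inf_le_left : ratioLocus q i ⊓ ratioLocus q j ≤ ratioLocus q i) (f i (MvPolynomial.X j)) *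
        rres (inf_le_right : ratioLocus q i ⊓ ratioLocus q j ≤ ratioLocus q j) (f j (MvPolynomial.X l)) := by
    intro i j l
    have hη : genericPoint X ∈ ratioLocus q i ⊓ ratioLocus q j :=
      ⟨genericPoint_mem_ratioLocus i, genericPoint_mem_ratioLocus j⟩
    refine secK_injective _ hη ?_
    rw [map_mul, hX, hX, hX]
    erw [secK_res, secK_res, secK_res]
    rw [hc, hc, hc, mul_comm, div_mul_div_cancel₀ (hq j)]
  obtain ⟨r, hr, hpre, hco⟩ := exists_glue_charts («𝒜» := CohB1.polyGrading n k) (X := X)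
    (MvPolynomial.X : Fin (n + 1) → MvPolynomial (Fin (n + 1)) k) (SepTang48.X_mem k n)
    MvPolynomial.adjoin_range_X q₀ (ratioLocus q) hcov' f
    (fun i => RingHom.ext fun b => MvPolynomial.eval₂Hom_C _ _ b) hf1 hinf hcoc
  refine ⟨r, hr.trans (toSpecΓ_toGlobal _), fun i => ⟨hpre i, fun N F hη => ?_⟩⟩
  have hu : IsUnit (f i (MvPolynomial.X i)) := by rw [hf1 i]; exact isUnit_one
  have hF : (F : MvPolynomial (Fin (n + 1)) k) ∈ 𝒜 (N • 1) := by rw [smul_eq_mul, mul_one]; exact F.2
  have h1 := RingHom.congr_fun (hco i (hpre i).ge)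
    (HomogeneousLocalization.Away.mk 𝒜 (LefPen.X_mem n k i) N F.1 hF)
  have h2 := liftAway_mk (f i) (g := MvPolynomial.X i) hu (LefPen.X_mem n k i) N F.1 hF
  rw [hf1 i, one_pow, mul_one] at h2
  rw [RingHom.comp_apply, h2] at h1
  refine (?_ : _ = secK (ratioLocus q i) (genericPoint_mem_ratioLocus i) (f i F.1)).trans
    (hfe i N _ ((MvPolynomial.mem_homogeneousSubmodule N _).1 F.2))
  rw [← h1]
  exact (secK_res (hpre i).ge (genericPoint_mem_ratioLocus i) _).symm

end Groth.Agent.FFCurve
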