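import Groth.Agent.FFCurve.Pic
import Groth.Agent.VBLib.Line

/-!
# Riemann–Roch for curves: degrees, genus, cohomology
-/

universe u

open CategoryTheory AlgebraicGeometry TopologicalSpace FunFld WithZero
open Groth.Agent.CurveCoh Groth.Agent.Props.GenLocus

set_option linter.style.haveILetI false
set_option backward.isDefEq.respectTransparency false
set_option backward.isDefEq.respectTransparency.types false

namespace Groth.Agent.FFCurve

variable {X : Scheme.{u}} [IsIntegral X]

lemma isInvertible_structureModule : PicF.IsInvertible (Coh.structureModule X) := fun _ =>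
  ⟨⊤, trivial, LFFrame.IsFrame.nonempty_restrict_iso
    ((isGen_iff_isFrame _).1 (Props.GenTensor.isGen_one (X := X) ⊤))⟩

variable (k : Type u) [Field k] [X.Over (Spec (CommRingCat.of k))]
  [IsProper (X ↘ Spec (CommRingCat.of k))] [RegCurve X] (hdim : topologicalKrullDim X = 1)
include hdim

/-- The divisor of a free module is principal. -/
lemma exists_divOf_of_gen {M : X.Modules} (hM : PicF.IsInvertible M) (e : Γ(M, ⊤)) (he : IsGen M ⊤ e) :
    ∃ c : X.functionField, c ≠ 0 ∧ divOf k hdim hM = div k c⁻¹ := by
  refine ⟨crd (triv hM) ⊤ trivial e, crd_gen_ne_zero _ he _, Finsupp.ext fun P => ?_⟩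
  obtain ⟨x, rfl⟩ := (placeEquiv k hdim).surjective P
  rw [div_apply' k hdim, FF.ord_inv]
  have h := val_gen' (triv hM) k hdim hM he x trivial
  change divOf k hdim hM (toPlace k hdim x) = -(toPlace k hdim x).ord _
  rw [FF.val_eq_exp_ord _ (crd_gen_ne_zero (triv hM) he trivial), exp_inj] at h
  exact h.symm

lemma exists_divOf_structureModule :
    ∃ c : X.functionField, c ≠ 0 ∧
      divOf k hdim (isInvertible_structureModule (X := X)) = div k c⁻¹ :=
  exists_divOf_of_gen k hdim _ _ (Props.GenTensor.isGen_one ⊤)

/-- If `H⁰(O) = k` then `k` is algebraically closed in the function field. -/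
lemma isFunctionField_of_h0 (h0 : Module.finrank k (Coh.HH X (Coh.structureModule X) 0) = 1) :
    IsFunctionField k X.functionField := by
  refine ⟨isFF k hdim, fun y hy => ?_⟩
  obtain ⟨e⟩ := exists_HH_zero_equiv (triv (isInvertible_structureModule (X := X))) k hdim isInvertible_structureModule
  obtain ⟨c, hc, hD⟩ := exists_divOf_structureModule (X := X) k hdim
  have hmem : ∀ z : X.functionField, (∀ P : Place k X.functionField, P.1 z ≤ 1) →
      z * c ∈ FunFld.L (divOf k hdim (isInvertible_structureModule (X := X))) := fun z hz P => by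
    rw [hD, div_apply' k hdim, FF.ord_inv, map_mul, FF.val_eq_exp_ord P hc]
    exact mul_le_of_le_one_left' (hz P)
  have hy1 : ∀ P : Place k X.functionField, P.1 y ≤ 1 := fun P => by
    rw [FF.val_le_one_iff, FF.ord_eq_zero_of_isAlgebraic P hy]
  have hf : Module.finrank k ↥(FunFld.L (divOf k hdim (isInvertible_structureModule (X := X)))) = 1 :=
    e.finrank_eq.symm.trans h0
  obtain ⟨r, hr⟩ := (finrank_eq_one_iff_of_nonzero' (⟨1 * c, hmem 1 fun P => (map_one P.1).le⟩ :
      ↥(FunFld.L (divOf k hdim (isInvertible_structureModule (X := X)))))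
    (fun h => hc (by have := congrArg Subtype.val h; simpa using this))).1 hf ⟨y * c, hmem y hy1⟩
  refine ⟨r, ?_⟩
  have h1 := congrArg Subtype.val hr
  change r • (1 * c) = y * c at h1
  rw [one_mul, Algebra.smul_def] at h1
  exact mul_right_cancel₀ hc h1

omit hdim in
lemma isFunctionField_of_isAlgClosed [IsAlgClosed k] (hdim : topologicalKrullDim X = 1) :
    IsFunctionField k X.functionField :=
  ⟨isFF k hdim, fun y hy => by
    have hroot := minpoly.aeval k y
    have hdeg := IsAlgClosed.degree_eq_one_of_irreducible k (minpoly.irreducible hy.isIntegral)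
    exact minpoly.mem_range_of_degree_eq_one k y hdeg⟩

variable (hK : IsFunctionField k X.functionField)
include hK

/-- The arithmetic genus is the genus of the function field. -/
theorem genus_eq_genus : Curv2.genus k X = genus k X.functionField := by
  obtain ⟨c, hc, hD⟩ := exists_divOf_structureModule (X := X) k hdim
  have h := (finrank_HH (triv (isInvertible_structureModule (X := X))) k hdim isInvertible_structureModule hK).2
  change (Curv2.genus k X : ℤ) = (genus k X.functionField : ℤ) - FF.spec (divOf k hdim isInvertible_structureModule) at h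
  rw [hD, show div k c⁻¹ = 0 + div k c⁻¹ from (zero_add _).symm, FF.spec_add_div hK (inv_ne_zero hc),
    FF.spec_zero hK, sub_zero] at h
  exact_mod_cast h

theorem finrank_zero {M : X.Modules} (hM : PicF.IsInvertible M) :
    Module.finrank k (Coh.HH X M 0) = ell (divOf k hdim hM) :=
  (finrank_HH (triv hM) k hdim hM hK).1

theorem finrank_one {M : X.Modules} (hM : PicF.IsInvertible M) :
    (Module.finrank k (Coh.HH X M 1) : ℤ) =
      (ell (divOf k hdim hM) : ℤ) - (divOf k hdim hM).deg - 1 + genus k X.functionField := by
  have h := (finrank_HH (triv hM) k hdim hM hK).2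
  rw [FF.spec] at h
  change _ = (genus k X.functionField : ℤ) - ((divOf k hdim hM).deg + 1 - (ell (divOf k hdim hM) : ℤ)) at h
  rw [h]; ring

theorem euler_eq_deg {M : X.Modules} (hM : PicF.IsInvertible M) :
    Curv2.euler k X M = (divOf k hdim hM).deg + 1 - genus k X.functionField := by
  haveI : M.IsQuasicoherent := ProjTwist.isQCoh_of_isInvertible hM
  rw [CurveCoh.euler_eq M (FFCurve.hv k hdim) hdim, finrank_zero k hdim hK hM, finrank_one k hdim hK hM]
  ring

/-- The degree is the degree of the divisor. -/
theorem deg_eq {M : X.Modules} (hM : PicF.IsInvertible M) :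
    Curv2.deg k X M 1 = (divOf k hdim hM).deg := by
  obtain ⟨c, hc, hD⟩ := exists_divOf_structureModule (X := X) k hdim
  rw [Curv2.deg, euler_eq_deg k hdim hK hM, euler_eq_deg k hdim hK (isInvertible_structureModule (X := X)),
    hD, FF.deg_div (isFF k hdim)]
  push_cast
  ring

omit hK in
theorem deg_divOf_iso {L M : X.Modules} (hL : PicF.IsInvertible L) (hM : PicF.IsInvertible M)
    (e : L ≅ M) : (divOf k hdim hM).deg = (divOf k hdim hL).deg := by
  obtain ⟨a, -, h⟩ := exists_div_of_iso k hdim hL hM e
  rw [h, FF.deg_sub, FF.deg_div (isFF k hdim), sub_zero]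

theorem subsingleton_HH_one {M : X.Modules} (hM : PicF.IsInvertible M)
    (h : 2 * (genus k X.functionField : ℤ) - 1 ≤ (divOf k hdim hM).deg) :
    Subsingleton (Coh.HH X M 1) := by
  haveI := CurveCoh.finite_HH_one (k := k) M (FFCurve.hv k hdim) hdim
    ⟨ProjTwist.isQCoh_of_isInvertible hM, (VBLib.isCoh_of_ofRank (VBLib.ofRank_one_of_invertible hM)).2⟩
  refine (Module.finrank_zero_iff (R := k)).1 ?_
  have := finrank_one k hdim hK hM
  rw [FF.ell_eq_of_deg_ge hK h] at this
  omega

end Groth.Agent.FFCurve
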