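import Groth.Agent.FFCurve.VeryAmple
import Groth.Agent.FFCurve.ChartForms
import Groth.Agent.ProjMorph.Gen
import Groth.Agent.PlanePts.Forms

/-! Forms vanishing on a curve in projective space, read in the function field. -/

universe u

open CategoryTheory CategoryTheory.Limits AlgebraicGeometry TopologicalSpace FunFld WithZero Opposite
open Groth.Agent.CurveCoh Groth.Agent.Props.GenLocus Groth.Agent.PullStalk.Sky
open Groth.Agent.QCoh Groth.Agent.ProjMorph Groth.Agent.Props.GenPull Groth.Agent.Props.ProjFrame Groth.Agent.SepTang48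

set_option autoImplicit false
set_option linter.style.haveILetI false
set_option linter.unusedSectionVars false
set_option backward.isDefEq.respectTransparency false
set_option backward.isDefEq.respectTransparency.types false

namespace Groth.Agent.FFCurve

variable {X : Scheme.{u}} [IsIntegral X] (k : Type u) [Field k] [X.Over (Spec (CommRingCat.of k))]
  [IsProper (X ↘ Spec (CommRingCat.of k))] [RegCurve X] (hdim : topologicalKrullDim X = 1)

/-- Coordinates in the function field whose vanishing on a form puts the curve on the hypersurface. -/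
theorem exists_coords {n : ℕ} (f : X ⟶ CohB1.ProjSpace n k)
    (hf : f ≫ CohB1.ProjSpace.toSpec n k = X ↘ Spec (CommRingCat.of k))
    (hL : PicF.IsInvertible (SepTang48.Lf f)) :
    ∃ q : Fin (n + 1) → X.functionField, (∀ j, q j ∈ FunFld.L (divOf k hdim hL)) ∧
      ∀ (d : ℕ) (G : LefPen.Form n k d),
        MvPolynomial.aeval q (G : MvPolynomial (Fin (n + 1)) k) = 0 → LefPen.hypIdeal G ≤ f.ker := by
  haveI : QuasiCompact f := by
    haveI : QuasiCompact (f ≫ CohB1.ProjSpace.toSpec n k) := hf ▸ inferInstance
    haveI := ProjProper.Basic.isProper_toSpec n k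
    exact QuasiCompact.of_comp f (CohB1.ProjSpace.toSpec n k)
  refine ⟨fun j => crd (triv hL) ⊤ trivial
    (ProjUP.pullSec f (Twist.twistProjSpace n k 1) (ProjUP.coord n k j)),
    fun j Q => by
      obtain ⟨y, rfl⟩ := (placeEquiv k hdim).surjective Q
      exact val_crd_le (triv hL) k hdim hL (W := ⊤) trivial _ y trivial, fun d G hG => ?_⟩
  have key : ∀ i, f.app (D k n i) (LefPen.dehom G i) = 0 := by
    intro i
    by_cases hη : genericPoint X ∈ f ⁻¹ᵁ D k n i
    · refine secK_injective _ hη ?_
      set c := crd (triv hL) (f ⁻¹ᵁ D k n i) hη (pb f (frame (X_mem k n i)))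
      have hc : c ≠ 0 := crd_gen_ne_zero _ (isGen_pb f (isGen_frame (X_mem k n i))) hη
      set φ : Γ(CohB1.ProjSpace n k, D k n i) →+* X.functionField :=
        (secK (f ⁻¹ᵁ D k n i) hη).comp (f.app (D k n i)).hom
      have hq : (fun j => c * φ (ρ k n i j)) = fun j => crd (triv hL) ⊤ trivial
          (ProjUP.pullSec f (Twist.twistProjSpace n k 1) (ProjUP.coord n k j)) := funext fun j => by
        rw [← crd_res (triv hL) (le_top : f ⁻¹ᵁ D k n i ≤ ⊤) hη,
          show res (Lf f) (le_top : f ⁻¹ᵁ D k n i ≤ ⊤) (ProjUP.pullSec f (Twist.twistProjSpace n k 1) (ProjUP.coord n k j)) =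
            f.app (D k n i) (ρ k n i j) • pb f (frame (X_mem k n i)) from res_pullSec f (X_mem k n i) (X_mem k n j),
          crd_smul, mul_comm]
        rfl
      have hconst : φ.comp (const k n i) = algebraMap k X.functionField := RingHom.ext fun a => by
        change secK _ _ (f.app (D k n i) (const k n i a)) = _
        rw [SepTang48.app_const hf]
        exact secK_kMap k _ _ a
      rw [map_zero]
      change φ (LefPen.dehom G i) = 0
      rw [ChartForms.dehom_eq, MvPolynomial.map_eval₂Hom, hconst]
      rw [MvPolynomial.aeval_def, ← hq,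
        eval₂_mul_of_isHomogeneous _ _ _ ((MvPolynomial.mem_homogeneousSubmodule _ _).1 G.2)] at hG
      exact (mul_eq_zero.1 hG).resolve_left (pow_ne_zero _ hc)
    · have hbot : f ⁻¹ᵁ D k n i = ⊥ := by
        by_contra h
        obtain ⟨x, hx⟩ := (Opens.ne_bot_iff_nonempty _).1 h
        exact hη (genericPoint_mem hx)
      haveI : Subsingleton Γ(X, f ⁻¹ᵁ D k n i) := by
        rw [hbot]; infer_instance
      exact Subsingleton.elim _ _
  let V : Fin (n + 1) → (CohB1.ProjSpace n k).affineOpens := fun i => ⟨D k n i, isAffineOpen_D k n i⟩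
  refine Scheme.IdealSheafData.le_of_iSup_eq_top V (iSup_D k n) fun i => ?_
  rw [Scheme.Hom.ker_apply]
  refine (Scheme.IdealSheafData.ideal_ofIdeals_le _ (V i)).trans ((iInf_le _ i).trans ?_)
  intro a ha
  rw [Ideal.mem_comap] at ha
  have hid : ∀ {A B : (CohB1.ProjSpace n k).Opens} (h₁ : B ≤ A) (h₂ : A ≤ B) (z : Γ(CohB1.ProjSpace n k, A)),
      (CohB1.ProjSpace n k).presheaf.map (homOfLE h₂).op ((CohB1.ProjSpace n k).presheaf.map (homOfLE h₁).op z) = z := by
    intro A B h₁ h₂ z
    rw [← ConcreteCategory.comp_apply, ← Functor.map_comp,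
      show (homOfLE h₁).op ≫ (homOfLE h₂).op = 𝟙 _ from Subsingleton.elim _ _, CategoryTheory.Functor.map_id]
    rfl
  let e : D k n i ⊓ D k n i = D k n i := inf_idem _
  have h := Ideal.mem_map_of_mem
    ((CohB1.ProjSpace n k).presheaf.map (homOfLE e.ge).op).hom ha
  rw [Ideal.map_span, Set.image_singleton] at h
  rw [hid, hid] at h
  obtain ⟨b, rfl⟩ := Ideal.mem_span_singleton'.1 h
  rw [RingHom.mem_ker, map_mul, key i, mul_zero]

/-- Products of `d` members of `L(D)` lie in `L(d D)`. -/
theorem aeval_mem_L {σ : Type*} {D : Divisor k X.functionField} (q : σ → X.functionField)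
    (hq : ∀ j, q j ∈ FunFld.L D) {d : ℕ} {p : MvPolynomial σ k} (hp : p.IsHomogeneous d) :
    MvPolynomial.aeval q p ∈ FunFld.L (d • D) := fun P => by
  classical
  rw [MvPolynomial.aeval_def, MvPolynomial.eval₂_eq]
  refine Valuation.map_sum_le _ fun m hm => ?_
  rw [map_mul, map_prod]
  have hd : m.degree = d := by
    have := hp (MvPolynomial.mem_support_iff.1 hm)
    rwa [Finsupp.degree_eq_weight_one]
  calc P.1 (algebraMap k _ (p.coeff m)) * ∏ i ∈ m.support, P.1 (q i ^ m i)
      ≤ 1 * ∏ i ∈ m.support, exp (D P) ^ m i := by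
        refine mul_le_mul' (P.2.1 _) (Finset.prod_le_prod' fun i _ => ?_)
        rw [map_pow]
        exact pow_le_pow_left₀ zero_le (hq i P) _
    _ = exp ((d • D) P) := by
        rw [one_mul, Finset.prod_pow_eq_pow_sum, ← Finsupp.degree_apply, hd, Finsupp.smul_apply, exp_nsmul]

/-- A homogeneous form vanishing at the coordinates, when there are more forms than functions. -/
theorem exists_forms {n d : ℕ} (q : Fin (n + 1) → X.functionField)
    {D : Divisor k X.functionField} (hq : ∀ j, q j ∈ FunFld.L D) [FiniteDimensional k (FunFld.L (d • D))]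
    [FiniteDimensional k (LefPen.Form n k d)] :
    ∃ N : Submodule k (LefPen.Form n k d),
      Module.finrank k (LefPen.Form n k d) ≤ Module.finrank k N + ell (d • D) ∧
      ∀ G ∈ N, MvPolynomial.aeval q (G : MvPolynomial (Fin (n + 1)) k) = 0 := by
  let Φ : LefPen.Form n k d →ₗ[k] FunFld.L (d • D) :=
    ((MvPolynomial.aeval q).toLinearMap.comp (MvPolynomial.homogeneousSubmodule (Fin (n + 1)) k d).subtype).codRestrict _
      fun G => aeval_mem_L k q hq ((MvPolynomial.mem_homogeneousSubmodule _ _).1 G.2)
  refine ⟨LinearMap.ker Φ, ?_, fun G hG => congrArg Subtype.val (LinearMap.mem_ker.1 hG)⟩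
  have h1 := LinearMap.finrank_range_add_finrank_ker Φ
  have h2 : Module.finrank k (LinearMap.range Φ) ≤ ell (d • D) := Submodule.finrank_le _
  omega

end Groth.Agent.FFCurve
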