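import Mathlib.AlgebraicGeometry.Morphisms.FlatRank
import Mathlib.AlgebraicGeometry.Morphisms.Etale
import Mathlib.AlgebraicGeometry.FunctionField
import Mathlib.LinearAlgebra.Dimension.Localization
import Mathlib.RingTheory.Etale.Field
import Mathlib.RingTheory.Smooth.Fiber
import Mathlib.RingTheory.Unramified.Locus

/-!
# Finite flat morphisms at the generic point
-/

universe u

open CategoryTheory CategoryTheory.Limits AlgebraicGeometry TopologicalSpace

set_option linter.style.haveILetI false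
set_option backward.isDefEq.respectTransparency false
set_option backward.isDefEq.respectTransparency.types false

namespace Groth.Agent.FFCurve.GenericRank

/-- On a domain the rank at a prime is the rank. -/
theorem rankAtStalk_eq_finrank {R : Type u} [CommRing R] [IsDomain R] (M : Type u) [AddCommGroup M]
    [Module R M] (p : PrimeSpectrum R) : Module.rankAtStalk M p = Module.finrank R M := by
  rw [Module.rankAtStalk, IsLocalization.finrank_eq (Localization.AtPrime p.asIdeal)
    p.asIdeal.primeCompl p.asIdeal.primeCompl_le_nonZeroDivisors]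
  exact congrArg Cardinal.toNat (IsLocalizedModule.rank_eq p.asIdeal.primeCompl
    p.asIdeal.primeCompl_le_nonZeroDivisors (LocalizedModule.mkLinearMap p.asIdeal.primeCompl M))

/-- The residue field at the generic point is the fraction field of an affine open. -/
theorem isFractionRing_evaluation {Y : Scheme.{u}} [IsIntegral Y] {U : Y.Opens} (hU : IsAffineOpen U)
    (y : Y) (hy : y = genericPoint Y) (hyU : y ∈ U) :
    letI := (Y.evaluation U y hyU).hom.toAlgebra
    IsFractionRing Γ(Y, U) (Y.residueField y) := by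
  subst hy
  haveI : Nonempty U := ⟨⟨_, hyU⟩⟩
  haveI := functionField_isFractionRing_of_isAffineOpen Y U hU
  letI := (Y.evaluation U _ hyU).hom.toAlgebra
  let e : Y.functionField ≃+* Y.residueField (genericPoint Y) :=
    RingEquiv.ofBijective (Y.residue (genericPoint Y)).hom
      ⟨RingHom.injective (R := Y.functionField) (Y.residue (genericPoint Y)).hom,
        Y.residue_surjective _⟩
  exact IsLocalization.isLocalization_of_algEquiv (nonZeroDivisors Γ(Y, U))
    (AlgEquiv.ofRingEquiv (f := e) fun _ => rfl)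

/-- The rank at a point of an affine open is the rank of the sections. -/
theorem finrank_app {X Y : Scheme.{u}} [IsIntegral Y] (f : X ⟶ Y) [IsFinite f] [Flat f] {U : Y.Opens}
    (hU : IsAffineOpen U) (y : Y) (hyU : y ∈ U) :
    letI := (f.app U).hom.toAlgebra
    f.finrank y = Module.finrank Γ(Y, U) Γ(X, f ⁻¹ᵁ U) := by
  have hW : IsAffineOpen (f ⁻¹ᵁ U) := hU.preimage f
  haveI : Nonempty U := ⟨⟨_, hyU⟩⟩
  letI : Algebra Γ(Y, U) Γ(X, f ⁻¹ᵁ U) := (f.app U).hom.toAlgebra
  haveI : Module.Finite Γ(Y, U) Γ(X, f ⁻¹ᵁ U) :=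
    RingHom.finite_algebraMap.1 (IsFinite.finite_app f U hU)
  haveI : Module.Flat Γ(Y, U) Γ(X, f ⁻¹ᵁ U) := by
    refine RingHom.flat_algebraMap_iff.1 ?_
    rw [RingHom.algebraMap_toAlgebra, Scheme.Hom.app_eq_appLE]
    exact f.flat_appLE hU hW le_rfl
  have hpb : IsPullback hW.fromSpec (Spec.map (f.app U)) f hU.fromSpec := by
    have hsq : Spec.map (f.app U) ≫ hU.fromSpec = hW.fromSpec ≫ f := by
      rw [Scheme.Hom.app_eq_appLE]; exact IsAffineOpen.SpecMap_appLE_fromSpec f hU hW le_rfl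
    refine IsPullback.of_iso (isPullback_morphismRestrict f U).flip hW.isoSpec (Iso.refl _)
      hU.isoSpec (Iso.refl _) ?_ ?_ (by simp) ?_
    · simp only [Iso.refl_hom, Category.comp_id, ← IsAffineOpen.isoSpec_inv_ι, Iso.hom_inv_id_assoc]
    · rw [← cancel_mono hU.fromSpec, Category.assoc, Category.assoc, hsq,
        ← IsAffineOpen.isoSpec_inv_ι, ← IsAffineOpen.isoSpec_inv_ι, Category.assoc,
        Iso.hom_inv_id_assoc, Iso.hom_inv_id_assoc]
      exact morphismRestrict_ι f U
    · rw [Iso.refl_hom, Category.comp_id, ← IsAffineOpen.isoSpec_inv_ι, Iso.hom_inv_id_assoc]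
  have hp := hU.fromSpec_primeIdealOf ⟨y, hyU⟩
  rw [show y = hU.fromSpec (hU.primeIdealOf ⟨y, hyU⟩) from hp.symm,
    ← Scheme.Hom.finrank_of_isPullback _ _ _ _ hpb]
  exact (Scheme.Hom.finrank_SpecMap_algebraMap _ _ _).trans (rankAtStalk_eq_finrank _ _)

variable {X Y : Scheme.{u}} [IsIntegral X] [IsIntegral Y] (f : X ⟶ Y) [IsFinite f] [Flat f]
  (hgen : f (genericPoint X) = genericPoint Y)
include hgen

/-- The rank at the generic point is the residue degree. -/
theorem finrank_genericPoint : f.finrank (genericPoint Y) = f.residueDegree (genericPoint X) := by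
  obtain ⟨_, ⟨U, hU, rfl⟩, hyU, -⟩ :=
    Y.isBasis_affineOpens.exists_subset_of_mem_open (Set.mem_univ (genericPoint Y)) isOpen_univ
  replace hyU : genericPoint Y ∈ U := hyU
  have hW : IsAffineOpen (f ⁻¹ᵁ U) := hU.preimage f
  have hxW : genericPoint X ∈ f ⁻¹ᵁ U := show f (genericPoint X) ∈ U by rw [hgen]; exact hyU
  haveI : Nonempty U := ⟨⟨_, hyU⟩⟩
  haveI : Nonempty (f ⁻¹ᵁ U : X.Opens) := ⟨⟨_, hxW⟩⟩
  letI : Algebra Γ(Y, U) Γ(X, f ⁻¹ᵁ U) := (f.app U).hom.toAlgebra
  haveI : Module.Finite Γ(Y, U) Γ(X, f ⁻¹ᵁ U) :=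
    RingHom.finite_algebraMap.1 (IsFinite.finite_app f U hU)
  haveI : Module.Flat Γ(Y, U) Γ(X, f ⁻¹ᵁ U) := by
    refine RingHom.flat_algebraMap_iff.1 ?_
    rw [RingHom.algebraMap_toAlgebra, Scheme.Hom.app_eq_appLE]
    exact f.flat_appLE hU hW le_rfl
  have h1 : f.finrank (genericPoint Y) = Module.finrank Γ(Y, U) Γ(X, f ⁻¹ᵁ U) :=
    finrank_app f hU (genericPoint Y) hyU
  letI aY := (Y.evaluation U (f (genericPoint X)) (show f (genericPoint X) ∈ U from hxW)).hom.toAlgebra
  letI aX := (X.evaluation (f ⁻¹ᵁ U) (genericPoint X) hxW).hom.toAlgebra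
  letI ar := (f.residueFieldMap (genericPoint X)).hom.toAlgebra
  letI ac : Algebra Γ(Y, U) (X.residueField (genericPoint X)) :=
    ((algebraMap Γ(X, f ⁻¹ᵁ U) (X.residueField (genericPoint X))).comp
      (algebraMap Γ(Y, U) Γ(X, f ⁻¹ᵁ U))).toAlgebra
  haveI : IsScalarTower Γ(Y, U) Γ(X, f ⁻¹ᵁ U) (X.residueField (genericPoint X)) :=
    IsScalarTower.of_algebraMap_eq fun _ => rfl
  haveI : IsScalarTower Γ(Y, U) (Y.residueField (f (genericPoint X))) (X.residueField (genericPoint X)) :=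
    IsScalarTower.of_algebraMap_eq fun a =>
      (Scheme.evaluation_naturality_apply f (genericPoint X) hxW a).symm
  haveI := isFractionRing_evaluation hU _ hgen hxW
  haveI := isFractionRing_evaluation hW _ rfl hxW
  rw [h1]
  exact (IsFractionRing.finrank_eq Γ(Y, U) (Y.residueField (f (genericPoint X))) Γ(X, f ⁻¹ᵁ U)
    (X.residueField (genericPoint X))).symm

variable [IsLocallyNoetherian Y]

/-- A separable extension at the generic point gives an étale open. -/
theorem exists_etale_open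
    (hsep : letI := (f.residueFieldMap (genericPoint X)).hom.toAlgebra
      Algebra.IsSeparable (Y.residueField (f (genericPoint X))) (X.residueField (genericPoint X))) :
    ∃ V : X.Opens, (V : Set X).Nonempty ∧ Etale (V.ι ≫ f) := by
  obtain ⟨_, ⟨U, hU, rfl⟩, hyU, -⟩ :=
    Y.isBasis_affineOpens.exists_subset_of_mem_open (Set.mem_univ (genericPoint Y)) isOpen_univ
  replace hyU : genericPoint Y ∈ U := hyU
  have hW : IsAffineOpen (f ⁻¹ᵁ U) := hU.preimage f
  have hxW : genericPoint X ∈ f ⁻¹ᵁ U := show f (genericPoint X) ∈ U by rw [hgen]; exact hyU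
  haveI : Nonempty (f ⁻¹ᵁ U : X.Opens) := ⟨⟨_, hxW⟩⟩
  letI : Algebra Γ(Y, U) Γ(X, f ⁻¹ᵁ U) := (f.app U).hom.toAlgebra
  haveI : Module.Finite Γ(Y, U) Γ(X, f ⁻¹ᵁ U) :=
    RingHom.finite_algebraMap.1 (IsFinite.finite_app f U hU)
  haveI : Module.Flat Γ(Y, U) Γ(X, f ⁻¹ᵁ U) := by
    refine RingHom.flat_algebraMap_iff.1 ?_
    rw [RingHom.algebraMap_toAlgebra, Scheme.Hom.app_eq_appLE]
    exact f.flat_appLE hU hW le_rfl
  haveI : IsNoetherianRing Γ(Y, U) := IsLocallyNoetherian.component_noetherian ⟨U, hU⟩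
  haveI : Algebra.FinitePresentation Γ(Y, U) Γ(X, f ⁻¹ᵁ U) :=
    Algebra.FinitePresentation.of_finiteType.1 inferInstance
  letI aY := (Y.evaluation U (f (genericPoint X)) (show f (genericPoint X) ∈ U from hxW)).hom.toAlgebra
  letI aX := (X.evaluation (f ⁻¹ᵁ U) (genericPoint X) hxW).hom.toAlgebra
  letI ar := (f.residueFieldMap (genericPoint X)).hom.toAlgebra
  letI ac : Algebra Γ(Y, U) (X.residueField (genericPoint X)) :=
    ((algebraMap Γ(X, f ⁻¹ᵁ U) (X.residueField (genericPoint X))).comp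
      (algebraMap Γ(Y, U) Γ(X, f ⁻¹ᵁ U))).toAlgebra
  haveI : IsScalarTower Γ(Y, U) Γ(X, f ⁻¹ᵁ U) (X.residueField (genericPoint X)) :=
    IsScalarTower.of_algebraMap_eq fun _ => rfl
  haveI : IsScalarTower Γ(Y, U) (Y.residueField (f (genericPoint X))) (X.residueField (genericPoint X)) :=
    IsScalarTower.of_algebraMap_eq fun a =>
      (Scheme.evaluation_naturality_apply f (genericPoint X) hxW a).symm
  haveI := isFractionRing_evaluation hU _ hgen hxW
  haveI := isFractionRing_evaluation hW _ rfl hxW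
  haveI : Algebra.IsSeparable (Y.residueField (f (genericPoint X))) (X.residueField (genericPoint X)) := hsep
  haveI : Algebra.FormallyUnramified Γ(Y, U) (Y.residueField (f (genericPoint X))) :=
    .of_isLocalization (nonZeroDivisors Γ(Y, U))
  haveI : Algebra.FormallyEtale (Y.residueField (f (genericPoint X))) (X.residueField (genericPoint X)) :=
    Algebra.FormallyEtale.of_isSeparable _ _
  haveI hun : Algebra.FormallyUnramified Γ(Y, U) (X.residueField (genericPoint X)) :=
    .comp _ (Y.residueField (f (genericPoint X))) _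
  haveI : IsLocalization (⊥ : Ideal Γ(X, f ⁻¹ᵁ U)).primeCompl (X.residueField (genericPoint X)) := by
    rw [show (⊥ : Ideal Γ(X, f ⁻¹ᵁ U)).primeCompl = nonZeroDivisors Γ(X, f ⁻¹ᵁ U) from
      Submonoid.ext fun a => mem_nonZeroDivisors_iff_ne_zero.symm]
    infer_instance
  haveI : Algebra.IsUnramifiedAt Γ(Y, U) (⊥ : Ideal Γ(X, f ⁻¹ᵁ U)) :=
    Algebra.FormallyUnramified.of_equiv ((IsLocalization.algEquiv (⊥ : Ideal Γ(X, f ⁻¹ᵁ U)).primeCompl
      (X.residueField (genericPoint X)) (Localization.AtPrime (⊥ : Ideal Γ(X, f ⁻¹ᵁ U)))).restrictScalars Γ(Y, U))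
  obtain ⟨g, hg, hgu⟩ := Algebra.exists_formallyUnramified_of_isUnramifiedAt (R := Γ(Y, U))
    (⊥ : Ideal Γ(X, f ⁻¹ᵁ U))
  refine ⟨X.basicOpen g, ?_, ?_⟩
  · rw [Set.nonempty_iff_ne_empty]
    intro h
    refine hg ((Submodule.mem_bot _).2 ?_)
    exact (basicOpen_eq_bot_iff g).1 (Opens.ext h)
  haveI := hgu
  haveI : Algebra.Etale Γ(Y, U) (Localization.Away g) :=
    haveI : Algebra.FinitePresentation Γ(X, f ⁻¹ᵁ U) (Localization.Away g) :=
      IsLocalization.Away.finitePresentation g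
    haveI : Algebra.FinitePresentation Γ(Y, U) (Localization.Away g) :=
      Algebra.FinitePresentation.trans Γ(Y, U) Γ(X, f ⁻¹ᵁ U) _
    haveI : Module.Flat Γ(X, f ⁻¹ᵁ U) (Localization.Away g) := IsLocalization.flat _ (Submonoid.powers g)
    haveI : Module.Flat Γ(Y, U) (Localization.Away g) := Module.Flat.trans Γ(Y, U) Γ(X, f ⁻¹ᵁ U) _
    .of_formallyUnramified_of_flat
  haveI := hW.isLocalization_basicOpen g
  letI ab : Algebra Γ(Y, U) Γ(X, X.basicOpen g) :=
    ((algebraMap Γ(X, f ⁻¹ᵁ U) Γ(X, X.basicOpen g)).comp (algebraMap Γ(Y, U) Γ(X, f ⁻¹ᵁ U))).toAlgebra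
  haveI : IsScalarTower Γ(Y, U) Γ(X, f ⁻¹ᵁ U) Γ(X, X.basicOpen g) :=
    IsScalarTower.of_algebraMap_eq fun _ => rfl
  haveI : Algebra.Etale Γ(Y, U) Γ(X, X.basicOpen g) :=
    .of_equiv ((IsLocalization.algEquiv (Submonoid.powers g) (Localization.Away g) _).restrictScalars Γ(Y, U))
  have hV := hW.basicOpen g
  have he : X.basicOpen g ≤ f ⁻¹ᵁ U := X.basicOpen_le g
  have hr : (f.appLE U (X.basicOpen g) he).hom.Etale := by
    have := RingHom.etale_algebraMap.2 (inferInstance : Algebra.Etale Γ(Y, U) Γ(X, X.basicOpen g))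
    convert this using 1
    rfl
  rw [← MorphismProperty.cancel_left_of_respectsIso @Etale hV.isoSpec.inv, ← Category.assoc,
    IsAffineOpen.isoSpec_inv_ι, ← IsAffineOpen.SpecMap_appLE_fromSpec f hU hV he]
  haveI : Etale (Spec.map (f.appLE U (X.basicOpen g) he)) :=
    (HasRingHomProperty.Spec_iff (P := @Etale)).2 hr
  infer_instance

end Groth.Agent.FFCurve.GenericRank
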