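import Groth.Agent.SGA1Quot.Finiteness
import Groth.Agent.SGA1Quot.BaseChange
import Groth.Agent.SGA1Quot.Orbits
import Groth.Agent.ASPurity.Invariants
import Groth.Agent.CurveCoh.Integral
import Groth.Agent.AlgSpD.EtaleTop
import Groth.Agent.AlgSp.SmoothFpqc
import Groth.Agent.FFCurve.Smooth
import Groth.Agent.FFCurve.GenericRank
import Groth.Agent.S4642
import Groth.Agent.NormalSec.Basic

/-!
# Quotients of smooth proper curves by finite groups
-/

set_option autoImplicit false
set_option linter.style.haveILetI false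
set_option linter.unusedSectionVars false
set_option synthInstance.maxHeartbeats 200000
set_option maxHeartbeats 1000000
set_option backward.isDefEq.respectTransparency false
set_option backward.isDefEq.respectTransparency.types false

universe u

open CategoryTheory CategoryTheory.Limits AlgebraicGeometry TopologicalSpace

namespace Groth.Agent.FFCurve.CurveQuotient

variable (k : Type u) [Field k] {X Y : Scheme.{u}} {G : Type u} [Group G] [Finite G]
  {ρ : G →* Aut X} {π : X ⟶ Y} (p : X ⟶ Spec (CommRingCat.of k)) [IsProper p] [Smooth p]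
  [GeometricallyConnected p] (q : Y ⟶ Spec (CommRingCat.of k)) (hπ : π ≫ q = p)
  (hquot : SGA1.IsQuot ρ π)

include hπ hquot

/-- The basic properties of the quotient of a curve. -/
theorem basic (hX : topologicalKrullDim ↥X = 1) :
    IsProper q ∧ GeometricallyConnected q ∧ IsIntegral X ∧ IsIntegral Y ∧ IsFinite π ∧
      topologicalKrullDim ↥Y = 1 ∧ ∀ y : Y, IsPrincipalIdealRing (Y.presheaf.stalk y) := by
  letI : X.Over (Spec (CommRingCat.of k)) := ⟨p⟩
  haveI : IsProper (X ↘ Spec (CommRingCat.of k)) := ‹IsProper p›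
  haveI : Smooth (X ↘ Spec (CommRingCat.of k)) := ‹Smooth p›
  haveI : GeometricallyConnected (X ↘ Spec (CommRingCat.of k)) := ‹GeometricallyConnected p›
  haveI hXi : IsIntegral X := CurveCoh.isIntegral_of_smooth k X
  obtain ⟨-, hsep, hfin, hft⟩ := SGA1Quot.affine_separated_finite_iff hquot p q hπ
  haveI hπfin : IsFinite π := hfin inferInstance
  obtain ⟨hlft, hqc⟩ := hft inferInstance inferInstance inferInstance
  haveI := hlft
  haveI := hqc
  haveI : IsSeparated q := hsep.1 inferInstance
  haveI : Surjective π := ⟨SGA1Quot.surjective hquot⟩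
  haveI : UniversallyClosed (π ≫ q) := by rw [hπ]; infer_instance
  haveI : UniversallyClosed q := UniversallyClosed.of_comp_surjective π q
  have hproper : IsProper q := { }
  have hgc : GeometricallyConnected q := by
    refine ⟨fun K _ y Z fst snd h => ?_⟩
    let e := (IsPullback.of_hasPullback π fst).paste_vert h
    haveI : ConnectedSpace ↥(pullback π fst) :=
      GeometricallyConnected.geometrically_connectedSpace (f := p) y _ _ (hπ ▸ e)
    haveI : Surjective (pullback.snd π fst) := MorphismProperty.pullback_snd _ _ inferInstance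
    exact (pullback.snd π fst).surjective.connectedSpace (pullback.snd π fst).continuous
  -- integrality
  haveI : IrreducibleSpace ↥Y := π.surjective.irreducibleSpace π.continuous
  haveI : IsReduced Y := ⟨fun U => isReduced_of_injective (π.app U).hom (hquot.injective U)⟩
  haveI hYi : IsIntegral Y := isIntegral_of_irreducibleSpace_of_isReduced Y
  -- dimension
  have hgen : π (genericPoint X) = genericPoint Y :=
    ((genericPoint_spec X).image π.continuous).eq (by
      rw [Set.image_univ, π.surjective.range_eq, closure_univ]; exact genericPoint_spec Y)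
  have hcl : ∀ y : Y, y ≠ genericPoint Y → IsClosed ({y} : Set Y) := fun y hy => by
    obtain ⟨x, rfl⟩ := π.surjective y
    have hx : x ≠ genericPoint X := fun e => hy (e ▸ hgen)
    simpa [Set.image_singleton] using
      π.isClosedMap _ (VarDim.isClosed_singleton_of_ne_genericPoint k hX hx)
  have hco : ∀ y : Y, Order.coheight y ≤ 1 := fun y => by
    refine Order.coheight_le_coe_iff.2 fun a ha => ?_
    have hay : a ⤳ y := ha.le
    have haη : a = genericPoint Y := by
      by_contra hne
      have := hay.mem_closed (hcl a hne) rfl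
      exact ha.ne this
    subst haη
    rw [Nat.cast_one, ENat.lt_one_iff_eq_zero, Order.coheight_eq_zero]
    intro b hb
    exact (genericPoint_specializes b : genericPoint Y ⤳ b)
  have hdim : topologicalKrullDim ↥Y = 1 := by
    refine le_antisymm ?_ ?_
    · rw [AlgSpD.topologicalKrullDim_eq_iSup]
      exact iSup_le fun y => by exact_mod_cast hco y
    · rw [← hX]; exact AlgSpD.topologicalKrullDim_le_of_lqf π
  refine ⟨hproper, hgc, hXi, hYi, hπfin, hdim, fun y => ?_⟩
  haveI : IsLocallyNoetherian Y := LocallyOfFiniteType.isLocallyNoetherian q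
  obtain ⟨_, ⟨U, hU, rfl⟩, hyU, -⟩ :=
    Y.isBasis_affineOpens.exists_subset_of_mem_open (Set.mem_univ y) isOpen_univ
  replace hyU : y ∈ U := hyU
  haveI : Nonempty U := ⟨⟨y, hyU⟩⟩
  have hW : IsAffineOpen (π ⁻¹ᵁ U) := hU.preimage π
  obtain ⟨x, hx⟩ := π.surjective y
  haveI : Nonempty (π ⁻¹ᵁ U : X.Opens) := ⟨⟨x, show π x ∈ U by rw [hx]; exact hyU⟩⟩
  have hB : IsIntegrallyClosed Γ(X, π ⁻¹ᵁ U) := by
    have hv := fun x => CurveCoh.valuationRing_stalk k X hX x
    refine NormalSec.isIntegrallyClosed_sections _ (fun z _ => ?_) (fun z _ => ?_) fun b hb z hz h0 =>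
      hb (germ_injective_of_isIntegral X z hz (h0.trans (map_zero _).symm))
    · infer_instance
    · haveI := hv z; exact inferInstance
  have hgood := SGA1Quot.good_of_isQuot hquot U
  letI := SGA1Quot.mulSemiringAction hquot.inv U
  letI : Algebra Γ(Y, U) Γ(X, π ⁻¹ᵁ U) := (π.app U).hom.toAlgebra
  haveI := SGA1Quot.smulCommClass (p := π) hquot.inv U
  haveI := SGA1Quot.isInvariant hgood
  haveI := hB
  haveI : IsIntegrallyClosed (FixedPoints.subring Γ(X, π ⁻¹ᵁ U) G) := ASPurity.isIntegrallyClosed_invariants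
  let e : Γ(Y, U) ≃+* FixedPoints.subring Γ(X, π ⁻¹ᵁ U) G :=
    RingEquiv.ofBijective ((algebraMap Γ(Y, U) Γ(X, π ⁻¹ᵁ U)).codRestrict (FixedPoints.subring Γ(X, π ⁻¹ᵁ U) G) fun a g => smul_algebraMap g a)
      ⟨fun a b h => hgood.1 (congrArg Subtype.val h), fun b => by
        obtain ⟨a, ha⟩ := Algebra.IsInvariant.isInvariant (A := Γ(Y, U)) b.1 b.2
        exact ⟨a, Subtype.ext ha⟩⟩
  haveI : IsIntegrallyClosed Γ(Y, U) := IsIntegrallyClosed.of_equiv e.symm
  let := TopCat.Presheaf.algebra_section_stalk Y.presheaf (⟨y, hyU⟩ : U)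
  haveI := hU.isLocalization_stalk ⟨y, hyU⟩
  haveI : IsIntegrallyClosed (Y.presheaf.stalk y) :=
    isIntegrallyClosed_of_isLocalization _ (hU.primeIdealOf ⟨y, hyU⟩).asIdeal.primeCompl
      (Ideal.primeCompl_le_nonZeroDivisors _)
  have hd : ringKrullDim (Y.presheaf.stalk y) ≤ 1 := by
    rw [ringKrullDim_stalk_eq_coheight]; exact_mod_cast hco y
  haveI : Ring.KrullDimLE 1 (Y.presheaf.stalk y) := Ring.krullDimLE_iff.2 (by exact_mod_cast hd)
  haveI : Ring.DimensionLEOne (Y.presheaf.stalk y) := ⟨fun h0 hp => hp.isMaximal_of_ne_bot h0⟩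
  haveI : IsDedekindDomain (Y.presheaf.stalk y) := { }
  by_cases hF : IsField (Y.presheaf.stalk y)
  · letI := hF.toField
    infer_instance
  · haveI : IsDiscreteValuationRing (Y.presheaf.stalk y) :=
      ((IsDiscreteValuationRing.TFAE (Y.presheaf.stalk y) hF).out 2 0 :).1 inferInstance
    infer_instance


omit hπ hquot in
/-- Smoothness over a field descends from a field extension. -/
theorem smooth_descend {K : Type u} [Field K] [Algebra k K] [LocallyOfFiniteType q]
    (h : Smooth (pullback.snd q (Spec.map (CommRingCat.ofHom (algebraMap k K))))) : Smooth q := by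
  refine (HasRingHomProperty.iff_of_iSup_eq_top (P := @Smooth) (fun V : Y.affineOpens => V)
    (iSup_affineOpens_eq_top Y)).2 fun V => ?_
  set φ := q.appLE ⊤ V.1 le_top
  refine (RingHom.Smooth.respectsIso.cancel_left_isIso (Scheme.ΓSpecIso (CommRingCat.of k)).inv φ).1 ?_
  algebraize [((Scheme.ΓSpecIso (CommRingCat.of k)).inv ≫ φ).hom]
  haveI : Algebra.FiniteType k Γ(Y, V.1) :=
    (q.finiteType_appLE (isAffineOpen_top _) V.2 le_top).comp
      (RingHom.FiniteType.of_surjective _
        (ConcreteCategory.bijective_of_isIso (Scheme.ΓSpecIso (CommRingCat.of k)).inv).2)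
  haveI : Algebra.FinitePresentation k Γ(Y, V.1) := Algebra.FinitePresentation.of_finiteType.mp inferInstance
  have hV : V.2.fromSpec ≫ q = Spec.map (CommRingCat.ofHom (algebraMap k Γ(Y, V.1))) := by
    have h1 := IsAffineOpen.SpecMap_appLE_fromSpec q (isAffineOpen_top (Spec (CommRingCat.of k))) V.2 le_top
    rw [← h1, IsAffineOpen.fromSpec_top, Scheme.isoSpec_Spec_inv, ← Spec.map_comp]
    rfl
  let j := Spec.map (CommRingCat.ofHom (algebraMap k K))
  haveI : Smooth (pullback.snd (V.2.fromSpec ≫ q) j) := by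
    rw [← pullbackRightPullbackFstIso_inv_snd_snd]
    infer_instance
  haveI : Smooth (pullback.snd (Spec.map (CommRingCat.ofHom (algebraMap k Γ(Y, V.1)))) j) := by
    rw [← hV]; infer_instance
  haveI : Smooth (pullback.fst j (Spec.map (CommRingCat.ofHom (algebraMap k Γ(Y, V.1))))) := by
    rw [← pullbackSymmetry_hom_comp_snd]; infer_instance
  have hs : Smooth (Spec.map (CommRingCat.ofHom (algebraMap K (TensorProduct k K Γ(Y, V.1))))) := by
    rw [← pullbackSpecIso_inv_fst' k K Γ(Y, V.1)]; infer_instance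
  rw [HasRingHomProperty.Spec_iff (P := @Smooth)] at hs
  haveI : Algebra.Smooth K (TensorProduct k K Γ(Y, V.1)) := RingHom.smooth_algebraMap.1 hs
  haveI : Algebra.FormallySmooth k Γ(Y, V.1) := AlgSp.SmoothFpqc.formallySmooth_descent K
  exact ⟨inferInstance, inferInstance⟩

/-- The quotient of a smooth proper curve by a finite group. -/
theorem main (hX : topologicalKrullDim ↥X = 1) (hρ : Function.Injective ρ)
    (hρk : ∀ g : G, (ρ g).hom ≫ p = p) :
    IsProper q ∧ Smooth q ∧ GeometricallyConnected q ∧ topologicalKrullDim ↥Y = 1 ∧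
      IsFinite π ∧ Flat π ∧ ∀ y : Y, π.finrank y = Nat.card G := by
  obtain ⟨h1, h2, hXi, hYi, h3, h4, h5⟩ := basic k p q hπ hquot hX
  haveI := h1
  haveI := hXi
  haveI := hYi
  haveI := h3
  have hsm : Smooth q := by
    let K := AlgebraicClosure k
    let j := Spec.map (CommRingCat.ofHom (algebraMap k K))
    haveI : Flat j := (HasRingHomProperty.Spec_iff (P := @Flat)).2 (RingHom.flat_algebraMap_iff.2 inferInstance)
    let act : G → (pullback p j ⟶ pullback p j) := fun g =>
      pullback.map p j p j (ρ g).hom (𝟙 _) (𝟙 _) (by rw [Category.comp_id, hρk]) (by simp)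
    have hact1 : act 1 = 𝟙 _ := by apply pullback.hom_ext <;> simp [act] <;> rfl
    have hactm : ∀ a b, act (a * b) = act b ≫ act a := fun a b => by
      apply pullback.hom_ext <;> simp [act, Aut.Aut_mul_def]
    let ρ' : G →* Aut (pullback p j) :=
      { toFun := fun g => ⟨act g, act g⁻¹, by rw [← hactm, inv_mul_cancel, hact1], by rw [← hactm, mul_inv_cancel, hact1]⟩
        map_one' := Iso.ext hact1
        map_mul' := fun a b => Iso.ext (hactm a b) }
    let π' : pullback p j ⟶ pullback q j :=
      pullback.map p j q j π (𝟙 _) (𝟙 _) (by rw [Category.comp_id, hπ]) (by simp)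
    have hsq : IsPullback (pullback.fst p j) π' π (pullback.fst q j) := by
      refine IsPullback.of_bot ?_ (by simp [π']) (IsPullback.of_hasPullback q j)
      convert IsPullback.of_hasPullback p j using 1
      simp [π']
    have hquot' : SGA1.IsQuot ρ' π' := by
      refine SGA1Quot.isQuot_baseChange hquot (pullback.fst q j) (pullback.fst p j) π' hsq ρ'
        (fun g => by simp [ρ', act]) fun g => ?_
      apply pullback.hom_ext <;> simp [ρ', act, π', hquot.inv]
    have hdim' : topologicalKrullDim ↥(pullback p j) = 1 := (S4642.result (K := K) p).trans hX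
    obtain ⟨g1, -, -, g2, -, -, g5⟩ := basic K (pullback.snd p j) (pullback.snd q j) (by simp [π']) hquot' hdim'
    haveI := g1
    haveI := g2
    refine smooth_descend k q (K := K) (smooth_of_regular _ fun y => ?_)
    haveI := g5 y
    infer_instance
  haveI : IsLocallyNoetherian Y := LocallyOfFiniteType.isLocallyNoetherian q
  have hflat : Flat π := by
    refine Flat.of_stalkMap π fun x => ?_
    haveI := h5 (π x)
    algebraize [(π.stalkMap x).hom]
    rw [← RingHom.algebraMap_toAlgebra (π.stalkMap x).hom, RingHom.flat_algebraMap_iff]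
    have hinj : Function.Injective (algebraMap (Y.presheaf.stalk (π x)) (X.presheaf.stalk x)) := by
      show Function.Injective (π.stalkMap x).hom
      refine (injective_iff_map_eq_zero _).2 fun a ha => ?_
      obtain ⟨U, hU, s, rfl⟩ := TopCat.Presheaf.exists_germ_eq Y.presheaf (t := a)
      rw [Scheme.Hom.germ_stalkMap_apply] at ha
      have := germ_injective_of_isIntegral X x hU (ha.trans (map_zero _).symm)
      rw [hquot.injective U (this.trans (map_zero _).symm), map_zero]
    haveI : Module.IsTorsionFree (Y.presheaf.stalk (π x)) (X.presheaf.stalk x) :=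
      Module.isTorsionFree_iff_algebraMap_injective.2 hinj
    infer_instance
  refine ⟨h1, hsm, h2, h4, h3, hflat, fun y => ?_⟩
  haveI := hflat
  obtain ⟨_, ⟨U, hU, rfl⟩, hyU, -⟩ :=
    Y.isBasis_affineOpens.exists_subset_of_mem_open (Set.mem_univ y) isOpen_univ
  replace hyU : y ∈ U := hyU
  haveI : Nonempty U := ⟨⟨y, hyU⟩⟩
  rw [GenericRank.finrank_app π hU y hyU]
  obtain ⟨x, hx⟩ := SGA1Quot.surjective hquot y
  haveI : Nonempty (π ⁻¹ᵁ U : X.Opens) := ⟨⟨x, show π x ∈ U by rw [hx]; exact hyU⟩⟩
  letI := SGA1Quot.mulSemiringAction hquot.inv U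
  letI : Algebra Γ(Y, U) Γ(X, π ⁻¹ᵁ U) := (π.app U).hom.toAlgebra
  haveI : IsAffine (π ⁻¹ᵁ U : X.Opens).toScheme := hU.preimage π
  haveI : Nonempty ((π ⁻¹ᵁ U : X.Opens).toScheme) := ⟨⟨x, show π x ∈ U by rw [hx]; exact hyU⟩⟩
  haveI : IsDominant (π ⁻¹ᵁ U).ι := by
    rw [isDominant_iff, DenseRange, Scheme.Opens.range_ι]
    exact (π ⁻¹ᵁ U).2.dense ⟨x, show π x ∈ U by rw [hx]; exact hyU⟩
  haveI : FaithfulSMul Γ(Y, U) Γ(X, π ⁻¹ᵁ U) := (faithfulSMul_iff_algebraMap_injective _ _).2 (hquot.injective U)
  haveI : IsGaloisGroup G Γ(Y, U) Γ(X, π ⁻¹ᵁ U) :=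
    { faithful := ⟨fun {a b} hab => inv_injective (hρ (Iso.ext (by
        refine ext_of_isDominant_of_isSeparated p (by rw [hρk, hρk]) (π ⁻¹ᵁ U).ι ?_
        have e := fun g => (ρ g).hom.resLE_comp_ι (SGA1.preimage_le_of_inv ρ π hquot.inv g U)
        rw [← e, ← e]
        congr 1
        refine ext_of_isAffine ?_
        simp only [Scheme.Hom.appTop, Scheme.Hom.resLE_app_top]
        congr 2
        exact CommRingCat.hom_ext (RingHom.ext fun s => hab s))))⟩
      commutes := SGA1Quot.smulCommClass hquot.inv U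
      isInvariant := SGA1Quot.isInvariant (SGA1Quot.good_of_isQuot hquot U) }
  exact (IsGaloisGroup.card_eq_finrank' G Γ(Y, U) Γ(X, π ⁻¹ᵁ U)).symm

end Groth.Agent.FFCurve.CurveQuotient
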