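import Groth.Agent.EquidimPt.DimSum
import Groth.Agent.VarDim.Scheme
import Groth.Agent.S0566
import Groth.Agent.S4710
import Groth.Agent.S7683
import Groth.Agent.Nagata.FiniteType
import Groth.Prelude.Def_Curv2

/-!
# Local rings of curves at closed points
-/

set_option autoImplicit false
set_option linter.style.haveILetI false
set_option backward.isDefEq.respectTransparency false
set_option backward.isDefEq.respectTransparency.types false

universe u
open CategoryTheory AlgebraicGeometry

namespace Groth.Agent.FFCurve.CurveStalk

theorem ringKrullDim_stalk_eq_one {X : Scheme.{u}}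
    (hequi : ∀ Z ∈ irreducibleComponents (X : Type u), topologicalKrullDim Z = 1)
    (x : X) (hx : IsClosed ({x} : Set X)) : ringKrullDim (X.presheaf.stalk x) = 1 := by
  rw [ringKrullDim_stalk_eq_coheight, WithBot.coe_eq_one]
  refine le_antisymm ?_ ?_
  · have h := (Order.coheight_le_krullDim (a := x)).trans
      ((Order.krullDim_eq_of_orderIso irreducibleSetEquivPoints).symm.trans_le
        (EquidimPt.topDim_le_of_components fun Z hZ => (hequi Z hZ).le))
    exact_mod_cast h
  · rw [Order.one_le_iff_pos, Order.coheight_pos]
    intro hmax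
    have hmem : ({x} : Set X) ∈ irreducibleComponents (X : Type u) := by
      have := FlatOpen.EquiDim.closure_mem_irreducibleComponents (X := X) (x := x) fun z hz => by
        exact (Inseparable.eq (Specializes.antisymm hz (show x ⤳ z from hmax (show x ≤ z from hz))))
      rwa [hx.closure_eq] at this
    have h1 := hequi _ hmem
    haveI : Subsingleton (TopologicalSpace.IrreducibleCloseds ↥({x} : Set X)) := ⟨fun a b =>
      TopologicalSpace.IrreducibleCloseds.ext (by
        rw [a.isIrreducible.nonempty.eq_univ, b.isIrreducible.nonempty.eq_univ])⟩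
    have h0 : topologicalKrullDim ↥({x} : Set X) ≤ 0 := Order.krullDim_nonpos_of_subsingleton
    rw [h1] at h0
    exact absurd h0 (by decide)

theorem isNagata_stalk (k : Type u) [Field k] (X : Scheme.{u}) [X.Over (Spec (CommRingCat.of k))]
    [LocallyOfFiniteType (X ↘ (Spec (CommRingCat.of k)))] (x : X) : CAlg.IsNagata (X.presheaf.stalk x) := by
  obtain ⟨U, hU, hxU, -⟩ := exists_isAffineOpen_mem_and_subset (x := x) (U := ⊤) trivial
  letI := Groth.Agent.VarDim.secAlgebra k X U
  haveI := Groth.Agent.VarDim.finiteType_sections k hU
  letI := X.presheaf.algebra_section_stalk ⟨x, hxU⟩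
  haveI := hU.isLocalization_stalk ⟨x, hxU⟩
  set p := (hU.primeIdealOf ⟨x, hxU⟩).asIdeal
  have hN : CAlg.IsNagata (Localization p.primeCompl) :=
    Groth.Agent.S4710.result _ (Groth.Agent.S0566.result k (S7683.isNagata_field k) Γ(X, U)) _
  let e : Localization p.primeCompl →+* X.presheaf.stalk x :=
    (IsLocalization.algEquiv p.primeCompl (Localization p.primeCompl) (X.presheaf.stalk x)).toRingEquiv.toRingHom
  exact Nagata.FiniteType.isNagata_of_surjective e (RingEquiv.surjective _) hN

end Groth.Agent.FFCurve.CurveStalk
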