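import Groth.Agent.VBLib.GenusZero
import Groth.Agent.VBLib.RR

/-!
# An effective divisor of degree one forces constants
-/

universe u

open CategoryTheory Limits AlgebraicGeometry
open Groth.Agent.Props.GenLocus

set_option linter.style.haveILetI false
set_option backward.isDefEq.respectTransparency false

namespace Groth.Agent.FFCurve

theorem h0_eq_one_of_deg_one (k : Type u) [Field k] {X : Scheme.{u}} [X.Over (Spec (CommRingCat.of k))]
    [IsIntegral X] [IsProper (X ↘ Spec (CommRingCat.of k))] (hdim : topologicalKrullDim X = 1)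
    {L : X.Modules} (hL : PicF.IsInvertible L) (hs : Nontrivial (Coh.HH X L 0))
    (hdeg : Curv2.deg k X L 1 = 1) :
    Module.finrank k (Coh.HH X (Coh.structureModule X) 0) = 1 := by
  obtain ⟨y, hy⟩ := exists_ne (0 : Coh.HH X L 0)
  set s := VBLib.GenusZero.toSec L y
  have hs0 : s ≠ 0 := fun h => hy ((VBLib.GenusZero.toSec L).map_eq_zero_iff.mp h)
  have hf : homOfSec s ≠ 0 := by
    intro h
    apply hs0
    refine Eq.trans ((Groth.Agent.QCoh.res_self L _ _).symm.trans (sec_homOfSec s ⊤).symm) ?_
    rw [h]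
    rfl
  have hO : PicF.IsInvertible (Coh.structureModule X) := LFFrame.isInvertible_structureModule X
  obtain ⟨hm, hC, hd⟩ := VBLib.GenusZero.cokernel_props k hO hL (homOfSec s) hf hdim
  haveI := hm
  haveI := EulerChar.finite_HH k (cokernel (homOfSec s)) hC 0
  have hS := VBLib.GenusZero.shortExact_cokernel (homOfSec s)
  have hc1 : Module.finrank k (Coh.HH X (cokernel (homOfSec s)) 0) = 1 := by
    have h : Curv2.deg k X L 1 = (Module.finrank k (Coh.HH X (cokernel (homOfSec s)) 0) : ℤ) := by
      rw [Curv2.deg, EulerChar.euler_add' k (homOfSec s) (cokernel.π _) (cokernel.condition _) hS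
        (VBLib.GenusZero.isCoh_of_invertible hO) (VBLib.GenusZero.isCoh_of_invertible hL) hC,
        EulerChar.euler_eq_finrank_of_support k hC hd]
      push_cast
      ring
    omega
  haveI := Module.nontrivial_of_finrank_pos (R := k) (M := Coh.HH X (cokernel (homOfSec s)) 0) (by omega)
  obtain ⟨v, hv⟩ := exists_ne (0 : Coh.HH X (cokernel (homOfSec s)) 0)
  have hfield : IsField (Coh.Γtop X) := AlgebraicGeometry.isField_of_universallyClosed (K := k) (X ↘ Spec (CommRingCat.of k))
  haveI := hfield.nontrivial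
  refine VBLib.finrank_H0_structure_eq_one ⟨(Coh.toGlobal (X ↘ Spec (CommRingCat.of k))).injective, fun a => ?_⟩
  obtain ⟨c, hc⟩ := (finrank_eq_one_iff_of_nonzero' v hv).1 hc1 (a • v)
  refine ⟨c, ?_⟩
  by_contra hne
  obtain ⟨b, hb⟩ := hfield.mul_inv_cancel (sub_ne_zero.2 (Ne.symm hne) :
    a - Coh.toGlobal (X ↘ Spec (CommRingCat.of k)) c ≠ 0)
  have h0 : (a - Coh.toGlobal (X ↘ Spec (CommRingCat.of k)) c) • v = 0 := by
    rw [sub_smul, sub_eq_zero]
    exact hc.symm
  refine hv ?_
  have h1 := congrArg (b • ·) h0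
  simp only [smul_smul, hfield.mul_comm b, hb, one_smul, smul_zero] at h1
  exact h1

end Groth.Agent.FFCurve
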