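import Groth.Agent.FF.Linear
import Groth.Agent.FFCurve.Special

/-!
# Separating special divisors of degree six with four sections

`canonical_of_sep`: a divisor `D` of degree `6` with `ℓ(D) ≥ 4`, separating any two places and special
is canonical, and the genus is four.
-/

set_option autoImplicit false
set_option linter.style.haveILetI false
set_option linter.unusedSectionVars false

open FunFld WithZero

namespace Groth.Agent.FF

variable {k K : Type*} [Field k] [Field K] [Algebra k K] [IsAlgClosed k]
variable (hK : IsFunctionField k K)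

include hK

lemma exists_place_pos {D : Divisor k K} (h : 0 < D.deg) : ∃ P : Place k K, 1 ≤ D P := by
  by_contra! hc
  have hD : D ≤ 0 := fun P => by
    have := hc P
    simp only [Finsupp.coe_zero, Pi.zero_apply]
    omega
  have := deg_mono hD
  rw [deg_zero'] at this
  omega

/-- `ℓ(D) + ℓ(E) ≤ ℓ(D ⊓ E) + ℓ(D ⊔ E)`. -/
lemma ell_add_ell_le_inf_sup (D E : Divisor k K) : ell D + ell E ≤ ell (D ⊓ E) + ell (D ⊔ E) := by
  haveI := finiteDimensional_L hK D
  haveI := finiteDimensional_L hK E
  haveI := finiteDimensional_L hK (D ⊓ E)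
  haveI := finiteDimensional_L hK (D ⊔ E)
  have h := Submodule.finrank_sup_add_finrank_inf_eq (L D) (L E)
  have h1 : Module.finrank k ↥(L D ⊔ L E) ≤ ell (D ⊔ E) :=
    Submodule.finrank_mono (sup_le (L_mono le_sup_left) (L_mono le_sup_right))
  have h2 : Module.finrank k ↥(L D ⊓ L E) ≤ ell (D ⊓ E) := by
    refine Submodule.finrank_mono fun x hx P => ?_
    rw [Finsupp.inf_apply]
    rcases le_total (D P) (E P) with e | e
    · rw [inf_eq_left.2 e]; exact hx.1 P
    · rw [inf_eq_right.2 e]; exact hx.2 P
  simp only [ell] at *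
  omega

/-- The base point free pencil trick. -/
lemma two_mul_ell_le {G D : Divisor k K} {x : K} (hx : x ≠ 0) (hxG : x ∈ L G)
    (hval : ∀ P : Place k K, 0 < G P → P.1 x = exp (G P)) (hnn : 0 ≤ G) :
    2 * ell D ≤ ell (D + G) + ell (D - G) := by
  haveI := finiteDimensional_L hK D
  haveI := finiteDimensional_L hK (D + G)
  haveI := finiteDimensional_L hK (D - G)
  let m : K →ₗ[k] K := LinearMap.mulLeft k x
  have hm : Function.Injective m := fun a b h => mul_left_cancel₀ hx h
  let B := (L D).map m
  have hB : Module.finrank k B = ell D := (Submodule.equivMapOfInjective m hm (L D)).finrank_eq.symm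
  have h := Submodule.finrank_sup_add_finrank_inf_eq (L D) B
  have h2 : Module.finrank k ↥(L D ⊓ B) ≤ ell (D - G) := by
    have hle : L D ⊓ B ≤ (L (D - G)).map m := by
      rintro y ⟨hy, a, ha, rfl⟩
      refine ⟨a, fun P => ?_, rfl⟩
      rw [Finsupp.sub_apply]
      rcases lt_or_ge 0 (G P) with hP | hP
      · have h' : P.1 (x * a) ≤ exp (D P) := hy P
        rw [map_mul, hval P hP] at h'
        refine le_of_mul_le_mul_left ?_ (exp_pos (a := G P))
        rw [← exp_add]
        exact h'.trans_eq (by rw [show G P + (D P - G P) = D P by ring])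
      · exact (ha P).trans (exp_le_exp.2 (by omega))
    exact (Submodule.finrank_mono hle).trans_eq (Submodule.equivMapOfInjective m hm _).finrank_eq.symm
  have h3 : Module.finrank k ↥(L D ⊔ B) ≤ ell (D + G) := by
    refine Submodule.finrank_mono (sup_le (L_mono (le_add_of_nonneg_right hnn)) ?_)
    rintro _ ⟨a, ha, rfl⟩ P
    change P.1 (x * a) ≤ _
    rw [map_mul, Finsupp.add_apply, add_comm (D P), exp_add]
    exact mul_le_mul' (hxG P) (ha P)
  simp only [ell] at *
  omega

/-- A separating special divisor of degree six with four sections is canonical, in genus four. -/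
theorem canonical_of_sep {C D : Divisor k K} (hC : IsCanonical k K C) (hd : D.deg = 6) (hl : 4 ≤ ell D)
    (hsp : 0 < ell (C - D))
    (hsep : ∀ P Q : Place k K, ell (D - Finsupp.single P 1 - Finsupp.single Q 1) + 2 = ell D) :
    genus k K = 4 ∧ ∃ z : K, z ≠ 0 ∧ C = D + div k z := by
  classical
  have hdeg : ∀ P : Place k K, P.deg = 1 := fun P => deg_eq_one hK P
  obtain ⟨P₀⟩ := nonempty_place hK.1
  obtain ⟨w, hw, hE⟩ := exists_nonneg_equiv hK hsp
  have hCd := deg_canonical hK hC
  set E := C - D + div k w
  have hEd : E.deg = 2 * (genus k K : ℤ) - 2 - 6 := by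
    rw [deg_add, deg_sub, deg_div hK.1, hCd, hd]; ring
  have hE0 : (0 : ℤ) ≤ E.deg := deg_nonneg hE
  have hl4 : ell D = 4 := by
    have := clifford hK (hdeg P₀) (D := D) (by omega) (by omega)
    omega
  rcases eq_or_lt_of_le hE0 with he | he
  · refine ⟨by omega, w⁻¹, inv_ne_zero hw, ?_⟩
    have hE' : E = 0 := by
      refine le_antisymm (fun P => ?_) hE
      by_contra hP
      simp only [Finsupp.coe_zero, Pi.zero_apply, not_le] at hP
      have hle : Finsupp.single P 1 ≤ E := fun Q => by
        rw [Finsupp.single_apply]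
        split_ifs with e
        · subst e; omega
        · exact hE Q
      have h := deg_mono hle
      rw [deg_single, hdeg] at h
      push_cast at h
      omega
    rw [div_inv hK.1, ← sub_eq_zero, ← hE']
    simp only [E]
    abel
  exfalso
  obtain ⟨P, hP⟩ := exists_place_pos hK he
  obtain ⟨Q, hQ⟩ : ∃ Q : Place k K, Q ∉ insert P E.support := by
    exact FFCurve.exists_place_not_mem hK _
  rw [Finset.mem_insert, not_or, Finsupp.notMem_support_iff] at hQ
  have hlt : 0 < ell (D - Finsupp.single P 1 - Finsupp.single Q 1) := by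
    have := hsep P Q; omega
  obtain ⟨a, ha, ha0⟩ := exists_nonneg_equiv hK hlt
  set D' := D + div k a
  have hD'P : 1 ≤ D' P := by
    have := ha0 P
    simp [D', Finsupp.single_apply, hQ.1, Ne.symm hQ.1] at this ⊢
    omega
  have hD'Q : 1 ≤ D' Q := by
    have := ha0 Q
    simp [D', Finsupp.single_apply, hQ.1, Ne.symm hQ.1] at this ⊢
    omega
  have hD'0 : 0 ≤ D' := fun R => by
    have := ha0 R
    simp [D', Finsupp.single_apply] at this ⊢
    split_ifs at this <;> omega
  have hlD' : ell D' = 4 := by rw [ell_add_div hK ha, hl4]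
  have hlE : ell E = ell (C - D) := ell_add_div hK hw
  set G := D' ⊓ E
  have hG0 : 0 ≤ G := le_inf hD'0 hE
  have hG1 : 1 ≤ G.deg := by
    have hle : Finsupp.single P 1 ≤ G := fun R => by
      rw [Finsupp.single_apply]
      split_ifs with e
      · subst e; rw [Finsupp.inf_apply]; exact le_inf hD'P hP
      · exact hG0 R
    have h := deg_mono hle
    rw [deg_single, hdeg] at h
    simpa using h
  have hGD : G ≤ D' := inf_le_left
  have hD'd : D'.deg = 6 := by rw [deg_add, deg_div hK.1, hd, add_zero]
  have hG5 : G.deg ≤ 5 := by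
    have hle : G + Finsupp.single Q 1 ≤ D' := fun R => by
      rw [Finsupp.add_apply, Finsupp.single_apply]
      split_ifs with e
      · subst e
        rw [Finsupp.inf_apply, hQ.2]
        have := min_le_right (D' Q) 0
        omega
      · simpa using hGD R
    have h := deg_mono hle
    rw [deg_add, deg_single, hdeg, hD'd] at h
    push_cast at h
    omega
  have hsum := ell_add_ell_le_inf_sup hK D' E
  have hsup : D' ⊔ E = C - G + div k (a * w) := by
    have h := inf_add_sup D' E
    rw [div_mul hK.1 ha hw]
    change G + (D' ⊔ E) = D' + E at h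
    rw [eq_sub_of_add_eq' h]
    simp only [D', E]
    abel
  rw [hsup, ell_add_div hK (mul_ne_zero ha hw), hlD', hlE] at hsum
  have hrrD := riemann_roch hK hC D
  have hrrG := riemann_roch hK hC G
  rw [hd, hl4] at hrrD
  change 4 + _ ≤ ell G + _ at hsum
  have hclG := clifford hK (hdeg P₀) (D := G) (by omega) (by omega)
  have hsepD : ∀ R S : Place k K, ell (D' - Finsupp.single R 1 - Finsupp.single S 1) = 2 := fun R S => by
    rw [show D' - Finsupp.single R 1 - Finsupp.single S 1 =
      D - Finsupp.single R 1 - Finsupp.single S 1 + div k a by simp only [D']; abel, ell_add_div hK ha]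
    have := hsep R S
    omega
  have hGcase : (G.deg = 2 ∧ ell G = 2) ∨ (G.deg = 4 ∧ ell G = 3) := by omega
  rcases hGcase with ⟨hGd, hGl⟩ | ⟨hGd, hGl⟩
  · -- a pencil of degree two
    obtain ⟨x, hxG, hx1⟩ : ∃ x ∈ L G, x ∉ L (0 : Divisor k K) := by
      by_contra! hc
      haveI := finiteDimensional_L hK (0 : Divisor k K)
      have h : ell G ≤ ell (0 : Divisor k K) := Submodule.finrank_mono hc
      rw [ell_zero hK, hGl] at h
      omega
    have hx : x ≠ 0 := fun h => hx1 (h ▸ Submodule.zero_mem _)
    have hval : ∀ R : Place k K, 0 < G R → R.1 x = exp (G R) := by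
      intro R hR
      refine le_antisymm (hxG R) (not_lt.1 fun hlt' => hx1 ?_)
      have hmem : x ∈ L (G - Finsupp.single R 1) :=
        (mem_L_sub_single zero_le_one).2 ⟨hxG, (lt_exp_iff _ _).1 hlt'⟩
      have hG' : 0 ≤ G - Finsupp.single R 1 := fun S => by
        rw [Finsupp.sub_apply, Finsupp.single_apply]
        have := hG0 S
        simp only [Finsupp.coe_zero, Pi.zero_apply] at this ⊢
        split_ifs with e
        · subst e; omega
        · omega
      haveI := finiteDimensional_L hK (G - Finsupp.single R 1)
      have hle : ell (G - Finsupp.single R 1) ≤ 1 := by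
        have hg1 : 1 ≤ genus k K := by omega
        have hd1 : (G - Finsupp.single R 1).deg = 1 := by
          rw [deg_sub, deg_single, hdeg, hGd]; norm_num
        have := clifford hK (hdeg P₀) (D := G - Finsupp.single R 1) (by omega) (by omega)
        omega
      have hle0 : L (0 : Divisor k K) ≤ L (G - Finsupp.single R 1) := L_mono hG'
      have heq : L (0 : Divisor k K) = L (G - Finsupp.single R 1) :=
        Submodule.eq_of_le_of_finrank_le hle0 (by
          have h0 := ell_zero hK
          simp only [ell] at hle h0
          omega)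
      rw [heq]
      exact hmem
    have htrick := two_mul_ell_le hK (D := D') hx hxG hval hG0
    obtain ⟨R, hR⟩ := exists_place_pos hK (D := G) (by omega)
    obtain ⟨S, hS⟩ := exists_place_pos hK (D := G - Finsupp.single R 1)
      (by rw [deg_sub, deg_single, hdeg, hGd]; norm_num)
    have hG2 : ell (D' - G) ≤ 2 := by
      haveI := finiteDimensional_L hK (D' - Finsupp.single R 1 - Finsupp.single S 1)
      refine le_of_le_of_eq (Submodule.finrank_mono (L_mono fun T => ?_)) (hsepD R S)
      have := hG0 T
      simp [Finsupp.single_apply] at hS this ⊢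
      by_cases h1 : R = T <;> by_cases h2 : S = T <;> subst_vars <;> simp_all <;> omega
    have hc := clifford hK (hdeg P₀) (D := D' + G) (by rw [deg_add]; omega) (by rw [deg_add]; omega)
    rw [deg_add, hD'd, hGd] at hc
    rw [hlD'] at htrick
    omega
  · obtain ⟨R, hR⟩ := exists_place_pos hK (D := D' - G) (by rw [deg_sub]; omega)
    obtain ⟨S, hS⟩ := exists_place_pos hK (D := D' - G - Finsupp.single R 1)
      (by rw [deg_sub, deg_sub, deg_single, hdeg, hD'd, hGd]; norm_num)
    haveI := finiteDimensional_L hK (D' - Finsupp.single R 1 - Finsupp.single S 1)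
    have hle : ell G ≤ ell (D' - Finsupp.single R 1 - Finsupp.single S 1) := by
      refine Submodule.finrank_mono (L_mono fun T => ?_)
      have := hGD T
      simp [Finsupp.single_apply] at hR hS this ⊢
      by_cases h1 : R = T <;> by_cases h2 : S = T <;> subst_vars <;> simp_all <;> omega
    rw [hsepD, hGl] at hle
    omega

end Groth.Agent.FF
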