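import Groth.Agent.FF.Linear

/-!
# Ratios in a pencil of degree two
-/

set_option autoImplicit false
set_option linter.unusedSectionVars false

open FunFld WithZero IntermediateField Groth.Agent.FF

namespace Groth.Agent.FFCurve

variable {k K : Type*} [Field k] [Field K] [Algebra k K] (hK : IsFunctionField k K)
include hK

/-- A nonconstant ratio of two functions in a linear system of degree two has degree two. -/
theorem finrank_adjoin_eq_two (hg : 1 ≤ genus k K) {E : Divisor k K} (hE : E.deg = 2) {z₀ z₁ : K}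
    (h₀ : z₀ ∈ L E) (h₁ : z₁ ∈ L E) (hne : z₀ ≠ 0) (hf : Transcendental k (z₁ / z₀)) :
    Module.finrank k⟮z₁ / z₀⟯ K = 2 := by
  classical
  set f := z₁ / z₀ with hfdef
  have hf0 : f ≠ 0 := fun e => hf (e ▸ isAlgebraic_zero)
  have hz1 : z₁ ≠ 0 := fun e => hf0 (by rw [hfdef, e, zero_div])
  have hfi : Transcendental k f⁻¹ := fun e => hf (by simpa using e.inv)
  have he : k⟮f⁻¹⟯ = k⟮f⟯ := by
    apply le_antisymm <;> rw [adjoin_simple_le_iff]
    · exact inv_mem (mem_adjoin_simple_self k f)
    · have := inv_mem (mem_adjoin_simple_self k f⁻¹)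
      rwa [inv_inv] at this
  have hA := (mem_L_iff hK.1 hne).1 h₀
  have hB := (mem_L_iff hK.1 hz1).1 h₁
  have hle : zeroDiv (k := k) f⁻¹ ≤ E + FunFld.div k z₀ := fun P => by
    have a := hA P
    have b := hB P
    simp only [zeroDiv, Finsupp.sup_apply, Finsupp.add_apply, div_apply hK.1, Finsupp.coe_zero,
      Pi.zero_apply, sup_le_iff, ord_inv] at a b ⊢
    rw [hfdef, ord_div P hz1 hne]
    omega
  have hd := deg_mono hle
  rw [deg_zeroDiv hK.1 hfi, deg_add, deg_div hK.1, hE, add_zero, he] at hd
  haveI := finite_adjoin hK.1 hf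
  have hpos : 0 < Module.finrank k⟮f⟯ K := Module.finrank_pos
  have hne1 : Module.finrank k⟮f⟯ K ≠ 1 := fun h => by
    have := genus_eq_zero_of_rational hK (eq_top_of_finrank_eq_one hK h)
    omega
  omega

end Groth.Agent.FFCurve
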