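import Groth.Agent.FFCurve.P1Map

/-!
# The rational function defined by a finite morphism to the projective line
-/

universe u

open CategoryTheory CategoryTheory.Limits AlgebraicGeometry TopologicalSpace

set_option linter.style.haveILetI false
set_option backward.isDefEq.respectTransparency false
set_option backward.isDefEq.respectTransparency.types false

namespace Groth.Agent.FFCurve

variable (k : Type u) [Field k] {X : Scheme.{u}} [IsIntegral X] [X.Over (Spec (CommRingCat.of k))]

/-- A morphism to the line whose value at the generic point lies in the chart and is not closed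
comes from a transcendental rational function. -/
theorem exists_param_of_chart (hdim : topologicalKrullDim X = 1) (φ : X ⟶ CohB1.ProjSpace 1 k)
    (hφ : φ ≫ CohB1.ProjSpace.toSpec 1 k = X ↘ Spec (CommRingCat.of k)) [IsFinite φ]
    (j : Spec (CommRingCat.of (Polynomial k)) ⟶ CohB1.ProjSpace 1 k) [IsOpenImmersion j]
    (hjs : j ≫ CohB1.ProjSpace.toSpec 1 k = Spec.map (CommRingCat.ofHom Polynomial.C)) :
    ∃ t : X.functionField, Transcendental k t ∧
      X.fromSpecStalk (genericPoint X) ≫ φ =
        Spec.map (CommRingCat.ofHom (Polynomial.aeval (R := k) t).toRingHom) ≫ j ∧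
      φ.residueDegree (genericPoint X) =
        Module.finrank (IntermediateField.adjoin k ({t} : Set X.functionField)) X.functionField ∧
      ((letI := (φ.residueFieldMap (genericPoint X)).hom.toAlgebra
        Algebra.IsSeparable ((CohB1.ProjSpace 1 k).residueField (φ (genericPoint X)))
          (X.residueField (genericPoint X))) →
        Algebra.IsSeparable (IntermediateField.adjoin k ({t} : Set X.functionField)) X.functionField) := by
  haveI : IsProper (CohB1.ProjSpace.toSpec 1 k) := ProjProper.Basic.isProper_toSpec 1 k
  haveI : IsProper (X ↘ Spec (CommRingCat.of k)) := hφ ▸ inferInstance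
  obtain ⟨-, -, hPi, hPd⟩ := p1_facts k
  haveI := hPi
  letI : (CohB1.ProjSpace 1 k).Over (Spec (CommRingCat.of k)) := ⟨CohB1.ProjSpace.toSpec 1 k⟩
  haveI : IsProper ((CohB1.ProjSpace 1 k) ↘ Spec (CommRingCat.of k)) :=
    ‹IsProper (CohB1.ProjSpace.toSpec 1 k)›
  have hnc : ¬ IsClosed ({φ (genericPoint X)} : Set (CohB1.ProjSpace 1 k)) := by
    intro h
    have huniv : φ ⁻¹' {φ (genericPoint X)} = Set.univ := by
      refine Set.eq_univ_of_forall fun x => ?_
      exact (genericPoint_specializes x).mem_closed (h.preimage φ.continuous) rfl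
    haveI : DiscreteTopology X := by
      have := φ.isDiscrete_preimage_singleton (φ (genericPoint X))
      rw [huniv] at this
      exact isDiscrete_univ_iff.1 this
    have h0 : topologicalKrullDim X ≤ 0 := topologicalKrullDim_zero_of_discreteTopology X
    rw [hdim] at h0
    exact absurd h0 (by norm_num)
  have hξ : φ (genericPoint X) = genericPoint (CohB1.ProjSpace 1 k) := by_contra fun hne =>
    hnc (VarDim.isClosed_singleton_of_ne_genericPoint (X := CohB1.ProjSpace 1 k) k hPd hne)
  have hr : Set.range (X.fromSpecStalk (genericPoint X) ≫ φ) ⊆ Set.range j := by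
    rintro _ ⟨z, rfl⟩
    have hz : X.fromSpecStalk (genericPoint X) z = genericPoint X :=
      (range_fromSpecStalk_generic (X := X)).subset ⟨z, rfl⟩
    rw [Scheme.Hom.comp_apply, hz, hξ]
    exact ((genericPoint_spec (CohB1.ProjSpace 1 k)).mem_open_set_iff j.isOpenEmbedding.isOpen_range).2
      ⟨j ⟨⊥, Ideal.isPrime_bot⟩, trivial, ⟨_, rfl⟩⟩
  set g : Spec X.functionField ⟶ Spec (CommRingCat.of (Polynomial k)) :=
    IsOpenImmersion.lift j (X.fromSpecStalk (genericPoint X) ≫ φ) hr
  have hg : g ≫ j = X.fromSpecStalk (genericPoint X) ≫ φ := IsOpenImmersion.lift_fac _ _ _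
  set a := Spec.preimage g
  have ha : Spec.map a = g := Spec.map_preimage g
  set t : X.functionField := a Polynomial.X
  have hC : ∀ c : k, a (Polynomial.C c) = algebraMap k X.functionField c := fun c => by
    have h1 : g ≫ Spec.map (CommRingCat.ofHom Polynomial.C) =
        Spec.map (CommRingCat.ofHom (algebraMap k X.functionField)) := by
      rw [← hjs, ← Category.assoc, hg, Category.assoc, hφ, fromSpecStalk_str]
    rw [← ha, ← Spec.map_comp] at h1
    exact congrArg (fun m => (CommRingCat.Hom.hom m) c) (Spec.map_injective h1)
  have haev : a = CommRingCat.ofHom (Polynomial.aeval (R := k) t).toRingHom := by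
    refine CommRingCat.hom_ext (Polynomial.ringHom_ext (fun c => ?_) ?_)
    · exact (hC c).trans (Polynomial.aeval_C _ c).symm
    · exact (Polynomial.aeval_X _).symm
  have hpt : φ (genericPoint X) = j (g (IsLocalRing.closedPoint X.functionField)) := by
    have := congrArg (fun m : Spec X.functionField ⟶ CohB1.ProjSpace 1 k =>
      m (IsLocalRing.closedPoint X.functionField)) hg
    have h0 : X.fromSpecStalk (genericPoint X) (IsLocalRing.closedPoint X.functionField) = genericPoint X :=
      Scheme.fromSpecStalk_closedPoint
    refine (congrArg φ h0.symm).trans ?_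
    simp only [Scheme.Hom.comp_apply] at this
    exact this.symm
  have ht : Transcendental k t := by
    rw [transcendental_iff]
    intro p hp
    have hbot : (g (IsLocalRing.closedPoint X.functionField)).asIdeal = ⊥ := by
      set z := g (IsLocalRing.closedPoint X.functionField)
      have h2 : j z ⤳ j ⟨⊥, Ideal.isPrime_bot⟩ := by
        rw [← hpt, hξ]; exact genericPoint_specializes _
      have h3 : z ⤳ (⟨⊥, Ideal.isPrime_bot⟩ : PrimeSpectrum (Polynomial k)) :=
        j.isOpenEmbedding.isInducing.specializes_iff.1 h2
      exact le_bot_iff.1 ((PrimeSpectrum.le_iff_specializes _ _).2 h3)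
    have hmem : p ∈ (g (IsLocalRing.closedPoint X.functionField)).asIdeal := by
      rw [← ha]
      show a p ∈ (IsLocalRing.closedPoint X.functionField).asIdeal
      rw [haev]
      show Polynomial.aeval t p ∈ _
      rw [hp]
      exact zero_mem _
    rwa [hbot, Ideal.mem_bot] at hmem
  have hrange : Set.range (φ.stalkMap (genericPoint X)) =
      (IntermediateField.adjoin k ({t} : Set X.functionField) : Set X.functionField) := by
    rw [← range_stalkClosedPointTo_aeval k t, ← haev, ha]
    have h1 : Set.range (Scheme.stalkClosedPointTo (g ≫ j)) = Set.range (Scheme.stalkClosedPointTo g) := by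
      rw [Scheme.stalkClosedPointTo_comp]
      refine Set.ext fun z => ⟨fun ⟨w, hw⟩ => ⟨_, hw⟩, fun ⟨w, hw⟩ => ?_⟩
      obtain ⟨w', rfl⟩ := (ConcreteCategory.bijective_of_isIso (j.stalkMap (g (IsLocalRing.closedPoint X.functionField)))).2 w
      exact ⟨w', hw⟩
    have key : ∀ (y : CohB1.ProjSpace 1 k) (hy : φ (genericPoint X) = y)
        (α : (CohB1.ProjSpace 1 k).presheaf.stalk y ⟶ X.functionField),
        Spec.map α ≫ (CohB1.ProjSpace 1 k).fromSpecStalk y = X.fromSpecStalk (genericPoint X) ≫ φ →
          Set.range (φ.stalkMap (genericPoint X)) = Set.range α := by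
      rintro y rfl α hα
      rw [← Scheme.SpecMap_stalkMap_fromSpecStalk] at hα
      rw [Spec.map_injective ((cancel_mono _).1 hα)]
    exact (key _ hpt _ ((Scheme.Spec_stalkClosedPointTo_fromSpecStalk (g ≫ j)).trans hg)).trans h1
  have hres : Function.Injective (X.residue (genericPoint X)) :=
    RingHom.injective (R := X.functionField) (X.residue (genericPoint X)).hom
  let e : X.functionField ≃+* X.residueField (genericPoint X) :=
    RingEquiv.ofBijective (X.residue (genericPoint X)).hom ⟨hres, X.residue_surjective _⟩
  let i₀ : (CohB1.ProjSpace 1 k).residueField (φ (genericPoint X)) →+* X.functionField :=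
    e.symm.toRingHom.comp (φ.residueFieldMap (genericPoint X)).hom
  have hi₀ : ∀ a, i₀ ((CohB1.ProjSpace 1 k).residue (φ (genericPoint X)) a) =
      φ.stalkMap (genericPoint X) a := fun a => by
    refine (RingEquiv.symm_apply_eq e).2 ?_
    exact (congrArg (fun m => (CommRingCat.Hom.hom m) a)
      (Scheme.residue_residueFieldMap φ (genericPoint X)))
  have hi₀mem : ∀ b, i₀ b ∈ IntermediateField.adjoin k ({t} : Set X.functionField) := fun b => by
    obtain ⟨a, rfl⟩ := (CohB1.ProjSpace 1 k).residue_surjective _ b
    rw [hi₀, ← SetLike.mem_coe, ← hrange]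
    exact ⟨a, rfl⟩
  let i : (CohB1.ProjSpace 1 k).residueField (φ (genericPoint X)) ≃+*
      IntermediateField.adjoin k ({t} : Set X.functionField) :=
    RingEquiv.ofBijective (i₀.codRestrict _ hi₀mem) ⟨fun a b h => i₀.injective (congrArg Subtype.val h),
      fun w => by
        obtain ⟨a, ha⟩ := hrange.symm.subset w.2
        exact ⟨_, Subtype.ext ((hi₀ a).trans ha)⟩⟩
  letI := (φ.residueFieldMap (genericPoint X)).hom.toAlgebra
  have hcomp : (algebraMap (IntermediateField.adjoin k ({t} : Set X.functionField)) X.functionField).comp i.toRingHom =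
      e.symm.toRingHom.comp (algebraMap ((CohB1.ProjSpace 1 k).residueField (φ (genericPoint X)))
      (X.residueField (genericPoint X))) := rfl
  refine ⟨t, ht, by rw [← hg, ← haev, ha], ?_, fun hsep => ?_⟩
  · exact Algebra.finrank_eq_of_equiv_equiv i e.symm hcomp
  · exact Algebra.IsSeparable.of_equiv_equiv i e.symm hcomp

/-- A morphism to the line whose value at the generic point lies in the chart and is not closed
comes from a transcendental rational function. -/
theorem exists_param (hdim : topologicalKrullDim X = 1) (φ : X ⟶ CohB1.ProjSpace 1 k)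
    (hφ : φ ≫ CohB1.ProjSpace.toSpec 1 k = X ↘ Spec (CommRingCat.of k)) [IsFinite φ] :
    ∃ t : X.functionField, Transcendental k t ∧
      φ.residueDegree (genericPoint X) =
        Module.finrank (IntermediateField.adjoin k ({t} : Set X.functionField)) X.functionField ∧
      ((letI := (φ.residueFieldMap (genericPoint X)).hom.toAlgebra
        Algebra.IsSeparable ((CohB1.ProjSpace 1 k).residueField (φ (genericPoint X)))
          (X.residueField (genericPoint X))) →
        Algebra.IsSeparable (IntermediateField.adjoin k ({t} : Set X.functionField)) X.functionField) := by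
  obtain ⟨j, hj, hjs⟩ := exists_lineChart k
  haveI := hj
  obtain ⟨t, ht, -, h1, h2⟩ := exists_param_of_chart k hdim φ hφ j hjs
  exact ⟨t, ht, h1, h2⟩

end Groth.Agent.FFCurve
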