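import Groth.Agent.FF.Ext
import Groth.Agent.FF.Linear

/-!
# Linear systems of degree `2g - 2` on a double cover of a curve of genus zero
-/

set_option autoImplicit false
set_option linter.unusedSectionVars false

open FunFld WithZero Groth.Agent.FF

namespace Groth.Agent.FFCurve.Double

variable {k K : Type*} [Field k] [Field K] [Algebra k K] (hK : IsFunctionField k K)
include hK

lemma eq_zero_of_nonneg {D : Divisor k K} (h : 0 ≤ D) (hd : D.deg = 0) : D = 0 := by
  classical
  refine Finsupp.ext fun P => ?_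
  by_contra hne
  have hP : (1 : ℤ) ≤ D P := by
    have := h P
    simp only [Finsupp.coe_zero, Pi.zero_apply] at this hne
    omega
  have hle : Finsupp.single P (1 : ℤ) ≤ D := fun Q => by
    rw [Finsupp.single_apply]
    split_ifs with e
    · subst e; exact hP
    · exact h Q
  have := deg_mono hle
  rw [deg_single, hd, one_mul] at this
  have := deg_pos hK.1 P
  omega

/-- A divisor of degree `2g - 2` with `g` sections is canonical up to a principal divisor. -/
lemma exists_equiv_canonical {D C : Divisor k K} (hC : IsCanonical k K C)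
    (hd : D.deg = 2 * genus k K - 2) (hl : genus k K ≤ ell D) :
    ∃ z : K, z ≠ 0 ∧ C = D + FunFld.div k z⁻¹ := by
  have h := riemann_roch hK hC D
  have hpos : 0 < ell (C - D) := by omega
  obtain ⟨z, hz, hnn⟩ := exists_nonneg_equiv hK hpos
  refine ⟨z, hz, ?_⟩
  have h0 := eq_zero_of_nonneg hK hnn (by
    rw [deg_add, deg_div hK.1, deg_sub, deg_canonical hK hC, hd]; ring)
  rw [div_inv hK.1, ← sub_eq_zero]
  rw [← h0]; abel

lemma ell_eq_of_equiv_canonical {D C : Divisor k K} (hC : IsCanonical k K C)
    {z : K} (hz : z ≠ 0) (h : C = D + FunFld.div k z⁻¹) : ell D = genus k K := by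
  rw [← ell_canonical hK hC, h, ell_add_div hK (inv_ne_zero hz)]

variable {K' : Type*} [Field K'] [Algebra k K'] [Algebra K' K] [IsScalarTower k K' K]
  [FiniteDimensional K' K]

/-- The functions of a special system of degree `2g - 2` come from the genus zero subfield. -/
theorem exists_mem_range (hK' : IsFunctionField k K') (h2 : Module.finrank K' K = 2)
    (hg' : genus k K' = 0) {E : Divisor k K'} (hE : E.deg = (genus k K : ℤ) - 1)
    {D : Divisor k K} (hd : D.deg = 2 * genus k K - 2) (hl : genus k K ≤ ell D) :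
    ∃ w : K, w ≠ 0 ∧ ∀ x ∈ L D, x * w ∈ Set.range (algebraMap K' K) := by
  classical
  obtain ⟨C, hC⟩ := exists_canonical hK
  have hEl : (ell E : ℤ) = genus k K := by
    rw [ell_eq_of_deg_ge hK' (by omega), hE, hg']; push_cast; ring
  let ι : K' →ₗ[k] K := (IsScalarTower.toAlgHom k K' K).toLinearMap
  have hinj : Function.Injective ι := (algebraMap K' K).injective
  have hle : Submodule.map ι (L E) ≤ L (conorm K E) := by
    rintro _ ⟨x, hx, rfl⟩
    rcases eq_or_ne x 0 with rfl | hx0
    · rw [map_zero]; exact Submodule.zero_mem _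
    have hne : ι x ≠ 0 := fun e => hx0 (hinj (e.trans (map_zero _).symm))
    rw [mem_L_iff hK.1 hne]
    have hEx := (mem_L_iff hK'.1 hx0).1 hx
    intro Q
    obtain ⟨P, hP⟩ := exists_below (K := K') hK'.1 Q
    have h := hEx P
    simp only [Finsupp.coe_zero, Pi.zero_apply, Finsupp.add_apply] at h ⊢
    rw [show ι x = algebraMap K' K x from rfl, div_algebraMap hK' x, conorm_apply hK'.1 _ hP,
      conorm_apply hK'.1 _ hP, ← mul_add]
    positivity
  have hcd : (conorm K E).deg = 2 * genus k K - 2 := by
    rw [deg_conorm hK' E, h2, hE]; push_cast; ring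
  haveI := finiteDimensional_L hK.1 (conorm K E)
  have hmap : Module.finrank k (Submodule.map ι (L E)) = ell E :=
    (Submodule.equivMapOfInjective _ hinj _).finrank_eq.symm
  have hcl : genus k K ≤ ell (conorm K E) := by
    have h1 := Submodule.finrank_mono hle
    rw [hmap] at h1
    simp only [ell] at hEl h1 ⊢
    omega
  obtain ⟨z₁, hz₁, e₁⟩ := exists_equiv_canonical hK hC hcd hcl
  obtain ⟨z, hz, e⟩ := exists_equiv_canonical hK hC hd hl
  have heq : Submodule.map ι (L E) = L (conorm K E) := by
    refine Submodule.eq_of_le_of_finrank_eq hle ?_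
    rw [hmap]
    have := ell_eq_of_equiv_canonical hK hC hz₁ e₁
    simp only [ell] at hEl this ⊢
    omega
  refine ⟨z * z₁⁻¹, mul_ne_zero hz (inv_ne_zero hz₁), fun x hx => ?_⟩
  rcases eq_or_ne x 0 with rfl | hx0
  · exact ⟨0, by simp⟩
  have hmem : x * (z * z₁⁻¹) ∈ L (conorm K E) := by
    rw [mem_L_iff hK.1 (mul_ne_zero hx0 (mul_ne_zero hz (inv_ne_zero hz₁)))]
    have h := (mem_L_iff hK.1 hx0).1 hx
    rw [div_mul hK.1 hx0 (mul_ne_zero hz (inv_ne_zero hz₁)), div_mul hK.1 hz (inv_ne_zero hz₁)]
    have : conorm K E + (FunFld.div k x + (FunFld.div k z + FunFld.div k z₁⁻¹)) = D + FunFld.div k x := by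
      have he := e₁.symm.trans e
      rw [div_inv hK.1 z] at he
      rw [eq_add_neg_iff_add_eq] at he
      rw [← he]; abel
    rw [this]; exact h
  rw [← heq] at hmem
  obtain ⟨a, -, ha⟩ := hmem
  exact ⟨a, ha⟩

end Groth.Agent.FFCurve.Double
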