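import Groth.Agent.FFCurve.PlaneCurveFF
import Groth.Agent.FFCurve.PlaneDouble
import Groth.Agent.FFCurve.GenericRank
import Groth.Agent.FFCurve.Curve
import Groth.Agent.FFCurve.P1Deg
import Groth.Agent.HurwitzLib.Formula
import Groth.Agent.VBLib.PushTrace

/-!
# Smooth plane curves of degree at least four have no double cover of genus zero
-/

set_option autoImplicit false
set_option linter.style.haveILetI false
set_option linter.unusedSectionVars false
set_option backward.isDefEq.respectTransparency false
set_option backward.isDefEq.respectTransparency.types false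

universe u

open CategoryTheory CategoryTheory.Limits AlgebraicGeometry TopologicalSpace FunFld WithZero
open Groth.Agent.CurveCoh

noncomputable section

namespace Groth.Agent.FFCurve.Plane

open Groth.Agent.SepTang48 (D const ρ exists_eval₂)

variable {k : Type u} [Field k] {d : ℕ} {f : LefPen.Form 2 k d}
  [IsIntegral (Cv f)] [(Cv f).Over (Spec (CommRingCat.of k))]
  [IsProper ((Cv f) ↘ Spec (CommRingCat.of k))] [RegCurve (Cv f)]
  (hf : f ≠ 0) (hd : 2 ≤ d) (hdim : topologicalKrullDim (Cv f) = 1)
  (hinst : (Cv f) ↘ Spec (CommRingCat.of k) = (ιv f) ≫ CohB1.ProjSpace.toSpec 2 k)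

include hinst in
lemma mem_of_q_mem (F : Subfield (Cv f).functionField)
    (hc : ∀ c : k, algebraMap k (Cv f).functionField c ∈ F) (hq : ∀ l, q hf hd l ∈ F)
    (x : (Cv f).functionField) : x ∈ F := by
  have key : ∀ Q : MvPolynomial (Fin 3) k, sv hf hd 2 (ev 2 Q) ∈ F := fun Q => by
    induction Q using MvPolynomial.induction_on with
    | C c => rw [ev, MvPolynomial.eval₂Hom_C, sv_const hf hd hinst]; exact hc c
    | add p r hp hr => rw [map_add, map_add]; exact F.add_mem hp hr
    | mul_X p l hp =>
      rw [map_mul, map_mul]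
      refine F.mul_mem hp ?_
      rw [ev, MvPolynomial.eval₂Hom_X']
      exact hq l
  have hU : IsAffineOpen (U f 2) := (SepTang48.isAffineOpen_D k 2 2).preimage (ιv f)
  obtain ⟨a, b, -, rfl⟩ := isFractionRing_secK hU (generic_mem hf hd 2) x
  obtain ⟨a, rfl⟩ := app_surjective f 2 a
  obtain ⟨b, rfl⟩ := app_surjective f 2 b
  obtain ⟨P, rfl⟩ := exists_eval₂ k 2 2 a
  obtain ⟨Q, rfl⟩ := exists_eval₂ k 2 2 b
  exact F.div_mem (key P) (key Q)

include hf hd hdim hinst in
/-- No subfield of index two of genus zero. -/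
theorem not_double (hd4 : 4 ≤ d) {K' : Type*} [Field K'] [Algebra k K'] [Algebra K' (Cv f).functionField]
    [IsScalarTower k K' (Cv f).functionField] [FiniteDimensional K' (Cv f).functionField]
    (hK' : IsFunctionField k K') (h2 : Module.finrank K' (Cv f).functionField = 2)
    (hg' : genus k K' = 0) {E : Divisor k K'}
    (hE : E.deg = (genus k (Cv f).functionField : ℤ) - 1) : False := by
  have hK := isFunctionField hf hd hdim hinst
  obtain ⟨hH, hg⟩ := deg_H_and_genus hf hd hdim hinst
  set g := genus k (Cv f).functionField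
  obtain ⟨m, rfl⟩ : ∃ m, d = m + 4 := ⟨d - 4, by omega⟩
  have hdeg : (((m + 1 : ℕ) : ℤ) • H hf hd).deg = 2 * (g : ℤ) - 2 := by
    rw [FF.deg_zsmul, hH, hg]; push_cast; ring
  have hell := ell_add_ker hf hd hdim hinst (m + 1)
  rw [finrank_ker_of_lt hf hd hinst (by omega : m + 1 < m + 4), add_zero] at hell
  have h2c := two_mul_choose (m + 1)
  rw [← hell] at h2c
  push_cast at h2c hg
  have hle : g ≤ ell (((m + 1 : ℕ) : ℤ) • H hf hd) := by
    have hg2 : 2 * (g : ℤ) = 2 * ell (((m + 1 : ℕ) : ℤ) • H hf hd) := by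
      push_cast
      linear_combination hg - h2c
    omega
  obtain ⟨w, hw, hrange⟩ := Double.exists_mem_range hK hK' h2 hg' hE hdeg hle
  have hone : w ∈ Set.range (algebraMap K' (Cv f).functionField) := by
    simpa using hrange 1 ((mem_L_iff hf hd hdim hinst (m + 1) 1).2
      ⟨MvPolynomial.X 2 ^ (m + 1), by simpa using (MvPolynomial.isHomogeneous_X k (2 : Fin 3)).pow (m + 1),
        by simp [q_two]⟩)
  let F : Subfield (Cv f).functionField := (algebraMap K' (Cv f).functionField).fieldRange
  have hq : ∀ l, q hf hd l ∈ F := fun l => by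
    have h := hrange (q hf hd l) ((mem_L_iff hf hd hdim hinst (m + 1) _).2
      ⟨MvPolynomial.X l * MvPolynomial.X 2 ^ m, by
        have := (MvPolynomial.isHomogeneous_X k l).mul ((MvPolynomial.isHomogeneous_X k (2 : Fin 3)).pow m)
        rwa [one_mul, add_comm 1 m] at this, by simp [q_two]⟩)
    rw [← mul_div_cancel_right₀ (q hf hd l) hw]
    exact F.div_mem h hone
  have hsurj : Function.Surjective (algebraMap K' (Cv f).functionField) := fun x => by
    have := mem_of_q_mem hf hd hinst F (fun c => ⟨algebraMap k K' c,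
      (IsScalarTower.algebraMap_apply k K' (Cv f).functionField c).symm⟩) hq x
    exact this
  have h1 : Module.finrank K' (Cv f).functionField = 1 :=
    (LinearEquiv.ofBijective (Algebra.linearMap K' (Cv f).functionField)
      ⟨(algebraMap K' (Cv f).functionField).injective, hsurj⟩).finrank_eq.symm.trans (Module.finrank_self K')
  omega

end Groth.Agent.FFCurve.Plane

namespace Groth.Agent.FFCurve

variable (k : Type u) [Field k] {X Y : Scheme.{u}} [IsIntegral X] [IsIntegral Y]
  [Y.Over (Spec (CommRingCat.of k))] [IsProper (Y ↘ Spec (CommRingCat.of k))]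

include k in
/-- A finite morphism of curves is dominant. -/
lemma map_genericPoint (hX : topologicalKrullDim X = 1) (hY : topologicalKrullDim Y = 1)
    (φ : X ⟶ Y) [IsFinite φ] : φ (genericPoint X) = genericPoint Y := by
  by_contra hne
  have h := VarDim.isClosed_singleton_of_ne_genericPoint (X := Y) k hY hne
  have huniv : φ ⁻¹' {φ (genericPoint X)} = Set.univ := by
    refine Set.eq_univ_of_forall fun x => ?_
    exact (genericPoint_specializes x).mem_closed (h.preimage φ.continuous) rfl
  haveI : DiscreteTopology X := by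
    have := φ.isDiscrete_preimage_singleton (φ (genericPoint X))
    rw [huniv] at this
    exact isDiscrete_univ_iff.1 this
  have h0 : topologicalKrullDim X ≤ 0 := topologicalKrullDim_zero_of_discreteTopology X
  rw [hX] at h0
  exact absurd h0 (by norm_num)

/-- The degree of the extension of function fields of a finite flat morphism. -/
lemma finrank_genMap [IsLocallyNoetherian Y] (φ : X ⟶ Y) [IsFinite φ] [Flat φ]
    (e : φ (genericPoint X) = genericPoint Y) :
    letI := (VBLib.PushTrace.genMap φ e).toAlgebra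
    Module.finrank Y.functionField X.functionField = φ.finrank (genericPoint Y) := by
  obtain ⟨_, ⟨U, hU, rfl⟩, hyU, -⟩ :=
    Y.isBasis_affineOpens.exists_subset_of_mem_open (Set.mem_univ (genericPoint Y)) isOpen_univ
  replace hyU : genericPoint Y ∈ U := hyU
  have hxW : genericPoint X ∈ φ ⁻¹ᵁ U := show φ (genericPoint X) ∈ U by rw [e]; exact hyU
  haveI : Nonempty U := ⟨⟨_, hyU⟩⟩
  haveI : Nonempty (φ ⁻¹ᵁ U : X.Opens) := ⟨⟨_, hxW⟩⟩
  letI := (VBLib.PushTrace.genMap φ e).toAlgebra
  letI : Algebra Γ(Y, U) Γ(X, φ ⁻¹ᵁ U) := (φ.app U).hom.toAlgebra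
  haveI : Module.Finite Γ(Y, U) Γ(X, φ ⁻¹ᵁ U) :=
    RingHom.finite_algebraMap.1 (IsFinite.finite_app φ U hU)
  letI : Algebra Γ(Y, U) X.functionField :=
    ((algebraMap Γ(X, φ ⁻¹ᵁ U) X.functionField).comp (algebraMap Γ(Y, U) Γ(X, φ ⁻¹ᵁ U))).toAlgebra
  haveI : IsScalarTower Γ(Y, U) Γ(X, φ ⁻¹ᵁ U) X.functionField := IsScalarTower.of_algebraMap_eq' rfl
  haveI : IsScalarTower Γ(Y, U) Y.functionField X.functionField :=
    IsScalarTower.of_algebraMap_eq fun r => (VBLib.PushTrace.genMap_germ φ e U hyU hxW r).symm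
  haveI : IsFractionRing Γ(Y, U) Y.functionField := functionField_isFractionRing_of_isAffineOpen Y U hU
  haveI : IsFractionRing Γ(X, φ ⁻¹ᵁ U) X.functionField :=
    functionField_isFractionRing_of_isAffineOpen X _ (hU.preimage φ)
  rw [GenericRank.finrank_app φ hU (genericPoint Y) hyU]
  exact IsFractionRing.finrank_eq Γ(Y, U) Y.functionField Γ(X, φ ⁻¹ᵁ U) X.functionField

end Groth.Agent.FFCurve
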