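import Groth.Agent.FFCurve.CastelnuovoSeveri
import Groth.Agent.FFCurve.PlaneNotHyper
import Groth.Agent.FFCurve.Aut

/-!
# Covers of curves through their function fields
-/

set_option autoImplicit false
set_option linter.style.haveILetI false
set_option linter.unusedSectionVars false
set_option backward.isDefEq.respectTransparency false
set_option backward.isDefEq.respectTransparency.types false

universe u

open CategoryTheory CategoryTheory.Limits AlgebraicGeometry TopologicalSpace FunFld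
open Groth.Agent.CurveCoh

noncomputable section

namespace Groth.Agent.FFCurve

variable (k : Type u) [Field k] {X Y : Scheme.{u}} [IsIntegral X] [IsIntegral Y]
  [X.Over (Spec (CommRingCat.of k))] [Y.Over (Spec (CommRingCat.of k))]

include k in
/-- The constants go to the constants. -/
lemma genMap_algebraMap (f : X ⟶ Y) (e : f (genericPoint X) = genericPoint Y)
    (hf : f ≫ (Y ↘ Spec (CommRingCat.of k)) = X ↘ Spec (CommRingCat.of k)) (c : k) :
    VBLib.PushTrace.genMap f e (algebraMap k Y.functionField c) = algebraMap k X.functionField c := by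
  have hη : genericPoint Y ∈ (⊤ : Y.Opens) := trivial
  rw [← secK_kMap (X := Y) k ⊤ hη c]
  refine (VBLib.PushTrace.genMap_germ f e ⊤ hη trivial _).trans ?_
  rw [HurwitzLib.app_kMap f hf ⊤ c]
  exact secK_kMap (X := X) k (f ⁻¹ᵁ ⊤) trivial c

omit [X.Over (Spec (CommRingCat.of k))] [Y.Over (Spec (CommRingCat.of k))] in
/-- A dominant morphism at the generic point. -/
lemma fromSpecStalk_genMap (f : X ⟶ Y) (e : f (genericPoint X) = genericPoint Y) :
    X.fromSpecStalk (genericPoint X) ≫ f =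
      Spec.map (CommRingCat.ofHom (VBLib.PushTrace.genMap f e)) ≫ Y.fromSpecStalk (genericPoint Y) := by
  rw [VBLib.PushTrace.genMap, CommRingCat.ofHom_hom, Spec.map_comp, Category.assoc,
    Scheme.SpecMap_stalkSpecializes_fromSpecStalk, Scheme.SpecMap_stalkMap_fromSpecStalk]

variable [IsProper (Y ↘ Spec (CommRingCat.of k))]

/-- A field embedding is induced by a morphism of regular curves. -/
lemma exists_morph_of_algHom [RegCurve X] (φ : Y.functionField →ₐ[k] X.functionField) :
    ∃ g : X ⟶ Y, g ≫ (Y ↘ Spec (CommRingCat.of k)) = X ↘ Spec (CommRingCat.of k) ∧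
      X.fromSpecStalk (genericPoint X) ≫ g =
        Spec.map (CommRingCat.ofHom (φ : Y.functionField →+* X.functionField)) ≫ Y.fromSpecStalk (genericPoint Y) := by
  have hstr : (Spec.map (CommRingCat.ofHom (φ : Y.functionField →+* X.functionField)) ≫
      Y.fromSpecStalk (genericPoint Y)) ≫ (Y ↘ Spec (CommRingCat.of k)) =
      X.fromSpecStalk (genericPoint X) ≫ (X ↘ Spec (CommRingCat.of k)) := by
    rw [Category.assoc, fromSpecStalk_str, fromSpecStalk_str, ← Spec.map_comp]
    congr 1
    ext c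
    exact φ.commutes c
  obtain ⟨s, hs, hη⟩ := GITLib.exists_section_of_genericPoint (Y := pullback (X ↘ Spec (CommRingCat.of k)) (Y ↘ Spec (CommRingCat.of k)))
    RegCurve.val (pullback.fst _ _)
    (pullback.lift (X.fromSpecStalk (genericPoint X)) _ hstr.symm)
    (pullback.lift_fst _ _ _)
  refine ⟨s ≫ pullback.snd _ _, ?_, ?_⟩
  · rw [Category.assoc, ← pullback.condition, ← Category.assoc, hs, Category.id_comp]
  · rw [← Category.assoc, hη, pullback.lift_snd]

lemma hom_ext_generic' {f g : X ⟶ Y}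
    (h : f ≫ (Y ↘ Spec (CommRingCat.of k)) = g ≫ (Y ↘ Spec (CommRingCat.of k)))
    (h' : X.fromSpecStalk (genericPoint X) ≫ f = X.fromSpecStalk (genericPoint X) ≫ g) : f = g :=
  ext_of_isDominant_of_isSeparated (Y ↘ Spec (CommRingCat.of k)) h _ h'

variable {P₁ P₂ : Scheme.{u}} [IsIntegral P₁] [IsIntegral P₂]
  [P₁.Over (Spec (CommRingCat.of k))] [P₂.Over (Spec (CommRingCat.of k))]
  [IsProper (P₁ ↘ Spec (CommRingCat.of k))] [IsProper (P₂ ↘ Spec (CommRingCat.of k))] [RegCurve P₁] [RegCurve P₂]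

/-- Covers with the same subfield of the function field are isomorphic. -/
theorem exists_iso_of_range_eq (f₁ : X ⟶ P₁) (e₁ : f₁ (genericPoint X) = genericPoint P₁)
    (hf₁ : f₁ ≫ (P₁ ↘ Spec (CommRingCat.of k)) = X ↘ Spec (CommRingCat.of k))
    (f₂ : X ⟶ P₂) (e₂ : f₂ (genericPoint X) = genericPoint P₂)
    (hf₂ : f₂ ≫ (P₂ ↘ Spec (CommRingCat.of k)) = X ↘ Spec (CommRingCat.of k))
    (h : Set.range (VBLib.PushTrace.genMap f₁ e₁) = Set.range (VBLib.PushTrace.genMap f₂ e₂)) :
    ∃ e : P₁ ≅ P₂, e.hom ≫ (P₂ ↘ Spec (CommRingCat.of k)) = (P₁ ↘ Spec (CommRingCat.of k)) ∧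
      f₁ ≫ e.hom = f₂ := by
  let a₁ : P₁.functionField →ₐ[k] X.functionField :=
    { VBLib.PushTrace.genMap f₁ e₁ with commutes' := genMap_algebraMap k f₁ e₁ hf₁ }
  let a₂ : P₂.functionField →ₐ[k] X.functionField :=
    { VBLib.PushTrace.genMap f₂ e₂ with commutes' := genMap_algebraMap k f₂ e₂ hf₂ }
  have hr : a₁.range = a₂.range := SetLike.coe_injective h
  let φ : P₂.functionField ≃ₐ[k] P₁.functionField :=
    (AlgEquiv.ofInjectiveField a₂).trans ((Subalgebra.equivOfEq _ _ hr.symm).trans (AlgEquiv.ofInjectiveField a₁).symm)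
  have hφ : ∀ z, a₁ (φ z) = a₂ z := fun z => by
    have := congrArg Subtype.val ((AlgEquiv.ofInjectiveField a₁).apply_symm_apply
      (Subalgebra.equivOfEq _ _ hr.symm (AlgEquiv.ofInjectiveField a₂ z)))
    exact this
  obtain ⟨g, hg, hgη⟩ := exists_morph_of_algHom k (X := P₁) (Y := P₂) φ.toAlgHom
  obtain ⟨g', hg', hg'η⟩ := exists_morph_of_algHom k (X := P₂) (Y := P₁) φ.symm.toAlgHom
  have h1 : g ≫ g' = 𝟙 P₁ := by
    refine hom_ext_generic' k (by rw [Category.assoc, hg', hg, Category.id_comp]) ?_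
    rw [← Category.assoc, hgη, Category.assoc, hg'η, ← Spec.map_comp_assoc, Category.comp_id]
    have he : CommRingCat.ofHom (φ.symm.toAlgHom : P₁.functionField →+* P₂.functionField) ≫
        CommRingCat.ofHom (φ.toAlgHom : P₂.functionField →+* P₁.functionField) = 𝟙 _ := by
      ext z
      exact φ.apply_symm_apply z
    erw [he, Spec.map_id, Category.id_comp]
  have h2 : g' ≫ g = 𝟙 P₂ := by
    refine hom_ext_generic' k (by rw [Category.assoc, hg, hg', Category.id_comp]) ?_
    rw [← Category.assoc, hg'η, Category.assoc, hgη, ← Spec.map_comp_assoc, Category.comp_id]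
    have he : CommRingCat.ofHom (φ.toAlgHom : P₂.functionField →+* P₁.functionField) ≫
        CommRingCat.ofHom (φ.symm.toAlgHom : P₁.functionField →+* P₂.functionField) = 𝟙 _ := by
      ext z
      exact φ.symm_apply_apply z
    erw [he, Spec.map_id, Category.id_comp]
  refine ⟨⟨g, g', h1, h2⟩, hg, hom_ext_generic' k (by rw [Category.assoc, hg, hf₁, hf₂]) ?_⟩
  rw [← Category.assoc, fromSpecStalk_genMap f₁ e₁, Category.assoc, hgη, fromSpecStalk_genMap f₂ e₂,
    ← Spec.map_comp_assoc]
  congr 2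
  ext z
  exact hφ z

variable [IsProper (X ↘ Spec (CommRingCat.of k))] [RegCurve X]

/-- The Castelnuovo–Severi inequality for two double covers of a curve. -/
theorem genus_le_of_two_doubleCovers [IsAlgClosed k] [CharZero k] (hdim : topologicalKrullDim X = 1)
    (hdim₁ : topologicalKrullDim P₁ = 1) (hdim₂ : topologicalKrullDim P₂ = 1)
    (f₁ : X ⟶ P₁) (hf₁ : f₁ ≫ (P₁ ↘ Spec (CommRingCat.of k)) = X ↘ Spec (CommRingCat.of k))
    [IsFinite f₁] [Flat f₁] (hr₁ : ∀ y : P₁, Scheme.Hom.finrank f₁ y = 2)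
    (f₂ : X ⟶ P₂) (hf₂ : f₂ ≫ (P₂ ↘ Spec (CommRingCat.of k)) = X ↘ Spec (CommRingCat.of k))
    [IsFinite f₂] [Flat f₂] (hr₂ : ∀ y : P₂, Scheme.Hom.finrank f₂ y = 2)
    (hne : ¬ ∃ e : P₁ ≅ P₂, e.hom ≫ (P₂ ↘ Spec (CommRingCat.of k)) = (P₁ ↘ Spec (CommRingCat.of k)) ∧
      f₁ ≫ e.hom = f₂) :
    Curv2.genus k X ≤ 2 * Curv2.genus k P₁ + 2 * Curv2.genus k P₂ + 1 := by
  haveI : IsLocallyNoetherian P₁ := LocallyOfFiniteType.isLocallyNoetherian (P₁ ↘ Spec (CommRingCat.of k))
  haveI : IsLocallyNoetherian P₂ := LocallyOfFiniteType.isLocallyNoetherian (P₂ ↘ Spec (CommRingCat.of k))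
  have e₁ := map_genericPoint k hdim hdim₁ f₁
  have e₂ := map_genericPoint k hdim hdim₂ f₂
  have hK := isFunctionField_of_isAlgClosed (X := X) k hdim
  have hK₁ := isFunctionField_of_isAlgClosed (X := P₁) k hdim₁
  have hK₂ := isFunctionField_of_isAlgClosed (X := P₂) k hdim₂
  letI := (VBLib.PushTrace.genMap f₁ e₁).toAlgebra
  letI := (VBLib.PushTrace.genMap f₂ e₂).toAlgebra
  haveI : IsScalarTower k P₁.functionField X.functionField :=
    IsScalarTower.of_algebraMap_eq fun c => (genMap_algebraMap k f₁ e₁ hf₁ c).symm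
  haveI : IsScalarTower k P₂.functionField X.functionField :=
    IsScalarTower.of_algebraMap_eq fun c => (genMap_algebraMap k f₂ e₂ hf₂ c).symm
  have h₁ := (finrank_genMap f₁ e₁).trans (hr₁ _)
  have h₂ := (finrank_genMap f₂ e₂).trans (hr₂ _)
  haveI : CharZero P₁.functionField := charZero_of_injective_algebraMap (algebraMap k P₁.functionField).injective
  haveI : CharZero P₂.functionField := charZero_of_injective_algebraMap (algebraMap k P₂.functionField).injective
  haveI : FiniteDimensional P₁.functionField X.functionField := Module.finite_of_finrank_pos (by omega)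
  haveI : FiniteDimensional P₂.functionField X.functionField := Module.finite_of_finrank_pos (by omega)
  rw [genus_eq_genus k hdim hK, genus_eq_genus k hdim₁ hK₁, genus_eq_genus k hdim₂ hK₂]
  exact CS.genus_le hK hK₁ hK₂ h₁ h₂ fun h => hne (exists_iso_of_range_eq k f₁ e₁ hf₁ f₂ e₂ hf₂ h)

end Groth.Agent.FFCurve
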