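import Groth.Agent.FFCurve.CubicImage
import Mathlib.RingTheory.Smooth.Basic
import Mathlib.FieldTheory.IsAlgClosed.AlgebraicClosure
import Mathlib.FieldTheory.SeparableDegree

/-!
# Degree two separable functions on elliptic curves
-/

set_option autoImplicit false

universe u

open CategoryTheory AlgebraicGeometry TopologicalSpace FunFld WithZero
open Groth.Agent.CurveCoh
open scoped IntermediateField

set_option linter.style.haveILetI false
set_option linter.unusedSectionVars false
set_option backward.isDefEq.respectTransparency false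
set_option backward.isDefEq.respectTransparency.types false

noncomputable section

namespace Groth.Agent.FFCurve.Weierstrass

variable {k : Type u} [Field k] {K : Type u} [Field K] [Algebra k K]

/-- The affine equation `y² = x³ + a₂x² + a₄x + a₆` is never formally smooth in characteristic two. -/
theorem false_of_formallySmooth_two (h2 : (2 : k) = 0) {A : Type u} [CommRing A] [Algebra k A]
    [Algebra.FormallySmooth k A] (a₂ a₄ a₆ : k) (φ : MvPolynomial (Fin 2) k →ₐ[k] A)
    (hφ : Function.Surjective φ)
    (hker : RingHom.ker φ.toRingHom =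
      Ideal.span {MvPolynomial.aeval ![MvPolynomial.X 0, MvPolynomial.X 1, (1 : MvPolynomial (Fin 2) k)]
        (cubic 0 a₂ 0 a₄ a₆)}) : False := by
  let L := AlgebraicClosure k
  obtain ⟨α, hα⟩ := IsAlgClosed.exists_pow_nat_eq (-algebraMap k L a₄) two_pos
  obtain ⟨y₀, hy₀⟩ := IsAlgClosed.exists_pow_nat_eq
    (α ^ 3 + algebraMap k L a₂ * α ^ 2 + algebraMap k L a₄ * α + algebraMap k L a₆) two_pos
  let J : Ideal (Polynomial L) := Ideal.span {Polynomial.X ^ 3}
  let B := Polynomial L ⧸ J
  let c : L →+* B := (Ideal.Quotient.mk J).comp Polynomial.C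
  let t : B := Ideal.Quotient.mk J Polynomial.X
  have ht3 : t ^ 3 = 0 := by
    rw [← map_pow, Ideal.Quotient.eq_zero_iff_mem]
    exact Ideal.mem_span_singleton_self _
  let I : Ideal B := Ideal.span {t ^ 2}
  have hI : ∀ i ∈ I, ∀ j ∈ I, i * j = 0 := by
    intro i hi j hj
    obtain ⟨a, rfl⟩ := Ideal.mem_span_singleton'.1 hi
    obtain ⟨b, rfl⟩ := Ideal.mem_span_singleton'.1 hj
    linear_combination (a * b * t) * ht3
  have h2B : (2 : B) = 0 := by
    rw [← map_ofNat (algebraMap k B) 2, h2, map_zero]
  have hc : ∀ a : k, algebraMap k B a = c (algebraMap k L a) := fun a => rfl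
  let ψ : MvPolynomial (Fin 2) k →ₐ[k] B := MvPolynomial.aeval ![c α, c y₀ + t]
  have hcub : ∀ {S : Type u} [CommRing S] [Algebra k S] (g : MvPolynomial (Fin 2) k →ₐ[k] S),
      g (MvPolynomial.aeval ![MvPolynomial.X 0, MvPolynomial.X 1, (1 : MvPolynomial (Fin 2) k)]
        (cubic 0 a₂ 0 a₄ a₆)) =
        g (MvPolynomial.X 1) ^ 2 - g (MvPolynomial.X 0) ^ 3 - algebraMap k S a₂ * g (MvPolynomial.X 0) ^ 2
          - algebraMap k S a₄ * g (MvPolynomial.X 0) - algebraMap k S a₆ := by
    intro S _ _ g
    simp [cubic]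
  have hα' : c α ^ 2 + c (algebraMap k L a₄) = 0 := by
    rw [← map_pow, ← map_add, hα, neg_add_cancel, map_zero]
  have hy' : c y₀ ^ 2 = c α ^ 3 + c (algebraMap k L a₂) * c α ^ 2 + c (algebraMap k L a₄) * c α +
      c (algebraMap k L a₆) := by
    rw [← map_pow, hy₀]; simp only [map_add, map_mul, map_pow]
  have hψ0 : ψ (MvPolynomial.aeval ![MvPolynomial.X 0, MvPolynomial.X 1, (1 : MvPolynomial (Fin 2) k)]
      (cubic 0 a₂ 0 a₄ a₆)) = t ^ 2 := by
    rw [hcub]
    simp only [ψ, MvPolynomial.aeval_X, Matrix.cons_val_zero, Matrix.cons_val_one, hc]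
    linear_combination hy' + (c y₀ * t) * h2B
  let π : B →ₐ[k] B ⧸ I := Ideal.Quotient.mkₐ k I
  have hkill : ∀ z ∈ RingHom.ker φ.toRingHom, π (ψ z) = 0 := fun z hz => by
    obtain ⟨w, rfl⟩ := Ideal.mem_span_singleton'.1 (hker.le hz)
    rw [map_mul ψ, hψ0]
    exact Ideal.Quotient.eq_zero_iff_mem.2 (I.mul_mem_left _ (Ideal.mem_span_singleton_self _))
  let g : A →ₐ[k] B ⧸ I :=
    (Ideal.Quotient.liftₐ (RingHom.ker φ) (π.comp ψ) hkill).comp
      (Ideal.quotientKerAlgEquivOfSurjective hφ).symm.toAlgHom
  have hg : ∀ z, g (φ z) = π (ψ z) := fun z => by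
    have e : (Ideal.quotientKerAlgEquivOfSurjective hφ).symm (φ z) = Ideal.Quotient.mk _ z :=
      (AlgEquiv.symm_apply_eq _).2 rfl
    change (Ideal.Quotient.liftₐ (RingHom.ker φ) (π.comp ψ) hkill)
      ((Ideal.quotientKerAlgEquivOfSurjective hφ).symm (φ z)) = _
    rw [e]
    rfl
  have hnil : IsNilpotent I := ⟨2, by
    rw [show I ^ 2 = I * I from pow_two I, Ideal.zero_eq_bot, eq_bot_iff, Ideal.mul_le]
    exact fun i hi j hj => (Ideal.mem_bot).2 (hI i hi j hj)⟩
  let l : A →ₐ[k] B := Algebra.FormallySmooth.lift I hnil g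
  have hl : ∀ z, l (φ z) - ψ z ∈ I := fun z => by
    rw [← Ideal.Quotient.eq_zero_iff_mem, map_sub, sub_eq_zero]
    refine (Algebra.FormallySmooth.mk_lift I hnil g (φ z)).trans ?_
    exact hg z
  have h0 : (l.comp φ) (MvPolynomial.aeval ![MvPolynomial.X 0, MvPolynomial.X 1, (1 : MvPolynomial (Fin 2) k)]
      (cubic 0 a₂ 0 a₄ a₆)) = 0 := by
    change l (φ _) = 0
    rw [show φ (MvPolynomial.aeval ![MvPolynomial.X 0, MvPolynomial.X 1, (1 : MvPolynomial (Fin 2) k)]
      (cubic 0 a₂ 0 a₄ a₆)) = 0 from hker.ge (Ideal.mem_span_singleton_self _), map_zero]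
  rw [hcub] at h0
  obtain ⟨i, hi, hi'⟩ : ∃ i ∈ I, (l.comp φ) (MvPolynomial.X 0) = c α + i :=
    ⟨_, hl (MvPolynomial.X 0), by simp [ψ]⟩
  obtain ⟨j, hj, hj'⟩ : ∃ j ∈ I, (l.comp φ) (MvPolynomial.X 1) = c y₀ + t + j :=
    ⟨_, hl (MvPolynomial.X 1), by simp [ψ]⟩
  rw [hi', hj'] at h0
  simp only [hc] at h0
  have ht2 : t ^ 2 = 0 := by
    linear_combination h0 - hy' + (3 * c α + c (algebraMap k L a₂) + i) * hI i hi i hi - hI j hj j hj
      + i * hα' + (i * c α ^ 2 + i * c (algebraMap k L a₂) * c α - c y₀ * t - c y₀ * j - t * j) * h2B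
  rw [← map_pow, Ideal.Quotient.eq_zero_iff_mem, Ideal.mem_span_singleton] at ht2
  have := Polynomial.degree_le_of_dvd ht2 (pow_ne_zero 2 Polynomial.X_ne_zero)
  rw [Polynomial.degree_X_pow, Polynomial.degree_X_pow] at this
  exact absurd this (by norm_num)

/-- A root of a polynomial with nonvanishing derivative is separable. -/
lemma isSeparable_of_derivative {F E : Type u} [Field F] [Field E] [Algebra F E] {y : E}
    (p : Polynomial F) (hp : Polynomial.aeval y p = 0)
    (hd : Polynomial.aeval y (Polynomial.derivative p) ≠ 0) : IsSeparable F y := by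
  have hp0 : p ≠ 0 := fun e => hd (by rw [e, map_zero, map_zero])
  have hint : IsIntegral F y := isAlgebraic_iff_isIntegral.1 ⟨p, hp0, hp⟩
  change (minpoly F y).Separable
  rw [Polynomial.separable_iff_derivative_ne_zero (minpoly.irreducible hint)]
  intro e
  obtain ⟨q, rfl⟩ := minpoly.dvd F y hp
  refine hd ?_
  rw [Polynomial.derivative_mul, map_add, map_mul, map_mul, e, minpoly.aeval, map_zero, zero_mul,
    zero_mul, add_zero]

variable {X : Scheme.{u}} [IsIntegral X] [X.Over (Spec (CommRingCat.of k))]
  [IsProper (X ↘ Spec (CommRingCat.of k))] [Smooth (X ↘ Spec (CommRingCat.of k))] [RegCurve X]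

variable (k) in
/-- An elliptic curve has a separable function of degree two. -/
theorem exists_separable_deg_two (hdim : topologicalKrullDim X = 1) (hg : Curv2.genus k X = 1)
    {P : Place k X.functionField} (hP : P.deg = 1) :
    ∃ f : X.functionField, Transcendental k f ∧ Module.finrank k⟮f⟯ X.functionField = 2 ∧
      Algebra.IsSeparable k⟮f⟯ X.functionField := by
  have hK : IsFunctionField k X.functionField := isFunctionField_of_place_deg_one (isFF k hdim) hP
  have hg' : genus k X.functionField = 1 := (genus_eq_genus k hdim hK).symm.trans hg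
  obtain ⟨a₁, a₂, a₃, a₄, a₆, x, y, hx, hx2, hy, hy3, hW⟩ := exists_normal_form hK hg' hP
  have hx0 : x ≠ 0 := fun e => by simp [e] at hx2
  have hy0 : y ≠ 0 := fun e => by simp [e] at hy3
  have hxt : Transcendental k x := FF.transcendental_of_notMem hK fun ⟨c, hc⟩ => by
    rw [← hc, FF.ord_const] at hx2; omega
  have hfin : Module.finrank k⟮x⟯ X.functionField = 2 := by
    have h := FF.finrank_adjoin_eq_neg_ord_mul hK hxt (P := P) (by omega) fun Q hQ => by
      have := hx Q
      rwa [Finsupp.single_eq_of_ne hQ, exp_zero, FF.val_le_one_iff] at this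
    rw [hx2, hP] at h
    push_cast at h
    omega
  refine ⟨x, hxt, hfin, ?_⟩
  by_cases hD : 2 * y + algebraMap k X.functionField a₁ * x + algebraMap k X.functionField a₃ = 0
  · exfalso
    have h2 : (2 : k) = 0 := by
      by_contra h2
      have e : algebraMap k X.functionField 2 * y =
          -(algebraMap k X.functionField a₁ * x + algebraMap k X.functionField a₃) := by
        rw [map_ofNat]; linear_combination hD
      have h20 : algebraMap k X.functionField 2 ≠ 0 := by simpa using h2
      have hv : P.1 (algebraMap k X.functionField 2 * y) ≤ exp (2 : ℤ) := by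
        rw [e, Valuation.map_neg]
        refine (P.1.map_add _ _).trans (max_le ?_ ?_)
        · rw [map_mul]
          refine (mul_le_of_le_one_left' (FF.val_const_le P _)).trans_eq ?_
          rw [FF.val_eq_exp_ord P hx0, hx2]; rfl
        · refine (FF.val_const_le P _).trans ?_
          rw [← exp_zero, exp_le_exp]; norm_num
      rw [map_mul, FF.val_const P h2, one_mul, FF.val_eq_exp_ord P hy0, hy3, exp_le_exp] at hv
      omega
    have h2K : (2 : X.functionField) = 0 := by rw [← map_ofNat (algebraMap k X.functionField) 2, h2, map_zero]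
    have ha₁ : a₁ = 0 := by
      by_contra h
      refine hxt ?_
      have : x = algebraMap k X.functionField (-a₃ / a₁) := by
        rw [map_div₀, map_neg, eq_div_iff ((map_ne_zero _).2 h)]
        linear_combination hD - y * h2K
      rw [this]
      exact isAlgebraic_algebraMap _
    have ha₃ : a₃ = 0 := by
      rw [ha₁, map_zero, zero_mul, add_zero] at hD
      exact (map_eq_zero _).1 (by linear_combination hD - y * h2K)
    subst ha₁ ha₃
    have hv := FFCurve.hv (X := X) k hdim
    set U := regLocus x with hU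
    have hη : genericPoint X ∈ U := genericPoint_mem_regLocus x
    have hUaff : IsAffineOpen U := isAffineOpen_regLocus k hv hdim x ((transc_iff k x).2 hxt)
    letI : Algebra k Γ(X, U) := (kMap k U).toAlgebra
    have hsm : RingHom.Smooth (kMap (X := X) k U) := by
      have h := (X ↘ Spec (CommRingCat.of k)).smooth_appLE (isAffineOpen_top _) hUaff (le_top (a := U))
      have e : kMap (X := X) k U =
          ((Scheme.ΓSpecIso (CommRingCat.of k)).inv ≫ (X ↘ Spec (CommRingCat.of k)).appLE ⊤ U le_top).hom := by
        rw [Scheme.Hom.appLE]; rfl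
      rw [e]
      exact (RingHom.Smooth.respectsIso.cancel_left_isIso _ _).2 h
    haveI : Algebra.Smooth k Γ(X, U) := hsm
    have hbd : ∀ (z : ZetaLib.ClosedPt X), z.1 ∈ U → toPlace k hdim z ≠ P := fun z hz e => by
      have h := (mem_regLocus_iff_val k hdim x z).1 hz
      rw [e, FF.val_le_one_iff, hx2] at h
      omega
    have hle : ∀ (Q : Place k X.functionField), Q ≠ P → Q.1 x ≤ 1 ∧ Q.1 y ≤ 1 := fun Q hQ => by
      constructor
      · have := hx Q; rwa [Finsupp.single_eq_of_ne hQ, exp_zero] at this
      · have := hy Q; rwa [Finsupp.single_eq_of_ne hQ, exp_zero] at this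
    obtain ⟨sx, hsx⟩ := exists_secK_eq k hdim U hη x fun z hz => (hle _ (hbd z hz)).1
    obtain ⟨sy, hsy⟩ := exists_secK_eq k hdim U hη y fun z hz => (hle _ (hbd z hz)).2
    let φ : MvPolynomial (Fin 2) k →ₐ[k] Γ(X, U) := MvPolynomial.aeval ![sx, sy]
    have hev : ∀ Q, secK U hη (φ Q) = MvPolynomial.aeval ![x, y] Q := fun Q => by
      simp only [φ, MvPolynomial.aeval_def]
      rw [MvPolynomial.eval₂_comp_left (secK U hη)]
      congr 1
      · exact RingHom.ext fun b => secK_kMap k U hη b
      · funext i; fin_cases i <;> simp [hsx, hsy]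
    let v : Fin 3 → MvPolynomial (Fin 2) k := ![MvPolynomial.X 0, MvPolynomial.X 1, 1]
    have hσ : ∀ F : MvPolynomial (Fin 3) k, MvPolynomial.aeval ![x, y] (MvPolynomial.aeval v F) =
        MvPolynomial.aeval ![x, y, 1] F := fun F => by
      rw [← AlgHom.comp_apply, MvPolynomial.comp_aeval]
      congr 2
      funext i; fin_cases i <;> simp [v]
    have hsurj : Function.Surjective φ := fun z => by
      set g := secK U hη z with hg0def
      obtain ⟨N, hN⟩ : ∃ N : ℕ, g ∈ L (Finsupp.single P (3 * ((N + 1 : ℕ) : ℤ))) := by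
        refine ⟨(P.ord g).natAbs, fun Q => ?_⟩
        by_cases hQ : Q = P
        · subst hQ
          rw [Finsupp.single_eq_same]
          rcases eq_or_ne g 0 with h | h
          · simp [h]
          · rw [FF.val_eq_exp_ord _ h, exp_le_exp]; omega
        · obtain ⟨w, rfl⟩ := toPlace_surjective k hdim Q
          rw [Finsupp.single_eq_of_ne hQ, exp_zero]
          refine val_secK_le k hdim hη z w ?_
          exact (mem_regLocus_iff_val k hdim x w).2 (hle _ hQ).1
      obtain ⟨F, -, hF⟩ := exists_form hK hx hx2 hy hy3 hg' hP (Nat.le_add_left 1 N) hN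
      exact ⟨MvPolynomial.aeval v F, secK_injective U hη (by rw [hev, hσ, hF])⟩
    refine false_of_formallySmooth_two h2 a₂ a₄ a₆ φ hsurj (le_antisymm (fun Q hQ => ?_) ?_)
    · rw [RingHom.mem_ker] at hQ
      have hQ0 : MvPolynomial.aeval ![x, y] Q = 0 := by
        rw [← hev, show φ Q = 0 from hQ, map_zero]
      obtain ⟨M, F, hF, -, hFQ⟩ := ChartForms.exists_homogenise k 2 2 (MvPolynomial.rename (Fin.castSucc) Q)
      have h1 := hFQ (algebraMap k X.functionField) ![x, y, 1] (by simp)
      have h2' := hFQ (algebraMap k (MvPolynomial (Fin 2) k)) v (by simp [v])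
      have e1 : (![x, y, 1] : Fin 3 → X.functionField) ∘ Fin.castSucc = ![x, y] := by
        funext i; fin_cases i <;> rfl
      have e2 : v ∘ Fin.castSucc = MvPolynomial.X := by funext i; fin_cases i <;> rfl
      simp only [MvPolynomial.coe_eval₂Hom, ← MvPolynomial.aeval_def, MvPolynomial.aeval_rename,
        e1, e2, MvPolynomial.aeval_X_left_apply, hQ0] at h1 h2'
      obtain ⟨H, rfl⟩ := dvd_of_aeval_eq_zero hK hx hx2 hy hy3 hg' hP hW hF h1
      rw [Ideal.mem_span_singleton, ← h2', map_mul]
      exact dvd_mul_right _ _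
    · rw [Ideal.span_le, Set.singleton_subset_iff, SetLike.mem_coe, RingHom.mem_ker]
      refine secK_injective U hη ?_
      change secK U hη (φ (MvPolynomial.aeval v _)) = _
      rw [map_zero, hev, hσ, hW]
  · have htop : k⟮x, y⟯ = ⊤ := FF.adjoin_eq_top_of_orders hK hP hx hx2 hy hy3
    let F := k⟮x⟯
    let xF : F := ⟨x, IntermediateField.mem_adjoin_simple_self k x⟩
    let c : k → F := algebraMap k F
    let p : Polynomial F := Polynomial.X ^ 2 + Polynomial.C (c a₁ * xF + c a₃) * Polynomial.X -
      Polynomial.C (xF ^ 3 + c a₂ * xF ^ 2 + c a₄ * xF + c a₆)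
    have hc : ∀ b : k, algebraMap F X.functionField (c b) = algebraMap k X.functionField b := fun b => rfl
    have hxF : algebraMap F X.functionField xF = x := rfl
    have hW' : y ^ 2 + algebraMap k X.functionField a₁ * x * y + algebraMap k X.functionField a₃ * y
        - x ^ 3 - algebraMap k X.functionField a₂ * x ^ 2 - algebraMap k X.functionField a₄ * x
        - algebraMap k X.functionField a₆ = 0 := by
      rw [← hW]; simp [cubic]
    have hsep : IsSeparable F y := by
      refine isSeparable_of_derivative p ?_ ?_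
      · simp only [p, map_sub, map_add, map_mul, map_pow, Polynomial.aeval_X, Polynomial.aeval_C, hc, hxF]
        linear_combination hW'
      · intro h
        refine hD ?_
        have hdp : Polynomial.derivative p = Polynomial.C 2 * Polynomial.X + Polynomial.C (c a₁ * xF + c a₃) := by
          rw [Polynomial.derivative_sub, Polynomial.derivative_C, sub_zero, Polynomial.derivative_add,
            Polynomial.derivative_X_pow, Polynomial.derivative_C_mul, Polynomial.derivative_X, mul_one]
          simp
        rw [hdp] at h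
        simp only [map_add, map_mul, Polynomial.aeval_X, Polynomial.aeval_C, hc, hxF, map_ofNat] at h
        linear_combination h
    have htop' : (F⟮y⟯ : IntermediateField F X.functionField) = ⊤ := by
      refine IntermediateField.restrictScalars_injective k ?_
      rw [IntermediateField.restrictScalars_top, IntermediateField.adjoin_simple_adjoin_simple, htop]
    haveI : Algebra.IsSeparable F F⟮y⟯ :=
      (IntermediateField.isSeparable_adjoin_simple_iff_isSeparable F X.functionField).2 hsep
    exact Algebra.IsSeparable.of_algHom F F⟮y⟯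
      ((IntermediateField.equivOfEq htop').trans IntermediateField.topEquiv).symm.toAlgHom

end Groth.Agent.FFCurve.Weierstrass
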