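import Groth.Agent.FFCurve.P1Map
import Groth.Agent.FFCurve.Curve
import Groth.Agent.FFCurve.PointRR
import Groth.Agent.FF.Linear
import Groth.Agent.VarDim.Curve
import Groth.Agent.RedSub.Basic
import Groth.Agent.ZetaLib.Decomp

/-!
# Curves with a function of degree one
-/

universe u

open CategoryTheory AlgebraicGeometry FunFld WithZero

set_option linter.style.haveILetI false
set_option backward.isDefEq.respectTransparency false
set_option backward.isDefEq.respectTransparency.types false

namespace Groth.Agent.FFCurve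

variable (k : Type u) [Field k] {X : Scheme.{u}} [IsIntegral X] [X.Over (Spec (CommRingCat.of k))]

include k in
/-- Normal curves qualify. -/
lemma regCurve_of_normal [LocallyOfFiniteType (X ↘ Spec (CommRingCat.of k))] (hdim : topologicalKrullDim X = 1)
    (hn : Pi1.IsNormalScheme X) : RegCurve X := ⟨fun x => by
  by_cases hx : x = genericPoint X
  · subst hx
    change ValuationRing X.functionField
    infer_instance
  · haveI : IsLocallyNoetherian X := LocallyOfFiniteType.isLocallyNoetherian (X ↘ Spec (CommRingCat.of k))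
    obtain ⟨_, h⟩ := VarDim.isDiscreteValuationRing_stalk_of_coheight_eq_one hn x
      (CurveDVR.coheight_eq_one (X ↘ Spec (CommRingCat.of k)) hdim
        (VarDim.isClosed_singleton_of_ne_genericPoint k hdim hx))
    infer_instance⟩

variable [IsProper (X ↘ Spec (CommRingCat.of k))] [RegCurve X] (hdim : topologicalKrullDim X = 1)
include hdim

/-- A rational point gives a place of degree one. -/
lemma exists_closedPt_of_section (x : Spec (CommRingCat.of k) ⟶ X)
    (hx : x ≫ (X ↘ Spec (CommRingCat.of k)) = 𝟙 _) :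
    ∃ z : ZetaLib.ClosedPt X, z.1 = x (IsLocalRing.closedPoint k) ∧ (toPlace k hdim z).deg = 1 ∧
      x.ker = pointI z := by
  haveI : IsClosedImmersion (x ≫ (X ↘ Spec (CommRingCat.of k))) := by rw [hx]; infer_instance
  haveI : IsClosedImmersion x := IsClosedImmersion.of_comp x (X ↘ Spec (CommRingCat.of k))
  have hrange : Set.range x = {x (IsLocalRing.closedPoint k)} :=
    Set.eq_singleton_iff_unique_mem.2 ⟨⟨_, rfl⟩, by rintro _ ⟨a, rfl⟩; exact congrArg x (Subsingleton.elim _ _)⟩
  have hc : IsClosed ({x (IsLocalRing.closedPoint k)} : Set X) :=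
    hrange ▸ x.isClosedEmbedding.isClosed_range
  refine ⟨⟨_, hc⟩, rfl, ?_, RedSub.ker_eq_vanishingIdeal x _ hrange⟩
  rw [← finrank_residueField k hdim]
  let a : Spec (CommRingCat.of k) := IsLocalRing.closedPoint k
  have h1 := ZetaLib.residueDegree_preimmersion (x ≫ (X ↘ Spec (CommRingCat.of k))) a
  have hs : Function.Surjective ((x ≫ (X ↘ Spec (CommRingCat.of k))).residueFieldMap a) := fun z => by
    letI := ((x ≫ (X ↘ Spec (CommRingCat.of k))).residueFieldMap a).hom.toAlgebra
    obtain ⟨c, hc⟩ := (finrank_eq_one_iff_of_nonzero' (1 : (Spec (CommRingCat.of k)).residueField a) one_ne_zero).1 h1 z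
    exact ⟨c, by rw [← hc, Algebra.smul_def, mul_one]; rfl⟩
  rw [Scheme.residueFieldMap_comp] at hs
  letI := ((X ↘ Spec (CommRingCat.of k)).residueFieldMap (x a)).hom.toAlgebra
  refine finrank_eq_one (1 : X.residueField (x a)) one_ne_zero fun u => ?_
  obtain ⟨c, hc⟩ := hs (x.residueFieldMap a u)
  refine ⟨c, ?_⟩
  rw [Algebra.smul_def, mul_one]
  exact (x.residueFieldMap a).hom.injective hc

/-- With a place of degree one the constants are the base field. -/
lemma isFunctionField_of_deg_one {P : Place k X.functionField} (hP : P.deg = 1) :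
    IsFunctionField k X.functionField := by
  refine ⟨isFF k hdim, fun y hy => ?_⟩
  have hy1 : P.1 y ≤ 1 := by rw [FF.val_le_one_iff, FF.ord_eq_zero_of_isAlgebraic P hy]
  obtain ⟨c, hc⟩ := (finrank_eq_one_iff_of_nonzero' (1 : IsLocalRing.ResidueField P.O) one_ne_zero).1 hP
    (IsLocalRing.residue P.O ⟨y, (FF.mem_O P).2 hy1⟩)
  refine ⟨c, ?_⟩
  by_contra hne
  have hne' : y - algebraMap k X.functionField c ≠ 0 := sub_ne_zero.2 (Ne.symm hne)
  have h0 := FF.ord_eq_zero_of_isAlgebraic P (hy.sub (isAlgebraic_algebraMap c))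
  rw [← FF.val_eq_one_iff P hne'] at h0
  have h2 : IsLocalRing.residue P.O (⟨y, (FF.mem_O P).2 hy1⟩ - algebraMap k P.O c) = 0 := by
    rw [map_sub, ← hc, Algebra.smul_def, mul_one, sub_eq_zero]
    rfl
  rw [IsLocalRing.residue_eq_zero_iff, FF.mem_maximalIdeal] at h2
  exact h2.ne h0

variable (hK : IsFunctionField k X.functionField)
include hK

/-- A divisor of degree one moving in a pencil gives an isomorphism with the line. -/
theorem exists_iso_p1_of_deg_one {E : Divisor k X.functionField} (hE : E.deg = 1) (hl : 2 ≤ ell E) :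
    ∃ e : X ≅ CohB1.ProjSpace 1 k, e.hom ≫ CohB1.ProjSpace.toSpec 1 k = X ↘ Spec (CommRingCat.of k) := by
  classical
  obtain ⟨z, hz, hnn⟩ := FF.exists_nonneg_equiv hK (D := E) (by omega)
  set E' := E + div k z with hE'
  have hd : E'.deg = 1 := by rw [hE', FF.deg_add, FF.deg_div hK.1, add_zero, hE]
  have hl' : 2 ≤ ell E' := by rw [hE', FF.ell_add_div hK hz]; exact hl
  obtain ⟨P, hP⟩ : ∃ P, 0 < E' P := by
    by_contra! h
    have := FF.deg_mono (show E' ≤ 0 from fun Q => h Q)
    rw [hd, FF.deg_zero'] at this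
    omega
  have hle : Finsupp.single P 1 ≤ E' := fun Q => by
    rw [Finsupp.single_apply]
    split_ifs with e
    · subst e; omega
    · exact hnn Q
  have hPd : P.deg = 1 := by
    have h1 := FF.deg_mono hle
    rw [FF.deg_single, hd] at h1
    have := FF.deg_pos hK.1 P
    omega
  have heq : E' = Finsupp.single P 1 := by
    refine le_antisymm (fun Q => ?_) hle
    by_contra hlt
    push_cast at hlt
    have h2 : Finsupp.single Q 1 + Finsupp.single P 1 ≤ E' := fun R => by
      rw [Finsupp.add_apply, Finsupp.single_apply, Finsupp.single_apply]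
      split_ifs with e1 e2 e2
      · subst e1; subst e2; rw [Finsupp.single_eq_same] at hlt; omega
      · subst e1; rw [Finsupp.single_eq_of_ne (fun h => e2 h.symm)] at hlt; omega
      · subst e2; omega
      · simpa using hnn R
    have h3 := FF.deg_mono h2
    rw [FF.deg_add, FF.deg_single, FF.deg_single, hd, hPd] at h3
    have := FF.deg_pos hK.1 Q
    omega
  obtain ⟨x, hx, hreg⟩ := (FF.exists_simple_pole_iff_ell hK hPd).2 (by rw [← heq]; omega)
  have hxt : Transcendental k x := FF.transcendental_of_notMem hK fun ⟨c, hc⟩ => by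
    rw [← hc, FF.ord_const] at hx; omega
  have h1 := FF.finrank_adjoin_eq_neg_ord_mul hK hxt (P := P) (by omega) hreg
  rw [hx, hPd] at h1
  push_cast at h1
  exact exists_iso_p1 k hdim hxt (FF.eq_top_of_finrank_eq_one hK (by omega))

end Groth.Agent.FFCurve
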