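import Groth.Agent.HurwitzLib.Main
import Groth.Agent.FFCurve.AlgClosed
import Groth.Agent.FFCurve.P1Iso
import Groth.Agent.FFCurve.P1Deg
import Groth.Agent.EulerChar.FiniteMap
import Groth.Agent.FFCurve.PlaneNotHyper
import Mathlib.AlgebraicGeometry.Morphisms.FormallyUnramified
import Mathlib.RingTheory.RamificationInertia.Basic
import Mathlib.RingTheory.RamificationInertia.Inertia
import Mathlib.RingTheory.Flat.TorsionFree

/-!
# Ramification in the fibres of a cover of curves
-/

set_option autoImplicit false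
set_option linter.style.haveILetI false
set_option linter.unusedSectionVars false
set_option backward.isDefEq.respectTransparency false
set_option backward.isDefEq.respectTransparency.types false

universe u

open CategoryTheory AlgebraicGeometry TopologicalSpace nonZeroDivisors FunFld
open Groth.Agent.VBLib Groth.Agent.VBLib.PushTrace
open Groth.Agent.CurveCoh (kMap)

noncomputable section

namespace Groth.Agent.FFCurve.EtaleOutside

variable {k : Type u} [Field k] {X Y : Scheme.{u}} [X.Over (Spec (CommRingCat.of k))]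
  [Y.Over (Spec (CommRingCat.of k))] [IsIntegral X] [IsIntegral Y] (f : X ⟶ Y) [IsFinite f]

/-- The ramification index at a point. -/
abbrev ram (x : X) : ℕ :=
  letI := (f.stalkMap x).hom.toAlgebra
  Ideal.ramificationIdx (IsLocalRing.maximalIdeal (X.presheaf.stalk x)) (Y.presheaf.stalk (f x))

variable (e : f (genericPoint X) = genericPoint Y)

include e in
/-- In a fibre the ramification indices sum to at most the degree, and they are positive. -/
theorem sum_ram_le (hX : GoodCurve k X) (hY : GoodCurve k Y) (s : Finset X) (y : Y)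
    (hy : IsClosed ({y} : Set Y)) (hs : ∀ x ∈ s, IsClosed ({x} : Set X) ∧ f x = y) :
    letI := (VBLib.PushTrace.genMap f e).toAlgebra
    ∑ x ∈ s, ram f x ≤ Module.finrank Y.functionField X.functionField ∧ ∀ x ∈ s, 0 < ram f x := by
  classical
  haveI := hX.proper
  haveI := hY.proper
  haveI := hX.isLocallyNoetherian
  haveI := hY.isLocallyNoetherian
  obtain ⟨_, ⟨V, hV, rfl⟩, hyV, -⟩ :=
    Y.isBasis_affineOpens.exists_subset_of_mem_open (Set.mem_univ y) isOpen_univ
  replace hyV : y ∈ V := hyV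
  haveI : Nonempty V := ⟨⟨y, hyV⟩⟩
  have hη : genericPoint Y ∈ V := genericPoint_mem_of_mem hyV
  have hη' := genericPoint_mem_preimage f e hη
  haveI : Nonempty (f ⁻¹ᵁ V : X.Opens) := ⟨⟨_, hη'⟩⟩
  have hW : IsAffineOpen (f ⁻¹ᵁ V) := hV.preimage f
  haveI hDA := HurwitzLib.isDedekindDomain_of_goodCurve k hY hV
  haveI hDB : IsDedekindDomain Γ(X, f ⁻¹ᵁ V) := HurwitzLib.isDedekindDomain_of_goodCurve k hX hW
  letI algB : Algebra Γ(Y, V) Γ(X, f ⁻¹ᵁ V) := (f.app V).hom.toAlgebra
  haveI : Module.Finite Γ(Y, V) Γ(X, f ⁻¹ᵁ V) := RingHom.finite_algebraMap.1 (IsFinite.finite_app f V hV)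
  have hinj : Function.Injective (algebraMap Γ(Y, V) Γ(X, f ⁻¹ᵁ V)) := app_injective f e hη
  haveI : FaithfulSMul Γ(Y, V) Γ(X, f ⁻¹ᵁ V) := (faithfulSMul_iff_algebraMap_injective _ _).mpr hinj
  haveI : Module.IsTorsionFree Γ(Y, V) Γ(X, f ⁻¹ᵁ V) := inferInstance
  letI := (VBLib.PushTrace.genMap f e).toAlgebra
  have hn : Module.finrank Γ(Y, V) Γ(X, f ⁻¹ᵁ V) = Module.finrank Y.functionField X.functionField := by
    letI : Algebra Γ(Y, V) X.functionField :=
      ((algebraMap Γ(X, f ⁻¹ᵁ V) X.functionField).comp (algebraMap Γ(Y, V) Γ(X, f ⁻¹ᵁ V))).toAlgebra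
    haveI : IsScalarTower Γ(Y, V) Γ(X, f ⁻¹ᵁ V) X.functionField := IsScalarTower.of_algebraMap_eq' rfl
    haveI : IsScalarTower Γ(Y, V) Y.functionField X.functionField :=
      IsScalarTower.of_algebraMap_eq fun r => (genMap_germ f e V hη hη' r).symm
    haveI : IsFractionRing Γ(Y, V) Y.functionField := functionField_isFractionRing_of_isAffineOpen Y V hV
    haveI : IsFractionRing Γ(X, f ⁻¹ᵁ V) X.functionField :=
      functionField_isFractionRing_of_isAffineOpen X _ hW
    exact (IsFractionRing.finrank_eq Γ(Y, V) Y.functionField Γ(X, f ⁻¹ᵁ V) X.functionField).symm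
  set p := (hV.primeIdealOf ⟨y, hyV⟩).asIdeal with hp
  haveI : p.IsMaximal := HurwitzLib.isMaximal_primeIdealOf hV hyV hy
  have hp0 : p ≠ ⊥ := HurwitzLib.primeIdealOf_ne_bot hY.dim hV hyV hy
  have hmem : ∀ x ∈ s, x ∈ f ⁻¹ᵁ V := fun x hx => show f x ∈ V by rw [(hs x hx).2]; exact hyV
  let P : X → Ideal Γ(X, f ⁻¹ᵁ V) := fun x =>
    if h : x ∈ f ⁻¹ᵁ V then (hW.primeIdealOf ⟨x, h⟩).asIdeal else ⊥
  have key : ∀ x ∈ s, (P x).IsPrime ∧ (P x).LiesOver p ∧ ram f x = (P x).ramificationIdx Γ(Y, V) := by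
    intro x hx
    obtain ⟨hc, rfl⟩ := hs x hx
    have hxV := hmem x hx
    simp only [P, dif_pos hxV]
    haveI : IsDomain (X.presheaf.stalk x) := inferInstance
    haveI : IsPrincipalIdealRing (X.presheaf.stalk x) := hX.pid x
    haveI : IsDiscreteValuationRing (X.presheaf.stalk x) :=
      { not_a_field' := fun h => by
          letI := X.presheaf.algebra_section_stalk (⟨x, hxV⟩ : (f ⁻¹ᵁ V : X.Opens))
          haveI := hW.isLocalization_stalk ⟨x, hxV⟩
          rw [← IsLocalization.AtPrime.map_eq_maximalIdeal (hW.primeIdealOf ⟨x, hxV⟩).asIdeal,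
            Ideal.map_eq_bot_iff_of_injective (IsLocalization.injective (X.presheaf.stalk x)
              ((hW.primeIdealOf ⟨x, hxV⟩).asIdeal.primeCompl_le_nonZeroDivisors))] at h
          exact HurwitzLib.primeIdealOf_ne_bot hX.dim hW hxV hc h }
    obtain ⟨hlo, hram, -⟩ := HurwitzLib.ramification_at f hV hW hxV hc hy rfl p rfl _ rfl
      ((Ideal.map_eq_bot_iff_of_injective hinj).not.mpr hp0)
    exact ⟨(hW.primeIdealOf ⟨x, hxV⟩).isPrime, hlo, hram⟩
  refine ⟨?_, fun x hx => ?_⟩
  · haveI : Fintype (p.primesOver Γ(X, f ⁻¹ᵁ V)) :=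
      Set.Finite.fintype (IsDedekindDomain.primesOver_finite p Γ(X, f ⁻¹ᵁ V))
    rw [← hn, ← Ideal.sum_ramification_inertia_eq_finrank (R := Γ(Y, V)) (S := Γ(X, f ⁻¹ᵁ V)) (p := p)]
    let φ : {x // x ∈ s} → p.primesOver Γ(X, f ⁻¹ᵁ V) := fun x => ⟨P x, (key x x.2).1, (key x x.2).2.1⟩
    have hφ : Function.Injective φ := by
      intro x x' h
      have h' : P x.1 = P x'.1 := congrArg Subtype.val h
      simp only [P, dif_pos (hmem x x.2), dif_pos (hmem x' x'.2)] at h'
      have h3 := congrArg hW.fromSpec (PrimeSpectrum.ext h' :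
        hW.primeIdealOf ⟨x.1, hmem x x.2⟩ = hW.primeIdealOf ⟨x'.1, hmem x' x'.2⟩)
      rw [hW.fromSpec_primeIdealOf, hW.fromSpec_primeIdealOf] at h3
      exact Subtype.ext h3
    rw [← Finset.sum_coe_sort s]
    refine le_trans ?_ (Finset.sum_le_sum_of_subset
      (Finset.subset_univ (Finset.univ.map ⟨φ, hφ⟩)))
    rw [Finset.sum_map]
    refine Finset.sum_le_sum fun x _ => ?_
    haveI : (P x.1).IsPrime := (key x x.2).1
    haveI : (P x.1).LiesOver p := (key x x.2).2.1
    rw [(key x x.2).2.2]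
    exact Nat.le_mul_of_pos_right _ (Ideal.inertiaDeg_pos (R := Γ(Y, V)) (P x.1))
  · haveI : (P x).IsPrime := (key x hx).1
    rw [(key x hx).2.2]
    exact Ideal.ramificationIdx_pos (R := Γ(Y, V)) (P x)

omit [X.Over (Spec (CommRingCat.of k))] [Y.Over (Spec (CommRingCat.of k))] in
/-- Over an open where the map is unramified, the ramification indices are one. -/
theorem ram_eq_one (W : Y.Opens) [FormallyUnramified (f ∣_ W)] [LocallyOfFiniteType (f ∣_ W)] {x : X}
    (hx : f x ∈ W) : ram f x = 1 := by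
  haveI := RingHom.toMorphismProperty_respectsIso_iff.mp RingHom.FormallyUnramified.respectsIso
  haveI := RingHom.toMorphismProperty_respectsIso_iff.mp RingHom.EssFiniteType.respectsIso
  have h1 : (f.stalkMap x).hom.FormallyUnramified :=
    ((RingHom.toMorphismProperty RingHom.FormallyUnramified).arrow_mk_iso_iff (morphismRestrictStalkMap f W ⟨x, hx⟩)).mp
      (FormallyUnramified.stalkMap (f ∣_ W) ⟨x, hx⟩)
  have h2 : (f.stalkMap x).hom.EssFiniteType :=
    ((RingHom.toMorphismProperty RingHom.EssFiniteType).arrow_mk_iso_iff (morphismRestrictStalkMap f W ⟨x, hx⟩)).mp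
      (LocallyOfFiniteType.stalkMap (f ∣_ W) ⟨x, hx⟩)
  letI := (f.stalkMap x).hom.toAlgebra
  haveI : Algebra.FormallyUnramified (Y.presheaf.stalk (f x)) (X.presheaf.stalk x) := by
    rw [← RingHom.formallyUnramified_algebraMap, RingHom.algebraMap_toAlgebra]; exact h1
  haveI : Algebra.EssFiniteType (Y.presheaf.stalk (f x)) (X.presheaf.stalk x) := by
    rw [← RingHom.essFiniteType_algebraMap, RingHom.algebraMap_toAlgebra]; exact h2
  exact Ideal.ramificationIdx_eq_one _ _

end Groth.Agent.FFCurve.EtaleOutside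

namespace Groth.Agent.FFCurve.EtaleOutside

attribute [local instance] Curv2.resAlgebra

variable {k : Type u} [Field k]

/-- Compatibility of the residue field map with the base field. -/
lemma residueFieldMap_resMap {X Y : Scheme.{u}} [X.Over (Spec (CommRingCat.of k))]
    [Y.Over (Spec (CommRingCat.of k))] (f : X ⟶ Y)
    (hf : f ≫ (Y ↘ (Spec (CommRingCat.of k))) = (X ↘ (Spec (CommRingCat.of k)))) (x : X) (c : k) :
    f.residueFieldMap x (Curv2.resMap k Y (f x) c) = Curv2.resMap k X x c := by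
  show f.residueFieldMap x (Y.residue (f x) (Y.presheaf.germ ⊤ (f x) trivial (Coh.toGlobal (Y ↘ Spec (CommRingCat.of k)) c))) =
    X.residue x (X.presheaf.germ ⊤ x trivial (Coh.toGlobal (X ↘ Spec (CommRingCat.of k)) c))
  rw [← CommRingCat.comp_apply, Scheme.residue_residueFieldMap, CommRingCat.comp_apply]
  erw [Scheme.Hom.germ_stalkMap_apply]
  rw [← hf]
  rfl

variable [IsAlgClosed k]

/-- At a closed point over an algebraically closed field the residue field is the base field. -/
lemma resMap_bijective {X : Scheme.{u}} [X.Over (Spec (CommRingCat.of k))]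
    [LocallyOfFiniteType (X ↘ Spec (CommRingCat.of k))] {x : X} (hc : IsClosed ({x} : Set X)) :
    Function.Bijective (Curv2.resMap k X x) ∧ Module.finrank k (X.residueField x) = 1 := by
  haveI : Module.Finite k (X.residueField x) :=
    (ZetaLib.isClosed_iff_finite (X ↘ Spec (CommRingCat.of k)) x).1 hc
  have h : Function.Bijective (algebraMap k (X.residueField x)) :=
    IsAlgClosed.algebraMap_bijective_of_isIntegral
  exact ⟨h, (LinearEquiv.ofBijective (Algebra.linearMap k _) h).finrank_eq.symm.trans (Module.finrank_self k)⟩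

/-- In characteristic zero every closed point is tame. -/
lemma tameAt [CharZero k] {X Y : Scheme.{u}} [X.Over (Spec (CommRingCat.of k))]
    [Y.Over (Spec (CommRingCat.of k))] [LocallyOfFiniteType (X ↘ Spec (CommRingCat.of k))] (f : X ⟶ Y)
    (hf : f ≫ (Y ↘ (Spec (CommRingCat.of k))) = (X ↘ (Spec (CommRingCat.of k)))) {x : X}
    (hc : IsClosed ({x} : Set X)) (hr : 0 < ram f x) : HurwitzLib.TameAt f x := by
  letI := (f.residueFieldMap x).hom.toAlgebra
  haveI : CharZero (Y.residueField (f x)) := charZero_of_injective_ringHom (Curv2.resMap k Y (f x)).injective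
  have hsurj : Function.Surjective (algebraMap (Y.residueField (f x)) (X.residueField x)) := fun z => by
    obtain ⟨c, rfl⟩ := (resMap_bijective (k := k) hc).1.2 z
    exact ⟨Curv2.resMap k Y (f x) c, residueFieldMap_resMap f hf x c⟩
  haveI : Module.Finite (Y.residueField (f x)) (X.residueField x) :=
    Module.Finite.of_surjective (Algebra.linearMap _ _) hsurj
  exact ⟨inferInstance, by exact_mod_cast hr.ne'⟩

set_option maxHeartbeats 1600000 in
/-- A cover of the line étale outside two points is totally ramified over them, by a rational curve. -/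
theorem rational_of_etale_outside [CharZero k] {C : Scheme.{u}} [C.Over (Spec (CommRingCat.of k))]
    [IsIntegral C] [IsProper (C ↘ Spec (CommRingCat.of k))] [Smooth (C ↘ Spec (CommRingCat.of k))]
    (hdim : topologicalKrullDim C = 1) (f : C ⟶ CohB1.ProjSpace 1 k)
    (hf : f ≫ CohB1.ProjSpace.toSpec 1 k = C ↘ Spec (CommRingCat.of k)) [Surjective f]
    (p q : ↥(CohB1.ProjSpace 1 k)) (hp : IsClosed ({p} : Set ↥(CohB1.ProjSpace 1 k)))
    (hq : IsClosed ({q} : Set ↥(CohB1.ProjSpace 1 k)))
    (W : (CohB1.ProjSpace 1 k).Opens) (hW : (W : Set ↥(CohB1.ProjSpace 1 k)) = {p, q}ᶜ) [Etale (f ∣_ W)] :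
    (∃ e : C ≅ CohB1.ProjSpace 1 k, e.hom ≫ CohB1.ProjSpace.toSpec 1 k = C ↘ Spec (CommRingCat.of k)) ∧
      (∀ x y : C, f x = p → f y = p → x = y) ∧ (∀ x y : C, f x = q → f y = q → x = y) := by
  classical
  letI : (CohB1.ProjSpace 1 k).Over (Spec (CommRingCat.of k)) := ⟨CohB1.ProjSpace.toSpec 1 k⟩
  obtain ⟨hPp, hPs, hPi, hPd⟩ := p1_facts k
  haveI := hPi
  haveI : IsProper ((CohB1.ProjSpace 1 k) ↘ Spec (CommRingCat.of k)) := hPp
  haveI : Smooth ((CohB1.ProjSpace 1 k) ↘ Spec (CommRingCat.of k)) := hPs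
  have hY : GoodCurve k (CohB1.ProjSpace 1 k) := VBLib.goodCurve_of_smooth hPd
  have hX : GoodCurve k C := VBLib.goodCurve_of_smooth hdim
  haveI : RegCurve C := ⟨CurveCoh.valuationRing_stalk k C hdim⟩
  haveI : RegCurve (CohB1.ProjSpace 1 k) := ⟨CurveCoh.valuationRing_stalk k _ hPd⟩
  haveI := hX.isLocallyNoetherian
  haveI := hY.isLocallyNoetherian
  have e : f (genericPoint C) = genericPoint (CohB1.ProjSpace 1 k) := by
    obtain ⟨x, hx⟩ := f.surjective (genericPoint (CohB1.ProjSpace 1 k))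
    exact (((genericPoint_specializes x).map f.continuous).trans (specializes_of_eq hx)).antisymm
      (genericPoint_specializes _) |>.eq
  haveI : IsFinite f := EulerChar.isFinite_of_curves (k := k) f hf hdim hPd e
  letI := (VBLib.PushTrace.genMap f e).toAlgebra
  set n := Module.finrank (CohB1.ProjSpace 1 k).functionField C.functionField with hn
  have hclosed : ∀ {y : ↥(CohB1.ProjSpace 1 k)}, IsClosed ({y} : Set ↥(CohB1.ProjSpace 1 k)) → ∀ x : C, f x = y →
      IsClosed ({x} : Set C) := fun {y} hy x hx =>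
    VarDim.isClosed_singleton_of_ne_genericPoint k hdim fun h => by
      rw [h, e] at hx
      exact HurwitzLib.not_isClosed_genericPoint hPd (hx ▸ hy)
  -- the degree is positive
  obtain ⟨x₀, hx₀⟩ := f.surjective p
  have hpos : 0 < n := by
    obtain ⟨h1, h2⟩ := sum_ram_le f e hX hY {x₀} p hp (by simpa using ⟨hclosed hp x₀ hx₀, hx₀⟩)
    rw [Finset.sum_singleton] at h1
    exact lt_of_lt_of_le (h2 x₀ (Finset.mem_singleton_self _)) h1
  haveI : FiniteDimensional (CohB1.ProjSpace 1 k).functionField C.functionField :=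
    Module.finite_of_finrank_pos hpos
  have hKY := isFunctionField_of_isAlgClosed (X := CohB1.ProjSpace 1 k) k hPd
  have hKX := isFunctionField_of_isAlgClosed (X := C) k hdim
  -- separability
  have hsep : HurwitzLib.Sep f e := by
    haveI : CharZero (CohB1.ProjSpace 1 k).functionField :=
      charZero_of_injective_ringHom (algebraMap k (CohB1.ProjSpace 1 k).functionField).injective
    show Algebra.IsSeparable (CohB1.ProjSpace 1 k).functionField C.functionField
    infer_instance
  have htame : ∀ x : C, IsClosed ({x} : Set C) → HurwitzLib.TameAt f x := fun x hx => by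
    refine tameAt f hf hx ((sum_ram_le f e hX hY {x} (f x) ?_ (by simpa using hx)).2 x (Finset.mem_singleton_self _))
    rw [← Set.image_singleton]
    exact f.isClosedMap _ hx
  have hH := (HurwitzLib.hurwitz f e hf hX hY hsep).2.2 htame
  -- Euler characteristics
  have hgY : genus k (CohB1.ProjSpace 1 k).functionField = 0 := by
    obtain ⟨t, -, h1, -⟩ := exists_param k hPd (𝟙 (CohB1.ProjSpace 1 k)) (Category.id_comp _)
    have h0 : (𝟙 (CohB1.ProjSpace 1 k) : CohB1.ProjSpace 1 k ⟶ _).residueDegree (genericPoint _) = 1 := by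
      simp
    exact FF.genus_eq_zero_of_rational hKY (FF.eq_top_of_finrank_eq_one hKY (h1.symm.trans h0))
  have heuler : ∀ (Z : Scheme.{u}) [Z.Over (Spec (CommRingCat.of k))] [IsIntegral Z]
      [IsProper (Z ↘ Spec (CommRingCat.of k))] [RegCurve Z] (hd : topologicalKrullDim Z = 1)
      (hK : IsFunctionField k Z.functionField),
      Curv2.euler k Z (Coh.structureModule Z) = 1 - (genus k Z.functionField : ℤ) := by
    intro Z _ _ _ _ hd hK
    obtain ⟨c, hc, hD⟩ := exists_divOf_structureModule (X := Z) k hd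
    rw [euler_eq_deg k hd hK (isInvertible_structureModule (X := Z)), hD, FF.deg_div hK.1]
    ring
  rw [heuler C hdim hKX, heuler _ hPd hKY, hgY, ← hn] at hH
  -- the ramification sum
  let Sp : Finset C := (f.finite_preimage_singleton p).toFinset
  let Sq : Finset C := (f.finite_preimage_singleton q).toFinset
  have hmemp : ∀ x, x ∈ Sp ↔ f x = p := fun x => by simp [Sp]
  have hmemq : ∀ x, x ∈ Sq ↔ f x = q := fun x => by simp [Sq]
  obtain ⟨hsp, hrp⟩ := sum_ram_le f e hX hY Sp p hp fun x hx =>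
    ⟨hclosed hp x ((hmemp x).1 hx), (hmemp x).1 hx⟩
  obtain ⟨hsq, hrq⟩ := sum_ram_le f e hX hY Sq q hq fun x hx =>
    ⟨hclosed hq x ((hmemq x).1 hx), (hmemq x).1 hx⟩
  rw [← hn] at hsp hsq
  have hval : ∀ x, f x = p ∨ f x = q → HurwitzLib.ramTerm f k x = (ram f x : ℤ) - 1 := fun x hx => by
    have hc : IsClosed ({x} : Set C) := hx.elim (hclosed hp x) (hclosed hq x)
    have h0 : 0 < ram f x := hx.elim (fun h => hrp x ((hmemp x).2 h)) (fun h => hrq x ((hmemq x).2 h))
    unfold HurwitzLib.ramTerm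
    rw [if_pos hc, (resMap_bijective hc).2, Nat.cast_one, mul_one]
    show (((ram f x - 1 : ℕ)) : ℤ) = _
    omega
  have hsupp : Function.support (HurwitzLib.ramTerm f k) ⊆ ((Sp ∪ Sq : Finset C) : Set C) := by
    intro x hx
    by_contra hns
    rw [Finset.coe_union, Set.mem_union, Finset.mem_coe, Finset.mem_coe, hmemp, hmemq, not_or] at hns
    apply hx
    unfold HurwitzLib.ramTerm
    split_ifs with hc
    · haveI : FormallyUnramified (f ∣_ W) := inferInstance
      have h1 : ram f x = 1 := ram_eq_one f W (x := x) (show f x ∈ (W : Set _) by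
        rw [hW]; simp [hns.1, hns.2])
      show (((ram f x - 1 : ℕ)) : ℤ) * _ = 0
      simp [h1]
    · rfl
  rw [finsum_eq_sum_of_support_subset _ hsupp] at hH
  have hcardp : 1 ≤ Sp.card := Finset.card_pos.2 ⟨x₀, (hmemp x₀).2 hx₀⟩
  obtain ⟨y₀, hy₀⟩ := f.surjective q
  have hcardq : 1 ≤ Sq.card := Finset.card_pos.2 ⟨y₀, (hmemq y₀).2 hy₀⟩
  have hSp : ∑ x ∈ Sp, HurwitzLib.ramTerm f k x ≤ (n : ℤ) - Sp.card := by
    rw [Finset.sum_congr rfl fun x hx => hval x (Or.inl ((hmemp x).1 hx)), Finset.sum_sub_distrib]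
    simp only [Finset.sum_const, nsmul_eq_mul, mul_one]
    have : ((∑ x ∈ Sp, ram f x : ℕ) : ℤ) ≤ n := by exact_mod_cast hsp
    push_cast at this
    linarith
  have hSq : ∑ x ∈ Sq, HurwitzLib.ramTerm f k x ≤ (n : ℤ) - Sq.card := by
    rw [Finset.sum_congr rfl fun x hx => hval x (Or.inr ((hmemq x).1 hx)), Finset.sum_sub_distrib]
    simp only [Finset.sum_const, nsmul_eq_mul, mul_one]
    have : ((∑ x ∈ Sq, ram f x : ℕ) : ℤ) ≤ n := by exact_mod_cast hsq
    push_cast at this
    linarith
  obtain ⟨hg, hcp, hcq⟩ : genus k C.functionField = 0 ∧ Sp.card ≤ 1 ∧ Sq.card ≤ 1 := by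
    by_cases hpq : p = q
    · subst hpq
      rw [show Sp ∪ Sq = Sp from Finset.union_self _] at hH
      have hcn : Sp.card ≤ n := by
        refine le_trans ?_ hsp
        rw [Finset.card_eq_sum_ones]
        exact Finset.sum_le_sum fun x hx => hrp x hx
      have : Sq.card = Sp.card := rfl
      omega
    · rw [Finset.sum_union (Finset.disjoint_left.2 fun x h1 h2 => hpq (((hmemp x).1 h1).symm.trans ((hmemq x).1 h2)))] at hH
      omega
  refine ⟨?_, fun x y hx hy => Finset.card_le_one.1 hcp x ((hmemp x).2 hx) y ((hmemp y).2 hy),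
    fun x y hx hy => Finset.card_le_one.1 hcq x ((hmemq x).2 hx) y ((hmemq y).2 hy)⟩
  obtain ⟨D, hD, -⟩ := exists_nonspecial hKX (e := 0) (by omega)
  have hdE : (-D).deg = 1 := by
    rw [FF.deg_neg, hD, hg]; norm_num
  have hl := FF.spec_le_genus hKX (-D)
  rw [FF.spec, hdE, hg] at hl
  exact exists_iso_p1_of_deg_one k hdim hKX hdE (by omega)

end Groth.Agent.FFCurve.EtaleOutside
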