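import Groth.Agent.SGA1Quot.BaseChange
import Groth.Agent.SGA1Quot.Finiteness

/-!
# Quotients by finite groups of invertible order commute with arbitrary base change
-/

set_option autoImplicit false
set_option linter.style.haveILetI false

universe u

open CategoryTheory CategoryTheory.Limits AlgebraicGeometry Topology TopologicalSpace
open TensorProduct Groth.Agent.SGA1Quot

namespace Groth.Agent.FFCurve.FamQuot

/-- Invariants commute with base change when the order of the group is invertible. -/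
theorem invariants_baseChange_tame {B B' A A' ι : Type u} [Finite ι] [Group ι] [CommRing B] [CommRing B']
    [CommRing A] [CommRing A'] [Algebra B B'] [Algebra B A] [Algebra A A'] [Algebra B' A']
    [Algebra B A'] [IsScalarTower B B' A'] [IsScalarTower B A A'] [Algebra.IsPushout B B' A A']
    (σ : ι → A →ₐ[B] A) (σ' : ι → A' →ₐ[B'] A')
    (hσ : ∀ i a, σ' i (algebraMap A A' a) = algebraMap A A' (σ i a))
    (hmul : ∀ g h a, σ g (σ h a) = σ (h * g) a)
    (hcard : IsUnit ((Nat.card ι : ℕ) : B))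
    (hinj : Function.Injective (algebraMap B A))
    (hrange : ∀ a, (∀ i, σ i a = a) → a ∈ Set.range (algebraMap B A)) :
    Function.Injective (algebraMap B' A') ∧
      ∀ a', (∀ i, σ' i a' = a') → a' ∈ Set.range (algebraMap B' A') := by
  classical
  cases nonempty_fintype ι
  have hbc : IsBaseChange B' (IsScalarTower.toAlgHom B A A').toLinearMap :=
    Algebra.IsPushout.out
  let e := hbc.equiv
  have he : ∀ (b : B') (a : A), e (b ⊗ₜ a) = b • algebraMap A A' a := fun b a =>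
    hbc.equiv_tmul b a
  have hsum : ∀ a : A, (∑ g, σ g a) ∈ Set.range (algebraMap B A) := fun a => by
    refine hrange _ fun j => ?_
    rw [map_sum]
    simp only [hmul]
    exact Equiv.sum_comp (Equiv.mulRight j) fun x => σ x a
  choose s hs using hsum
  obtain ⟨c, hc⟩ := hcard
  let r : A →ₗ[B] B :=
    { toFun := fun a => ((c⁻¹ : Bˣ) : B) * s a
      map_add' := fun a b => by
        rw [← mul_add]; congr 1; apply hinj; simp [hs, Finset.sum_add_distrib]
      map_smul' := fun b a => by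
        rw [RingHom.id_apply, smul_eq_mul, mul_left_comm b]
        congr 1
        apply hinj
        rw [map_mul, hs, hs, ← Algebra.smul_def, Finset.smul_sum]
        simp only [map_smul] }
  have hr : r.comp (Algebra.linearMap B A) = LinearMap.id := by
    refine LinearMap.ext_ring (hinj ?_)
    change algebraMap B A (((c⁻¹ : Bˣ) : B) * s (algebraMap B A 1)) = algebraMap B A 1
    rw [map_mul, hs]
    simp only [map_one, Finset.sum_const, Finset.card_univ, nsmul_eq_mul, mul_one]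
    rw [← map_natCast (algebraMap B A), ← map_mul, ← Nat.card_eq_fintype_card, ← hc, Units.inv_mul,
      map_one]
  let i : B →ₗ[B] A := Algebra.linearMap B A
  have comp : ∀ z : B' ⊗[B] B,
      e (i.lTensor B' z) = algebraMap B' A' (TensorProduct.rid B B' z) := by
    intro z
    induction z using TensorProduct.induction_on with
    | zero => simp
    | tmul b' b =>
      rw [LinearMap.lTensor_tmul, he]
      simp [i, Algebra.smul_def, ← IsScalarTower.algebraMap_apply, mul_comm]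
    | add x y hx hy => simp only [map_add, hx, hy]
  refine ⟨fun x y hxy => ?_, fun a' ha' => ?_⟩
  · obtain ⟨x, rfl⟩ := (TensorProduct.rid B B').surjective x
    obtain ⟨y, rfl⟩ := (TensorProduct.rid B B').surjective y
    rw [← comp, ← comp] at hxy
    have h := congrArg (r.lTensor B') (e.injective hxy)
    rw [← LinearMap.lTensor_comp_apply, ← LinearMap.lTensor_comp_apply, hr, LinearMap.lTensor_id] at h
    exact congrArg _ h
  · have key : ∀ w : B' ⊗[B] A, (∑ g, σ' g (e w)) ∈ (algebraMap B' A').range := by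
      intro w
      induction w using TensorProduct.induction_on with
      | zero => simp
      | tmul b a =>
        have : (∑ g, σ' g (e (b ⊗ₜ a))) = b • algebraMap A A' (algebraMap B A (s a)) := by
          rw [hs, map_sum, Finset.smul_sum]
          exact Finset.sum_congr rfl fun g _ => by rw [he, map_smul, hσ]
        rw [this, ← IsScalarTower.algebraMap_apply, IsScalarTower.algebraMap_apply B B' A',
          Algebra.smul_def]
        exact mul_mem ⟨b, rfl⟩ ⟨_, rfl⟩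
      | add x y hx hy =>
        simp only [map_add, Finset.sum_add_distrib]
        exact add_mem hx hy
    obtain ⟨w, rfl⟩ := e.surjective a'
    obtain ⟨b, hb⟩ := key w
    refine ⟨algebraMap B B' ((c⁻¹ : Bˣ) : B) * b, ?_⟩
    rw [map_mul, hb]
    simp only [ha', Finset.sum_const, Finset.card_univ, nsmul_eq_mul]
    rw [← IsScalarTower.algebraMap_apply, ← mul_assoc, ← map_natCast (algebraMap B A'), ← map_mul,
      ← Nat.card_eq_fintype_card, ← hc, Units.inv_mul, map_one, one_mul]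

variable {X Y X' Y' : Scheme.{u}} {G : Type u} [Group G] [Finite G] {ρ : G →* Aut X} {p : X ⟶ Y}

theorem isQuot_baseChange_tame (hp : SGA1.IsQuot ρ p)
    (hcard : IsUnit ((Nat.card G : ℕ) : Γ(Y, ⊤))) (qY : Y' ⟶ Y) (pX : X' ⟶ X)
    (p' : X' ⟶ Y') (hX : IsPullback pX p' p qY) (ρ' : G →* Aut X')
    (hρ₁ : ∀ g : G, (ρ' g).hom ≫ pX = pX ≫ (ρ g).hom) (hρ₂ : ∀ g : G, (ρ' g).hom ≫ p' = p') :
    SGA1.IsQuot ρ' p' := by
  haveI := hp.affine
  haveI : IsAffineHom p' := MorphismProperty.of_isPullback hX (inferInstanceAs (IsAffineHom p))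
  refine isQuot_of_affine_cover (hinv := hρ₂) fun y => ?_
  obtain ⟨U, hU, hyU, -⟩ := exists_isAffineOpen_mem_and_subset (x := qY.base y) (U := ⊤) trivial
  obtain ⟨U', hU', hyU', hle⟩ :=
    exists_isAffineOpen_mem_and_subset (x := y) (U := qY ⁻¹ᵁ U) hyU
  refine ⟨U', hU', hyU', ?_⟩
  have hUY : p' ⁻¹ᵁ U' = pX ⁻¹ᵁ (p ⁻¹ᵁ U) ⊓ p' ⁻¹ᵁ U' := by
    refine (inf_eq_right.2 ?_).symm
    intro x hx
    change pX.base x ∈ p ⁻¹ᵁ U
    change p.base (pX.base x) ∈ U
    rw [← Scheme.Hom.comp_apply, hX.w, Scheme.Hom.comp_apply]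
    exact hle hx
  have hle' : p' ⁻¹ᵁ U' ≤ pX ⁻¹ᵁ (p ⁻¹ᵁ U) := hUY.le.trans inf_le_left
  have hpush := (isIso_pushoutSection_iff hX (hle : U' ≤ qY ⁻¹ᵁ U) le_rfl hUY).1
    (isIso_pushoutSection_of_isAffineOpen hX (hle : U' ≤ qY ⁻¹ᵁ U) le_rfl hUY hU hU'
      (hU.preimage p))
  have hcomm : p.app U ≫ pX.appLE (p ⁻¹ᵁ U) (p' ⁻¹ᵁ U') hle' =
      qY.appLE U U' hle ≫ p'.app U' := by
    simp only [Scheme.Hom.app_eq_appLE, Scheme.Hom.appLE_comp_appLE]
    exact appLE_congr_hom hX.w _ _ _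
  have happ' : p'.appLE U' (p' ⁻¹ᵁ U') le_rfl = p'.app U' := (p'.app_eq_appLE).symm
  have happ : p.appLE U (p ⁻¹ᵁ U) le_rfl = p.app U := (p.app_eq_appLE).symm
  letI : Algebra Γ(Y, U) Γ(X, p ⁻¹ᵁ U) := (p.app U).hom.toAlgebra
  letI : Algebra Γ(Y, U) Γ(Y', U') := (qY.appLE U U' hle).hom.toAlgebra
  letI : Algebra Γ(X, p ⁻¹ᵁ U) Γ(X', p' ⁻¹ᵁ U') :=
    (pX.appLE (p ⁻¹ᵁ U) (p' ⁻¹ᵁ U') hle').hom.toAlgebra
  letI : Algebra Γ(Y', U') Γ(X', p' ⁻¹ᵁ U') := (p'.app U').hom.toAlgebra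
  letI : Algebra Γ(Y, U) Γ(X', p' ⁻¹ᵁ U') := (qY.appLE U U' hle ≫ p'.app U').hom.toAlgebra
  haveI : IsScalarTower Γ(Y, U) Γ(Y', U') Γ(X', p' ⁻¹ᵁ U') :=
    IsScalarTower.of_algebraMap_eq fun _ => rfl
  haveI : IsScalarTower Γ(Y, U) Γ(X, p ⁻¹ᵁ U) Γ(X', p' ⁻¹ᵁ U') :=
    IsScalarTower.of_algebraMap_eq fun a => (ConcreteCategory.congr_hom hcomm a).symm
  haveI : Algebra.IsPushout Γ(Y, U) Γ(Y', U') Γ(X, p ⁻¹ᵁ U) Γ(X', p' ⁻¹ᵁ U') := by
    refine CommRingCat.isPushout_iff_isPushout.1 ?_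
    have := hpush.flip
    rw [happ, happ'] at this
    exact this
  let σ : G → (Γ(X, p ⁻¹ᵁ U) →ₐ[Γ(Y, U)] Γ(X, p ⁻¹ᵁ U)) := fun g =>
    { act ρ p hp.inv g U with commutes' := act_comp_app ρ p hp.inv g U }
  let σ' : G → (Γ(X', p' ⁻¹ᵁ U') →ₐ[Γ(Y', U')] Γ(X', p' ⁻¹ᵁ U')) := fun g =>
    { act ρ' p' hρ₂ g U' with commutes' := act_comp_app ρ' p' hρ₂ g U' }
  have hσ : ∀ g a, σ' g (algebraMap _ _ a) = algebraMap _ _ (σ g a) := by
    intro g a
    have key : pX.appLE (p ⁻¹ᵁ U) (p' ⁻¹ᵁ U') hle' ≫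
          (ρ' g).hom.appLE (p' ⁻¹ᵁ U') (p' ⁻¹ᵁ U') (SGA1.preimage_le_of_inv ρ' p' hρ₂ g U') =
        (ρ g).hom.appLE (p ⁻¹ᵁ U) (p ⁻¹ᵁ U) (SGA1.preimage_le_of_inv ρ p hp.inv g U) ≫
          pX.appLE (p ⁻¹ᵁ U) (p' ⁻¹ᵁ U') hle' := by
      simp only [Scheme.Hom.appLE_comp_appLE]
      exact appLE_congr_hom (hρ₁ g) _ _ _
    exact ConcreteCategory.congr_hom key a
  refine invariants_baseChange_tame σ σ' hσ (fun g h a => ?_) ?_ (hp.injective U) (good_of_isQuot hp U).2
  · exact RingHom.congr_fun (act_mul ρ p hp.inv h g U).symm a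
  · have := hcard.map (Y.presheaf.map (homOfLE (le_top : U ≤ ⊤)).op).hom
    rwa [map_natCast] at this

end Groth.Agent.FFCurve.FamQuot
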