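import Groth.Agent.FF.LimitLin
import Groth.Agent.FF.Small

/-!
# Uniqueness of the `g^1_2`
-/

set_option linter.style.haveILetI false
set_option linter.unusedSectionVars false

namespace Groth.Agent.FFCurve

open FunFld WithZero

variable {k K : Type*} [Field k] [Field K] [Algebra k K] (hK : IsFunctionField k K)
include hK

/-- Two divisors of degree 2 with two sections on a curve of genus at least two are equivalent. -/
theorem unique_g12 [IsAlgClosed k] (hg : 2 ≤ genus k K) {D D' : Divisor k K} (hD : D.deg = 2)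
    (hD' : D'.deg = 2) (hl : 2 ≤ ell D) (hl' : 2 ≤ ell D') :
    ∃ z : K, z ≠ 0 ∧ D' = D + FunFld.div k z := by
  classical
  obtain ⟨w, hw, hnn⟩ := FF.exists_nonneg_equiv hK (D := D) (by omega)
  set E := D + FunFld.div k w with hE
  have hEd : E.deg = 2 := by rw [hE, FF.deg_add, FF.deg_div hK.1, hD, add_zero]
  have hEl : 2 ≤ ell E := by rw [hE, FF.ell_add_div hK hw]; exact hl
  by_contra hne
  have hne' : ∀ z : K, z ≠ 0 → D' + FunFld.div k z ≠ E := fun z hz h => hne
    ⟨w * z⁻¹, mul_ne_zero hw (inv_ne_zero hz), by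
      rw [FF.div_mul hK.1 hw (inv_ne_zero hz), FF.div_inv hK.1, ← add_assoc, ← hE, ← h]; abel⟩
  have h0 : ell (D' - E) = 0 := by
    by_contra h
    obtain ⟨z, hz, he⟩ := FF.principal_of_ell_pos hK (D := D' - E)
      (by rw [FF.deg_sub, hD', hEd, sub_self]) (by omega)
    exact hne' z hz (sub_eq_zero.1 (by rw [← he]; abel))
  haveI := FF.finiteDimensional_L hK.1 E
  haveI := FF.finiteDimensional_L hK.1 D'
  haveI := FF.finiteDimensional_L hK.1 (E + D')
  obtain ⟨x, hx, hxc⟩ : ∃ x ∈ L E, x ∉ (1 : Submodule k K) := by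
    by_contra! hc
    have h1 : L E = 1 := le_antisymm hc (Submodule.one_le.2 (FF.one_mem_L hK hnn))
    have h2 : Module.finrank k ↥(L E) = 1 := by
      rw [h1]; exact FF.finrank_one (hK := hK.1)
    simp only [ell] at hEl
    omega
  have hE2 : ell E = 2 := by
    obtain ⟨A⟩ : Nonempty (Place k K) := by
      obtain ⟨t, ht⟩ := FF.exists_transcendental hK.1
      exact ⟨(FF.exists_zero hK.1 ht).choose⟩
    have := FF.clifford hK (FF.deg_eq_one hK A) (D := E) (by omega) (by omega)
    omega
  have hspan : Submodule.span k ({1, x} : Set K) = L E := by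
    refine Submodule.eq_of_le_of_finrank_le (Submodule.span_le.2 fun y hy => ?_) ?_
    · rcases hy with rfl | rfl
      · exact FF.one_mem_L hK hnn
      · exact hx
    · have hli : LinearIndependent k ![(1 : K), x] := LinearIndependent.pair_iff.2 fun s t hst => by
        rcases eq_or_ne t 0 with rfl | ht
        · refine ⟨?_, rfl⟩
          simpa using hst
        · refine absurd (Submodule.mem_one.2 ⟨-(t⁻¹ * s), ?_⟩) hxc
          rw [map_neg, map_mul, map_inv₀]
          rw [Algebra.smul_def, Algebra.smul_def, mul_one] at hst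
          have hta : algebraMap k K t ≠ 0 := by simpa using ht
          field_simp
          linear_combination -hst
      have h2 := finrank_span_eq_card hli
      rw [Matrix.range_cons, Matrix.range_cons, Matrix.range_empty, Set.union_empty,
        Set.singleton_union] at h2
      rw [h2, Fintype.card_fin]
      exact hE2.le
  have hpole : ∀ P : Place k K, 0 < E P → P.1 x = exp (E P) := by
    intro P hP
    have h1 : ell (E - Finsupp.single P 1) ≤ 1 := FF.ell_le_one_of_deg_one hK (by omega)
      (by rw [FF.deg_sub, FF.deg_single, hEd, FF.deg_eq_one hK]; norm_num)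
    obtain ⟨z, hz, hzP⟩ := (FF.ell_lt_iff_exists hK E P).1 (by omega)
    rw [← hspan, Submodule.mem_span_pair] at hz
    obtain ⟨a, b, rfl⟩ := hz
    refine le_antisymm (hx P) ?_
    rw [← hzP]
    refine not_lt.1 fun hlt => ?_
    have ha : P.1 (a • (1 : K)) < exp (E P) := by
      refine lt_of_le_of_lt ?_ (show (1 : ℤᵐ⁰) < exp (E P) by rw [← exp_zero, exp_lt_exp]; exact hP)
      rw [Algebra.smul_def, mul_one]
      exact FF.val_const_le P a
    have hb : P.1 (b • x) < exp (E P) := by
      rw [Algebra.smul_def, map_mul]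
      refine lt_of_le_of_lt (mul_le_of_le_one_left' (FF.val_const_le P b)) ?_
      exact hlt.trans_le hzP.le
    exact absurd hzP (ne_of_lt ((P.1.map_add _ _).trans_lt (max_lt ha hb)))
  have hle : L D' ⊔ (L D').map (LinearMap.mulLeft k x) ≤ L (E + D') := by
    refine sup_le (FF.L_mono (le_add_of_nonneg_left hnn)) ?_
    rintro _ ⟨v, hv, rfl⟩ P
    rw [LinearMap.mulLeft_apply, map_mul, Finsupp.add_apply, exp_add]
    exact mul_le_mul' (hx P) (hv P)
  have hinf : L D' ⊓ (L D').map (LinearMap.mulLeft k x) = ⊥ := by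
    rw [eq_bot_iff]
    rintro _ ⟨hu, v, hv, rfl⟩
    have hvL : v ∈ L (D' - E) := fun P => by
      rw [Finsupp.sub_apply]
      rcases (hnn P).lt_or_eq with hP | hP
      · have h1 := hu P
        rw [LinearMap.mulLeft_apply, map_mul, hpole P hP] at h1
        rw [show D' P - E P = -E P + D' P by ring, exp_add, exp_neg]
        rw [le_inv_mul_iff₀ exp_pos]
        exact h1
      · rw [← hP]; simpa using hv P
    have hz : L (D' - E) = ⊥ := by
      haveI := FF.finiteDimensional_L hK.1 (D' - E)
      exact Submodule.finrank_eq_zero.1 h0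
    rw [hz, Submodule.mem_bot] at hvL
    simp [hvL]
  have hx0 : x ≠ 0 := fun h => hxc (h ▸ Submodule.zero_mem _)
  have hdim := Submodule.finrank_sup_add_finrank_inf_eq (L D') ((L D').map (LinearMap.mulLeft k x))
  rw [hinf, finrank_bot, ← (Submodule.equivMapOfInjective (LinearMap.mulLeft k x)
    (mul_right_injective₀ hx0) (L D')).finrank_eq] at hdim
  have h4 : 4 ≤ ell (E + D') := by
    have := Submodule.finrank_mono hle
    simp only [ell] at hl' ⊢
    omega
  obtain ⟨A⟩ : Nonempty (Place k K) := by
    obtain ⟨t, ht⟩ := FF.exists_transcendental hK.1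
    exact ⟨(FF.exists_zero hK.1 ht).choose⟩
  have hdeg : (E + D').deg = 4 := by rw [FF.deg_add, hEd, hD']; norm_num
  have := FF.clifford hK (FF.deg_eq_one hK A) (D := E + D') (by omega) (by omega)
  omega

end Groth.Agent.FFCurve
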