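import Groth.Agent.FFCurve.Places
import Groth.Agent.FFCurve.Adele
import Groth.Agent.CurveCoh.Finite
import Groth.Agent.WeakAssSch.Unit

/-!
# The genus of a curve is the genus of its function field
-/

universe u

open CategoryTheory AlgebraicGeometry FunFld WithZero
open Groth.Agent.CurveCoh
open Groth.Agent.CohAff (mres rres)

set_option linter.style.haveILetI false

namespace Groth.Agent.FFCurve

variable (k : Type u) [Field k] {X : Scheme.{u}} [IsIntegral X] [X.Over (Spec (CommRingCat.of k))]
  [IsProper (X ↘ Spec (CommRingCat.of k))] [RegCurve X]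
  (hdim : topologicalKrullDim X = 1)
include hdim

lemma transc_inv {t : X.functionField} (ht : Transcendental k t) : Transcendental k t⁻¹ :=
  (transc_iff k _).1 ((transc_iff k t).2 ht).inv

/-- A rational function regular on all closed points of an open is regular on it. -/
lemma exists_secK_eq (W : X.Opens) (hW : genericPoint X ∈ W) (z : X.functionField)
    (h : ∀ x : ZetaLib.ClosedPt X, x.1 ∈ W → (toPlace k hdim x).1 z ≤ 1) :
    ∃ s : Γ(X, W), secK W hW s = z := by
  have hle : W ≤ regLocus z := by
    intro x hx
    by_cases hη : x = genericPoint X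
    · subst hη; exact genericPoint_mem_regLocus z
    · exact (val_toPlace_le_one_iff k hdim ⟨x, VarDim.isClosed_singleton_of_ne_genericPoint k hdim hη⟩ z).1
        (h _ hx)
  exact ⟨X.presheaf.map (homOfLE hle).op (regSection z), by rw [secK_res hle hW]; exact germ_regSection z⟩

lemma val_secK_le {W : X.Opens} (hW : genericPoint X ∈ W) (s : Γ(X, W)) (x : ZetaLib.ClosedPt X)
    (hx : x.1 ∈ W) : (toPlace k hdim x).1 (secK W hW s) ≤ 1 :=
  (val_toPlace_le_one_iff k hdim x _).2 ⟨_, algebraMap_germ_secK hx s⟩

lemma mem_regLocus_inv_iff {t : X.functionField} (ht : t ≠ 0) (x : ZetaLib.ClosedPt X) :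
    x.1 ∈ regLocus t⁻¹ ↔ 1 ≤ (toPlace k hdim x).1 t := by
  rw [show x.1 ∈ regLocus t⁻¹ ↔ IsReg t⁻¹ x.1 from Iff.rfl, ← val_toPlace_le_one_iff k hdim x,
    map_inv₀, inv_le_one₀ (zero_lt_iff.2 ((Valuation.ne_zero_iff _).2 ht))]

variable [Finite k] [GeometricallyIrreducible (X ↘ Spec (CommRingCat.of k))]

/-- Sections over the overlap as repartition classes. -/
noncomputable def psi (t : X.functionField) :
    Γ(X, overlap t) →+ (↥(adele k X.functionField) ⧸ ADK (0 : Divisor k X.functionField)) :=
  AddMonoidHom.mk' (fun s => Submodule.Quotient.mk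
      (atPoles (isFunctionField k hdim) t (secK (overlap t) (genericPoint_mem_overlap t) s)))
    fun s s' => by rw [map_add, atPoles_add, Submodule.Quotient.mk_add]

lemma psi_apply (t : X.functionField) (s : Γ(X, overlap t)) : psi k hdim t s =
    Submodule.Quotient.mk (atPoles (isFunctionField k hdim) t (secK _ (genericPoint_mem_overlap t) s)) :=
  rfl

lemma psi_eq_zero_iff {t : X.functionField} (ht : Transcendental k t) (s : Γ(X, overlap t)) :
    psi k hdim t s = 0 ↔ ∃ (a : Γ(X, regLocus t)) (b : Γ(X, regLocus t⁻¹)),
      s = rres X inf_le_left a + rres X inf_le_right b := by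
  have ht0 : t ≠ 0 := fun h => ht (h ▸ isAlgebraic_zero)
  have hK := isFunctionField (X := X) k hdim
  have hη := genericPoint_mem_overlap t
  rw [psi_apply, Submodule.Quotient.mk_eq_zero, ADK, Submodule.mem_comap]
  constructor
  · intro h
    obtain ⟨β, hβ, z', ⟨z, rfl⟩, hz⟩ := Submodule.mem_sup.1 h
    have hz' : ∀ P, β P + z = (atPoles hK t (secK _ hη s)).1 P := fun P => congrFun hz P
    have hβ' : ∀ P : Place k X.functionField, P.1 (β P) ≤ 1 := fun P => by
      have := hβ P
      rwa [Finsupp.coe_zero, Pi.zero_apply, exp_zero] at this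
    obtain ⟨a, ha⟩ := exists_secK_eq k hdim (regLocus t) (genericPoint_mem_regLocus t) z fun x hx => by
      have h1 := hz' (toPlace k hdim x)
      rw [atPoles_apply_not hK (not_lt.2 ((val_toPlace_le_one_iff k hdim x t).2 hx))] at h1
      rw [show z = -β (toPlace k hdim x) by linear_combination h1, Valuation.map_neg]
      exact hβ' _
    obtain ⟨b, hb⟩ := exists_secK_eq k hdim (regLocus t⁻¹) (genericPoint_mem_regLocus t⁻¹)
        (secK _ hη s - z) fun x hx => by
      have h1 := hz' (toPlace k hdim x)
      by_cases hp : 1 < (toPlace k hdim x).1 t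
      · rw [atPoles_apply_pole hK hp] at h1
        rw [show secK _ hη s - z = β (toPlace k hdim x) by linear_combination -h1]
        exact hβ' _
      · rw [atPoles_apply_not hK hp] at h1
        have hU : x.1 ∈ regLocus t := (val_toPlace_le_one_iff k hdim x t).1 (not_lt.1 hp)
        refine (Valuation.map_sub _ _ _).trans (max_le (val_secK_le k hdim hη s x ⟨hU, hx⟩) ?_)
        rw [show z = -β (toPlace k hdim x) by linear_combination h1, Valuation.map_neg]
        exact hβ' _
    refine ⟨a, b, secK_injective _ hη ?_⟩
    rw [map_add, rres, rres, secK_res _ hη, secK_res _ hη, ha, hb]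
    ring
  · rintro ⟨a, b, rfl⟩
    set za := secK (regLocus t) (genericPoint_mem_regLocus t) a
    set zs := secK (overlap t) hη (rres X inf_le_left a + rres X inf_le_right b) with hzs
    refine Submodule.mem_sup.2 ⟨fun P => (atPoles hK t zs).1 P - za, fun P => ?_,
      diag k _ za, ⟨za, rfl⟩, funext fun P => ?_⟩
    · obtain ⟨x, rfl⟩ := (placeEquiv k hdim).surjective P
      change (toPlace k hdim x).1 ((atPoles hK t _).1 (toPlace k hdim x) - za) ≤ _
      rw [Finsupp.coe_zero, Pi.zero_apply, exp_zero]
      by_cases hp : 1 < (toPlace k hdim x).1 t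
      · rw [atPoles_apply_pole hK hp, hzs, map_add, rres, rres, secK_res _ hη, secK_res _ hη, add_sub_cancel_left]
        exact val_secK_le k hdim _ b x ((mem_regLocus_inv_iff k hdim ht0 x).2 hp.le)
      · rw [atPoles_apply_not hK hp, zero_sub, Valuation.map_neg]
        exact val_secK_le k hdim _ a x ((val_toPlace_le_one_iff k hdim x t).1 (not_lt.1 hp))
    · simp [diag]

lemma psi_surjective {t : X.functionField} (ht : Transcendental k t) :
    Function.Surjective (psi k hdim t) := by
  intro c
  obtain ⟨a, rfl⟩ := Submodule.Quotient.mk_surjective _ c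
  have ht0 : t ≠ 0 := fun h => ht (h ▸ isAlgebraic_zero)
  obtain ⟨y, hy, hay⟩ := exists_rep (isFunctionField k hdim) ht a
  obtain ⟨s, hs⟩ := exists_secK_eq k hdim (overlap t) (genericPoint_mem_overlap t) y fun x hx =>
    hy _ (le_antisymm ((val_toPlace_le_one_iff k hdim x t).2 hx.1)
      ((mem_regLocus_inv_iff k hdim ht0 x).1 hx.2))
  exact ⟨s, by rw [psi_apply, hs]; exact ((Submodule.Quotient.eq _).2 hay).symm⟩

lemma toH1_eq_zero_iff {t : X.functionField} (ht : Transcendental k t)
    (hU : ⨆ i, twoCover (regLocus t) (regLocus t⁻¹) i = ⊤) (s : Γ(X, overlap t)) :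
    toH1 (Coh.structureModule X) hU s = 0 ↔ ∃ (a : Γ(X, regLocus t)) (b : Γ(X, regLocus t⁻¹)),
      s = rres X inf_le_left a + rres X inf_le_right b := by
  have hv' := FFCurve.hv (X := X) k hdim
  haveI := WeakAssSch.isQuasicoherent_unit X
  constructor
  · intro h
    have haff : ∀ i, IsAffineOpen (twoCover (regLocus t) (regLocus t⁻¹) i) := by
      rintro ⟨i⟩
      fin_cases i
      · exact isAffineOpen_regLocus k hv' hdim t ((transc_iff k t).2 ht)
      · exact isAffineOpen_regLocus k hv' hdim t⁻¹ ((transc_iff k t).2 ht).inv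
    have hmem : ∀ {n : ℕ} (x : Fin (n + 1) → Two.{u}),
        (CohAff.affCov X).mem (CohAff.inter (twoCover (regLocus t) (regLocus t⁻¹)) x) := by
      intro n
      induction n with
      | zero =>
        intro x
        have : CohAff.inter (twoCover (regLocus t) (regLocus t⁻¹)) x = twoCover (regLocus t) (regLocus t⁻¹) (x 0) := by
          simp [CohAff.inter]
        change IsAffineOpen _
        rw [this]; exact haff _
      | succ n ih =>
        intro x
        have : CohAff.inter (twoCover (regLocus t) (regLocus t⁻¹)) x = twoCover (regLocus t) (regLocus t⁻¹) (x 0) ⊓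
            CohAff.inter (twoCover (regLocus t) (regLocus t⁻¹)) (Fin.tail x) := by
          apply le_antisymm
          · exact le_inf (CohAff.inter_le _ x 0) (CohAff.le_inter fun a => CohAff.inter_le _ x a.succ)
          · refine CohAff.le_inter fun a => ?_
            cases a using Fin.cases with
            | zero => exact inf_le_left
            | succ a => exact inf_le_right.trans (CohAff.inter_le _ (Fin.tail x) a)
        change IsAffineOpen _
        rw [this]
        exact CurveCoh.isAffineOpen_inf k (haff _) (ih _)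
    obtain ⟨c, hc⟩ := CohAff.exists_cd_eq_of_toH_eq_zero hU hmem
      (CohAff.good_affCov (Coh.structureModule X)) (cd_cocycleOf (Coh.structureModule X) s) h
    have h2 := congrArg (eval01 (Coh.structureModule X)) hc
    rw [eval01_cocycleOf, eval01] at h2
    erw [CohAff.cd_zero_apply (X := X.toPresheafedSpace.carrier)] at h2
    erw [map_sub] at h2
    simp only [mres] at h2
    erw [CohAff.res_res, CohAff.res_res] at h2
    have hle1 : regLocus t⁻¹ ≤ CohAff.inter (twoCover (regLocus t) (regLocus t⁻¹))
        (![(⟨0⟩ : Two.{u}), ⟨1⟩] ∘ (0 : Fin 2).succAbove) :=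
      CohAff.le_inter fun a => by fin_cases a; exact le_rfl
    have hle0 : regLocus t ≤ CohAff.inter (twoCover (regLocus t) (regLocus t⁻¹))
        (![(⟨0⟩ : Two.{u}), ⟨1⟩] ∘ (1 : Fin 2).succAbove) :=
      CohAff.le_inter fun a => by fin_cases a; exact le_rfl
    refine ⟨-rres X hle0 (c _), rres X hle1 (c _), ?_⟩
    rw [map_neg, CohAff.rres_rres, CohAff.rres_rres, neg_add_eq_sub]
    exact h2.symm
  · rintro ⟨a, b, rfl⟩
    change toH1 (Coh.structureModule X) hU (mres (Coh.structureModule X) inf_le_left a +
      mres (Coh.structureModule X) inf_le_right b) = 0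
    erw [map_add, toH1_eq_zero_left (Coh.structureModule X) hU a, toH1_eq_zero_right (Coh.structureModule X) hU b,
      add_zero]

/-- The first cohomology of the structure sheaf has `q ^ genus` elements. -/
theorem natCard_HH_one :
    Nat.card (Coh.HH X (Coh.structureModule X) 1) = Nat.card k ^ genus k X.functionField := by
  obtain ⟨t, ht⟩ := exists_transcendental (X := X) k hdim
  have hv' := FFCurve.hv (X := X) k hdim
  haveI := WeakAssSch.isQuasicoherent_unit X
  have hU := iSup_twoCover hv' t
  rw [← natCard_quotient (isFunctionField (X := X) k hdim)]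
  have hk : (toH1 (Coh.structureModule X) hU).ker = (psi k hdim t).ker := by
    ext s
    exact (toH1_eq_zero_iff k hdim ht hU s).trans (psi_eq_zero_iff k hdim ht s).symm
  exact Nat.card_congr (((QuotientAddGroup.quotientKerEquivOfSurjective _
      (toH1_surjective (k := k) (Coh.structureModule X) hv' hdim ((transc_iff k t).2 ht) hU)).symm.trans
    ((QuotientAddGroup.quotientAddEquivOfEq hk).trans
      (QuotientAddGroup.quotientKerEquivOfSurjective _ (psi_surjective k hdim ht)))).toEquiv)

end Groth.Agent.FFCurve
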