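import Groth.Agent.S1666
import Groth.Agent.VBLib.Deg
import Groth.Agent.VBLib.GenusZero
import Groth.Agent.Omega.Stalks
import Groth.Agent.EulerChar.Torsion
import Groth.Agent.CohTop.Vanishing
import Groth.Agent.VarDim.Scheme

/-!
# `H¹` of the structure sheaf along finite maps that are closed immersions over a dense open
-/

set_option autoImplicit false
set_option linter.style.haveILetI false
set_option backward.isDefEq.respectTransparency false
set_option backward.isDefEq.respectTransparency.types false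

universe u

open CategoryTheory CategoryTheory.Limits AlgebraicGeometry TopologicalSpace Opposite
open Groth.Agent.PullStalk.Sky Groth.Agent.PullStalk.Exact Groth.Agent.Props.GenLocus

noncomputable section

namespace Groth.Agent.FFCurve.GenusBirational

lemma surjective_app {Y X : Scheme.{u}} (f : Y ⟶ X) (U : X.Opens) [IsClosedImmersion (f ∣_ U)]
    (W : X.Opens) (hW : W ≤ U) (hWa : IsAffineOpen W) : Function.Surjective (f.app W) := by
  have e : U.ι ''ᵁ (U.ι ⁻¹ᵁ W) = W := by
    rw [Scheme.Hom.image_preimage_eq_opensRange_inf, Scheme.Opens.opensRange_ι, inf_eq_right]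
    exact hW
  have h2 : Function.Surjective ((f ∣_ U).app (U.ι ⁻¹ᵁ W)) :=
    (f ∣_ U).app_surjective _ (hWa.preimage_of_isOpenImmersion U.ι (by rw [Scheme.Opens.opensRange_ι]; exact hW))
  rw [morphismRestrict_app] at h2
  have h3 : Function.Surjective (f.app (U.ι ''ᵁ (U.ι ⁻¹ᵁ W))) := fun b => by
    let m := Y.presheaf.map (eqToHom (image_morphismRestrict_preimage f U (U.ι ⁻¹ᵁ W))).op
    obtain ⟨a, ha⟩ := h2 (m b)
    exact ⟨a, (ConcreteCategory.bijective_of_isIso m).1 ha⟩
  rw [e] at h3
  exact h3

variable {k : Type u} [Field k] {X Y : Scheme.{u}} [X.Over (Spec (CommRingCat.of k))]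
  [Y.Over (Spec (CommRingCat.of k))] [IsProper (X ↘ Spec (CommRingCat.of k))]
  (hdim : topologicalKrullDim X ≤ 1) (f : Y ⟶ X) [IsFinite f]
  (hf : f ≫ (X ↘ Spec (CommRingCat.of k)) = Y ↘ Spec (CommRingCat.of k))
  (U : X.Opens) (hU : Dense (U : Set X)) [IsClosedImmersion (f ∣_ U)]

include hdim hf hU in
/-- The genus does not grow along such a map. -/
theorem genus_le : Curv2.genus k Y ≤ Curv2.genus k X := by
  haveI := EulerChar.isNoetherian k (X := X)
  haveI : IsProper (Y ↘ Spec (CommRingCat.of k)) := by rw [← hf]; infer_instance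
  haveI := EulerChar.isNoetherian k (X := Y)
  have hOc : Coh.IsCoh (Coh.structureModule X) :=
    VBLib.isCoh_of_ofRank (ProjTwist.isFinLocFreeOfRank_one (PicLoc.isInvertible_structureModule X))
  have hO'c : Coh.IsCoh (Coh.structureModule Y) :=
    VBLib.isCoh_of_ofRank (ProjTwist.isFinLocFreeOfRank_one (PicLoc.isInvertible_structureModule Y))
  let P := (Scheme.Modules.pushforward f).obj (Coh.structureModule Y)
  have hP : Coh.IsCoh P := ProperFin.isCoh_push_of_isFinite f _ hO'c
  obtain ⟨φ, happ⟩ := S1666.exists_unit f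
  have hsurj : ∀ y ∈ U, Function.Surjective (stalkLin φ y) := fun y hy t => by
    obtain ⟨W, hW, s, rfl⟩ := exists_germM_eq P y t
    obtain ⟨_, ⟨V, hV, rfl⟩, hyV, hVWU⟩ :=
      X.isBasis_affineOpens.exists_subset_of_mem_open (show y ∈ (W ⊓ U : X.Opens) from ⟨hW, hy⟩) (W ⊓ U).2
    have hVWU' : V ≤ W ⊓ U := hVWU
    obtain ⟨r, hr⟩ := surjective_app f U V (hVWU'.trans inf_le_right) hV
      (P.presheaf.map (homOfLE (hVWU'.trans inf_le_left)).op s)
    refine ⟨germM (Coh.structureModule X) V y hyV r, ?_⟩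
    refine (stalkLin_germ φ _ _ _ r).trans ?_
    rw [happ]
    refine (congrArg (germM P V y hyV) (show CycLib.mkPush f (f.app V r) = _ from hr)).trans ?_
    exact P.presheaf.germ_res_apply (homOfLE (hVWU'.trans inf_le_left)) y hyV s
  let I := Abelian.image φ
  let p : Coh.structureModule X ⟶ I := Abelian.factorThruImage φ
  let i : I ⟶ P := Abelian.image.ι φ
  have hI : Coh.IsCoh I := VBLib.isCoh_image φ hOc hP
  have hC : Coh.IsCoh (cokernel i) := VBLib.isCoh_cokernel i hI hP
  have hsupp : CohB1.support (cokernel i) ⊆ (U : Set X)ᶜ := fun y hy hyU => hy (by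
    refine ⟨fun a b => ?_⟩
    have hz : ∀ c : (cokernel i).presheaf.stalk y, c = 0 := fun c => by
      obtain ⟨t, rfl⟩ := PullStalk.Exact.stalk_surjective (cokernel.π i) y c
      obtain ⟨v, rfl⟩ := hsurj y hyU t
      rw [show φ = p ≫ i from (Abelian.image.fac φ).symm, CohDev.stalkLin_comp_apply,
        ← CohDev.stalkLin_comp_apply i, cokernel.condition, CohDev.stalkLin_zero_apply]
    rw [hz a, hz b])
  obtain ⟨hfin, hcl⟩ := S1666.finite_compl_dense hdim U hU
  have hd : topologicalKrullDim ↥(CohB1.support (cokernel i)) ≤ 0 :=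
    EulerChar.topDim_le_zero_of_finite (hfin.subset hsupp) fun z hz => hcl z (hsupp hz)
  haveI := EulerChar.subsingleton_HH_of_support k hC hd 0
  have h1 : Function.Surjective (CurveCoh.mapL k i 1) := fun y => by
    have hS : (ShortComplex.mk i (cokernel.π i) (cokernel.condition i)).ShortExact :=
      { exact := ShortComplex.exact_cokernel i
        mono_f := inferInstance
        epi_g := inferInstance }
    exact ((CurveCoh.exact_mapL k hS 1) y).mp (Subsingleton.elim _ _)
  have hS : (ShortComplex.mk (kernel.ι φ) p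
      ((cancel_mono (Abelian.image.ι φ)).mp (by simp [p]))).ShortExact := by
    refine { exact := ShortComplex.exact_of_f_is_kernel _ ?_ }
    refine KernelFork.IsLimit.ofι' _ _ fun {A} a ha => ⟨kernel.lift φ a ?_, kernel.lift_ι _ _ _⟩
    rw [← Abelian.image.fac φ, ← Category.assoc]
    exact (congrArg (· ≫ Abelian.image.ι φ) ha).trans zero_comp
  haveI : NoetherianSpace X.toTopCat := inferInstanceAs (NoetherianSpace X)
  haveI : Subsingleton (Coh.HH X (kernel φ) 2) :=
    CohTop.Vanishing.grothendieck_vanishing (X := X.toTopCat) 1 (by exact_mod_cast hdim) (Coh.toAb (kernel φ)) 2 (by norm_num)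
  have h2 : Function.Surjective (CurveCoh.mapL k p 1) := fun y =>
    ((CurveCoh.exact_mapL_deltaL k hS 1 2 rfl) y).mp (Subsingleton.elim _ _)
  haveI := EulerChar.finite_HH k (Coh.structureModule X) hOc 1
  obtain ⟨E⟩ := EulerChar.nonempty_pushEquiv f (A := k) hf (Coh.structureModule Y) hO'c.1 1
  have h3 : Function.Surjective ((E.toLinearMap.comp (CurveCoh.mapL k i 1)).comp (CurveCoh.mapL k p 1)) :=
    (E.surjective.comp h1).comp h2
  exact LinearMap.finrank_le_finrank_of_surjective h3

/-- A dense open isomorphic to an open of a curve makes the whole scheme at most one-dimensional. -/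
theorem dim_le_one {k : Type u} [Field k] {X X' : Scheme.{u}} [X'.Over (Spec (CommRingCat.of k))]
    [LocallyOfFiniteType (X' ↘ Spec (CommRingCat.of k))] (f : X' ⟶ X) (U : X.Opens)
    (hU' : Dense ((f ⁻¹ᵁ U : X'.Opens) : Set X')) (hdim : topologicalKrullDim X ≤ 1) (hfU : IsIso (f ∣_ U)) :
    topologicalKrullDim X' ≤ 1 := by
  have h1 : topologicalKrullDim ((f ⁻¹ᵁ U : X'.Opens) : Set X') ≤ 1 :=
    ((IsHomeomorph.topologicalKrullDim_eq _ (f ∣_ U).homeomorph.isHomeomorph).le.trans
      U.ι.isOpenEmbedding.isInducing.topologicalKrullDim_le).trans hdim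
  haveI := LocallyOfFiniteType.isLocallyNoetherian (X' ↘ Spec (CommRingCat.of k))
  rw [VarDim.topologicalKrullDim_eq_iSup k]
  refine iSup_le fun x => ?_
  obtain ⟨η, hη, hηx⟩ := FlatMor.GenericPts.exists_generic_specializes (α := X') x
  have hη' : η ∈ (f ⁻¹ᵁ U : X'.Opens) := FlatMor.GenericPts.mem_of_dense hU' hη
  refine le_trans ?_ ((VarDim.le_topologicalKrullDim_opens k _ hη' (le_refl η)).trans h1)
  exact_mod_cast (VarDim.exists_ltSeries_of_le k (hηx : x ≤ η)).1

omit [IsClosedImmersion (f ∣_ U)] in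
include hdim hf hU in
/-- No drop of genus and no new global functions: an isomorphism. -/
theorem isIso_of_genus_eq [IsReduced X] (hiso : IsIso (f ∣_ U)) (h0 : Function.Surjective (f.app ⊤))
    (h1 : Curv2.genus k Y = Curv2.genus k X) : IsIso f := by
  haveI := EulerChar.isNoetherian k (X := X)
  haveI : IsProper (Y ↘ Spec (CommRingCat.of k)) := by rw [← hf]; infer_instance
  haveI := EulerChar.isNoetherian k (X := Y)
  have hOc : Coh.IsCoh (Coh.structureModule X) :=
    VBLib.isCoh_of_ofRank (ProjTwist.isFinLocFreeOfRank_one (PicLoc.isInvertible_structureModule X))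
  have hO'c : Coh.IsCoh (Coh.structureModule Y) :=
    VBLib.isCoh_of_ofRank (ProjTwist.isFinLocFreeOfRank_one (PicLoc.isInvertible_structureModule Y))
  let P := (Scheme.Modules.pushforward f).obj (Coh.structureModule Y)
  have hP : Coh.IsCoh P := ProperFin.isCoh_push_of_isFinite f _ hO'c
  obtain ⟨φ, happ⟩ := S1666.exists_unit f
  have hinj : ∀ W : X.Opens, Function.Injective (f.app W) := fun W => by
    refine (injective_iff_map_eq_zero _).2 fun a ha => ?_
    have h2 : X.presheaf.map (homOfLE (inf_le_left : W ⊓ U ≤ W)).op a = 0 := by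
      refine (S1666.bijective_app_of_le f U hiso (W ⊓ U) inf_le_right).1 ?_
      rw [map_zero, ← CommRingCat.comp_apply, f.naturality, CommRingCat.comp_apply, ha, map_zero]
    refine (basicOpen_eq_bot_iff a).1 (Opens.ext ?_)
    by_contra hne
    obtain ⟨z, hz, hzU⟩ := hU.inter_open_nonempty _ (X.basicOpen a).2 (Set.nonempty_iff_ne_empty.2 hne)
    have hz' : z ∈ X.basicOpen (X.presheaf.map (homOfLE (inf_le_left : W ⊓ U ≤ W)).op a) := by
      rw [Scheme.basicOpen_res]
      exact ⟨⟨X.basicOpen_le a hz, hzU⟩, hz⟩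
    rw [h2, Scheme.basicOpen_zero] at hz'
    exact hz'
  have happinj : ∀ W : X.Opens, Function.Injective (φ.app W) := fun W a b h => by
    rw [happ, happ] at h
    exact hinj W h
  haveI : Mono φ := by
    refine (Scheme.Modules.toPresheaf X).mono_of_mono_map ?_
    haveI : ∀ W, Mono (((Scheme.Modules.toPresheaf X).map φ).app W) :=
      fun W => (AddCommGrpCat.mono_iff_injective _).mpr (happinj W.unop)
    exact NatTrans.mono_of_mono_app _
  have hC : Coh.IsCoh (cokernel φ) := VBLib.isCoh_cokernel φ hOc hP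
  have hS : (ShortComplex.mk φ (cokernel.π φ) (cokernel.condition φ)).ShortExact :=
    { exact := ShortComplex.exact_cokernel φ
      mono_f := inferInstance
      epi_g := inferInstance }
  have hsupp : CohB1.support (cokernel φ) ⊆ (U : Set X)ᶜ := fun y hy hyU => hy (by
    refine ⟨fun a b => ?_⟩
    have hz : ∀ c : (cokernel φ).presheaf.stalk y, c = 0 := fun c => by
      obtain ⟨t, rfl⟩ := PullStalk.Exact.stalk_surjective (cokernel.π φ) y c
      obtain ⟨W, hW, s, rfl⟩ := exists_germM_eq P y t
      obtain ⟨r, hr⟩ := (S1666.bijective_app_of_le f U hiso (W ⊓ U) inf_le_right).2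
        (P.presheaf.map (homOfLE (inf_le_left : W ⊓ U ≤ W)).op s)
      have ht : stalkLin φ y (germM (Coh.structureModule X) (W ⊓ U) y ⟨hW, hyU⟩ r) = germM P W y hW s := by
        refine (stalkLin_germ φ _ _ _ r).trans ?_
        rw [happ]
        refine (congrArg (germM P (W ⊓ U) y ⟨hW, hyU⟩) (show CycLib.mkPush f (f.app (W ⊓ U) r) = _ from hr)).trans ?_
        exact P.presheaf.germ_res_apply (homOfLE (inf_le_left : W ⊓ U ≤ W)) y ⟨hW, hyU⟩ s
      rw [← ht, ← CohDev.stalkLin_comp_apply, cokernel.condition, CohDev.stalkLin_zero_apply]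
    rw [hz a, hz b])
  obtain ⟨hfin, hcl⟩ := S1666.finite_compl_dense hdim U hU
  have hcl' : ∀ A : Set X, A ⊆ CohB1.support (cokernel φ) → IsClosed A := fun A hA => by
    rw [← Set.biUnion_of_singleton A]
    exact (hfin.subset (hA.trans hsupp)).isClosed_biUnion fun z hz => hcl z (hsupp (hA hz))
  have hd : topologicalKrullDim ↥(CohB1.support (cokernel φ)) ≤ 0 :=
    EulerChar.topDim_le_zero_of_finite (hfin.subset hsupp) fun z hz => hcl z (hsupp hz)
  haveI := EulerChar.subsingleton_HH_of_support k hC hd 0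
  -- the map on `H⁰` is onto
  have hsur0 : Function.Surjective (CurveCoh.mapL k φ 0) := fun z => by
    obtain ⟨r, hr⟩ := h0 (VBLib.GenusZero.toSec P z)
    refine ⟨(VBLib.GenusZero.toSec (Coh.structureModule X)).symm r, (VBLib.GenusZero.toSec P).injective ?_⟩
    rw [VBLib.GenusZero.toSec_mapL, AddEquiv.apply_symm_apply, happ]
    exact hr
  -- the map on `H¹` is bijective
  haveI := EulerChar.finite_HH k (Coh.structureModule X) hOc 1
  obtain ⟨E⟩ := EulerChar.nonempty_pushEquiv f (A := k) hf (Coh.structureModule Y) hO'c.1 1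
  haveI := EulerChar.finite_HH k P hP 1
  have hsur1 : Function.Surjective (CurveCoh.mapL k φ 1) := fun y =>
    ((CurveCoh.exact_mapL k hS 1) y).mp (Subsingleton.elim _ _)
  have hinj1 : Function.Injective (CurveCoh.mapL k φ 1) :=
    (LinearMap.injective_iff_surjective_of_finrank_eq_finrank
      ((h1.symm.trans E.finrank_eq.symm : Module.finrank k (Coh.HH X (Coh.structureModule X) 1) =
        Module.finrank k (Coh.HH X P 1)))).2 hsur1
  -- hence the cokernel has no sections
  have hC0 : ∀ z : Coh.HH X (cokernel φ) 0, z = 0 := fun z => by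
    have hδ : CurveCoh.deltaL k hS 0 1 rfl z = 0 :=
      hinj1 (((CurveCoh.exact_deltaL_mapL k hS 0 1 rfl).apply_apply_eq_zero z).trans (map_zero _).symm)
    obtain ⟨w, rfl⟩ := (CurveCoh.exact_mapL_deltaL k hS 0 1 rfl z).mp hδ
    obtain ⟨v, rfl⟩ := hsur0 w
    exact (CurveCoh.exact_mapL k hS 0).apply_apply_eq_zero v
  haveI hiso' : IsIso φ := Omega.Stalks.isIso_of_stalk fun x => by
    refine ⟨(stalk_exact hS x).1, fun t => ?_⟩
    classical
    have hexact := (stalk_exact hS x).2.1
    refine (hexact t).mp ?_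
    obtain ⟨m, hm⟩ := VBLib.GenusZero.exists_section_of_stalks (cokernel φ) (hfin.subset hsupp) hcl'
      (Function.update (fun y : X => (0 : (cokernel φ).presheaf.stalk y)) x (stalkLin (cokernel.π φ) x t))
    have hm0 : m = 0 := by
      have := hC0 ((VBLib.GenusZero.toSec (cokernel φ)).symm m)
      simpa using congrArg (VBLib.GenusZero.toSec (cokernel φ)) this
    have := hm x
    rw [hm0, Function.update_self] at this
    exact this.symm.trans (map_zero ((cokernel φ).presheaf.germ ⊤ x trivial).hom)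
  haveI : IsAffineHom f := inferInstance
  refine IsZariskiLocalAtTarget.of_iSup_eq_top (P := MorphismProperty.isomorphisms Scheme)
    (fun V : X.affineOpens => (V : X.Opens)) (iSup_affineOpens_eq_top X) fun V => ?_
  show IsIso (f ∣_ (V : X.Opens))
  refine (isIso_morphismRestrict_iff_isIso_app f V.2).mpr ((ConcreteCategory.isIso_iff_bijective _).mpr
    ⟨hinj _, fun b => ?_⟩)
  obtain ⟨a, ha⟩ := (ConcreteCategory.bijective_of_isIso (φ.app (V : X.Opens))).2 (CycLib.mkPush f b)
  exact ⟨a, ((happ (V : X.Opens) a).symm.trans ha :)⟩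

end Groth.Agent.FFCurve.GenusBirational
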