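import Groth.Agent.FF.GenusMono
import Groth.Agent.FFCurve.EtaleOutsideTwo
import Groth.Agent.FFCurve.DoubleCover
import Groth.Agent.EulerChar.FiniteMap

/-!
# The genus of a curve dominated by another
-/

set_option autoImplicit false
set_option linter.style.haveILetI false
set_option backward.isDefEq.respectTransparency false
set_option backward.isDefEq.respectTransparency.types false

universe u

open CategoryTheory AlgebraicGeometry TopologicalSpace FunFld

namespace Groth.Agent.FFCurve

variable (k : Type u) [Field k] [IsAlgClosed k] {X Y : Scheme.{u}} [IsIntegral X] [IsIntegral Y]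
  [X.Over (Spec (CommRingCat.of k))] [Y.Over (Spec (CommRingCat.of k))]
  [IsProper (X ↘ Spec (CommRingCat.of k))] [IsProper (Y ↘ Spec (CommRingCat.of k))]
  [RegCurve X] [RegCurve Y]

/-- Over an algebraically closed field a finite map onto a curve does not lower the genus. -/
theorem genus_le_of_finite (hdX : topologicalKrullDim X = 1) (hdY : topologicalKrullDim Y = 1)
    (f : X ⟶ Y) [IsFinite f] (hf : f ≫ (Y ↘ Spec (CommRingCat.of k)) = X ↘ Spec (CommRingCat.of k))
    (e : f (genericPoint X) = genericPoint Y) :
    Curv2.genus k Y ≤ Curv2.genus k X := by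
  have hX : VBLib.GoodCurve k X := ⟨inferInstance, fun x => RegCurve.val x, hdX⟩
  have hY : VBLib.GoodCurve k Y := ⟨inferInstance, fun x => RegCurve.val x, hdY⟩
  haveI : CompactSpace X := QuasiCompact.compactSpace_of_compactSpace (X ↘ Spec (CommRingCat.of k))
  obtain ⟨x, -, hx⟩ := IsClosed.exists_closed_singleton (S := (Set.univ : Set X)) isClosed_univ Set.univ_nonempty
  have hy : IsClosed ({f x} : Set Y) := by
    rw [← Set.image_singleton]
    exact f.isClosedMap _ hx
  obtain ⟨h1, h2⟩ := EtaleOutside.sum_ram_le f e hX hY {x} (f x) hy (by simpa using hx)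
  rw [Finset.sum_singleton] at h1
  letI := (VBLib.PushTrace.genMap f e).toAlgebra
  haveI : IsScalarTower k Y.functionField X.functionField :=
    IsScalarTower.of_algebraMap_eq fun c => (genMap_algebraMap k f e hf c).symm
  haveI : FiniteDimensional Y.functionField X.functionField :=
    Module.finite_of_finrank_pos (lt_of_lt_of_le (h2 x (Finset.mem_singleton_self _)) h1)
  have hKX := isFunctionField_of_isAlgClosed (X := X) k hdX
  have hKY := isFunctionField_of_isAlgClosed (X := Y) k hdY
  rw [genus_eq_genus k hdX hKX, genus_eq_genus k hdY hKY]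
  exact FF.genus_le_of_subfield hKY hKX

end Groth.Agent.FFCurve
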