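import Groth.Agent.FF.GalBasic
import Groth.Agent.FF.AutFix
import Groth.Agent.FF.Hyperplane
import Groth.Agent.FFCurve.Special

/-!
# A function field of genus one over an algebraically closed field has infinitely many automorphisms
-/

set_option linter.style.haveILetI false
set_option linter.unusedSectionVars false

namespace Groth.Agent.FFCurve

open FunFld WithZero IntermediateField

universe v w

variable {k : Type v} {K : Type w} [Field k] [Field K] [Algebra k K] (hK : IsFunctionField k K)
include hK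

lemma exists_zeros_two [IsAlgClosed k] (hg : genus k K = 1) {P Q : Place k K} (hPQ : P ≠ Q) :
    ∃ z : K, Transcendental k z ∧ P.ord z = 1 ∧ Q.ord z = 1 ∧
      FF.zeroDiv (k := k) z = Finsupp.single P 1 + Finsupp.single Q 1 := by
  classical
  have hP1 := FF.deg_eq_one hK P
  have hQ1 := FF.deg_eq_one hK Q
  set D : Divisor k K := Finsupp.single P 1 + Finsupp.single Q 1 with hD
  have hdeg : D.deg = 2 := by
    rw [hD, FF.deg_add, FF.deg_single, FF.deg_single, hP1, hQ1]; norm_num
  have hl : ell D = 2 := by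
    have := FF.ell_eq_of_deg_ge hK (D := D) (by rw [hdeg, hg]; norm_num)
    rw [hdeg, hg] at this
    omega
  have hD0 : 0 ≤ D := add_nonneg (Finsupp.single_nonneg.2 zero_le_one) (Finsupp.single_nonneg.2 zero_le_one)
  haveI := FF.finiteDimensional_L hK.1 D
  obtain ⟨x, hx, hxc⟩ : ∃ x ∈ L D, x ∉ (1 : Submodule k K) := by
    by_contra! hc
    have h1 : L D = 1 := le_antisymm hc (Submodule.one_le.2 (FF.one_mem_L hK hD0))
    simp only [ell] at hl
    rw [h1, FF.finrank_one (hK := hK.1)] at hl
    omega
  have hx0 : x ≠ 0 := fun h => hxc (h ▸ Submodule.zero_mem _)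
  have htx : Transcendental k x := FF.transcendental_of_notMem hK fun ⟨c, hc⟩ =>
    hxc (Submodule.mem_one.2 ⟨c, hc⟩)
  have hR : ∀ R, 0 ≤ D R + R.ord x := fun R => by
    have := (FF.mem_L_iff hK.1 hx0).1 hx R
    rwa [Finsupp.coe_zero, Pi.zero_apply, Finsupp.add_apply, FF.div_apply hK.1] at this
  have hsum : (∑ R ∈ ({P, Q} : Finset (Place k K)), R.ord x) ≤ -2 := by
    rw [Finset.sum_pair hPQ]
    have h1 : ∀ R S : Place k K, R ≠ S → D = Finsupp.single R 1 + Finsupp.single S 1 → R.ord x ≤ -1 := by
      intro R S hRS hDe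
      by_contra hlt
      have hmem : x ∈ L (Finsupp.single S (1 : ℤ)) := by
        rw [FF.mem_L_iff hK.1 hx0]
        intro T
        have := hR T
        rw [hDe, Finsupp.add_apply, Finsupp.single_apply, Finsupp.single_apply] at this
        rw [Finsupp.coe_zero, Pi.zero_apply, Finsupp.add_apply, FF.div_apply hK.1, Finsupp.single_apply]
        by_cases e : R = T
        · subst e; rw [if_neg hRS.symm] at this ⊢; omega
        · rw [if_neg e] at this; omega
      have h2 := FF.ell_single_one hK (by omega) (FF.deg_eq_one hK S)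
      haveI := FF.finiteDimensional_L hK.1 (Finsupp.single S (1 : ℤ))
      have h3 : (1 : Submodule k K) = L (Finsupp.single S (1 : ℤ)) :=
        Submodule.eq_of_le_of_finrank_le
          (Submodule.one_le.2 (FF.one_mem_L hK (Finsupp.single_nonneg.2 zero_le_one)))
          (by rw [FF.finrank_one (hK := hK.1)]; exact h2.le)
      exact hxc (h3 ▸ hmem)
    have := h1 P Q hPQ rfl
    have := h1 Q P hPQ.symm (add_comm _ _)
    omega
  have hDP : D P = 1 := by simp [hD, hPQ.symm]
  have hDQ : D Q = 1 := by simp [hD, hPQ]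
  rw [Finset.sum_pair hPQ] at hsum
  have h3 := hR P
  have h4 := hR Q
  rw [hDP] at h3
  rw [hDQ] at h4
  refine ⟨x⁻¹, fun h => htx (by simpa using h.inv), by rw [FF.ord_inv]; omega, by rw [FF.ord_inv]; omega, ?_⟩
  ext R
  rw [FF.zeroDiv, Finsupp.sup_apply, FF.div_apply hK.1, FF.ord_inv, Finsupp.coe_zero, Pi.zero_apply]
  change _ = D R
  rcases eq_or_ne R P with rfl | hP
  · omega
  rcases eq_or_ne R Q with rfl | hQ
  · omega
  have h0 : D R = 0 := by simp [hD, hP.symm, hQ.symm]
  have := hR R
  omega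

/-- Over an algebraically closed field a curve of genus one has an automorphism moving `P` to `Q`. -/
theorem exists_aut [IsAlgClosed k] (hg : genus k K = 1) {P Q : Place k K} (hPQ : P ≠ Q) :
    ∃ σ : K ≃ₐ[k] K, FF.pullK P σ = Q := by
  classical
  obtain ⟨z, hz, hzP, hzQ, hzd⟩ := exists_zeros_two hK hg hPQ
  set F := k⟮z⟯ with hF
  have hdim : Module.finrank F K = 2 := by
    have h := FF.deg_zeroDiv hK.1 hz
    rw [hzd, FF.deg_add, FF.deg_single, FF.deg_single, FF.deg_eq_one hK P, FF.deg_eq_one hK Q, ← hF] at h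
    omega
  haveI : FiniteDimensional F K := Module.finite_of_finrank_pos (by omega)
  set g : F := AdjoinSimple.gen k z
  have hg' : Transcendental k g := fun h => hz (h.algebraMap (A := K))
  have htop : k⟮g⟯ = (⊤ : IntermediateField k F) := by
    apply IntermediateField.lift_injective
    rw [IntermediateField.lift_adjoin_simple, IntermediateField.lift_top]
    rfl
  have hone : Module.finrank k⟮g⟯ F = 1 := by
    rw [htop]; exact IntermediateField.finrank_top
  have hFF : FF.IsFF k F := ⟨g, hg', Module.finite_of_finrank_pos (by omega)⟩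
  obtain ⟨P₀, hP₀⟩ := FF.exists_below (K' := K) hFF P
  obtain ⟨Q₀, hQ₀⟩ := FF.exists_below (K' := K) hFF Q
  have hg0 : g ≠ 0 := fun h => hg' (h ▸ isAlgebraic_zero)
  have hpos : ∀ {R : Place k K} {R₀ : Place k F}, IsOver R R₀ → R.ord z = 1 →
      R₀.ord g = 1 ∧ IsOverWith R R₀ 1 := by
    intro R R₀ h h1
    obtain ⟨e, he⟩ := h
    have := FF.IsOverWith_ord he g
    rw [show (algebraMap F K) g = z from rfl, h1] at this
    have h2 : (e : ℤ) = 1 := Int.eq_one_of_mul_eq_one_right (by positivity) this.symm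
    rw [h2, one_mul] at this
    exact ⟨this.symm, by rwa [show e = 1 by exact_mod_cast h2] at he⟩
  obtain ⟨hgP, heP⟩ := hpos hP₀ hzP
  obtain ⟨hgQ, heQ⟩ := hpos hQ₀ hzQ
  have hEq : P₀ = Q₀ := by
    by_contra hne
    have h := FF.sum_ord_deg_le hFF hg' {P₀, Q₀} (fun R hR => by
      rcases Finset.mem_insert.1 hR with rfl | hR
      · exact (FF.val_lt_one_iff _ hg0).2 (by omega)
      · rw [Finset.mem_singleton.1 hR]; exact (FF.val_lt_one_iff _ hg0).2 (by omega))
    rw [Finset.sum_pair hne, hone, hgP, hgQ] at h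
    have := FF.deg_pos hFF P₀
    have := FF.deg_pos hFF Q₀
    simp only [Int.toNat_one, one_mul] at h
    omega
  haveI hsep : Algebra.IsSeparable F K := by
    haveI := IntermediateField.isSimpleOrder_of_finrank_prime F K (by rw [hdim]; exact Nat.prime_two)
    rcases eq_bot_or_eq_top (separableClosure F K) with h | h
    · exfalso
      haveI : IsPurelyInseparable F K := separableClosure.eq_bot_iff.1 h
      obtain ⟨y, hy⟩ := FF.approx ({P, Q} : Finset (Place k K)) (fun R => if R = P then 0 else 1) (fun _ => -1)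
        |>.imp fun y hy => (⟨hy P (by simp), hy Q (by simp)⟩ : _ ∧ _)
      rw [if_pos rfl, sub_zero, if_neg hPQ.symm] at hy
      obtain ⟨n, a, ha⟩ := IsPurelyInseparable.pow_mem F (ringExpChar F) y
      have h1 : P.1 y < 1 := hy.1.trans_lt (by rw [← exp_zero, exp_lt_exp]; norm_num)
      have h2 : Q.1 y = 1 := by
        have := hy.2.trans_lt (show exp (-1 : ℤ) < (1 : ℤᵐ⁰) by rw [← exp_zero, exp_lt_exp]; norm_num)
        rw [show y = (y - 1) + 1 by ring, Valuation.map_add_eq_of_lt_right _ (by rw [map_one]; exact this),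
          map_one]
      have hm : ringExpChar F ^ n ≠ 0 := pow_ne_zero n (expChar_pos F (ringExpChar F)).ne'
      have h3 : P.1 (algebraMap F K a) < 1 := by
        rw [ha, map_pow]; exact pow_lt_one₀ zero_le h1 hm
      have h4 : Q.1 (algebraMap F K a) = 1 := by rw [ha, map_pow, h2, one_pow]
      rw [heP a] at h3
      rw [heQ a, ← hEq] at h4
      exact absurd h4 h3.ne
    · exact (separableClosure.eq_top_iff F K).1 h
  haveI : Algebra.IsQuadraticExtension F K := { finrank_eq_two' := hdim }
  haveI : IsGalois F K := ⟨⟩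
  obtain ⟨σ, hσ⟩ := FF.exists_pull_eq (K' := K) hFF hP₀ (hEq ▸ hQ₀)
  exact ⟨σ.restrictScalars k, hσ ▸ Subtype.ext (Valuation.ext fun _ => rfl)⟩

theorem infinite_aut [IsAlgClosed k] (hg : genus k K = 1) : Infinite (K ≃ₐ[k] K) := by
  classical
  obtain ⟨P, -⟩ := exists_place_not_mem hK (∅ : Finset (Place k K))
  haveI : Infinite {Q : Place k K // P ≠ Q} := Infinite.of_not_fintype fun f => by
    obtain ⟨Q, hQ⟩ := exists_place_not_mem hK
      (insert P ((Finset.univ : Finset {Q : Place k K // P ≠ Q}).map (Function.Embedding.subtype _)))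
    rw [Finset.mem_insert, not_or] at hQ
    exact hQ.2 (Finset.mem_map.2 ⟨⟨Q, Ne.symm hQ.1⟩, Finset.mem_univ _, rfl⟩)
  choose σ hσ using fun Q : {Q : Place k K // P ≠ Q} => exists_aut hK hg Q.2
  exact Infinite.of_injective σ fun Q R h => Subtype.ext ((hσ Q).symm.trans (h ▸ hσ R))

end Groth.Agent.FFCurve
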