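import Groth.Agent.FFCurve.PointRR
import Groth.Agent.Props.AmpleGG

/-!
# Globally generated invertible modules on a curve
-/

universe u

open CategoryTheory CategoryTheory.Limits AlgebraicGeometry TopologicalSpace FunFld WithZero
open Groth.Agent.CurveCoh Groth.Agent.Props.GenLocus
open Groth.Agent.QCoh (res res_res res_smul app_res)

set_option linter.style.haveILetI false
set_option backward.isDefEq.respectTransparency false
set_option backward.isDefEq.respectTransparency.types false

namespace Groth.Agent.FFCurve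

variable {X : Scheme.{u}} [IsIntegral X] (k : Type u) [Field k] [X.Over (Spec (CommRingCat.of k))]
  [IsProper (X ↘ Spec (CommRingCat.of k))] [RegCurve X] (hdim : topologicalKrullDim X = 1)
include k hdim

lemma exists_closedPt : Nonempty (ZetaLib.ClosedPt X) := by
  obtain ⟨f, hf⟩ := exists_transcendental (X := X) k hdim
  obtain ⟨P, -⟩ := FF.exists_zero (isFF (X := X) k hdim) hf
  exact ⟨(placeEquiv k hdim).symm P⟩

lemma mem_genLocus_of_val {L : X.Modules} (hL : PicF.IsInvertible L) (σ : Γ(L, ⊤))
    (x : ZetaLib.ClosedPt X)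
    (h : (toPlace k hdim x).1 (crd (triv hL) ⊤ trivial σ) = exp (divOf k hdim hL (toPlace k hdim x))) :
    x.1 ∈ CohB1.genLocus L (homOfSec σ) := by
  obtain ⟨U, e, hxU, he⟩ := exists_isGen hL x.1
  obtain ⟨a, ha, -⟩ := he.exists_eq le_rfl (sec (homOfSec σ) U)
  have hη := genericPoint_mem hxU
  have h1 : crd (triv hL) ⊤ trivial σ = secK U hη a * crd (triv hL) U hη e := by
    rw [← crd_res (triv hL) (le_top : U ≤ ⊤) hη σ, ← sec_homOfSec, ha, crd_smul]
    exact congrArg (_ * ·) (crd_res (triv hL) le_rfl hη e)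
  rw [h1, map_mul, val_gen' (triv hL) k hdim hL he x hxU] at h
  have h2 : (toPlace k hdim x).1 (secK U hη a) = 1 :=
    mul_right_cancel₀ exp_pos.ne' (h.trans (one_mul _).symm)
  have h3 : x.1 ∈ X.basicOpen a := (isUnit_germ_iff k hdim x hxU a).2 h2
  have hle : CohB1.genLocus L (homOfSec σ) ⊓ U = X.basicOpen a := genLocus_inf he _ (ha.trans (congrArg (a • ·) (show res L le_rfl e = e from QCoh.res_self _ _ _)))
  exact (hle.symm ▸ h3 : x.1 ∈ CohB1.genLocus L (homOfSec σ) ⊓ U).1

theorem isGloballyGenerated_iff [IsAlgClosed k] {L : X.Modules} (hL : PicF.IsInvertible L) :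
    Curv2.IsGloballyGenerated L ↔ ∀ x : ZetaLib.ClosedPt X,
      ∃ z : X.functionField, z ∈ FunFld.L (divOf k hdim hL) ∧
        (toPlace k hdim x).1 z = exp (divOf k hdim hL (toPlace k hdim x)) := by
  classical
  constructor
  · rintro ⟨ι, p, hp⟩ x
    by_contra hno
    simp only [not_exists, not_and] at hno
    set P := toPlace k hdim x
    set D := divOf k hdim hL
    have hLI := AmpleLib.isInvertible_tensorMod hL (isInvertible_pointI k hdim x)
    set M := CohB1.tensorMod L (ClSub.idealMod (pointI x))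
    obtain ⟨z, hz, hzD⟩ : DivEq k (divOf k hdim hLI) (D + -Finsupp.single P 1) :=
      DivEq.trans' k hdim (divEq_tensor k hdim hL (isInvertible_pointI k hdim x))
        (DivEq.add' k hdim (divEq_refl k hdim _) (divEq_pointI k hdim x))
    have hQ : ∀ Q : Place k X.functionField, divOf k hdim hLI Q =
        D Q - (if Q = P then 1 else 0) + Q.ord z := fun Q => by
      rw [hzD, Finsupp.add_apply, Finsupp.add_apply, Finsupp.neg_apply, div_apply' k hdim,
        Finsupp.single_apply, sub_eq_add_neg]
      by_cases h : Q = P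
      · rw [if_pos h, if_pos h.symm]
      · rw [if_neg h, if_neg (Ne.symm h)]
    obtain ⟨θ, hθ⟩ := exists_hom_of_mul k hdim hLI hL z fun Q => by
      rw [FF.val_eq_exp_ord Q hz, ← exp_add, exp_le_exp, hQ Q]
      change -Q.ord z + (D Q - _ + Q.ord z) ≤ D Q
      split_ifs <;> omega
    have hcrd : ∀ m : Γ(M, ⊤), crd (triv hL) ⊤ trivial (θ.app ⊤ m) = z * crd (triv hLI) ⊤ trivial m :=
      fun m => by
        exact (congrArg (triv hL) (RefHull.stalkMapₗ_germ θ (genericPoint X) (U := ⊤) trivial m).symm).trans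
          (hθ _)
    have hlift : ∀ σ : Γ(L, ⊤), ∃ m : Γ(M, ⊤), θ.app ⊤ m = σ := by
      intro σ
      set c := crd (triv hL) ⊤ trivial σ
      have hcL : ∀ Q, Q.1 c ≤ exp (D Q) := fun Q => by
        obtain ⟨y, rfl⟩ := (placeEquiv k hdim).surjective Q
        exact val_crd_le (triv hL) k hdim hL (W := ⊤) trivial σ y trivial
      obtain ⟨m, hm⟩ := exists_crd_eq (triv hLI) k hdim hLI ⊤ trivial (c / z) fun y _ => by
        set Q := toPlace k hdim y
        change Q.1 (c / z) ≤ exp (divOf k hdim hLI Q)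
        rw [map_div₀, div_le_iff₀ (zero_lt_iff.2 ((Valuation.ne_zero_iff _).2 hz)),
          FF.val_eq_exp_ord Q hz, ← exp_add, hQ Q]
        split_ifs with h
        · rw [show D Q - 1 + Q.ord z + -Q.ord z = D Q - 1 by ring]
          have hlt : Q.1 c < exp (D Q) := lt_of_le_of_ne (hcL Q) fun e => hno c hcL (h ▸ e)
          exact (FF.lt_exp_iff _ _).1 hlt
        · rw [show D Q - 0 + Q.ord z + -Q.ord z = D Q by ring]
          exact hcL Q
      refine ⟨m, crd_injective (triv hL) hL ⊤ trivial ?_⟩
      rw [hcrd, hm, mul_div_cancel₀ _ hz]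
    have hfac : ∀ s : Coh.structureModule X ⟶ L, ∃ t : Coh.structureModule X ⟶ M, t ≫ θ = s := by
      intro s
      obtain ⟨m, hm⟩ := hlift (sec s ⊤)
      refine ⟨homOfSec m, Scheme.Modules.hom_ext _ _ fun V => ?_⟩
      ext a
      rw [app_eq (homOfSec m ≫ θ) V a, app_eq s V a]
      congr 1
      change θ.app V (sec (homOfSec m) V) = sec s V
      rw [sec_homOfSec, app_res, hm, sec_res]
    let q : ι → (Coh.structureModule X ⟶ L) := fun i =>
      Sigma.ι (fun _ : ι => Coh.structureModule X) i ≫ p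
    choose t ht using fun i => hfac (q i)
    have hp' : (Sigma.desc t : (∐ fun _ : ι => Coh.structureModule X) ⟶ M) ≫ θ = p := by
      refine Sigma.hom_ext _ _ fun i => ?_
      rw [Sigma.ι_desc_assoc]
      exact ht i
    haveI : Epi p := hp
    haveI : Epi θ := epi_of_epi_fac hp'
    haveI : Mono θ := ⟨fun {Z} f g hfg => by
      refine Ref1.hom_ext_η (toη_injective_of_invertible hLI) (LinearMap.ext fun v => ?_)
      have h1 := congrArg (fun w => triv hL (w v))
        (congrArg (fun φ => RefHull.stalkMapₗ φ (genericPoint X)) hfg)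
      simp only [RefFun.stalkMapₗ_comp, LinearMap.comp_apply, hθ] at h1
      exact (triv hLI).injective (mul_left_cancel₀ hz h1)⟩
    haveI : IsIso θ := isIso_of_mono_of_epi θ
    have hdeg := DivEq.deg_eq k hdim (divEq_iso k hdim hLI hL (asIso θ))
    have h2 : (divOf k hdim hLI).deg = D.deg - 1 := by
      rw [hzD, FF.deg_add, FF.deg_add, FF.deg_div (isFF k hdim), FF.deg_neg, FF.deg_single,
        FF.deg_eq_one (isFunctionField_of_isAlgClosed k hdim)]
      ring
    change D.deg = _ at hdeg
    omega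
  · intro h
    refine Props.AmpleGG.isGloballyGenerated_of_genLocus fun y => ?_
    have key : ∀ x : ZetaLib.ClosedPt X, ∃ s : Coh.structureModule X ⟶ L,
        x.1 ∈ CohB1.genLocus L s := by
      intro x
      obtain ⟨z, hz, hzx⟩ := h x
      obtain ⟨σ, hσ⟩ := exists_crd_eq (triv hL) k hdim hL ⊤ trivial z fun w _ => hz _
      exact ⟨homOfSec σ, mem_genLocus_of_val k hdim hL σ x (by rw [hσ]; exact hzx)⟩
    by_cases hy : y = genericPoint X
    · obtain ⟨x⟩ := exists_closedPt (X := X) k hdim
      obtain ⟨s, hs⟩ := key x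
      exact ⟨s, hy ▸ genericPoint_mem hs⟩
    · exact key ⟨y, VarDim.isClosed_singleton_of_ne_genericPoint k hdim hy⟩

end Groth.Agent.FFCurve
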