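import Groth.Agent.Hensel.Local
import Mathlib.RingTheory.Spectrum.Maximal.Localization

/-!
# Finite algebras over henselian local rings split as products of their localizations
-/

set_option autoImplicit false
set_option linter.style.haveILetI false

universe u

open IsLocalRing

namespace Groth.Agent.FFCurve.HenselSplit

variable {R : Type u} [CommRing R] [HenselianLocalRing R] (T : Type u) [CommRing T] [Algebra R T]
  [Module.Finite R T]

include R in
theorem exists_idempotents : ∃ (n : ℕ) (e : Fin n → T) (j : MaximalSpectrum T → Fin n),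
    (∀ M : MaximalSpectrum T, algebraMap T (Localization.AtPrime M.asIdeal) (e (j M)) = 1) ∧
    (∀ M M' : MaximalSpectrum T, M ≠ M' → algebraMap T (Localization.AtPrime M'.asIdeal) (e (j M)) = 0) ∧
    Function.Injective j ∧ ∀ M : MaximalSpectrum T, ∀ s ∉ M.asIdeal, ∃ u, u * s - 1 ∈ Ideal.span {1 - e (j M)} := by
  obtain ⟨n, e, he, hloc⟩ := Groth.Agent.Hensel.exists_pi_local (R := R) T
  have hex : ∀ M : MaximalSpectrum T, ∃ i, e i ∉ M.asIdeal := fun M => by
    by_contra hne
    push Not at hne
    exact M.isMaximal.ne_top ((Ideal.eq_top_iff_one _).2 (he.complete ▸ Submodule.sum_mem _ fun i _ => hne i))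
  choose j hj using hex
  have hle : ∀ (M : MaximalSpectrum T) (i : Fin n), e i ∉ M.asIdeal → Ideal.span {1 - e i} ≤ M.asIdeal :=
    fun M i hi => by
      rw [Ideal.span_singleton_le_iff_mem]
      exact (M.isMaximal.isPrime.mem_or_mem (x := e i) (y := 1 - e i)
        (by rw [(he.idem i).mul_one_sub_self]; exact M.asIdeal.zero_mem)).resolve_left hi
  have hmap : ∀ (M : MaximalSpectrum T) (i : Fin n), e i ∉ M.asIdeal →
      (M.asIdeal.map (Ideal.Quotient.mk (Ideal.span {1 - e i}))).IsMaximal := fun M i hi =>
    haveI := M.isMaximal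
    Ideal.IsMaximal.map_of_surjective_of_ker_le Ideal.Quotient.mk_surjective
      (by rw [Ideal.mk_ker]; exact hle M i hi)
  have huniq : ∀ (M M' : MaximalSpectrum T) (i : Fin n), e i ∉ M.asIdeal → e i ∉ M'.asIdeal → M = M' := by
    intro M M' i hi hi'
    haveI := hloc i
    have h := (eq_maximalIdeal (hmap M i hi)).trans (eq_maximalIdeal (hmap M' i hi')).symm
    ext x
    rw [← Ideal.mem_quotient_iff_mem (hle M i hi), h, Ideal.mem_quotient_iff_mem (hle M' i hi')]
  refine ⟨n, e, j, fun M => ?_, fun M M' hne => ?_, fun M M' h => huniq M M' (j M) (hj M) (h ▸ hj M'),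
    fun M s hs => ?_⟩
  · exact (IsIdempotentElem.iff_eq_one_of_isUnit
      (IsLocalization.map_units (M := M.asIdeal.primeCompl) (Localization.AtPrime M.asIdeal)
        (⟨e (j M), hj M⟩ : M.asIdeal.primeCompl))).1 ((he.idem (j M)).map _)
  · have hmem : e (j M) ∈ M'.asIdeal := by
      by_contra h
      exact hne (huniq M M' (j M) (hj M) h)
    have hu : IsUnit (algebraMap T (Localization.AtPrime M'.asIdeal) (1 - e (j M))) :=
      IsLocalization.map_units (M := M'.asIdeal.primeCompl) _ (⟨1 - e (j M), fun h =>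
        M'.isMaximal.ne_top ((Ideal.eq_top_iff_one _).2 (by simpa using M'.asIdeal.add_mem h hmem))⟩ :
          M'.asIdeal.primeCompl)
    have h1 := (IsIdempotentElem.iff_eq_one_of_isUnit hu).1 (((he.idem (j M)).one_sub).map _)
    rw [map_sub, map_one, sub_eq_self] at h1
    exact h1
  · haveI := hloc (j M)
    have hu : IsUnit (Ideal.Quotient.mk (Ideal.span {1 - e (j M)}) s) := by
      by_contra hns
      have hmem : Ideal.Quotient.mk (Ideal.span {1 - e (j M)}) s ∈
          M.asIdeal.map (Ideal.Quotient.mk (Ideal.span {1 - e (j M)})) := by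
        rw [eq_maximalIdeal (hmap M (j M) (hj M))]; exact hns
      rw [Ideal.mem_quotient_iff_mem (hle M (j M) (hj M))] at hmem
      exact hs hmem
    obtain ⟨u, hu'⟩ := Ideal.Quotient.mk_surjective (hu.unit⁻¹ : Units _).1
    refine ⟨u, ?_⟩
    rw [← Ideal.Quotient.eq_zero_iff_mem, map_sub, map_mul, map_one, hu', sub_eq_zero]
    exact hu.val_inv_mul

include R in
theorem finite_maximalSpectrum : Finite (MaximalSpectrum T) := by
  obtain ⟨n, e, j, -, -, hj, -⟩ := exists_idempotents (R := R) T
  exact Finite.of_injective j hj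

include R in
theorem bijective_toPiLocalization : Function.Bijective (MaximalSpectrum.toPiLocalization T) := by
  classical
  obtain ⟨n, e, j, h1, h0, hj, hu⟩ := exists_idempotents (R := R) T
  haveI := finite_maximalSpectrum (R := R) T
  cases nonempty_fintype (MaximalSpectrum T)
  refine ⟨MaximalSpectrum.toPiLocalization_injective T, fun z => ?_⟩
  have hs : ∀ M : MaximalSpectrum T, ∃ a, algebraMap T (Localization.AtPrime M.asIdeal) a = z M := fun M => by
    obtain ⟨a, s, hz⟩ := IsLocalization.exists_mk'_eq M.asIdeal.primeCompl (z M)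
    obtain ⟨u, hus⟩ := hu M s.1 s.2
    obtain ⟨w, hw⟩ := Ideal.mem_span_singleton'.1 hus
    refine ⟨a * u, ?_⟩
    rw [← hz, IsLocalization.eq_mk'_iff_mul_eq, map_mul, mul_assoc, ← map_mul,
      show u * (s : T) = 1 + w * (1 - e (j M)) by rw [hw, add_sub_cancel], map_add, map_mul, map_sub,
      map_one, h1 M, sub_self, mul_zero, add_zero, mul_one]
  choose a ha using hs
  refine ⟨∑ M, a M * e (j M), funext fun M => ?_⟩
  show algebraMap T (Localization.AtPrime M.asIdeal) (∑ M', a M' * e (j M')) = z M
  rw [map_sum, Finset.sum_eq_single M (fun M' _ hne => by rw [map_mul, h0 M' M hne, mul_zero])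
    (fun h => absurd (Finset.mem_univ M) h), map_mul, h1 M, mul_one, ha M]

end Groth.Agent.FFCurve.HenselSplit
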