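import Groth.Agent.FF.Linear
import Groth.Agent.FF.RR
import Groth.Agent.FF.Fund
import Mathlib.RingTheory.Polynomial.DegreeLT
import Mathlib.RingTheory.Localization.FractionRing
import Mathlib.Algebra.MvPolynomial.Eval

/-!
# The equation of a double cover of the line
-/

set_option autoImplicit false
set_option linter.style.haveILetI false
set_option linter.unusedSectionVars false

open FunFld WithZero Groth.Agent.FF Polynomial

namespace Groth.Agent.FFCurve.HyperEq

universe u

variable {k K : Type u} [Field k] [Field K] [Algebra k K] (hK : IsFunctionField k K) {x : K}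
  (hx : Transcendental k x)
include hK hx

omit hK in
lemma aeval_ne_zero {a : k[X]} (ha : a ≠ 0) : aeval x a ≠ 0 := fun h => hx ⟨a, ha, h⟩

/-- The divisor of poles. -/
noncomputable abbrev D : Divisor k K := zeroDiv (k := k) x⁻¹

lemma val_pow_of_pole {P : Place k K} (hP : 1 < P.1 x) (a : k[X]) (ha : a ≠ 0) :
    P.1 (aeval x a) = P.1 x ^ a.natDegree := by
  have hx0 : P.1 x ≠ 0 := (zero_lt_one.trans hP).ne'
  rw [aeval_eq_sum_range, Finset.sum_range_succ]
  have hlead : P.1 (a.coeff a.natDegree • x ^ a.natDegree) = P.1 x ^ a.natDegree := by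
    rw [val_smul P (by rw [coeff_natDegree, ne_eq, leadingCoeff_eq_zero]; exact ha), map_pow]
  rw [Valuation.map_add_eq_of_lt_right _ ?_, hlead]
  rw [hlead]
  refine Valuation.map_sum_lt _ (pow_ne_zero _ hx0) fun i hi => ?_
  refine (val_smul_le P _ _).trans_lt ?_
  rw [map_pow]
  exact pow_lt_pow_right₀ hP (Finset.mem_range.1 hi)

lemma D_apply (P : Place k K) : D (k := k) (x := x) P = max (-P.ord x) 0 := by
  simp [D, zeroDiv, div_apply hK.1, ord_inv]

lemma aeval_mem_L {a : k[X]} {n : ℕ} (ha : a.degree < (n + 1 : ℕ)) :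
    aeval x a ∈ FunFld.L ((n : ℤ) • D (k := k) (x := x)) := by
  intro P
  rcases eq_or_ne a 0 with rfl | ha0
  · rw [map_zero, map_zero]; exact zero_le
  have hd : a.natDegree ≤ n := by
    have := (natDegree_lt_iff_degree_lt ha0).2 ha
    omega
  rw [Finsupp.smul_apply, D_apply hK hx, smul_eq_mul]
  rcases le_or_gt (P.1 x) 1 with hP | hP
  · refine (val_aeval_le P hP a).trans ?_
    rw [← exp_zero, exp_le_exp]
    positivity
  · have hx0 : x ≠ 0 := fun e => hx (e ▸ isAlgebraic_zero)
    have ho := (one_lt_val_iff P x).1 hP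
    rw [val_pow_of_pole hK hx hP a ha0, val_eq_exp_ord P hx0, ← exp_nsmul, exp_le_exp,
      max_eq_left (by omega), nsmul_eq_mul]
    exact mul_le_mul_of_nonneg_right (by exact_mod_cast hd) (by omega)

lemma exists_aeval_of_mem {z : K} {n : ℕ} (hz : z ∈ FunFld.L ((n : ℤ) • D (k := k) (x := x)))
    (hzx : z ∈ IntermediateField.adjoin k ({x} : Set K)) :
    ∃ a : k[X], a.degree < (n + 1 : ℕ) ∧ aeval x a = z := by
  classical
  obtain ⟨r, s, rfl⟩ := (IntermediateField.mem_adjoin_simple_iff k z).1 hzx
  by_cases hs : s = 0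
  · exact ⟨0, by rw [degree_zero]; exact WithBot.bot_lt_coe _, by simp [hs]⟩
  obtain ⟨r', s', c, hrel, hr, hs'⟩ := UniqueFactorizationMonoid.exists_reduced_factors' r s hs
  have hco : IsCoprime r' s' := hrel.isCoprime
  have hs0 : s' ≠ 0 := fun e => hs (by rw [← hs', e, mul_zero])
  have hc0 : aeval x c ≠ 0 := aeval_ne_zero hx fun e => hs (by rw [← hs', e, zero_mul])
  have hz' : aeval x r / aeval x s = aeval x r' / aeval x s' := by
    rw [← hr, ← hs', map_mul, map_mul]
    exact mul_div_mul_left _ _ hc0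
  rw [hz'] at hz ⊢
  have hu : IsUnit s' := by
    by_contra hu
    obtain ⟨π, hπ, hπd⟩ := WfDvdMonoid.exists_irreducible_factor hu hs0
    have ht : Transcendental k (aeval x π) := fun hal => by
      obtain ⟨c, hc⟩ := hK.2 _ hal
      have : π - C c = 0 := by
        by_contra hne
        exact aeval_ne_zero hx hne (by rw [map_sub, aeval_C, hc, sub_self])
      rw [sub_eq_zero] at this
      exact hπ.natDegree_pos.ne' (by rw [this, natDegree_C])
    obtain ⟨P, hP⟩ := exists_zero hK.1 ht
    have hPx : P.1 x ≤ 1 := by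
      by_contra hlt
      rw [not_le] at hlt
      rw [val_pow_of_pole hK hx hlt π hπ.ne_zero] at hP
      exact absurd hP (not_lt.2 (one_le_pow₀ hlt.le))
    obtain ⟨q, hq⟩ := hπd
    have hs1 : P.1 (aeval x s') < 1 := by
      rw [hq, map_mul, map_mul]
      exact (mul_le_of_le_one_right' (val_aeval_le P hPx q)).trans_lt hP
    have hr1 : P.1 (aeval x r') = 1 := by
      refine le_antisymm (val_aeval_le P hPx r') (le_of_not_gt fun hlt => ?_)
      obtain ⟨a, b, hab⟩ := hco
      have h := congrArg (fun q => P.1 (aeval x q)) hab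
      simp only [map_add, map_mul, map_one] at h
      refine absurd h (ne_of_lt ((P.1.map_add _ _).trans_lt (max_lt ?_ ?_)))
      · rw [map_mul]; exact (mul_le_of_le_one_left' (val_aeval_le P hPx a)).trans_lt hlt
      · rw [map_mul]; exact (mul_le_of_le_one_left' (val_aeval_le P hPx b)).trans_lt hs1
    have h := hz P
    rw [Finsupp.smul_apply, D_apply hK hx, max_eq_right (by rw [val_le_one_iff] at hPx; omega),
      smul_zero, exp_zero, map_div₀, hr1, one_div, inv_le_one₀ (zero_lt_iff.2
        ((Valuation.ne_zero_iff _).2 (aeval_ne_zero hx hs0)))] at h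
    exact absurd hs1 (not_lt.2 h)
  obtain ⟨c, hc, hcs⟩ := Polynomial.isUnit_iff.1 hu
  refine ⟨C c⁻¹ * r', ?_, ?_⟩
  · by_cases hr0 : r' = 0
    · rw [hr0, mul_zero, degree_zero]; exact WithBot.bot_lt_coe _
    rw [degree_C_mul (inv_ne_zero hc.ne_zero), ← natDegree_lt_iff_degree_lt hr0]
    by_contra hn
    -- a pole of `x`
    obtain ⟨P, hP⟩ := exists_zero hK.1 (x := x⁻¹) fun e => hx (by simpa using e.inv)
    have hx0 : x ≠ 0 := fun e => hx (e ▸ isAlgebraic_zero)
    rw [map_inv₀, inv_lt_one₀ (zero_lt_iff.2 ((Valuation.ne_zero_iff _).2 hx0))] at hP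
    have h := hz P
    have ho := (one_lt_val_iff P x).1 hP
    rw [← hcs, aeval_C, map_div₀, val_const P hc.ne_zero, div_one, val_pow_of_pole hK hx hP r' hr0,
      val_eq_exp_ord P hx0, ← exp_nsmul, exp_le_exp, Finsupp.smul_apply, D_apply hK hx,
      max_eq_left (by omega), nsmul_eq_mul, smul_eq_mul] at h
    have := le_of_mul_le_mul_right h (by omega)
    omega
  · rw [map_mul, aeval_C, ← hcs, aeval_C, map_inv₀, div_eq_inv_mul]

/-- The affine coordinate ring of a double cover. -/
theorem exists_equation (h2 : Module.finrank (IntermediateField.adjoin k ({x} : Set K)) K = 2)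
    {g : ℕ} (hg : genus k K = g) :
    ∃ (y : K) (p q : k[X]), 2 * g + 1 ≤ max p.natDegree (2 * q.natDegree) ∧
      max p.natDegree (2 * q.natDegree) ≤ 2 * g + 2 ∧
      (∀ P : Place k K, P.1 x ≤ 1 → P.1 y ≤ 1) ∧
      y ^ 2 + aeval x q * y - aeval x p = 0 ∧
      (∀ z : K, (∀ P : Place k K, P.1 x ≤ 1 → P.1 z ≤ 1) → ∃ a b : k[X], aeval x a + aeval x b * y = z) ∧
      (∀ a b : k[X], aeval x a + aeval x b * y = 0 → a = 0 ∧ b = 0) := by
  classical
  set Dx := D (k := k) (x := x)
  have hxinv : Transcendental k x⁻¹ := fun e => hx (by simpa using e.inv)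
  have he : IntermediateField.adjoin k ({x⁻¹} : Set K) = IntermediateField.adjoin k ({x} : Set K) := by
    apply le_antisymm <;> rw [IntermediateField.adjoin_simple_le_iff]
    · exact inv_mem (IntermediateField.mem_adjoin_simple_self k x)
    · have := inv_mem (IntermediateField.mem_adjoin_simple_self k x⁻¹)
      rwa [inv_inv] at this
  have hDd : Dx.deg = 2 := by
    change (zeroDiv (k := k) x⁻¹).deg = 2
    rw [deg_zeroDiv hK.1 hxinv, he, h2]; rfl
  have hell : ∀ n : ℕ, g ≤ n → (ell ((n : ℤ) • Dx) : ℤ) = 2 * n + 1 - g := fun n hn => by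
    have hd : ((n : ℤ) • Dx).deg = 2 * n := by rw [deg_zsmul, hDd]; ring
    have := ell_eq_of_deg_ge hK (D := (n : ℤ) • Dx) (by rw [hd, hg]; omega)
    rwa [hd, hg] at this
  -- the second generator
  obtain ⟨y, hy, hyx⟩ : ∃ y ∈ FunFld.L (((g + 1 : ℕ) : ℤ) • Dx),
      y ∉ IntermediateField.adjoin k ({x} : Set K) := by
    by_contra! hall
    haveI := finiteDimensional_L hK.1 (((g + 1 : ℕ) : ℤ) • Dx)
    have hle : FunFld.L (((g + 1 : ℕ) : ℤ) • Dx) ≤
        (Polynomial.degreeLT k (g + 2)).map (aeval x : k[X] →ₐ[k] K).toLinearMap := fun z hz => by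
      obtain ⟨a, ha, rfl⟩ := exists_aeval_of_mem hK hx hz (hall z hz)
      exact ⟨a, Polynomial.mem_degreeLT.2 ha, rfl⟩
    haveI : FiniteDimensional k (Polynomial.degreeLT k (g + 2)) :=
      Module.Finite.equiv (Polynomial.degreeLTEquiv k (g + 2)).symm
    have h1 := (Submodule.finrank_mono hle).trans (Submodule.finrank_map_le _ _)
    rw [LinearEquiv.finrank_eq (Polynomial.degreeLTEquiv k (g + 2)), Module.finrank_fin_fun] at h1
    have h3 := hell (g + 1) (by omega)
    change ell (((g + 1 : ℕ) : ℤ) • Dx) ≤ g + 2 at h1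
    push_cast at h3 h1
    omega
  have hind : ∀ a b : k[X], aeval x a + aeval x b * y = 0 → a = 0 ∧ b = 0 := by
    intro a b h
    have hb : b = 0 := by
      by_contra hb
      refine hyx ?_
      have : y = -(aeval x a) / aeval x b := by
        rw [eq_div_iff (aeval_ne_zero hx hb)]; linear_combination h
      rw [this]
      refine div_mem (neg_mem ?_) ?_ <;>
        exact IntermediateField.algebra_adjoin_le_adjoin k _ (Polynomial.aeval_mem_adjoin_singleton k x)
    subst hb
    rw [map_zero, zero_mul, add_zero] at h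
    exact ⟨by_contra fun ha => aeval_ne_zero hx ha h, rfl⟩
  -- the basis of `L(n D)`
  have hbasis : ∀ n : ℕ, g ≤ n → ∀ z ∈ FunFld.L ((n : ℤ) • Dx), ∃ a b : k[X],
      a.degree < (n + 1 : ℕ) ∧ b.degree < (n - g : ℕ) ∧ aeval x a + aeval x b * y = z := by
    intro n hn
    let Φ : (Polynomial.degreeLT k (n + 1) × Polynomial.degreeLT k (n - g)) →ₗ[k] K :=
      ((aeval x : k[X] →ₐ[k] K).toLinearMap ∘ₗ (Polynomial.degreeLT k (n + 1)).subtype).coprod
        (LinearMap.mulRight k y ∘ₗ (aeval x : k[X] →ₐ[k] K).toLinearMap ∘ₗ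
          (Polynomial.degreeLT k (n - g)).subtype)
    have hΦ : ∀ v, Φ v = aeval x v.1.1 + aeval x v.2.1 * y := fun v => rfl
    have hinj : Function.Injective Φ := by
      rw [← LinearMap.ker_eq_bot, Submodule.eq_bot_iff]
      intro v hv
      rw [LinearMap.mem_ker, hΦ] at hv
      obtain ⟨h1, h3⟩ := hind _ _ hv
      exact Prod.ext (Subtype.ext h1) (Subtype.ext h3)
    have hmem : LinearMap.range Φ ≤ FunFld.L ((n : ℤ) • Dx) := by
      rintro _ ⟨v, rfl⟩
      rw [hΦ]
      refine add_mem (aeval_mem_L hK hx (Polynomial.mem_degreeLT.1 v.1.2)) ?_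
      rcases Nat.lt_or_ge g n with hlt | hge
      · intro P
        have h1 := aeval_mem_L hK hx (n := n - g - 1) (by
          rw [show n - g - 1 + 1 = n - g by omega]; exact Polynomial.mem_degreeLT.1 v.2.2) P
        rw [map_mul]
        refine (mul_le_mul' h1 (hy P)).trans_eq ?_
        rw [← exp_add, ← Finsupp.add_apply, ← add_smul]
        congr 3
        omega
      · have h0 : (v.2 : k[X]) = 0 := by
          have := Polynomial.mem_degreeLT.1 v.2.2
          refine Polynomial.degree_eq_bot.1 (Nat.WithBot.lt_zero_iff.1 (this.trans_le ?_))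
          exact_mod_cast (show n - g ≤ 0 by omega)
        rw [h0, map_zero, zero_mul]
        exact zero_mem _
    haveI := finiteDimensional_L hK.1 ((n : ℤ) • Dx)
    haveI : FiniteDimensional k (Polynomial.degreeLT k (n + 1)) :=
      Module.Finite.equiv (Polynomial.degreeLTEquiv k (n + 1)).symm
    haveI : FiniteDimensional k (Polynomial.degreeLT k (n - g)) :=
      Module.Finite.equiv (Polynomial.degreeLTEquiv k (n - g)).symm
    have hrange : LinearMap.range Φ = FunFld.L ((n : ℤ) • Dx) := by
      refine Submodule.eq_of_le_of_finrank_le hmem ?_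
      rw [LinearMap.finrank_range_of_inj hinj, Module.finrank_prod,
        LinearEquiv.finrank_eq (Polynomial.degreeLTEquiv k (n + 1)),
        LinearEquiv.finrank_eq (Polynomial.degreeLTEquiv k (n - g)), Module.finrank_fin_fun,
        Module.finrank_fin_fun]
      have := hell n hn
      change ell ((n : ℤ) • Dx) ≤ _
      omega
    intro z hz
    rw [← hrange] at hz
    obtain ⟨v, rfl⟩ := hz
    exact ⟨v.1.1, v.2.1, Polynomial.mem_degreeLT.1 v.1.2, Polynomial.mem_degreeLT.1 v.2.2, (hΦ v).symm⟩
  -- the equation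
  have hy2 : y ^ 2 ∈ FunFld.L (((2 * g + 2 : ℕ) : ℤ) • Dx) := fun P => by
    rw [sq, map_mul]
    refine (mul_le_mul' (hy P) (hy P)).trans_eq ?_
    rw [← exp_add, ← Finsupp.add_apply, ← add_smul]
    congr 3
    push_cast
    ring
  obtain ⟨a, b, ha, hb, hab⟩ := hbasis (2 * g + 2) (by omega) _ hy2
  have hx0 : x ≠ 0 := fun e => hx (e ▸ isAlgebraic_zero)
  have hyR : ∀ P : Place k K, P.1 x ≤ 1 → P.1 y ≤ 1 := fun P hP => by
    have h := hy P
    rwa [Finsupp.smul_apply, D_apply hK hx, max_eq_right (by rw [val_le_one_iff] at hP; omega),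
      smul_zero, exp_zero] at h
  refine ⟨y, a, -b, ?_, ?_, hyR, ?_, fun z hz => ?_, hind⟩
  · by_contra hlt
    rw [not_le, natDegree_neg] at hlt
    have hla : a.natDegree ≤ 2 * g := by omega
    have hlb : b.natDegree ≤ g := by omega
    have hy' : y ∈ FunFld.L ((g : ℤ) • Dx) := fun P => by
      rcases le_or_gt (P.1 x) 1 with hP | hP
      · refine (hyR P hP).trans ?_
        rw [← exp_zero, exp_le_exp, Finsupp.smul_apply, D_apply hK hx, smul_eq_mul]
        positivity
      · have ho := (one_lt_val_iff P x).1 hP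
        have hval : exp (((g : ℤ) • Dx) P) = P.1 x ^ g := by
          rw [Finsupp.smul_apply, D_apply hK hx, max_eq_left (by omega), val_eq_exp_ord P hx0,
            ← exp_nsmul]
          simp
        rw [hval]
        by_contra hlt'
        rw [not_le] at hlt'
        have hA : P.1 (aeval x a) < P.1 y * P.1 y := by
          rcases eq_or_ne a 0 with rfl | ha0
          · rw [map_zero, map_zero]
            exact mul_pos (zero_le.trans_lt hlt') (zero_le.trans_lt hlt')
          rw [val_pow_of_pole hK hx hP a ha0]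
          refine (pow_le_pow_right₀ hP.le hla).trans_lt ?_
          rw [two_mul, pow_add]
          exact mul_lt_mul'' hlt' hlt' zero_le zero_le
        have hB : P.1 (aeval x b * y) < P.1 y * P.1 y := by
          rw [map_mul]
          refine mul_lt_mul_of_pos_right ?_ (zero_le.trans_lt hlt')
          rcases eq_or_ne b 0 with rfl | hb0
          · rw [map_zero, map_zero]; exact zero_le.trans_lt hlt'
          rw [val_pow_of_pole hK hx hP b hb0]
          exact (pow_le_pow_right₀ hP.le hlb).trans_lt hlt'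
        have h := (P.1.map_add _ _).trans_lt (max_lt hA hB)
        rw [hab, map_pow, sq] at h
        exact lt_irrefl _ h
    obtain ⟨a', b', -, hb', h'⟩ := hbasis g le_rfl y hy'
    rw [Nat.sub_self] at hb'
    have hb0 : b' = 0 := Polynomial.degree_eq_bot.1 (Nat.WithBot.lt_zero_iff.1 (by exact_mod_cast hb'))
    rw [hb0, map_zero, zero_mul, add_zero] at h'
    exact hyx (h' ▸ IntermediateField.algebra_adjoin_le_adjoin k _ (Polynomial.aeval_mem_adjoin_singleton k x))
  · rw [natDegree_neg, max_le_iff]
    constructor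
    · rcases eq_or_ne a 0 with rfl | ha0
      · simp
      · have := (natDegree_lt_iff_degree_lt ha0).2 ha; omega
    · rcases eq_or_ne b 0 with rfl | hb0
      · simp
      · have := (natDegree_lt_iff_degree_lt hb0).2 hb; omega
  · rw [map_neg]; linear_combination hab.symm
  · -- `z` lies in some `L(n D)`
    rcases eq_or_ne z 0 with rfl | hz0
    · exact ⟨0, 0, by simp⟩
    set n : ℕ := g + ∑ P ∈ (FunFld.div k z).support, (FunFld.div k z P).natAbs
    have hn : ∀ P : Place k K, -(P.ord z) ≤ n := fun P => by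
      rw [← div_apply hK.1 z P]
      by_cases hP : P ∈ (FunFld.div k z).support
      · have := Finset.single_le_sum (f := fun P => (FunFld.div k z P).natAbs) (fun _ _ => Nat.zero_le _) hP
        simp only [n]
        omega
      · rw [Finsupp.notMem_support_iff.1 hP]
        simp
    have hzL : z ∈ FunFld.L ((n : ℤ) • Dx) := fun P => by
      rw [val_le_exp_iff P hz0, Finsupp.smul_apply, D_apply hK hx, smul_eq_mul]
      rcases le_or_gt (P.1 x) 1 with hP | hP
      · have := (val_le_one_iff P z).1 (hz P hP)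
        have h1 : (0 : ℤ) ≤ (n : ℤ) * max (-P.ord x) 0 := by positivity
        omega
      · have ho := (one_lt_val_iff P x).1 hP
        have h1 : (n : ℤ) * 1 ≤ (n : ℤ) * max (-P.ord x) 0 :=
          mul_le_mul_of_nonneg_left (by omega) (by positivity)
        have := hn P
        omega
    obtain ⟨a', b', -, -, h'⟩ := hbasis n (by omega) z hzL
    exact ⟨a', b', h'⟩

end Groth.Agent.FFCurve.HyperEq
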