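import Groth.Agent.FFCurve.P1Deg
import Groth.Agent.FFCurve.GenericRank
import Groth.Agent.FFCurve.Aut
import Groth.Agent.FFCurve.G12
import Groth.Agent.FFCurve.AlgClosed

/-!
# Uniqueness of the hyperelliptic involution
-/

universe u v w

open CategoryTheory CategoryTheory.Limits AlgebraicGeometry TopologicalSpace FunFld WithZero IntermediateField

set_option linter.style.haveILetI false
set_option backward.isDefEq.respectTransparency false
set_option backward.isDefEq.respectTransparency.types false

namespace Groth.Agent.FFCurve.HyperUnique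

section Field

variable {k : Type v} {K : Type w} [Field k] [Field K] [Algebra k K] [IsAlgClosed k]

/-- Two functions of degree two on a function field of genus at least two generate the same field. -/
theorem adjoin_le (hK : IsFunctionField k K) (hg : 2 ≤ genus k K) {t t' : K} (ht : Transcendental k t)
    (ht' : Transcendental k t') (hdt : Module.finrank k⟮t⟯ K = 2) (hdt' : Module.finrank k⟮t'⟯ K = 2) :
    k⟮t'⟯ ≤ k⟮t⟯ := by
  classical
  have key : ∀ {s : K}, Transcendental k s → Module.finrank k⟮s⟯ K = 2 →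
      (FF.zeroDiv (k := k) s⁻¹).deg = 2 ∧ (1 : K) ∈ FunFld.L (FF.zeroDiv (k := k) s⁻¹) ∧
        s ∈ FunFld.L (FF.zeroDiv (k := k) s⁻¹) := by
    intro s hs hd
    have hinv : Transcendental k s⁻¹ := fun e => hs (by simpa using e.inv)
    have he : k⟮s⁻¹⟯ = k⟮s⟯ := by
      apply le_antisymm <;> rw [adjoin_simple_le_iff]
      · exact inv_mem (mem_adjoin_simple_self k s)
      · have := inv_mem (mem_adjoin_simple_self k s⁻¹)
        rwa [inv_inv] at this
    refine ⟨?_, fun P => ?_, fun P => ?_⟩
    · have := FF.deg_zeroDiv hK.1 hinv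
      rw [he, hd] at this
      exact this.symm ▸ rfl
    · rw [map_one, ← exp_zero]
      exact exp_le_exp.2 (by simp [FF.zeroDiv])
    · have h0 : s ≠ 0 := fun e => hs (e ▸ isAlgebraic_zero)
      rw [FF.val_le_exp_iff P h0]
      simp only [FF.zeroDiv, Finsupp.sup_apply, FF.div_apply hK.1, FF.ord_inv, Finsupp.coe_zero, Pi.zero_apply]
      omega
  obtain ⟨hD, h1, htD⟩ := key ht hdt
  obtain ⟨hD', h1', htD'⟩ := key ht' hdt'
  set D := FF.zeroDiv (k := k) t⁻¹
  set D' := FF.zeroDiv (k := k) t'⁻¹
  haveI := FF.finiteDimensional_L hK.1 D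
  haveI := FF.finiteDimensional_L hK.1 D'
  have two : ∀ {s : K} {E : Divisor k K}, Transcendental k s → (1 : K) ∈ FunFld.L E → s ∈ FunFld.L E →
      LinearIndependent k ![(1 : K), s] ∧ Submodule.span k ({1, s} : Set K) ≤ FunFld.L E := by
    intro s E hs hE1 hEs
    refine ⟨(LinearIndependent.pair_iff' one_ne_zero).2 fun a ha => hs ?_, Submodule.span_le.2 ?_⟩
    · rw [← ha, Algebra.smul_def, mul_one]
      exact isAlgebraic_algebraMap a
    · rintro y (rfl | rfl)
      exacts [hE1, hEs]
  have hrk : ∀ {s : K}, LinearIndependent k ![(1 : K), s] →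
      Module.finrank k (Submodule.span k ({1, s} : Set K)) = 2 := by
    intro s hs
    have h2 := finrank_span_eq_card hs
    rw [Matrix.range_cons, Matrix.range_cons, Matrix.range_empty, Set.union_empty,
      Set.singleton_union, Fintype.card_fin] at h2
    exact h2
  obtain ⟨hli, hle⟩ := two ht h1 htD
  obtain ⟨hli', hle'⟩ := two ht' h1' htD'
  have hl : 2 ≤ ell D := (hrk hli).symm.le.trans (Submodule.finrank_mono hle)
  have hl' : 2 ≤ ell D' := (hrk hli').symm.le.trans (Submodule.finrank_mono hle')
  obtain ⟨A⟩ := FF.nonempty_place hK.1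
  have hD2 : ell D = 2 := by
    have := FF.clifford hK (FF.deg_eq_one hK A) (D := D) (by omega) (by omega)
    omega
  have hspan : Submodule.span k ({1, t} : Set K) = FunFld.L D :=
    Submodule.eq_of_le_of_finrank_le hle ((le_of_eq hD2).trans (hrk hli).symm.le)
  obtain ⟨z, hz, hDD⟩ := unique_g12 hK hg hD hD' hl hl'
  have hmem : ∀ {y : K}, y ∈ FunFld.L D' → y * z ∈ k⟮t⟯ := by
    intro y hy
    have : y * z ∈ FunFld.L D := by
      rcases eq_or_ne y 0 with rfl | hy0
      · rw [zero_mul]; exact zero_mem _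
      rw [FF.mem_L_iff hK.1 (mul_ne_zero hy0 hz), FF.div_mul hK.1 hy0 hz]
      have := (FF.mem_L_iff hK.1 hy0).1 hy
      rw [hDD] at this
      rwa [← add_assoc, add_right_comm]
    rw [← hspan, Submodule.mem_span_pair] at this
    obtain ⟨a, b, hab⟩ := this
    rw [← hab]
    exact add_mem (IntermediateField.smul_mem _ (one_mem _))
      (IntermediateField.smul_mem _ (mem_adjoin_simple_self k t))
  rw [adjoin_simple_le_iff]
  have hq := div_mem (hmem htD') (hmem h1')
  rwa [one_mul, mul_div_assoc, div_self hz, mul_one] at hq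

theorem adjoin_eq (hK : IsFunctionField k K) (hg : 2 ≤ genus k K) {t t' : K} (ht : Transcendental k t)
    (ht' : Transcendental k t') (hdt : Module.finrank k⟮t⟯ K = 2) (hdt' : Module.finrank k⟮t'⟯ K = 2) :
    k⟮t'⟯ = k⟮t⟯ :=
  le_antisymm (adjoin_le hK hg ht ht' hdt hdt') (adjoin_le hK hg ht' ht hdt' hdt)

omit [IsAlgClosed k] in
/-- Nontrivial endomorphisms of a quadratic extension over the base field agree. -/
theorem hom_unique (F : IntermediateField k K) (hd : Module.finrank F K = 2) (σ τ : K →ₐ[F] K)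
    (hσ : σ ≠ AlgHom.id F K) (hτ : τ ≠ AlgHom.id F K) : σ = τ := by
  classical
  haveI : FiniteDimensional F K := Module.finite_of_finrank_pos (by omega)
  by_contra hne
  have hcard : ({AlgHom.id F K, σ, τ} : Finset (K →ₐ[F] K)).card = 3 := by
    rw [Finset.card_insert_of_notMem (by simp [Ne.symm hσ, Ne.symm hτ]),
      Finset.card_insert_of_notMem (by simp [hne]), Finset.card_singleton]
  haveI : Fintype (K →ₐ[F] K) := minpoly.AlgHom.fintype F K K
  have h := Finset.card_le_univ ({AlgHom.id F K, σ, τ} : Finset (K →ₐ[F] K))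
  rw [hcard] at h
  have h' := card_algHom_le_finrank F K K
  rw [hd, Nat.card_eq_fintype_card] at h'
  omega

end Field

variable (k : Type u) [Field k] {X : Scheme.{u}} [IsIntegral X] [X.Over (Spec (CommRingCat.of k))]

/-- A parameter generating the image of the function field of the line. -/
theorem exists_param_range (hdim : topologicalKrullDim X = 1) (φ : X ⟶ CohB1.ProjSpace 1 k)
    (hφ : φ ≫ CohB1.ProjSpace.toSpec 1 k = X ↘ Spec (CommRingCat.of k)) [IsFinite φ] :
    ∃ t : X.functionField, Transcendental k t ∧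
      φ.residueDegree (genericPoint X) =
        Module.finrank (IntermediateField.adjoin k ({t} : Set X.functionField)) X.functionField ∧
      ¬ IsClosed ({φ (genericPoint X)} : Set (CohB1.ProjSpace 1 k)) ∧
      Set.range (φ.stalkMap (genericPoint X)) =
        (IntermediateField.adjoin k ({t} : Set X.functionField) : Set X.functionField) := by
  haveI : IsProper (CohB1.ProjSpace.toSpec 1 k) := ProjProper.Basic.isProper_toSpec 1 k
  haveI : IsProper (X ↘ Spec (CommRingCat.of k)) := hφ ▸ inferInstance
  obtain ⟨-, -, hPi, hPd⟩ := p1_facts k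
  haveI := hPi
  letI : (CohB1.ProjSpace 1 k).Over (Spec (CommRingCat.of k)) := ⟨CohB1.ProjSpace.toSpec 1 k⟩
  haveI : IsProper ((CohB1.ProjSpace 1 k) ↘ Spec (CommRingCat.of k)) :=
    ‹IsProper (CohB1.ProjSpace.toSpec 1 k)›
  have hnc : ¬ IsClosed ({φ (genericPoint X)} : Set (CohB1.ProjSpace 1 k)) := by
    intro h
    have huniv : φ ⁻¹' {φ (genericPoint X)} = Set.univ := by
      refine Set.eq_univ_of_forall fun x => ?_
      exact (genericPoint_specializes x).mem_closed (h.preimage φ.continuous) rfl
    haveI : DiscreteTopology X := by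
      have := φ.isDiscrete_preimage_singleton (φ (genericPoint X))
      rw [huniv] at this
      exact isDiscrete_univ_iff.1 this
    have h0 : topologicalKrullDim X ≤ 0 := topologicalKrullDim_zero_of_discreteTopology X
    rw [hdim] at h0
    exact absurd h0 (by norm_num)
  have hξ : φ (genericPoint X) = genericPoint (CohB1.ProjSpace 1 k) := by_contra fun hne =>
    hnc (VarDim.isClosed_singleton_of_ne_genericPoint (X := CohB1.ProjSpace 1 k) k hPd hne)
  obtain ⟨j, hj, hjs⟩ := exists_lineChart k
  haveI := hj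
  have hr : Set.range (X.fromSpecStalk (genericPoint X) ≫ φ) ⊆ Set.range j := by
    rintro _ ⟨z, rfl⟩
    have hz : X.fromSpecStalk (genericPoint X) z = genericPoint X :=
      (range_fromSpecStalk_generic (X := X)).subset ⟨z, rfl⟩
    rw [Scheme.Hom.comp_apply, hz, hξ]
    exact ((genericPoint_spec (CohB1.ProjSpace 1 k)).mem_open_set_iff j.isOpenEmbedding.isOpen_range).2
      ⟨j ⟨⊥, Ideal.isPrime_bot⟩, trivial, ⟨_, rfl⟩⟩
  set g : Spec X.functionField ⟶ Spec (CommRingCat.of (Polynomial k)) :=
    IsOpenImmersion.lift j (X.fromSpecStalk (genericPoint X) ≫ φ) hr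
  have hg : g ≫ j = X.fromSpecStalk (genericPoint X) ≫ φ := IsOpenImmersion.lift_fac _ _ _
  set a := Spec.preimage g
  have ha : Spec.map a = g := Spec.map_preimage g
  set t : X.functionField := a Polynomial.X
  have hC : ∀ c : k, a (Polynomial.C c) = algebraMap k X.functionField c := fun c => by
    have h1 : g ≫ Spec.map (CommRingCat.ofHom Polynomial.C) =
        Spec.map (CommRingCat.ofHom (algebraMap k X.functionField)) := by
      rw [← hjs, ← Category.assoc, hg, Category.assoc, hφ, fromSpecStalk_str]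
    rw [← ha, ← Spec.map_comp] at h1
    exact congrArg (fun m => (CommRingCat.Hom.hom m) c) (Spec.map_injective h1)
  have haev : a = CommRingCat.ofHom (Polynomial.aeval (R := k) t).toRingHom := by
    refine CommRingCat.hom_ext (Polynomial.ringHom_ext (fun c => ?_) ?_)
    · exact (hC c).trans (Polynomial.aeval_C _ c).symm
    · exact (Polynomial.aeval_X _).symm
  have hpt : φ (genericPoint X) = j (g (IsLocalRing.closedPoint X.functionField)) := by
    have := congrArg (fun m : Spec X.functionField ⟶ CohB1.ProjSpace 1 k =>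
      m (IsLocalRing.closedPoint X.functionField)) hg
    have h0 : X.fromSpecStalk (genericPoint X) (IsLocalRing.closedPoint X.functionField) = genericPoint X :=
      Scheme.fromSpecStalk_closedPoint
    refine (congrArg φ h0.symm).trans ?_
    simp only [Scheme.Hom.comp_apply] at this
    exact this.symm
  have ht : Transcendental k t := by
    rw [transcendental_iff]
    intro p hp
    have hbot : (g (IsLocalRing.closedPoint X.functionField)).asIdeal = ⊥ := by
      set z := g (IsLocalRing.closedPoint X.functionField)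
      have h2 : j z ⤳ j ⟨⊥, Ideal.isPrime_bot⟩ := by
        rw [← hpt, hξ]; exact genericPoint_specializes _
      have h3 : z ⤳ (⟨⊥, Ideal.isPrime_bot⟩ : PrimeSpectrum (Polynomial k)) :=
        j.isOpenEmbedding.isInducing.specializes_iff.1 h2
      exact le_bot_iff.1 ((PrimeSpectrum.le_iff_specializes _ _).2 h3)
    have hmem : p ∈ (g (IsLocalRing.closedPoint X.functionField)).asIdeal := by
      rw [← ha]
      show a p ∈ (IsLocalRing.closedPoint X.functionField).asIdeal
      rw [haev]
      show Polynomial.aeval t p ∈ _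
      rw [hp]
      exact zero_mem _
    rwa [hbot, Ideal.mem_bot] at hmem
  have hrange : Set.range (φ.stalkMap (genericPoint X)) =
      (IntermediateField.adjoin k ({t} : Set X.functionField) : Set X.functionField) := by
    rw [← range_stalkClosedPointTo_aeval k t, ← haev, ha]
    have h1 : Set.range (Scheme.stalkClosedPointTo (g ≫ j)) = Set.range (Scheme.stalkClosedPointTo g) := by
      rw [Scheme.stalkClosedPointTo_comp]
      refine Set.ext fun z => ⟨fun ⟨w, hw⟩ => ⟨_, hw⟩, fun ⟨w, hw⟩ => ?_⟩
      obtain ⟨w', rfl⟩ := (ConcreteCategory.bijective_of_isIso (j.stalkMap (g (IsLocalRing.closedPoint X.functionField)))).2 w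
      exact ⟨w', hw⟩
    have key : ∀ (y : CohB1.ProjSpace 1 k) (hy : φ (genericPoint X) = y)
        (α : (CohB1.ProjSpace 1 k).presheaf.stalk y ⟶ X.functionField),
        Spec.map α ≫ (CohB1.ProjSpace 1 k).fromSpecStalk y = X.fromSpecStalk (genericPoint X) ≫ φ →
          Set.range (φ.stalkMap (genericPoint X)) = Set.range α := by
      rintro y rfl α hα
      rw [← Scheme.SpecMap_stalkMap_fromSpecStalk] at hα
      rw [Spec.map_injective ((cancel_mono _).1 hα)]
    exact (key _ hpt _ ((Scheme.Spec_stalkClosedPointTo_fromSpecStalk (g ≫ j)).trans hg)).trans h1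
  have hres : Function.Injective (X.residue (genericPoint X)) :=
    RingHom.injective (R := X.functionField) (X.residue (genericPoint X)).hom
  let e : X.functionField ≃+* X.residueField (genericPoint X) :=
    RingEquiv.ofBijective (X.residue (genericPoint X)).hom ⟨hres, X.residue_surjective _⟩
  let i₀ : (CohB1.ProjSpace 1 k).residueField (φ (genericPoint X)) →+* X.functionField :=
    e.symm.toRingHom.comp (φ.residueFieldMap (genericPoint X)).hom
  have hi₀ : ∀ a, i₀ ((CohB1.ProjSpace 1 k).residue (φ (genericPoint X)) a) =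
      φ.stalkMap (genericPoint X) a := fun a => by
    refine (RingEquiv.symm_apply_eq e).2 ?_
    exact (congrArg (fun m => (CommRingCat.Hom.hom m) a)
      (Scheme.residue_residueFieldMap φ (genericPoint X)))
  have hi₀mem : ∀ b, i₀ b ∈ IntermediateField.adjoin k ({t} : Set X.functionField) := fun b => by
    obtain ⟨a, rfl⟩ := (CohB1.ProjSpace 1 k).residue_surjective _ b
    rw [hi₀, ← SetLike.mem_coe, ← hrange]
    exact ⟨a, rfl⟩
  let i : (CohB1.ProjSpace 1 k).residueField (φ (genericPoint X)) ≃+*
      IntermediateField.adjoin k ({t} : Set X.functionField) :=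
    RingEquiv.ofBijective (i₀.codRestrict _ hi₀mem) ⟨fun a b h => i₀.injective (congrArg Subtype.val h),
      fun w => by
        obtain ⟨a, ha⟩ := hrange.symm.subset w.2
        exact ⟨_, Subtype.ext ((hi₀ a).trans ha)⟩⟩
  letI := (φ.residueFieldMap (genericPoint X)).hom.toAlgebra
  have hcomp : (algebraMap (IntermediateField.adjoin k ({t} : Set X.functionField)) X.functionField).comp i.toRingHom =
      e.symm.toRingHom.comp (algebraMap ((CohB1.ProjSpace 1 k).residueField (φ (genericPoint X)))
      (X.residueField (genericPoint X))) := rfl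
  exact ⟨t, ht, Algebra.finrank_eq_of_equiv_equiv i e.symm hcomp, hnc, hrange⟩

variable [IsProper (X ↘ Spec (CommRingCat.of k))]

/-- An endomorphism over a double cover acts on the function field over the field of the line. -/
theorem exists_fieldHom (hdim : topologicalKrullDim X = 1) (φ : X ⟶ CohB1.ProjSpace 1 k)
    (hφ : φ ≫ CohB1.ProjSpace.toSpec 1 k = X ↘ Spec (CommRingCat.of k)) [IsFinite φ] [Flat φ]
    (hr : ∀ y, φ.finrank y = 2) :
    ∃ t : X.functionField, Transcendental k t ∧ Module.finrank k⟮t⟯ X.functionField = 2 ∧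
      ∀ σ : X ⟶ X, σ ≫ φ = φ → ∃ ψ : X.functionField →ₐ[k⟮t⟯] X.functionField,
        Spec.map (CommRingCat.ofHom ψ.toRingHom) ≫ X.fromSpecStalk (genericPoint X) =
          X.fromSpecStalk (genericPoint X) ≫ σ := by
  haveI : IsLocallyNoetherian X := LocallyOfFiniteType.isLocallyNoetherian (X ↘ Spec (CommRingCat.of k))
  obtain ⟨hPp, hPs, hPi, hPd⟩ := p1_facts k
  haveI := hPi
  haveI : IsLocallyNoetherian (CohB1.ProjSpace 1 k) :=
    haveI := hPp
    LocallyOfFiniteType.isLocallyNoetherian (CohB1.ProjSpace.toSpec 1 k)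
  obtain ⟨t, ht, hdeg, hnc, hrange⟩ := exists_param_range k hdim φ hφ
  haveI : Surjective φ := (Scheme.Hom.one_le_finrank_iff_surjective φ).1 fun y => by
    rw [hr y]; norm_num
  haveI : IsDominant φ := inferInstance
  have hgen : φ (genericPoint X) = genericPoint (CohB1.ProjSpace 1 k) :=
    ((genericPoint_spec X).image φ.continuous).eq
      (by rw [Set.image_univ, φ.denseRange.closure_range]; exact genericPoint_spec _)
  rw [← GenericRank.finrank_genericPoint φ hgen, hr] at hdeg
  refine ⟨t, ht, hdeg.symm, fun σ hσ => ?_⟩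
  have hση : σ (genericPoint X) = genericPoint X := by
    by_contra hne
    have hc := VarDim.isClosed_singleton_of_ne_genericPoint k hdim hne
    have h1 := φ.isClosedMap _ hc
    rw [Set.image_singleton, ← Scheme.Hom.comp_apply, hσ] at h1
    exact hnc h1
  set ψ : X.functionField ⟶ X.functionField :=
    X.presheaf.stalkSpecializes (specializes_of_eq hση) ≫ σ.stalkMap (genericPoint X)
  have hψ : Spec.map ψ ≫ X.fromSpecStalk (genericPoint X) = X.fromSpecStalk (genericPoint X) ≫ σ := by
    rw [Spec.map_comp, Category.assoc, Scheme.SpecMap_stalkSpecializes_fromSpecStalk,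
      Scheme.SpecMap_stalkMap_fromSpecStalk]
  have hfix : φ.stalkMap (genericPoint X) ≫ ψ = φ.stalkMap (genericPoint X) := by
    apply Spec.map_injective
    rw [← cancel_mono ((CohB1.ProjSpace 1 k).fromSpecStalk (φ (genericPoint X))), Spec.map_comp,
      Category.assoc, Scheme.SpecMap_stalkMap_fromSpecStalk, reassoc_of% hψ, hσ]
  refine ⟨{ ψ.hom with commutes' := fun a => ?_ }, hψ⟩
  obtain ⟨b, hb⟩ := hrange.symm.subset a.2
  refine (congrArg ψ hb.symm).trans (Eq.trans ?_ hb)
  exact congrArg (fun m => (CommRingCat.Hom.hom m) b) hfix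

/-- Endomorphisms over double covers of the line, other than the identity, are all equal. -/
theorem involution_unique [IsAlgClosed k] [RegCurve X] (hdim : topologicalKrullDim X = 1)
    (hg : 2 ≤ Curv2.genus k X) (h₁ h₂ : X ⟶ CohB1.ProjSpace 1 k)
    (hh₁ : h₁ ≫ CohB1.ProjSpace.toSpec 1 k = X ↘ Spec (CommRingCat.of k))
    (hh₂ : h₂ ≫ CohB1.ProjSpace.toSpec 1 k = X ↘ Spec (CommRingCat.of k))
    [IsFinite h₁] [Flat h₁] (hr₁ : ∀ y, h₁.finrank y = 2)
    [IsFinite h₂] [Flat h₂] (hr₂ : ∀ y, h₂.finrank y = 2)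
    (σ τ : X ⟶ X) (hσ : σ ≫ h₁ = h₁) (hσ₁ : σ ≠ 𝟙 X) (hτ : τ ≫ h₂ = h₂) (hτ₁ : τ ≠ 𝟙 X) : σ = τ := by
  obtain ⟨t, ht, hdt, hf⟩ := exists_fieldHom k hdim h₁ hh₁ hr₁
  obtain ⟨t', ht', hdt', hf'⟩ := exists_fieldHom k hdim h₂ hh₂ hr₂
  obtain ⟨a, ha⟩ := hf σ hσ
  obtain ⟨b₀, hb₀⟩ := hf' τ hτ
  have hK := isFunctionField_of_isAlgClosed (X := X) k hdim
  have he : k⟮t'⟯ = k⟮t⟯ := adjoin_eq hK (genus_eq_genus k hdim hK ▸ hg) ht ht' hdt hdt'
  obtain ⟨b, hb⟩ : ∃ b : X.functionField →ₐ[k⟮t⟯] X.functionField, b.toRingHom = b₀.toRingHom := by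
    revert b₀
    rw [he]
    exact fun b₀ _ => ⟨b₀, rfl⟩
  have hσs : σ ≫ (X ↘ Spec (CommRingCat.of k)) = X ↘ Spec (CommRingCat.of k) := by
    rw [← hh₁, reassoc_of% hσ]
  have hτs : τ ≫ (X ↘ Spec (CommRingCat.of k)) = X ↘ Spec (CommRingCat.of k) := by
    rw [← hh₂, reassoc_of% hτ]
  have nid : ∀ (g : X ⟶ X) (c : X.functionField →ₐ[k⟮t⟯] X.functionField),
      g ≫ (X ↘ Spec (CommRingCat.of k)) = X ↘ Spec (CommRingCat.of k) →
      Spec.map (CommRingCat.ofHom c.toRingHom) ≫ X.fromSpecStalk (genericPoint X) =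
          X.fromSpecStalk (genericPoint X) ≫ g → g ≠ 𝟙 X → c ≠ AlgHom.id _ _ := by
    intro g c hg hc hne e
    subst e
    refine hne (hom_ext_generic k (by rw [hg, Category.id_comp]) (hc.symm.trans ?_))
    rw [Category.comp_id]
    exact (congrArg (fun m => m ≫ X.fromSpecStalk (genericPoint X)) (Spec.map_id X.functionField)).trans
      (Category.id_comp _)
  have hb' : Spec.map (CommRingCat.ofHom b.toRingHom) ≫ X.fromSpecStalk (genericPoint X) =
      X.fromSpecStalk (genericPoint X) ≫ τ := by rw [hb]; exact hb₀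
  have hab : a = b := hom_unique _ hdt a b (nid σ a hσs ha hσ₁) (nid τ b hτs hb' hτ₁)
  exact hom_ext_generic k (by rw [hσs, hτs]) (ha.symm.trans (hab ▸ hb'))

end Groth.Agent.FFCurve.HyperUnique
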