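import Groth.Agent.FFCurve.Canonical
import Groth.Agent.FFCurve.P1Iso
import Mathlib.AlgebraicGeometry.Morphisms.UniversallyInjective
import Mathlib.FieldTheory.PurelyInseparable.Exponent

/-!
# Purely inseparable maps of curves and Frobenius twists
-/

universe u

open CategoryTheory CategoryTheory.Limits AlgebraicGeometry TopologicalSpace
open scoped IntermediateField

set_option autoImplicit false
set_option linter.style.haveILetI false
set_option linter.unusedSectionVars false
set_option backward.isDefEq.respectTransparency false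
set_option backward.isDefEq.respectTransparency.types false

namespace Groth.Agent.FFCurve.InsepTwist

section field

variable {k K : Type u} [Field k] [Field K] [Algebra k K]

/-- With a separating variable, a purely inseparable corestriction is the field of powers. -/
theorem exists_eq_adjoin_pow (p : ℕ) [hp : Fact p.Prime] [ExpChar K p] {x : K}
    [Algebra.IsSeparable k⟮x⟯ K] (L : IntermediateField k K) [FiniteDimensional L K]
    [IsPurelyInseparable L K] :
    ∃ r : ℕ, L = IntermediateField.adjoin k (Set.range fun z : K => z ^ p ^ r) := by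
  haveI : ExpChar L p := (algebraMap L K).expChar (algebraMap L K).injective p
  obtain ⟨r, hr⟩ := IsPurelyInseparable.finrank_eq_pow L K p
  refine ⟨r, ?_⟩
  set M := IntermediateField.adjoin k (Set.range fun z : K => z ^ p ^ r)
  have hpow : ∀ z : K, z ^ p ^ r ∈ L := by
    intro z
    obtain ⟨n, a, hmin⟩ := IsPurelyInseparable.minpoly_eq_X_pow_sub_C L p z
    have hn : p ^ n ≤ p ^ r := by
      refine le_trans (le_of_eq ?_) ((minpoly.natDegree_le (A := L) z).trans_eq hr)
      rw [hmin, Polynomial.natDegree_X_pow_sub_C]
    have hnr := (Nat.pow_le_pow_iff_right hp.out.one_lt).1 hn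
    have hy := minpoly.aeval L z
    rw [hmin, map_sub, map_pow, Polynomial.aeval_X, Polynomial.aeval_C, sub_eq_zero] at hy
    obtain ⟨m, rfl⟩ := Nat.exists_eq_add_of_le hnr
    rw [pow_add, pow_mul, hy]
    exact pow_mem a.2 _
  have hML : M ≤ L := by
    rw [IntermediateField.adjoin_le_iff]
    rintro _ ⟨z, rfl⟩
    exact hpow z
  have hxint : IsIntegral M x :=
    IsIntegral.of_pow (pow_pos hp.out.pos r) (isIntegral_algebraMap
      (R := M) (A := K) (x := ⟨x ^ p ^ r, IntermediateField.subset_adjoin k _ ⟨x, rfl⟩⟩))
  set E : IntermediateField M K := IntermediateField.adjoin M {x}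
  have htop : E = ⊤ := by
    have hkx : k⟮x⟯ ≤ E.restrictScalars k := IntermediateField.adjoin_simple_le_iff.2
      (IntermediateField.mem_adjoin_simple_self M x)
    letI : Algebra k⟮x⟯ E := (IntermediateField.inclusion hkx).toRingHom.toAlgebra
    haveI : IsScalarTower k⟮x⟯ E K := IsScalarTower.of_algebraMap_eq fun _ => rfl
    haveI : Algebra.IsSeparable E K := Algebra.isSeparable_tower_top_of_isSeparable k⟮x⟯ E K
    haveI : ExpChar E p := (algebraMap E K).expChar (algebraMap E K).injective p
    haveI : IsPurelyInseparable E K := by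
      rw [isPurelyInseparable_iff_pow_mem E p]
      exact fun y => ⟨r, ⟨⟨y ^ p ^ r, E.algebraMap_mem ⟨y ^ p ^ r, IntermediateField.subset_adjoin k _ ⟨y, rfl⟩⟩⟩, rfl⟩⟩
    refine eq_top_iff.2 fun y _ => ?_
    obtain ⟨e, rfl⟩ := IsPurelyInseparable.surjective_algebraMap_of_isSeparable E K y
    exact e.2
  have hfin : FiniteDimensional M K ∧ Module.finrank M K ≤ p ^ r := by
    haveI := IntermediateField.adjoin.finiteDimensional hxint
    refine ⟨Module.Finite.equiv ((IntermediateField.equivOfEq htop).trans IntermediateField.topEquiv).toLinearEquiv, ?_⟩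
    rw [← (((IntermediateField.equivOfEq htop).trans IntermediateField.topEquiv).toLinearEquiv).finrank_eq,
      IntermediateField.adjoin.finrank hxint]
    have hm : (Polynomial.X ^ p ^ r - Polynomial.C
        (⟨x ^ p ^ r, IntermediateField.subset_adjoin k _ ⟨x, rfl⟩⟩ : M)).natDegree = p ^ r :=
      Polynomial.natDegree_X_pow_sub_C
    rw [← hm]
    refine Polynomial.natDegree_le_of_dvd (minpoly.dvd M x ?_)
      (Polynomial.X_pow_sub_C_ne_zero (pow_pos hp.out.pos r) _)
    rw [map_sub, map_pow, Polynomial.aeval_X, Polynomial.aeval_C]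
    exact sub_self _
  haveI := hfin.1
  exact (IntermediateField.eq_of_le_of_finrank_le' hML (by rw [hr]; exact hfin.2)).symm

end field

/-! ### Morphisms from maps of function fields -/

variable (k : Type u) [Field k]

section hom

variable {X Y : Scheme.{u}} [IsIntegral X] [IsIntegral Y] [X.Over (Spec (CommRingCat.of k))]
  [Y.Over (Spec (CommRingCat.of k))]

/-- The morphism of the generic point given by a map of function fields. -/
noncomputable def genHom (σ : Y.functionField →ₐ[k] X.functionField) : Spec X.functionField ⟶ Y :=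
  Spec.map (CommRingCat.ofHom σ.toRingHom) ≫ Y.fromSpecStalk (genericPoint Y)

lemma genHom_str (σ : Y.functionField →ₐ[k] X.functionField) :
    genHom k σ ≫ (Y ↘ Spec (CommRingCat.of k)) =
      X.fromSpecStalk (genericPoint X) ≫ (X ↘ Spec (CommRingCat.of k)) := by
  rw [genHom, Category.assoc, fromSpecStalk_str, fromSpecStalk_str, ← Spec.map_comp]
  congr 1
  ext c
  exact σ.commutes c

variable [RegCurve X] [IsProper (Y ↘ Spec (CommRingCat.of k))]

lemma exists_hom (σ : Y.functionField →ₐ[k] X.functionField) :
    ∃ f : X ⟶ Y, f ≫ (Y ↘ Spec (CommRingCat.of k)) = X ↘ Spec (CommRingCat.of k) ∧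
      X.fromSpecStalk (genericPoint X) ≫ f = genHom k σ := by
  obtain ⟨s, hs, hη⟩ := GITLib.exists_section_of_genericPoint
    (Y := pullback (X ↘ Spec (CommRingCat.of k)) (Y ↘ Spec (CommRingCat.of k)))
    RegCurve.val (pullback.fst _ _)
    (pullback.lift (X.fromSpecStalk (genericPoint X)) (genHom k σ) (genHom_str k σ).symm)
    (pullback.lift_fst _ _ _)
  refine ⟨s ≫ pullback.snd _ _, ?_, ?_⟩
  · rw [Category.assoc, ← pullback.condition, ← Category.assoc, hs, Category.id_comp]
  · rw [← Category.assoc, hη, pullback.lift_snd]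

end hom

section iso

variable {X Y : Scheme.{u}} [IsIntegral X] [IsIntegral Y] [X.Over (Spec (CommRingCat.of k))]
  [Y.Over (Spec (CommRingCat.of k))] [RegCurve X] [RegCurve Y]
  [IsProper (X ↘ Spec (CommRingCat.of k))] [IsProper (Y ↘ Spec (CommRingCat.of k))]

/-- Proper regular curves with the same function field are isomorphic. -/
theorem exists_iso (σ : Y.functionField ≃ₐ[k] X.functionField) :
    ∃ i : Y ≅ X, i.hom ≫ (X ↘ Spec (CommRingCat.of k)) = Y ↘ Spec (CommRingCat.of k) := by
  obtain ⟨f, hf, hfη⟩ := exists_hom (X := X) (Y := Y) k σ.toAlgHom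
  obtain ⟨g, hg, hgη⟩ := exists_hom (X := Y) (Y := X) k σ.symm.toAlgHom
  refine ⟨⟨g, f, ?_, ?_⟩, hg⟩
  · refine hom_ext_generic k (by rw [Category.assoc, hf, hg, Category.id_comp]) ?_
    rw [← Category.assoc, hgη, genHom, Category.assoc, hfη, genHom, ← Spec.map_comp_assoc,
      Category.comp_id]
    have he : CommRingCat.ofHom σ.toAlgHom.toRingHom ≫ CommRingCat.ofHom σ.symm.toAlgHom.toRingHom =
        𝟙 _ := by
      ext z
      exact σ.symm_apply_apply z
    erw [he, Spec.map_id, Category.id_comp]
  · refine hom_ext_generic k (by rw [Category.assoc, hg, hf, Category.id_comp]) ?_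
    rw [← Category.assoc, hfη, genHom, Category.assoc, hgη, genHom, ← Spec.map_comp_assoc,
      Category.comp_id]
    have he : CommRingCat.ofHom σ.symm.toAlgHom.toRingHom ≫ CommRingCat.ofHom σ.toAlgHom.toRingHom =
        𝟙 _ := by
      ext z
      exact σ.apply_symm_apply z
    erw [he, Spec.map_id, Category.id_comp]

end iso

/-! ### The twist -/

lemma universallyInjective_frob (p r : ℕ) [ExpChar k p] :
    UniversallyInjective (Spec.map (CommRingCat.ofHom (iterateFrobenius k p r))) := by
  refine ((tfae_universallyInjective (Spec.map (CommRingCat.ofHom (iterateFrobenius k p r)))).out 1 0).1 ?_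
  intro L _ a b h
  obtain ⟨φ, rfl⟩ := Spec.map_surjective a
  obtain ⟨ψ, rfl⟩ := Spec.map_surjective b
  simp only [← Spec.map_comp] at h
  have h' := Spec.map_injective h
  congr 1
  refine CommRingCat.hom_ext (RingHom.ext fun c => ?_)
  haveI : ExpChar L p := expChar_of_injective_ringHom φ.hom.injective p
  refine iterateFrobenius_inj L p r ?_
  have := congrArg (fun m => (CommRingCat.Hom.hom m) c) h'
  simpa [iterateFrobenius_def] using this

/-- A field valued point over the generic point gives a map of function fields. -/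
lemma exists_algHom_of_point {X' : Scheme.{u}} [IsIntegral X'] [X'.Over (Spec (CommRingCat.of k))]
    {M : Type u} [Field M] [Algebra k M] (s : Spec (CommRingCat.of M) ⟶ X')
    (hpt : s (IsLocalRing.closedPoint M) = genericPoint X')
    (hs : s ≫ (X' ↘ Spec (CommRingCat.of k)) = Spec.map (CommRingCat.ofHom (algebraMap k M))) :
    ∃ Φ : X'.functionField →ₐ[k] M,
      Spec.map (CommRingCat.ofHom Φ.toRingHom) ≫ X'.fromSpecStalk (genericPoint X') = s := by
  let Φ : X'.functionField ⟶ CommRingCat.of M :=
    X'.presheaf.stalkSpecializes (specializes_of_eq hpt) ≫ Scheme.stalkClosedPointTo s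
  have hΦ : Spec.map Φ ≫ X'.fromSpecStalk (genericPoint X') = s := by
    rw [Spec.map_comp, Category.assoc, Scheme.SpecMap_stalkSpecializes_fromSpecStalk,
      Scheme.Spec_stalkClosedPointTo_fromSpecStalk]
  have hΦk : ∀ c : k, Φ (algebraMap k X'.functionField c) = algebraMap k _ c := by
    intro c
    have h : CommRingCat.ofHom (algebraMap k X'.functionField) ≫ Φ =
        CommRingCat.ofHom (algebraMap k M) := by
      apply Spec.map_injective
      have h1 : X'.fromSpecStalk (genericPoint X') ≫ (X' ↘ Spec (CommRingCat.of k)) =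
          Spec.map (CommRingCat.ofHom (algebraMap k X'.functionField)) := fromSpecStalk_str (X := X') k
      rw [Spec.map_comp]
      refine (congrArg (fun m => Spec.map Φ ≫ m) h1.symm).trans ?_
      rw [← Category.assoc, hΦ]
      exact hs
    have h2 := RingHom.congr_fun (congrArg CommRingCat.Hom.hom h) c
    rw [CommRingCat.hom_comp, RingHom.comp_apply, CommRingCat.hom_ofHom, CommRingCat.hom_ofHom] at h2
    exact h2
  exact ⟨{ Φ.hom with commutes' := hΦk }, hΦ⟩

variable {X : Scheme.{u}} [IsIntegral X] [X.Over (Spec (CommRingCat.of k))]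
  (p r : ℕ) [ExpChar k p] [ExpChar X.functionField p]

/-- The Frobenius twist. -/
noncomputable abbrev twist (X : Scheme.{u}) [X.Over (Spec (CommRingCat.of k))] (p r : ℕ) [ExpChar k p] : Scheme.{u} :=
  pullback (X ↘ Spec (CommRingCat.of k)) (Spec.map (CommRingCat.ofHom (iterateFrobenius k p r)))

local notation "Xr" => twist k X p r
local notation "Mr" => IntermediateField.adjoin k (Set.range fun z : X.functionField => z ^ p ^ r)

/-- The twist is a regular curve with function field the field of powers. -/
theorem exists_functionField_twist [IsProper (X ↘ Spec (CommRingCat.of k))]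
    [Smooth (X ↘ Spec (CommRingCat.of k))] (hdim : topologicalKrullDim X = 1) :
    letI : (Xr).Over (Spec (CommRingCat.of k)) :=
      ⟨pullback.snd (X ↘ Spec (CommRingCat.of k)) (Spec.map (CommRingCat.ofHom (iterateFrobenius k p r)))⟩
    ∃ (_ : IsIntegral Xr), RegCurve Xr ∧ IsProper ((Xr) ↘ Spec (CommRingCat.of k)) ∧
      Nonempty ((Xr).functionField ≃ₐ[k] Mr) := by
  set g := Spec.map (CommRingCat.ofHom (iterateFrobenius k p r))
  set fst := pullback.fst (X ↘ Spec (CommRingCat.of k)) g
  set snd := pullback.snd (X ↘ Spec (CommRingCat.of k)) g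
  letI : (Xr).Over (Spec (CommRingCat.of k)) := ⟨snd⟩
  haveI hpr : IsProper ((Xr) ↘ Spec (CommRingCat.of k)) := (inferInstance : IsProper snd)
  haveI hsm : Smooth ((Xr) ↘ Spec (CommRingCat.of k)) := (inferInstance : Smooth snd)
  haveI : Surjective g := ⟨fun y => ⟨y, Subsingleton.elim (α := PrimeSpectrum k) _ _⟩⟩
  haveI : UniversallyInjective g := universallyInjective_frob k p r
  haveI : UniversallyInjective fst := MorphismProperty.pullback_fst _ _ inferInstance
  haveI : Surjective fst := MorphismProperty.pullback_fst _ _ inferInstance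
  haveI : IsLocallyNoetherian Xr := LocallyOfFiniteType.isLocallyNoetherian snd
  haveI : IsIntegralHom g := IsIntegralHom.SpecMap_iff.2 fun c => by
    refine ⟨Polynomial.X ^ p ^ r - Polynomial.C c,
      Polynomial.monic_X_pow_sub_C c (pow_pos (expChar_pos k p) r).ne', ?_⟩
    simp [iterateFrobenius_def]
  haveI : UniversallyClosed fst := MorphismProperty.pullback_fst _ _ inferInstance
  have hhom : IsHomeomorph fst :=
    isHomeomorph_iff_continuous_isClosedMap_bijective.2
      ⟨fst.continuous, fst.isClosedMap, fst.injective, fst.surjective⟩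
  haveI : IrreducibleSpace Xr := hhom.homeomorph.symm.surjective.irreducibleSpace hhom.homeomorph.symm.continuous
  haveI : ∀ z : Xr, _root_.IsReduced ((Xr).presheaf.stalk z) := fun z =>
    haveI := CurveCoh.isDomain_stalk k Xr z
    inferInstance
  haveI : IsReduced Xr := isReduced_of_isReduced_stalk Xr
  haveI hint : IsIntegral Xr := isIntegral_of_irreducibleSpace_of_isReduced Xr
  have hdK : topologicalKrullDim Xr = 1 := by
    rw [← hdim]; exact IsHomeomorph.topologicalKrullDim_eq _ hhom
  haveI hreg := regCurve_of_smooth (X := Xr) k hdK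
  refine ⟨hint, hreg, hpr, ?_⟩
  have hη : fst (genericPoint Xr) = genericPoint X :=
    ((genericPoint_spec Xr).image fst.continuous).eq
      (by rw [Set.image_univ, fst.surjective.range_eq, closure_univ]; exact genericPoint_spec _)
  -- the map to `M`
  have hmem : ∀ z : X.functionField, iterateFrobenius X.functionField p r z ∈ Mr := fun z => by
    rw [iterateFrobenius_def]; exact IntermediateField.subset_adjoin k _ ⟨z, rfl⟩
  let Fr : X.functionField →+* (Mr : IntermediateField k X.functionField) :=
    (iterateFrobenius X.functionField p r).codRestrict (Mr : IntermediateField k X.functionField) hmem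
  have hcond : (Spec.map (CommRingCat.ofHom Fr) ≫ X.fromSpecStalk (genericPoint X)) ≫ (X ↘ Spec (CommRingCat.of k)) =
      Spec.map (CommRingCat.ofHom (algebraMap k (Mr : IntermediateField k X.functionField))) ≫ g := by
    rw [Category.assoc, fromSpecStalk_str, ← Spec.map_comp, ← Spec.map_comp]
    congr 1
    ext c
    refine congrArg Subtype.val (?_ : Fr (algebraMap k _ c) = algebraMap k _ (iterateFrobenius k p r c))
    exact Subtype.ext (by
      show iterateFrobenius X.functionField p r (algebraMap k _ c) = algebraMap k _ (iterateFrobenius k p r c)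
      rw [iterateFrobenius_def, iterateFrobenius_def, map_pow])
  let s : Spec (CommRingCat.of (Mr : IntermediateField k X.functionField)) ⟶ Xr :=
    pullback.lift _ _ hcond
  have hs1 : s ≫ fst = Spec.map (CommRingCat.ofHom Fr) ≫ X.fromSpecStalk (genericPoint X) :=
    pullback.lift_fst _ _ _
  have hs2 : s ≫ snd = Spec.map (CommRingCat.ofHom (algebraMap k (Mr : IntermediateField k X.functionField))) :=
    pullback.lift_snd _ _ _
  set pt := IsLocalRing.closedPoint (CommRingCat.of (Mr : IntermediateField k X.functionField))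
  have hpt : s pt = genericPoint Xr := by
    refine fst.injective ?_
    rw [hη, ← Scheme.Hom.comp_apply, hs1, Scheme.Hom.comp_apply]
    refine Eq.trans (congrArg _ ?_) Scheme.fromSpecStalk_closedPoint
    exact Subsingleton.elim (α := PrimeSpectrum X.functionField) _ _
  obtain ⟨Φa, hΦ⟩ := exists_algHom_of_point (X' := Xr) k s hpt hs2
  let Φ : (Xr).functionField ⟶ CommRingCat.of (Mr : IntermediateField k X.functionField) :=
    CommRingCat.ofHom Φa.toRingHom
  let ι : X.functionField ⟶ (Xr).functionField :=
    X.presheaf.stalkSpecializes (specializes_of_eq hη) ≫ fst.stalkMap (genericPoint Xr)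
  have hιΦ : ∀ z, Φ (ι z) = Fr z := by
    have h : ι ≫ Φ = CommRingCat.ofHom Fr := by
      apply Spec.map_injective
      rw [← cancel_mono (X.fromSpecStalk (genericPoint X)), Spec.map_comp, Spec.map_comp, Category.assoc,
        Category.assoc, Scheme.SpecMap_stalkSpecializes_fromSpecStalk,
        Scheme.SpecMap_stalkMap_fromSpecStalk, reassoc_of% hΦ, hs1]
    exact fun z => congrArg (fun m => (CommRingCat.Hom.hom m) z) h
  have hsurj : Function.Surjective Φa := by
    have hle : (Mr : IntermediateField k X.functionField) ≤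
        ((IntermediateField.val (Mr : IntermediateField k X.functionField)).comp Φa).fieldRange := by
      rw [IntermediateField.adjoin_le_iff]
      rintro _ ⟨z, rfl⟩
      exact ⟨ι z, (congrArg Subtype.val (hιΦ z)).trans (iterateFrobenius_def _ _ _)⟩
    intro m
    obtain ⟨y, hy⟩ := hle m.2
    exact ⟨y, Subtype.ext hy⟩
  exact ⟨AlgEquiv.ofBijective Φa ⟨Φa.toRingHom.injective, hsurj⟩⟩

end Groth.Agent.FFCurve.InsepTwist
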