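import Mathlib

/-!
# Finite presentation and flatness of rings of invariants of finite groups of invertible order
-/

set_option autoImplicit false
set_option linter.style.haveILetI false
set_option linter.unusedSectionVars false

universe u

namespace Groth.Agent.FFCurve.InvFP

variable {R A B : Type u} [CommRing R] [CommRing A] [CommRing B] [Algebra R A] [Algebra A B]
  [Algebra R B] [IsScalarTower R A B] {G : Type u} [Group G] [Finite G] [MulSemiringAction G B]
  [SMulCommClass G A B] [Algebra.IsInvariant A B G]

variable (hinj : Function.Injective (algebraMap A B)) (hG : IsUnit ((Nat.card G : ℕ) : A))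
include hinj hG

theorem exists_retraction :
    ∃ r : B →ₗ[A] A, r.comp (Algebra.linearMap A B) = LinearMap.id := by
  classical
  cases nonempty_fintype G
  obtain ⟨c, hc⟩ := hG
  let S : B →ₗ[A] B :=
    { toFun := fun b => ∑ g : G, g • b
      map_add' := fun a b => by simp [smul_add, Finset.sum_add_distrib]
      map_smul' := fun a b => by simp [smul_comm _ a b, Finset.smul_sum] }
  have hS : ∀ b, ∃ a : A, algebraMap A B a = ((c⁻¹ : Aˣ) : A) • S b := fun b => by
    refine Algebra.IsInvariant.isInvariant (G := G) _ fun g => ?_
    rw [smul_comm]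
    congr 1
    show g • (∑ x : G, x • b) = ∑ x : G, x • b
    rw [Finset.smul_sum]
    simp only [smul_smul]
    exact Equiv.sum_comp (Equiv.mulLeft g) fun x => x • b
  choose r hr using hS
  refine ⟨{ toFun := r, map_add' := fun a b => hinj (by simp [hr]), map_smul' := fun a b => hinj (by
    rw [RingHom.id_apply, smul_eq_mul, map_mul, hr, hr, map_smul, smul_comm, ← Algebra.smul_def]) }, ?_⟩
  ext
  refine hinj ?_
  show algebraMap A B (r (algebraMap A B 1)) = _
  rw [hr]
  show ((c⁻¹ : Aˣ) : A) • (∑ g : G, g • algebraMap A B 1) = _
  simp only [map_one, smul_one, Finset.sum_const, Finset.card_univ, nsmul_eq_mul, mul_one]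
  rw [Algebra.smul_def, ← map_natCast (algebraMap A B), ← map_mul, ← Nat.card_eq_fintype_card, ← hc,
    Units.inv_mul, map_one]
  simp

theorem flat [Module.Flat R B] : Module.Flat R A := by
  obtain ⟨r, hr⟩ := exists_retraction (G := G) hinj hG
  exact Module.Flat.of_retract ((Algebra.linearMap A B).restrictScalars R) (r.restrictScalars R)
    (LinearMap.ext fun a => congrArg (fun f : A →ₗ[A] A => f a) hr)

theorem finitePresentation [Algebra.FinitePresentation R B] : Algebra.FinitePresentation R A := by
  classical
  rcases subsingleton_or_nontrivial A with hA | hA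
  · have hsurj : Function.Surjective (Algebra.ofId R A) := fun a => ⟨0, Subsingleton.elim _ _⟩
    refine Algebra.FinitePresentation.of_surjective hsurj ?_
    rw [show RingHom.ker (Algebra.ofId R A).toRingHom = ⊤ from eq_top_iff.2 fun x _ => Subsingleton.elim _ _]
    exact ⟨{1}, by simp⟩
  obtain ⟨s, hs⟩ := (Algebra.FiniteType.out (R := R) (A := B))
  haveI : Algebra.IsIntegral A B := (Algebra.IsInvariant.isIntegral A B G)
  choose p hpm hp using fun b : B => Algebra.IsIntegral.isIntegral (R := A) b
  let C : Finset A := s.biUnion fun b => (p b).coeffs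
  let φ : MvPolynomial C R →ₐ[R] A := MvPolynomial.aeval fun c => (c : A)
  let P := MvPolynomial C R
  letI : Algebra P A := φ.toRingHom.toAlgebra
  letI : Algebra P B := ((algebraMap A B).comp φ.toRingHom).toAlgebra
  haveI : IsScalarTower P A B := IsScalarTower.of_algebraMap_eq' rfl
  haveI : IsScalarTower R P A := IsScalarTower.of_algebraMap_eq' φ.comp_algebraMap.symm
  haveI : IsScalarTower R P B := IsScalarTower.of_algebraMap_eq fun x => by
    show algebraMap R B x = algebraMap A B (φ (algebraMap R P x))
    rw [φ.commutes, ← IsScalarTower.algebraMap_apply]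
  have hint : ∀ b ∈ s, IsIntegral P b := fun b hb => by
    have hl : p b ∈ Polynomial.lifts (algebraMap P A) := by
      rw [Polynomial.lifts_iff_coeff_lifts]
      intro n
      by_cases h0 : (p b).coeff n = 0
      · exact ⟨0, by rw [map_zero, h0]⟩
      · refine ⟨MvPolynomial.X (⟨(p b).coeff n, Finset.mem_biUnion.2 ⟨b, hb, Polynomial.coeff_mem_coeffs h0⟩⟩ : C), ?_⟩
        show φ _ = _
        simp [φ]
    obtain ⟨q, hq, -, hqm⟩ := Polynomial.lifts_and_degree_eq_and_monic hl (hpm b)
    refine ⟨q, hqm, ?_⟩
    rw [IsScalarTower.algebraMap_eq P A B, ← Polynomial.eval₂_map, hq]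
    exact hp b
  haveI : Algebra.FiniteType P B := Algebra.FiniteType.of_restrictScalars_finiteType R P B
  haveI : Module.Finite P B := by
    have htop : Algebra.adjoin P (s : Set B) = ⊤ := by
      rw [eq_top_iff]
      intro x _
      have hx : x ∈ Algebra.adjoin R (s : Set B) := hs ▸ Algebra.mem_top
      exact (Algebra.adjoin_le (S := (Algebra.adjoin P (s : Set B)).restrictScalars R) Algebra.subset_adjoin) hx
    refine ⟨?_⟩
    have := fg_adjoin_of_finite (R := P) s.finite_toSet fun x hx => hint x hx
    rwa [htop] at this
  haveI : Algebra.FinitePresentation P B := Algebra.FinitePresentation.of_restrict_scalars_finitePresentation R P B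
  haveI : Module.FinitePresentation P B := Module.FinitePresentation.of_finite_of_finitePresentation P B
  obtain ⟨r, hr⟩ := exists_retraction (G := G) hinj hG
  let i : A →ₗ[P] B := (Algebra.linearMap A B).restrictScalars P
  let r' : B →ₗ[P] A := r.restrictScalars P
  have hr' : ∀ a, r' (i a) = a := fun a => congrArg (fun f : A →ₗ[A] A => f a) hr
  haveI : Module.FinitePresentation P A := by
    refine Module.finitePresentation_of_surjective r' (fun a => ⟨i a, hr' a⟩) ?_
    have hker : LinearMap.ker r' = LinearMap.range (LinearMap.id - i.comp r') := by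
      ext b
      refine ⟨fun hb => ⟨b, by simp [LinearMap.mem_ker.1 hb]⟩, ?_⟩
      rintro ⟨c, rfl⟩
      simp [hr']
    rw [hker, LinearMap.range_eq_map]
    exact Module.Finite.fg_top.map _
  haveI : Algebra.FinitePresentation P A := Algebra.FinitePresentation.of_finitePresentation P A
  exact Algebra.FinitePresentation.trans R P A

end Groth.Agent.FFCurve.InvFP
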