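import Groth.Agent.FFCurve.GenusOneAut

/-!
# The involutions of a function field of genus one
-/

set_option linter.style.haveILetI false
set_option linter.unusedSectionVars false

namespace Groth.Agent.FFCurve

open FunFld WithZero IntermediateField

universe v w

variable {k : Type v} {K : Type w} [Field k] [Field K] [Algebra k K] (hK : IsFunctionField k K)
include hK

lemma exists_zeros_pair [IsAlgClosed k] (hg : genus k K = 1) (P Q : Place k K) :
    ∃ z : K, Transcendental k z ∧
      FF.zeroDiv (k := k) z = Finsupp.single P 1 + Finsupp.single Q 1 := by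
  rcases eq_or_ne P Q with rfl | hPQ
  · classical
    have hP1 := FF.deg_eq_one hK P
    have e2 : Finsupp.single P (1 : ℤ) + Finsupp.single P 1 = Finsupp.single P 2 := by
      rw [← Finsupp.single_add]; norm_num
    have h2 : ell (Finsupp.single P (2 : ℤ)) = 2 := by
      have hd : Divisor.deg (k := k) (K := K) (Finsupp.single P (2 : ℤ)) = 2 := by
        rw [FF.deg_single, hP1]; norm_num
      have := FF.ell_eq_of_deg_ge hK (D := Finsupp.single P (2 : ℤ)) (by rw [hd, hg]; norm_num)
      rw [hd, hg] at this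
      omega
    obtain ⟨x, hx, hxP⟩ := (FF.ell_lt_iff_exists hK (Finsupp.single P (2 : ℤ)) P).1 (by
      rw [← Finsupp.single_sub, show (2 : ℤ) - 1 = 1 from rfl, FF.ell_single_one hK (by omega) hP1, h2]
      norm_num)
    rw [Finsupp.single_eq_same] at hxP
    have hx0 := FF.ne_zero_of_val_eq_exp _ hxP
    have hord : P.ord x = -2 := by rw [FF.ord_of_val_eq _ hxP]
    refine ⟨x⁻¹, ?_, ?_⟩
    · refine fun h => (FF.transcendental_of_notMem hK fun ⟨c, hc⟩ => ?_) (by simpa using h.inv : IsAlgebraic k x)
      rw [← hc, FF.ord_const] at hord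
      omega
    · rw [e2]
      ext R
      rw [FF.zeroDiv, Finsupp.sup_apply, FF.div_apply hK.1, FF.ord_inv, Finsupp.coe_zero, Pi.zero_apply,
        Finsupp.single_apply]
      split_ifs with h
      · subst h; omega
      · have := hx R
        rw [Finsupp.single_eq_of_ne (Ne.symm h), exp_zero, FF.val_le_one_iff] at this
        omega
  · obtain ⟨z, hz, -, -, hd⟩ := exists_zeros_two hK hg hPQ
    exact ⟨z, hz, hd⟩

omit hK in
lemma pullK_restrictScalars {F : IntermediateField k K} (P : Place k K) (σ : K ≃ₐ[F] K) :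
    FF.pullK P (σ.restrictScalars k) = FF.pull P σ :=
  Subtype.ext (Valuation.ext fun _ => rfl)

/-- Zeros of a generator of `F` form one Galois orbit. -/
lemma zeros_orbit {F : IntermediateField k K} [FiniteDimensional F K] [IsGalois F K] {w : K}
    (hw : Transcendental k w) (hF : k⟮w⟯ = F) {R S : Place k K} (hR : R.1 w < 1) (hS : S.1 w < 1) :
    ∃ τ : K ≃ₐ[F] K, FF.pull R τ = S := by
  classical
  subst hF
  set g : k⟮w⟯ := AdjoinSimple.gen k w
  have hg' : Transcendental k g := fun h => hw (h.algebraMap (A := K))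
  have htop : k⟮g⟯ = (⊤ : IntermediateField k k⟮w⟯) := by
    apply IntermediateField.lift_injective
    rw [IntermediateField.lift_adjoin_simple, IntermediateField.lift_top]
    rfl
  have hone : Module.finrank k⟮g⟯ k⟮w⟯ = 1 := by rw [htop]; exact IntermediateField.finrank_top
  have hFF : FF.IsFF k k⟮w⟯ := ⟨g, hg', Module.finite_of_finrank_pos (by omega)⟩
  obtain ⟨R₀, hR₀⟩ := FF.exists_below (K' := K) hFF R
  obtain ⟨S₀, hS₀⟩ := FF.exists_below (K' := K) hFF S
  have hR' : R₀.1 g < 1 := (FF.val_algebraMap_lt_one_iff hR₀ g).1 hR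
  have hS' : S₀.1 g < 1 := (FF.val_algebraMap_lt_one_iff hS₀ g).1 hS
  have hg0 : g ≠ 0 := fun h => hg' (h ▸ isAlgebraic_zero)
  have hEq : R₀ = S₀ := by
    by_contra hne
    have h := FF.sum_ord_deg_le hFF hg' {R₀, S₀} (fun T hT => by
      rcases Finset.mem_insert.1 hT with rfl | hT
      · exact hR'
      · rw [Finset.mem_singleton.1 hT]; exact hS')
    rw [Finset.sum_pair hne, hone] at h
    have h1 := Nat.mul_pos (Int.pos_iff_toNat_pos.1 ((FF.val_lt_one_iff _ hg0).1 hR')) (FF.deg_pos hFF R₀)
    have h2 := Nat.mul_pos (Int.pos_iff_toNat_pos.1 ((FF.val_lt_one_iff _ hg0).1 hS')) (FF.deg_pos hFF S₀)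
    omega
  exact FF.exists_pull_eq (K' := K) hFF hR₀ (hEq ▸ hS₀)

/-- For `P`, `Q` on a genus one curve there is an involution `σ` with `σP = Q` and
`R + σR ~ P + Q` for all `R`. -/
theorem exists_involution [IsAlgClosed k] (hg : genus k K = 1) (hchar : ringChar k ≠ 2) (P Q : Place k K) :
    ∃ σ : K ≃ₐ[k] K, σ.trans σ = AlgEquiv.refl ∧ FF.pullK P σ = Q ∧
      ∀ R : Place k K, ∃ u : K, u ≠ 0 ∧
        Finsupp.single R (1 : ℤ) + Finsupp.single (FF.pullK R σ) 1 =
          Finsupp.single P 1 + Finsupp.single Q 1 + FunFld.div k u := by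
  classical
  obtain ⟨z, hz, hzd⟩ := exists_zeros_pair hK hg P Q
  set F := k⟮z⟯ with hF
  have hz0 : z ≠ 0 := fun h => hz (h ▸ isAlgebraic_zero)
  have hdim : Module.finrank F K = 2 := by
    have h := FF.deg_zeroDiv hK.1 hz
    rw [hzd, FF.deg_add, FF.deg_single, FF.deg_single, FF.deg_eq_one hK P, FF.deg_eq_one hK Q, ← hF] at h
    omega
  haveI : FiniteDimensional F K := Module.finite_of_finrank_pos (by omega)
  haveI : Algebra.IsQuadraticExtension F K := { finrank_eq_two' := hdim }
  haveI hsep : Algebra.IsSeparable F K := by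
    obtain ⟨p, hp⟩ := CharP.exists k
    haveI : CharP F p := charP_of_injective_algebraMap (algebraMap k F).injective p
    haveI := IntermediateField.isSimpleOrder_of_finrank_prime F K (by rw [hdim]; exact Nat.prime_two)
    rcases eq_bot_or_eq_top (separableClosure F K) with h | h
    · exfalso
      haveI : IsPurelyInseparable F K := separableClosure.eq_bot_iff.1 h
      rcases CharP.char_is_prime_or_zero k p with hpp | hp0
      · haveI := Fact.mk hpp
        haveI : ExpChar F p := ExpChar.prime hpp
        obtain ⟨n, hn⟩ := IsPurelyInseparable.finrank_eq_pow F K p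
        rw [hdim] at hn
        have : p ∣ 2 := by
          rcases n with _ | n
          · simp at hn
          · exact hn ▸ dvd_pow_self p n.succ_ne_zero
        exact hchar ((ringChar.eq k p).trans ((Nat.prime_dvd_prime_iff_eq hpp Nat.prime_two).1 this))
      · subst hp0
        haveI : CharZero F := CharP.charP_to_charZero F
        haveI : ExpChar F 1 := ExpChar.zero
        obtain ⟨n, hn⟩ := IsPurelyInseparable.finrank_eq_pow F K 1
        rw [hdim, one_pow] at hn
        omega
    · exact (separableClosure.eq_top_iff F K).1 h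
  haveI : IsGalois F K := ⟨⟩
  have hcard : Nat.card (K ≃ₐ[F] K) = 2 := (IsGalois.card_aut_eq_finrank F K).trans hdim
  haveI : Nontrivial (K ≃ₐ[F] K) := Finite.one_lt_card_iff_nontrivial.1 (by omega)
  obtain ⟨s, hs⟩ := exists_ne (1 : K ≃ₐ[F] K)
  have hall : ∀ τ : K ≃ₐ[F] K, τ = 1 ∨ τ = s := fun τ => by
    obtain ⟨a, b, -, huniv⟩ := Nat.card_eq_two_iff.1 hcard
    have h1 : ∀ x : K ≃ₐ[F] K, x = a ∨ x = b := fun x => by
      have : x ∈ ({a, b} : Set (K ≃ₐ[F] K)) := huniv ▸ Set.mem_univ x
      simpa using this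
    rcases h1 1 with h | h <;> rcases h1 s with h' | h' <;> rcases h1 τ with h'' | h'' <;>
      first | exact Or.inl (h''.trans h.symm) | exact Or.inr (h''.trans h'.symm) | exact absurd (h'.trans h.symm) hs
  have hss : s * s = 1 := by
    rcases hall (s * s) with h | h
    · exact h
    · exact absurd (mul_left_cancel (h.trans (mul_one s).symm)) hs
  have hfix : ∀ y ∈ F, ∀ τ : K ≃ₐ[F] K, τ y = y := fun y hy τ => τ.commutes ⟨y, hy⟩
  -- both conjugates in one fibre
  have hfib : ∀ (w : K), Transcendental k w → k⟮w⟯ = F → ∀ R : Place k K, R.1 w < 1 →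
      FF.zeroDiv (k := k) w = Finsupp.single R 1 + Finsupp.single (FF.pull R s) 1 := by
    intro w hw hwF R hR
    have hw0 : w ≠ 0 := fun h => hw (h ▸ isAlgebraic_zero)
    set R' := FF.pull R s
    have hsame : R'.ord w = R.ord w := by
      have h : R'.1 w = exp (-R.ord w) := by
        rw [FF.pull_val, hfix w (hwF ▸ mem_adjoin_simple_self k w) s, FF.val_eq_exp_ord R hw0]
      rw [FF.val_eq_exp_ord R' hw0, exp_inj] at h
      omega
    have hsupp : ∀ T, T ≠ R → T ≠ R' → T.ord w ≤ 0 := by
      intro T h1 h2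
      by_contra h
      obtain ⟨τ, hτ⟩ := zeros_orbit hK hw hwF hR ((FF.val_lt_one_iff _ hw0).2 (by omega : 0 < T.ord w))
      rcases hall τ with e | e
      · exact h1 (by rw [← hτ, e, FF.pull_one])
      · exact h2 (by rw [← hτ, e])
    have hpos := (FF.val_lt_one_iff _ hw0).1 hR
    have hdeg := FF.deg_zeroDiv hK.1 hw
    rw [hwF, hdim] at hdeg
    by_cases he : R' = R
    · have hd : FF.zeroDiv (k := k) w = Finsupp.single R (R.ord w) := by
        ext T
        rw [FF.zeroDiv, Finsupp.sup_apply, FF.div_apply hK.1, Finsupp.coe_zero, Pi.zero_apply,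
          Finsupp.single_apply]
        split_ifs with h
        · subst h; omega
        · have := hsupp T (Ne.symm h) (fun e => h (he ▸ e.symm)); omega
      rw [hd, FF.deg_single, FF.deg_eq_one hK R] at hdeg
      push_cast at hdeg
      rw [hd, he, ← Finsupp.single_add]
      congr 1
      omega
    · have hd : FF.zeroDiv (k := k) w = Finsupp.single R (R.ord w) + Finsupp.single R' (R.ord w) := by
        ext T
        rw [FF.zeroDiv, Finsupp.sup_apply, FF.div_apply hK.1, Finsupp.coe_zero, Pi.zero_apply,
          Finsupp.add_apply, Finsupp.single_apply, Finsupp.single_apply]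
        split_ifs with h h' h'
        · exact absurd (h'.trans h.symm) he
        · subst h; omega
        · subst h'; omega
        · have := hsupp T (Ne.symm h) (Ne.symm h'); omega
      rw [hd, FF.deg_add, FF.deg_single, FF.deg_single, FF.deg_eq_one hK R, FF.deg_eq_one hK R'] at hdeg
      push_cast at hdeg
      rw [hd, show R.ord w = 1 by omega]
  have hPz : P.1 z < 1 := by
    refine (FF.val_lt_one_iff _ hz0).2 ?_
    have := congrArg (fun D : Divisor k K => D P) hzd
    simp only [FF.zeroDiv, Finsupp.sup_apply, FF.div_apply hK.1, Finsupp.coe_zero, Pi.zero_apply,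
      Finsupp.add_apply, Finsupp.single_eq_same] at this
    rw [Finsupp.single_apply] at this
    split_ifs at this <;> omega
  have hPQ : FF.pull P s = Q := by
    have h := (hfib z hz rfl P hPz).symm.trans hzd
    exact Finsupp.single_left_injective one_ne_zero (add_left_cancel h)
  refine ⟨s.restrictScalars k, AlgEquiv.ext fun y => DFunLike.congr_fun hss y,
    (pullK_restrictScalars P s).trans hPQ, fun R => ?_⟩
  rw [pullK_restrictScalars R s]
  by_cases hR : R.1 z ≤ 1
  · obtain ⟨c, hc⟩ := FF.exists_residue hK R hR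
    set w := z - algebraMap k K c
    have hw : Transcendental k w := fun h => hz (by
      have := h.add (isAlgebraic_algebraMap (R := k) (A := K) c)
      rwa [sub_add_cancel] at this)
    have hw0 : w ≠ 0 := fun h => hw (h ▸ isAlgebraic_zero)
    have hwF : k⟮w⟯ = F := by
      apply le_antisymm <;> rw [adjoin_simple_le_iff]
      · exact sub_mem (mem_adjoin_simple_self k z) (IntermediateField.algebraMap_mem _ c)
      · exact (sub_add_cancel z (algebraMap k K c)) ▸
          add_mem (mem_adjoin_simple_self k w) (IntermediateField.algebraMap_mem _ c)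
    refine ⟨w * z⁻¹, mul_ne_zero hw0 (inv_ne_zero hz0), ?_⟩
    rw [← hfib w hw hwF R hc, ← hzd]
    ext T
    simp only [FF.zeroDiv, Finsupp.add_apply, Finsupp.sup_apply, FF.div_apply hK.1, Finsupp.coe_zero,
      Pi.zero_apply]
    rw [FF.ord_mul T hw0 (inv_ne_zero hz0), FF.ord_inv]
    by_cases hT : T.1 z ≤ 1
    · have h1 : T.1 w ≤ 1 := (Valuation.map_sub _ _ _).trans (max_le hT (FF.val_const_le T c))
      rw [FF.val_le_one_iff] at h1 hT
      omega
    · have h1 : T.1 w = T.1 z :=
        Valuation.map_sub_eq_of_lt_left _ ((FF.val_const_le T c).trans_lt (not_le.1 hT))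
      rw [FF.val_eq_exp_ord T hw0, FF.val_eq_exp_ord T hz0, exp_inj] at h1
      rw [FF.val_le_one_iff] at hT
      omega
  · have hw : Transcendental k z⁻¹ := fun h => hz (by simpa using h.inv)
    have hwF : k⟮z⁻¹⟯ = F := by
      apply le_antisymm <;> rw [adjoin_simple_le_iff]
      · exact inv_mem (mem_adjoin_simple_self k z)
      · have := inv_mem (mem_adjoin_simple_self k z⁻¹)
        rwa [inv_inv] at this
    refine ⟨z⁻¹, inv_ne_zero hz0, ?_⟩
    rw [← hfib z⁻¹ hw hwF R (by rw [map_inv₀]; exact inv_lt_one_of_one_lt₀ (not_le.1 hR)), ← hzd]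
    ext T
    simp only [FF.zeroDiv, Finsupp.add_apply, Finsupp.sup_apply, FF.div_apply hK.1, FF.ord_inv,
      Finsupp.coe_zero, Pi.zero_apply]
    omega

end Groth.Agent.FFCurve
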