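import Groth.Agent.FFCurve.QuadHurwitz
import Groth.Agent.FFCurve.AutPlace
import Groth.Agent.FF.Linear
import Groth.Agent.FF.GeomCrit2

/-!
# Fixed points of an involution of a curve
-/

universe u

open CategoryTheory CategoryTheory.Limits AlgebraicGeometry FunFld
open Groth.Agent.CurveCoh

set_option linter.style.haveILetI false
set_option linter.unusedSectionVars false
set_option backward.isDefEq.respectTransparency false
set_option backward.isDefEq.respectTransparency.types false

namespace Groth.Agent.FFCurve

section field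

variable {k K : Type u} [Field k] [IsAlgClosed k] [Field K] [Algebra k K] (hK : IsFunctionField k K)
include hK

/-- An involution with `2g + 2` fixed places has a rational fixed field. -/
theorem exists_gen_of_involution (h2 : (2 : k) ≠ 0) {σ : K ≃ₐ[k] K} (hσ : σ ≠ 1) (hσ2 : σ * σ = 1)
    (hfix : {P : Place k K | FF.pullK P σ = P}.ncard = 2 * genus k K + 2) :
    ∃ t : K, Transcendental k t ∧
      Module.finrank (IntermediateField.adjoin k ({t} : Set K)) K = 2 ∧
      Algebra.IsSeparable (IntermediateField.adjoin k ({t} : Set K)) K := by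
  have hord : orderOf σ = 2 := orderOf_eq_prime (by rw [pow_two, hσ2]) hσ
  haveI hfinH : Finite (Subgroup.zpowers σ) := Nat.finite_of_card_ne_zero (by rw [Nat.card_zpowers, hord]; norm_num)
  haveI := Fintype.ofFinite (Subgroup.zpowers σ)
  set F : IntermediateField k K := IntermediateField.fixedField (Subgroup.zpowers σ)
  have hdeg : Module.finrank F K = 2 := by
    rw [← hord, ← Nat.card_zpowers, Nat.card_eq_fintype_card]
    exact FixedPoints.finrank_eq_card (Subgroup.zpowers σ) K
  haveI : FiniteDimensional F K := Module.finite_of_finrank_pos (by omega)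
  haveI : IsGalois F K :=
    (inferInstance : IsGalois (FixedPoints.subfield (Subgroup.zpowers σ) K) K)
  have hσF : ∀ x : F, σ (x : K) = x := fun x =>
    (IntermediateField.mem_fixedField_iff _ _).1 x.2 σ (Subgroup.mem_zpowers σ)
  let s : K ≃ₐ[F] K := AlgEquiv.ofRingEquiv (f := σ.toRingEquiv) hσF
  have hs : s ≠ 1 := fun h => hσ (AlgEquiv.ext fun x => DFunLike.congr_fun h x)
  have hpull : ∀ P : Place k K, FF.pull P s = FF.pullK P σ := fun P =>
    Subtype.ext (Valuation.ext fun _ => rfl)
  have hF : IsFunctionField k F := by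
    obtain ⟨t, ht⟩ := FF.exists_transcendental hK.1
    by_cases htF : ∃ u : F, Transcendental k u
    · obtain ⟨u, hu⟩ := htF
      exact FF.isFunctionField_intermediateField hK F
        ⟨u, u.2, (transcendental_algebraMap_iff (algebraMap F K).injective).2 hu⟩
    · exfalso
      push Not at htF
      haveI : Algebra.IsAlgebraic k F := ⟨fun u => Classical.not_not.1 (htF u)⟩
      haveI : Algebra.IsAlgebraic F K := Algebra.IsAlgebraic.of_finite F K
      haveI : Algebra.IsAlgebraic k K := Algebra.IsAlgebraic.trans k F K
      exact ht (Algebra.IsAlgebraic.isAlgebraic t)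
  obtain ⟨-, hH⟩ := quadratic_hurwitz hF hK h2 hdeg hs
  simp only [hpull] at hH
  rw [hfix] at hH
  push_cast at hH
  have hgF : genus k F = 0 := by omega
  obtain ⟨P⟩ := FF.nonempty_place hF.1
  have hP := FF.deg_eq_one hF P
  have hell : 1 < ell (Finsupp.single P (1 : ℤ)) := by
    have h := FF.ell_eq_of_deg_ge hF (D := Finsupp.single P (1 : ℤ)) (by
      rw [FF.deg_single, hP, hgF]; norm_num)
    rw [FF.deg_single, hP, hgF] at h
    omega
  obtain ⟨x, hx1, hx2⟩ := (FF.exists_simple_pole_iff_ell hF hP).2 hell
  have htop := FF.rational_of_simple_pole hF hP hx1 hx2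
  have hxF : IntermediateField.adjoin k ({(x : K)} : Set K) = F := by
    have h := congrArg IntermediateField.lift htop
    rwa [IntermediateField.lift_adjoin_simple, IntermediateField.lift_top] at h
  refine ⟨x, (transcendental_algebraMap_iff (algebraMap F K).injective).2
    (FF.transcendental_of_adjoin_eq_top hF htop), ?_, ?_⟩
  · rw [hxF]; exact hdeg
  · rw [hxF]; infer_instance

/-- A function of degree two gives an involution with `2g + 2` fixed places. -/
theorem exists_involution_of_gen (h2 : (2 : k) ≠ 0) {t : K} (ht : Transcendental k t)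
    (hdeg : Module.finrank (IntermediateField.adjoin k ({t} : Set K)) K = 2)
    [Algebra.IsSeparable (IntermediateField.adjoin k ({t} : Set K)) K] :
    ∃ σ : K ≃ₐ[k] K, σ * σ = 1 ∧
      {P : Place k K | FF.pullK P σ = P}.Finite ∧
      {P : Place k K | FF.pullK P σ = P}.ncard = 2 * genus k K + 2 := by
  set F : IntermediateField k K := IntermediateField.adjoin k ({t} : Set K)
  haveI : FiniteDimensional F K := Module.finite_of_finrank_pos (by omega)
  haveI : Algebra.IsQuadraticExtension F K := { finrank_eq_two' := hdeg }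
  haveI : IsGalois F K := ⟨⟩
  have hcard : Nat.card (K ≃ₐ[F] K) = 2 := (IsGalois.card_aut_eq_finrank F K).trans hdeg
  haveI : Nontrivial (K ≃ₐ[F] K) := Finite.one_lt_card_iff_nontrivial.1 (by omega)
  obtain ⟨s, hs⟩ := exists_ne (1 : K ≃ₐ[F] K)
  have hss : s * s = 1 := by
    rw [← pow_two, ← hcard]
    exact pow_card_eq_one'
  set g : F := IntermediateField.AdjoinSimple.gen k t
  have hg : Transcendental k g := fun h => ht (h.algebraMap (A := K))
  have htop : IntermediateField.adjoin k ({g} : Set F) = (⊤ : IntermediateField k F) := by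
    apply IntermediateField.lift_injective
    rw [IntermediateField.lift_adjoin_simple, IntermediateField.lift_top]
    rfl
  have hF : IsFunctionField k F := by
    refine ⟨⟨g, hg, Module.finite_of_finrank_pos (by rw [FF.finrank_top_eq_one htop]; exact one_pos)⟩,
      fun x hx => ?_⟩
    obtain ⟨c, hc⟩ := hK.2 (x : K) (hx.algebraMap)
    exact ⟨c, Subtype.ext hc⟩
  have hgF := FF.genus_eq_zero_of_rational hF htop
  obtain ⟨hfin, hH⟩ := quadratic_hurwitz hF hK h2 hdeg hs
  have hpull : ∀ P : Place k K, FF.pullK P (s.restrictScalars k) = FF.pull P s := fun P =>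
    Subtype.ext (Valuation.ext fun _ => rfl)
  refine ⟨s.restrictScalars k, AlgEquiv.ext fun x => DFunLike.congr_fun hss x, ?_⟩
  simp only [hpull]
  refine ⟨hfin, ?_⟩
  rw [hgF] at hH
  push_cast at hH
  omega

end field

variable {X : Scheme.{u}} [IsIntegral X] (k : Type u) [Field k] [X.Over (Spec (CommRingCat.of k))]
  [IsProper (X ↘ Spec (CommRingCat.of k))] [RegCurve X]

/-- An involution of the curve acts on the function field. -/
theorem exists_fieldAut_of_involution {f : X ⟶ X}
    (hf : f ≫ (X ↘ Spec (CommRingCat.of k)) = X ↘ Spec (CommRingCat.of k)) (hff : f ≫ f = 𝟙 X) :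
    ∃ σ : X.functionField ≃ₐ[k] X.functionField, σ * σ = 1 ∧
      X.fromSpecStalk (genericPoint X) ≫ f = genMap k σ := by
  haveI : IsIso f := ⟨f, hff, hff⟩
  have hη : f (genericPoint X) = genericPoint X := genericPoint_eq_of_isOpenImmersion f
  set ψ : X.functionField ⟶ X.functionField :=
    X.presheaf.stalkSpecializes (specializes_of_eq hη) ≫ f.stalkMap (genericPoint X)
  have hψ : Spec.map ψ ≫ X.fromSpecStalk (genericPoint X) = X.fromSpecStalk (genericPoint X) ≫ f := by
    rw [Spec.map_comp, Category.assoc, Scheme.SpecMap_stalkSpecializes_fromSpecStalk,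
      Scheme.SpecMap_stalkMap_fromSpecStalk]
  have hψψ : ψ ≫ ψ = 𝟙 _ := by
    apply Spec.map_injective
    rw [← cancel_mono (X.fromSpecStalk (genericPoint X)), Spec.map_comp, Category.assoc, hψ,
      reassoc_of% hψ, hff, Category.comp_id, Spec.map_id, Category.id_comp]
  have hc : ∀ c : k, ψ (algebraMap k X.functionField c) = algebraMap k X.functionField c := by
    intro c
    have h : CommRingCat.ofHom (algebraMap k X.functionField) ≫ ψ =
        CommRingCat.ofHom (algebraMap k X.functionField) := by
      apply Spec.map_injective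
      rw [Spec.map_comp, ← fromSpecStalk_str, reassoc_of% hψ, hf]
    exact congrArg (fun m => (CommRingCat.Hom.hom m) c) h
  let e : X.functionField ≃+* X.functionField :=
    RingEquiv.ofRingHom ψ.hom ψ.hom (congrArg CommRingCat.Hom.hom hψψ) (congrArg CommRingCat.Hom.hom hψψ)
  refine ⟨AlgEquiv.ofRingEquiv (f := e) hc, AlgEquiv.ext fun x => ?_, ?_⟩
  · exact congrArg (fun m => (CommRingCat.Hom.hom m) x) hψψ
  · exact hψ.symm

variable [IsAlgClosed k] (hdim : topologicalKrullDim X = 1)
include hdim

/-- Fixed closed points are fixed places. -/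
theorem natCard_fixed {f : X ⟶ X} {σ : X.functionField ≃ₐ[k] X.functionField}
    (h : X.fromSpecStalk (genericPoint X) ≫ f = genMap k σ) (hff : f ≫ f = 𝟙 X) :
    Nat.card {x : X // IsClosed ({x} : Set X) ∧ f x = x} =
      {P : Place k X.functionField | FF.pullK P σ = P}.ncard := by
  have hclosed : ∀ x : ZetaLib.ClosedPt X, IsClosed ({f x.1} : Set X) := fun x => by
    haveI : IsIso f := ⟨f, hff, hff⟩
    have := f.isClosedMap _ x.2
    rwa [Set.image_singleton] at this
  rw [← Nat.card_coe_set_eq]
  refine Nat.card_congr ((Equiv.subtypeSubtypeEquivSubtypeInter (fun x : X => IsClosed ({x} : Set X))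
    (fun x => f x = x)).symm.trans ((placeEquiv k hdim).subtypeEquiv fun x => ?_))
  change f x.1 = x.1 ↔ FF.pullK (toPlace k hdim x) σ = toPlace k hdim x
  rw [pullK_toPlace k hdim h x ⟨f x.1, hclosed x⟩ rfl]
  exact ⟨fun hx => congrArg _ (Subtype.ext hx), fun hx => congrArg Subtype.val (toPlace_injective k hdim hx)⟩

end Groth.Agent.FFCurve
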