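import Groth.Agent.FFCurve.LineBundle
import Groth.Agent.VBLib.Deg
import Groth.Agent.ProjTwist.Invertible

/-!
# Riemann–Roch for invertible modules on a regular proper curve
-/

universe u

open CategoryTheory AlgebraicGeometry FunFld WithZero
open Groth.Agent.CurveCoh
open Groth.Agent.CohAff (mres rres mres_smul)

set_option linter.style.haveILetI false
set_option backward.isDefEq.respectTransparency false
set_option backward.isDefEq.respectTransparency.types false

namespace Groth.Agent.FFCurve

variable {X : Scheme.{u}} [IsIntegral X] {M : X.Modules}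
  (φ : M.presheaf.stalk (genericPoint X) ≃ₗ[X.presheaf.stalk (genericPoint X)]
    X.presheaf.stalk (genericPoint X))
  (k : Type u) [Field k] [X.Over (Spec (CommRingCat.of k))]

lemma crd_kMap (W : X.Opens) (hW : genericPoint X ∈ W) (c : k) (m : Γ(M, W)) :
    crd φ W hW (kMap k W c • m) = c • crd φ W hW m := by
  rw [crd_smul, Algebra.smul_def]
  exact congrArg (· * _) (secK_kMap k W hW c)

lemma crd_mres {V W : X.Opens} (h : W ≤ V) (hW : genericPoint X ∈ W) (m : Γ(M, V)) :
    crd φ W hW (mres M h m) = crd φ V (h hW) m := crd_res φ h hW m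

variable [IsProper (X ↘ Spec (CommRingCat.of k))] [RegCurve X] (hdim : topologicalKrullDim X = 1)
  (hM : PicF.IsInvertible M)
include hdim hM

/-- Global sections are the space `L(D)`. -/
theorem exists_HH_zero_equiv :
    Nonempty (Coh.HH X M 0 ≃ₗ[k] ↥(FunFld.L (divisor φ k hdim hM))) := by
  let e : Coh.HH X M 0 ≃+ Γ(M, ⊤) := Sheaf.H.equiv₀ (Coh.toAb M) Limits.isTerminalTop
  have hmem : ∀ m : Γ(M, ⊤), crd φ ⊤ trivial m ∈ FunFld.L (divisor φ k hdim hM) := fun m P => by
    obtain ⟨x, rfl⟩ := (placeEquiv k hdim).surjective P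
    exact val_crd_le φ k hdim hM (W := ⊤) trivial m x trivial
  let F : Coh.HH X M 0 →ₗ[k] ↥(FunFld.L (divisor φ k hdim hM)) :=
    { toFun := fun y => ⟨crd φ ⊤ trivial (e y), hmem _⟩
      map_add' := fun y z => Subtype.ext
        ((congrArg (crd φ ⊤ trivial) (map_add e y z)).trans (map_add _ _ _))
      map_smul' := fun c y => by
        refine Subtype.ext ?_
        have he : e (c • y) = rres X (le_refl ⊤) (Coh.toGlobal (X ↘ Spec (CommRingCat.of k)) c : Γ(X, ⊤)) • (e y : Γ(M, ⊤)) :=
          (Sheaf.H.equiv₀_naturality (f := Coh.smulAb M (Coh.toGlobal (X ↘ Spec (CommRingCat.of k)) c))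
            Limits.isTerminalTop y).symm
        change crd φ ⊤ trivial (e (c • y)) = c • crd φ ⊤ trivial (e y)
        rw [he]
        exact crd_kMap φ k ⊤ trivial c (e y) }
  refine ⟨LinearEquiv.ofBijective F ⟨fun y z h => e.injective (crd_injective φ hM ⊤ trivial
    (congrArg Subtype.val h)), fun w => ?_⟩⟩
  obtain ⟨m, hm⟩ := exists_crd_eq φ k hdim hM ⊤ trivial w.1 fun x _ => w.2 _
  exact ⟨e.symm m, Subtype.ext (show crd φ ⊤ trivial (e (e.symm m)) = w.1 by
    rw [AddEquiv.apply_symm_apply]; exact hm)⟩

variable (hK : IsFunctionField k X.functionField)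

/-- Sections over the overlap as repartition classes. -/
noncomputable def psiM (t : X.functionField) :
    Γ(M, overlap t) →+ (↥(adele k X.functionField) ⧸ ADK (divisor φ k hdim hM)) :=
  AddMonoidHom.mk' (fun s => Submodule.Quotient.mk
      (atPoles hK t (crd φ (overlap t) (genericPoint_mem_overlap t) s)))
    fun s s' => by rw [map_add, atPoles_add, Submodule.Quotient.mk_add]

lemma psiM_apply (t : X.functionField) (s : Γ(M, overlap t)) : psiM φ k hdim hM hK t s =
    Submodule.Quotient.mk (atPoles hK t (crd φ (overlap t) (genericPoint_mem_overlap t) s)) :=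
  rfl

lemma psiM_eq_zero_iff {t : X.functionField} (ht : Transcendental k t) (s : Γ(M, overlap t)) :
    psiM φ k hdim hM hK t s = 0 ↔ ∃ (a : Γ(M, regLocus t)) (b : Γ(M, regLocus t⁻¹)),
      s = mres M inf_le_left a + mres M inf_le_right b := by
  have ht0 : t ≠ 0 := fun h => ht (h ▸ isAlgebraic_zero)
  have hη := genericPoint_mem_overlap t
  set D := divisor φ k hdim hM
  rw [psiM_apply, Submodule.Quotient.mk_eq_zero, ADK, Submodule.mem_comap]
  constructor
  · intro h
    obtain ⟨β, hβ, z', ⟨z, rfl⟩, hz⟩ := Submodule.mem_sup.1 h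
    have hz' : ∀ P, β P + z = (atPoles hK t (crd φ _ hη s)).1 P := fun P => congrFun hz P
    obtain ⟨a, ha⟩ := exists_crd_eq φ k hdim hM (regLocus t) (genericPoint_mem_regLocus t) z fun x hx => by
      have h1 := hz' (toPlace k hdim x)
      rw [atPoles_apply_not hK (not_lt.2 ((val_toPlace_le_one_iff k hdim x t).2 hx))] at h1
      rw [show z = -β (toPlace k hdim x) by linear_combination h1, Valuation.map_neg]
      exact hβ _
    obtain ⟨b, hb⟩ := exists_crd_eq φ k hdim hM (regLocus t⁻¹) (genericPoint_mem_regLocus t⁻¹)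
        (crd φ _ hη s - z) fun x hx => by
      have h1 := hz' (toPlace k hdim x)
      by_cases hp : 1 < (toPlace k hdim x).1 t
      · rw [atPoles_apply_pole hK hp] at h1
        rw [show crd φ _ hη s - z = β (toPlace k hdim x) by linear_combination -h1]
        exact hβ _
      · rw [atPoles_apply_not hK hp] at h1
        have hU : x.1 ∈ regLocus t := (val_toPlace_le_one_iff k hdim x t).1 (not_lt.1 hp)
        refine (Valuation.map_sub _ _ _).trans (max_le (val_crd_le φ k hdim hM hη s x ⟨hU, hx⟩) ?_)
        rw [show z = -β (toPlace k hdim x) by linear_combination h1, Valuation.map_neg]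
        exact hβ _
    refine ⟨a, b, crd_injective φ hM _ hη ?_⟩
    rw [map_add, crd_mres φ _ hη, crd_mres φ _ hη, ha, hb]
    ring
  · rintro ⟨a, b, rfl⟩
    set za := crd φ (regLocus t) (genericPoint_mem_regLocus t) a
    set zs := crd φ (overlap t) hη (mres M inf_le_left a + mres M inf_le_right b) with hzs
    refine Submodule.mem_sup.2 ⟨fun P => (atPoles hK t zs).1 P - za, fun P => ?_,
      diag k _ za, ⟨za, rfl⟩, funext fun P => ?_⟩
    · obtain ⟨x, rfl⟩ := (placeEquiv k hdim).surjective P
      change (toPlace k hdim x).1 ((atPoles hK t _).1 (toPlace k hdim x) - za) ≤ _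
      by_cases hp : 1 < (toPlace k hdim x).1 t
      · rw [atPoles_apply_pole hK hp, hzs, map_add, crd_mres φ _ hη, crd_mres φ _ hη, add_sub_cancel_left]
        exact val_crd_le φ k hdim hM _ b x ((mem_regLocus_inv_iff k hdim ht0 x).2 hp.le)
      · rw [atPoles_apply_not hK hp, zero_sub, Valuation.map_neg]
        exact val_crd_le φ k hdim hM _ a x ((val_toPlace_le_one_iff k hdim x t).1 (not_lt.1 hp))
    · simp [diag]

lemma psiM_surjective {t : X.functionField} (ht : Transcendental k t) :
    Function.Surjective (psiM φ k hdim hM hK t) := by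
  intro c
  obtain ⟨a, rfl⟩ := Submodule.Quotient.mk_surjective _ c
  have ht0 : t ≠ 0 := fun h => ht (h ▸ isAlgebraic_zero)
  obtain ⟨y, hy, hay⟩ := exists_rep_div hK ht (divisor φ k hdim hM) a
  obtain ⟨s, hs⟩ := exists_crd_eq φ k hdim hM (overlap t) (genericPoint_mem_overlap t) y fun x hx =>
    hy _ (le_antisymm ((val_toPlace_le_one_iff k hdim x t).2 hx.1)
      ((mem_regLocus_inv_iff k hdim ht0 x).1 hx.2))
  exact ⟨s, by rw [psiM_apply, hs]; exact ((Submodule.Quotient.eq _).2 hay).symm⟩

omit hM in
lemma toH1M_eq_zero_iff [M.IsQuasicoherent] {t : X.functionField} (ht : Transcendental k t)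
    (hU : ⨆ i, twoCover (regLocus t) (regLocus t⁻¹) i = ⊤) (s : Γ(M, overlap t)) :
    toH1 M hU s = 0 ↔ ∃ (a : Γ(M, regLocus t)) (b : Γ(M, regLocus t⁻¹)),
      s = mres M inf_le_left a + mres M inf_le_right b := by
  have hv' := FFCurve.hv (X := X) k hdim
  constructor
  · intro h
    have haff : ∀ i, IsAffineOpen (twoCover (regLocus t) (regLocus t⁻¹) i) := by
      rintro ⟨i⟩
      fin_cases i
      · exact isAffineOpen_regLocus k hv' hdim t ((transc_iff k t).2 ht)
      · exact isAffineOpen_regLocus k hv' hdim t⁻¹ ((transc_iff k t).2 ht).inv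
    have hmem : ∀ {n : ℕ} (x : Fin (n + 1) → Two.{u}),
        (CohAff.affCov X).mem (CohAff.inter (twoCover (regLocus t) (regLocus t⁻¹)) x) := by
      intro n
      induction n with
      | zero =>
        intro x
        have : CohAff.inter (twoCover (regLocus t) (regLocus t⁻¹)) x = twoCover (regLocus t) (regLocus t⁻¹) (x 0) := by
          simp [CohAff.inter]
        change IsAffineOpen _
        rw [this]; exact haff _
      | succ n ih =>
        intro x
        have : CohAff.inter (twoCover (regLocus t) (regLocus t⁻¹)) x = twoCover (regLocus t) (regLocus t⁻¹) (x 0) ⊓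
            CohAff.inter (twoCover (regLocus t) (regLocus t⁻¹)) (Fin.tail x) := by
          apply le_antisymm
          · exact le_inf (CohAff.inter_le _ x 0) (CohAff.le_inter fun a => CohAff.inter_le _ x a.succ)
          · refine CohAff.le_inter fun a => ?_
            cases a using Fin.cases with
            | zero => exact inf_le_left
            | succ a => exact inf_le_right.trans (CohAff.inter_le _ (Fin.tail x) a)
        change IsAffineOpen _
        rw [this]
        exact CurveCoh.isAffineOpen_inf k (haff _) (ih _)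
    obtain ⟨c, hc⟩ := CohAff.exists_cd_eq_of_toH_eq_zero hU hmem
      (CohAff.good_affCov M) (cd_cocycleOf M s) h
    have h2 := congrArg (eval01 M) hc
    rw [eval01_cocycleOf, eval01] at h2
    erw [CohAff.cd_zero_apply (X := X.toPresheafedSpace.carrier)] at h2
    erw [map_sub] at h2
    simp only [mres] at h2
    erw [CohAff.res_res, CohAff.res_res] at h2
    have hle1 : regLocus t⁻¹ ≤ CohAff.inter (twoCover (regLocus t) (regLocus t⁻¹))
        (![(⟨0⟩ : Two.{u}), ⟨1⟩] ∘ (0 : Fin 2).succAbove) :=
      CohAff.le_inter fun a => by fin_cases a; exact le_rfl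
    have hle0 : regLocus t ≤ CohAff.inter (twoCover (regLocus t) (regLocus t⁻¹))
        (![(⟨0⟩ : Two.{u}), ⟨1⟩] ∘ (1 : Fin 2).succAbove) :=
      CohAff.le_inter fun a => by fin_cases a; exact le_rfl
    refine ⟨-mres M hle0 (c _), mres M hle1 (c _), ?_⟩
    simp only [mres, map_neg]
    erw [CohAff.res_res, CohAff.res_res]
    rw [neg_add_eq_sub]
    exact h2.symm
  · rintro ⟨a, b, rfl⟩
    rw [map_add, toH1_eq_zero_left, toH1_eq_zero_right, add_zero]

include hK in
/-- `H¹` is the repartition quotient. -/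
theorem exists_HH_one_equiv :
    Nonempty (Coh.HH X M 1 ≃ₗ[k] (↥(adele k X.functionField) ⧸ ADK (divisor φ k hdim hM))) := by
  haveI : M.IsQuasicoherent := ProjTwist.isQCoh_of_isInvertible hM
  obtain ⟨t, ht⟩ := exists_transcendental (X := X) k hdim
  have hv' := FFCurve.hv (X := X) k hdim
  have hU := iSup_twoCover hv' t
  have hk : (toH1 M hU).ker = (psiM φ k hdim hM hK t).ker := by
    ext s
    exact (toH1M_eq_zero_iff k hdim ht hU s).trans (psiM_eq_zero_iff φ k hdim hM hK ht s).symm
  have hs := toH1_surjective (k := k) M hv' hdim ((transc_iff k t).2 ht) hU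
  let E : Coh.HH X M 1 ≃+ (↥(adele k X.functionField) ⧸ ADK (divisor φ k hdim hM)) :=
    ((QuotientAddGroup.quotientKerEquivOfSurjective _ hs).symm.trans
      ((QuotientAddGroup.quotientAddEquivOfEq hk).trans
        (QuotientAddGroup.quotientKerEquivOfSurjective _ (psiM_surjective φ k hdim hM hK ht))))
  have hE : ∀ n, E (toH1 M hU n) = psiM φ k hdim hM hK t n := fun n => by
    have h1 : (QuotientAddGroup.quotientKerEquivOfSurjective _ hs).symm (toH1 M hU n) =
        QuotientAddGroup.mk n := by
      rw [AddEquiv.symm_apply_eq]; rfl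
    simp only [E, AddEquiv.trans_apply, h1]
    rfl
  refine ⟨E.toLinearEquiv fun c y => ?_⟩
  obtain ⟨n, rfl⟩ := hs y
  have hc : c • toH1 M hU n = toH1 M hU (kMap k (overlap t) c • n) :=
    (toH1_smulAb M hU (Coh.toGlobal (X ↘ Spec (CommRingCat.of k)) c) n).symm
  rw [hc, hE, hE, psiM_apply, psiM_apply, crd_kMap, atPoles_smul, Submodule.Quotient.mk_smul]

include hK in
/-- Riemann–Roch: `h⁰ = ℓ(D)` and `h⁰ - h¹ = deg D + 1 - g`. -/
theorem finrank_HH :
    Module.finrank k (Coh.HH X M 0) = ell (divisor φ k hdim hM) ∧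
      (Module.finrank k (Coh.HH X M 1) : ℤ) =
        (genus k X.functionField : ℤ) - FF.spec (divisor φ k hdim hM) := by
  obtain ⟨e0⟩ := exists_HH_zero_equiv φ k hdim hM
  obtain ⟨e1⟩ := exists_HH_one_equiv φ k hdim hM hK
  refine ⟨e0.finrank_eq, ?_⟩
  rw [e1.finrank_eq]
  exact (FF.finrank_quotient_ADK hK _).2

end Groth.Agent.FFCurve
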