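import Groth.Agent.VBLib.Line
import Groth.Agent.VBLib.GenusZero
import Groth.Agent.ProjTwist.Pn.GlobGen
import Groth.Agent.Desc44.ProjBundle.Chart
import Groth.Agent.ProjMorph.Sections
import Groth.Agent.CohAff.ResOps
import Groth.Agent.FFCurve.CubicMap
import Groth.Prelude.Def_LinSer

/-!
# The morphism of a linear series on a regular curve
-/

set_option autoImplicit false
set_option linter.style.haveILetI false
set_option backward.isDefEq.respectTransparency false
set_option backward.isDefEq.respectTransparency.types false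

universe u

open CategoryTheory CategoryTheory.Limits AlgebraicGeometry TopologicalSpace Opposite
open Groth.Agent.QCoh Groth.Agent.PullStalk.Sky Groth.Agent.PullStalk.Exact
open Groth.Agent.Props.GenLocus Groth.Agent.Props.GenTensor

attribute [local instance] Abelian.hasFiniteBiproducts

noncomputable section

namespace Groth.Agent.FFCurve

/-- The subsheaf generated by sections of an invertible module. -/
theorem exists_generated_sub {k : Type u} [Field k] {X : Scheme.{u}} [X.Over (Spec (CommRingCat.of k))]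
    [IsIntegral X] (hX : VBLib.GoodCurve k X) {L : X.Modules} (hL : PicF.IsInvertible L) {m : ℕ}
    (s : Fin m → Γ(L, ⊤)) (hs : ∃ i, s i ≠ 0) :
    ∃ (P : X.Modules) (ι : P ⟶ L) (σ : Fin m → ProjUP.Γm P), Mono ι ∧ PicF.IsInvertible P ∧
      ProjUP.GeneratedBy P σ ∧ ∀ i, ι.app ⊤ (σ i) = s i := by
  classical
  haveI := hX.isLocallyNoetherian
  let F : Fin m → X.Modules := fun _ => Coh.structureModule X
  haveI : ∀ i, (F i).IsQuasicoherent := fun _ =>
    ProjTwist.isQCoh_of_isInvertible (LFFrame.isInvertible_structureModule X)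
  haveI : (biproduct F).IsQuasicoherent := CohAff.isQuasicoherent_biproduct F
  haveI : L.IsQuasicoherent := ProjTwist.isQCoh_of_isInvertible hL
  let ψ : biproduct F ⟶ L := biproduct.desc fun i => homOfSec (s i)
  let P := Abelian.image ψ
  let ι : P ⟶ L := Abelian.image.ι ψ
  let f : biproduct F ⟶ P := Abelian.factorThruImage ψ
  let σ : Fin m → ProjUP.Γm P := fun i => (biproduct.ι F i ≫ f).app ⊤ (one' ⊤)
  have hσ : ∀ i, ι.app ⊤ (σ i) = s i := fun i => by
    show ((biproduct.ι F i ≫ f) ≫ ι).app ⊤ (one' ⊤) = _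
    rw [Category.assoc, Abelian.image.fac, biproduct.ι_desc]
    exact (sec_homOfSec (s i) ⊤).trans (res_self L _ (s i))
  haveI : P.IsQuasicoherent := inferInstance
  have hLf := VBLib.isFinLocFree_of_ofRank (ProjTwist.isFinLocFreeOfRank_one hL)
  have hPf : FlatMod.IsFinLocFree P := hX.sub ι inferInstance hLf
  have hr : VBLib.rk P = 1 := by
    refine le_antisymm ((VBLib.rk_le_of_mono ι (VBLib.isCoh_of_isFinLocFree hLf)).trans
      (VBLib.rk_eq (ProjTwist.isFinLocFreeOfRank_one hL)).le) (Nat.one_le_iff_ne_zero.2 fun h0 => ?_)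
    obtain ⟨i, hi⟩ := hs
    refine hi ((hσ i).symm.trans ?_)
    have hz := VBLib.isZero_of_rk_eq_zero hPf h0
    rw [hz.eq_zero_of_src ι]
    rfl
  refine ⟨P, ι, σ, inferInstance,
    Desc44.ProjBundle.isInvertible_of_rank_one (hr ▸ VBLib.ofRank_rk hPf), fun y => ?_, hσ⟩
  haveI : Epi f := inferInstance
  refine top_le_iff.1 fun t _ => ?_
  obtain ⟨z, rfl⟩ := PullStalk.Exact.stalk_surjective f y t
  have hz : z = ∑ i, stalkLin (biproduct.ι F i) y (stalkLin (biproduct.π F i) y z) := by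
    conv_lhs => rw [← Groth.Agent.Omega.ProdDiff.stalkLin_id y z, ← biproduct.total (f := F),
      CohDev.stalkLin_sum_apply]
    exact Finset.sum_congr rfl fun j _ => CohDev.stalkLin_comp_apply _ _ y z
  rw [hz, map_sum]
  refine Submodule.sum_mem _ fun i _ => ?_
  generalize stalkLin (biproduct.π F i) y z = w
  obtain ⟨a, ha⟩ := (VBLib.GenusZero.bijective_smul_germ (isGen_one (X := X) ⊤) y trivial).2 w
  rw [← ha, map_smul, map_smul]
  refine Submodule.smul_mem _ _ (Submodule.subset_span ⟨i, ?_⟩)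
  rw [← CohDev.stalkLin_comp_apply]
  exact (stalkLin_germ (biproduct.ι F i ≫ f) ⊤ y trivial (one' ⊤)).symm

/-- The morphism to projective space of a linear series, with the comparison map. -/
theorem exists_linSer_morph {k : Type u} [Field k] {X : Scheme.{u}} [X.Over (Spec (CommRingCat.of k))]
    [IsIntegral X] (hX : VBLib.GoodCurve k X) {L : X.Modules} (hL : PicF.IsInvertible L) {r : ℕ}
    (s : Fin (r + 1) → ProjUP.Γm L) (hs : ∃ i, s i ≠ 0) :
    ∃ (P : X.Modules) (ι : P ⟶ L) (φ : X ⟶ CohB1.ProjSpace r k)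
      (τ : (Scheme.Modules.pullback φ).obj (Twist.twistProjSpace r k 1) ≅ P),
      Mono ι ∧ PicF.IsInvertible P ∧ φ ≫ CohB1.ProjSpace.toSpec r k = X ↘ Spec (CommRingCat.of k) ∧
      ∀ i, (τ.hom ≫ ι).app ⊤ (ProjUP.pullSec φ _ (ProjUP.coord r k i)) = s i := by
  obtain ⟨P, ι, σ, hι, hP, hgen, hσ⟩ := exists_generated_sub hX hL s hs
  let q₀ : k →+* Γ(X, ⊤) := ProjUP.toGlobal (X ↘ Spec (CommRingCat.of k))
  obtain ⟨φ, τ, hφ, -, -, hτ⟩ := ProjMorph.exists_to_proj (R := k) («𝒜» := CohB1.polyGrading r k)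
    (MvPolynomial.X : Fin (r + 1) → MvPolynomial (Fin (r + 1)) k) (SepTang48.X_mem k r)
    MvPolynomial.adjoin_range_X q₀ hP σ hgen
    (fun i c _ => ⟨MvPolynomial.eval₂Hom ((QCoh.rres le_top).hom.comp q₀) c,
      RingHom.ext fun a => MvPolynomial.eval₂Hom_C _ _ a, fun j => MvPolynomial.eval₂Hom_X' _ _ _⟩)
  refine ⟨P, ι, φ, τ, hι, hP, hφ.trans (ProjMorph.toSpecΓ_toGlobal _), fun i => ?_⟩
  show ι.app ⊤ (τ.hom.app ⊤ _) = _
  exact (congrArg (fun t => ι.app ⊤ t) (hτ i)).trans (hσ i)

end Groth.Agent.FFCurve
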