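import Groth.Agent.FFCurve.CliffOneCurve
import Groth.Prelude.Def_LinSer

/-!
# Divisor input for linear stability of projections of canonical curves

`index_one`: no `g¹₂` forces Clifford index at least one. `trigonal_class`: on a trigonal curve only
pencils and their residuals have index one. `exists_invariants`: the numbers of a subsheaf of `Ω`.
-/

set_option autoImplicit false

universe u

open FunFld WithZero

set_option linter.style.haveILetI false
set_option linter.unusedSectionVars false

namespace Groth.Agent.FF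

variable {k K : Type*} [Field k] [Field K] [Algebra k K] [IsAlgClosed k]
variable (hK : IsFunctionField k K)

include hK

variable {C : Divisor k K} (hC : IsCanonical k K C)
include hC

lemma exists_pencil_two : ∀ (n : ℕ) (M : Divisor k K), ell M = n → 2 ≤ n → 2 ≤ ell (C - M) →
    M.deg ≤ 2 * (n : ℤ) - 2 → ∃ E : Divisor k K, E.deg = 2 ∧ 2 ≤ ell E := by
  classical
  intro n
  induction n using Nat.strong_induction_on with
  | _ n ih =>
  intro M hn h2 hs hd
  obtain ⟨P₀⟩ := nonempty_place hK.1
  have hrrM := riemann_roch hK hC M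
  have hd0 : 0 ≤ M.deg := by
    by_contra h
    rw [ell_eq_zero_of_deg_neg hK (not_le.1 h)] at hn
    omega
  have hdC : M.deg ≤ 2 * (genus k K : ℤ) - 2 := by
    by_contra h
    rw [ell_eq_zero_of_deg_neg hK (D := C - M) (by rw [deg_sub, deg_canonical hK hC]; omega)] at hs
    omega
  have hcl := clifford hK (deg_eq_one hK P₀) (D := M) hd0 (by omega)
  rcases (show n = 2 ∨ 3 ≤ n by omega) with h | h
  · exact ⟨M, by omega, by omega⟩
  obtain ⟨w, hw, hE⟩ := exists_nonneg_equiv hK (D := C - M) (by omega)
  set E := C - M + div k w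
  have hlE : ell E = ell (C - M) := ell_add_div hK hw
  have hEd : 1 ≤ E.deg := by
    have hE0 : 0 ≤ E.deg := deg_nonneg hE
    by_contra hlt
    have := clifford hK (deg_eq_one hK P₀) (D := E) hE0 (by omega)
    omega
  obtain ⟨P, hP⟩ := exists_place_pos hK (D := E) (by omega)
  obtain ⟨Q, hQ⟩ := FFCurve.exists_place_not_mem hK (insert P E.support)
  simp only [Finset.mem_insert, not_or, Finsupp.notMem_support_iff] at hQ
  have hlt : 0 < ell (M - Finsupp.single P 1 - Finsupp.single Q 1) := by
    have a1 := ell_sub_single_add_one hK M P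
    have a2 := ell_sub_single_add_one hK (M - Finsupp.single P 1) Q
    omega
  obtain ⟨a, ha, hF⟩ := exists_nonneg_equiv hK hlt
  set D' := M + div k a
  have hD' : 0 ≤ D' - Finsupp.single P 1 - Finsupp.single Q 1 := by
    refine hF.trans_eq ?_
    simp only [D']
    abel
  set G := D' ⊓ E
  have hG2 : Finsupp.single P 1 ≤ G := by
    refine le_inf (fun R => ?_) (fun R => ?_)
    · have := hD' R
      have h0 : (0 : ℤ) ≤ (Finsupp.single Q (1 : ℤ)) R := Finsupp.single_nonneg.2 zero_le_one R
      simp only [Finsupp.sub_apply, Finsupp.coe_zero, Pi.zero_apply] at this ⊢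
      omega
    · have := sub_single_nonneg hK hE hP R
      simp only [Finsupp.sub_apply, Finsupp.coe_zero, Pi.zero_apply] at this ⊢
      omega
  have hGd : 1 ≤ G.deg := by
    have h' := deg_mono hG2
    rw [deg_single, deg_eq_one hK P] at h'
    push_cast at h'
    omega
  have hD'd : D'.deg = M.deg := by rw [deg_add, deg_div hK.1, add_zero]
  have hGlt : G.deg < M.deg := by
    have hle : G + Finsupp.single Q 1 ≤ D' := fun R => by
      have h1 : G R ≤ D' R := (inf_le_left : G ≤ D') R
      rw [Finsupp.add_apply, Finsupp.single_apply]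
      split_ifs with e
      · subst e
        have h3 : G Q ≤ E Q := (inf_le_right : G ≤ E) Q
        have h5 := hD' Q
        simp [hQ.1] at h5
        omega
      · omega
    have h' := deg_mono hle
    rw [deg_add, deg_single, deg_eq_one hK Q, hD'd] at h'
    push_cast at h'
    omega
  have hsum := ell_add_ell_le_inf_sup hK D' E
  have hsup : D' ⊔ E = C - G + div k (a * w) := by
    have h' := inf_add_sup D' E
    rw [div_mul hK.1 ha hw]
    change G + (D' ⊔ E) = D' + E at h'
    rw [eq_sub_of_add_eq' h']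
    simp only [D', E]
    abel
  rw [hsup, ell_add_div hK (mul_ne_zero ha hw), ell_add_div hK ha, hlE] at hsum
  change ell M + _ ≤ ell G + _ at hsum
  have hmono : ell (C - M) ≤ ell (C - G) := by
    haveI := finiteDimensional_L hK (D' ⊔ E)
    rw [← hlE, ← ell_add_div hK (mul_ne_zero ha hw) (D := C - G), ← hsup]
    exact Submodule.finrank_mono (L_mono le_sup_right)
  have hrrG := riemann_roch hK hC G
  have hclG := clifford hK (deg_eq_one hK P₀) (D := G) (by omega) (by omega)
  exact ih (ell G) (by omega) G rfl (by omega) (by omega) (by omega)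

/-- Without `g¹₂` the Clifford index is at least one. -/
theorem index_one (hnh : ∀ E : Divisor k K, E.deg = 2 → ell E < 2) (M : Divisor k K) (h : 2 ≤ ell M)
    (hs : 2 ≤ ell (C - M)) : 2 * (ell M : ℤ) - 1 ≤ M.deg := by
  by_contra hc
  obtain ⟨E, hd, hl⟩ := exists_pencil_two hK hC (ell M) M rfl h hs (by omega)
  exact absurd hl (not_le.2 (hnh E hd))

/-- On a trigonal curve index one occurs only for pencils and their residuals. -/
theorem trigonal_class (hnh : ∀ E : Divisor k K, E.deg = 2 → ell E < 2) {E : Divisor k K} (hEd : E.deg = 3)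
    (hEl : 2 ≤ ell E) (M : Divisor k K) (h : 3 ≤ ell M) (hs : 3 ≤ ell (C - M))
    (hd : M.deg = 2 * (ell M : ℤ) - 1) : False := by
  obtain ⟨P₀⟩ := nonempty_place hK.1
  have hg : 1 ≤ genus k K := by
    have := ell_canonical hK hC
    have hrr := riemann_roch hK hC M
    omega
  have hE1 : ∀ R : Place k K, ell (E - Finsupp.single R 1) ≤ 1 := fun R => by
    have := hnh (E - Finsupp.single R 1) (by rw [deg_sub_single hK]; omega)
    omega
  have hE2 : ell E = 2 := by
    have := ell_sub_single_add_one hK E P₀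
    have := hE1 P₀
    omega
  have htrick := two_mul_ell_le_pencil hK (D := M) hE2 hE1
  have hrrM := riemann_roch hK hC M
  have hrr1 := riemann_roch hK hC (M + E)
  have hrr2 := riemann_roch hK hC (M - E)
  have hd1 : (M + E).deg = M.deg + 3 := by rw [deg_add, hEd]
  have hd2 : (M - E).deg = M.deg - 3 := by rw [deg_sub, hEd]
  have hres : 4 ≤ ell (C - (M - E)) := by
    have := ell_add_ell_le hK (deg_eq_one hK P₀) (A := C - M) (B := E) (by omega) (by omega)
    rw [show C - (M - E) = C - M + E by abel]
    omega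
  have hsmall : ell (M - E) + 2 ≤ ell M := by
    rcases Nat.lt_or_ge (ell (M - E)) 2 with h' | h'
    · omega
    · have := index_one hK hC hnh (M - E) h' (by omega)
      omega
  have := index_one hK hC hnh (M + E) (by omega) (by omega)
  omega

end Groth.Agent.FF

open CategoryTheory CategoryTheory.Limits AlgebraicGeometry TopologicalSpace
open Groth.Agent.CurveCoh Groth.Agent.Props.GenLocus

set_option backward.isDefEq.respectTransparency false
set_option backward.isDefEq.respectTransparency.types false

namespace Groth.Agent.FFCurve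

variable {X : Scheme.{u}} [IsIntegral X] (k : Type u) [Field k] [X.Over (Spec (CommRingCat.of k))]
  [IsProper (X ↘ Spec (CommRingCat.of k))] [RegCurve X] (hdim : topologicalKrullDim X = 1)
  [IsAlgClosed k]
include hdim

/-- No linear series of degree `n` means no divisor of degree `n` with two sections. -/
theorem ell_lt_two_of_no_linSer {n : ℕ}
    (h : ¬ ∃ (N : X.Modules) (t : Fin 2 → LinSer.Sect X N), LinSer.IsLinSer k X N n 1 t)
    (E : Divisor k X.functionField) (hd : E.deg = n) : ell E < 2 := by
  have hK := isFunctionField_of_isAlgClosed (X := X) k hdim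
  by_contra hl
  obtain ⟨M, hM, a, ha, hMD⟩ := exists_divOf_eq k hdim E
  obtain ⟨s, hs⟩ := exists_linSer k hdim hM (n := n)
    (show Curv2.deg k X M 1 = n by rw [deg_eq k hdim hK hM, hMD, FF.deg_sub, FF.deg_div hK.1, hd, sub_zero])
    rfl (by
      rw [finrank_zero k hdim hK hM, hMD, sub_eq_add_neg, ← FF.div_inv hK.1, FF.ell_add_div hK (inv_ne_zero ha)]
      omega)
  exact h ⟨M, s, hs⟩

/-- A linear series of degree `n` gives a divisor of degree `n` with two sections. -/
theorem exists_ell_of_linSer {n : ℕ} {N : X.Modules} {t : Fin 2 → LinSer.Sect X N}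
    (ht : LinSer.IsLinSer k X N n 1 t) : ∃ E : Divisor k X.functionField, E.deg = n ∧ 2 ≤ ell E := by
  have hK := isFunctionField_of_isAlgClosed (X := X) k hdim
  obtain ⟨hN, hd, hi⟩ := ht
  refine ⟨divOf k hdim hN, by rw [← deg_eq k hdim hK hN, hd], ?_⟩
  haveI := EulerChar.finite_HH k N (VBLib.isCoh_of_ofRank (ProjTwist.isFinLocFreeOfRank_one hN)) 0
  rw [← finrank_zero k hdim hK hN]
  refine le_of_eq_of_le (Fintype.card_fin 2).symm
    (LinearIndependent.fintype_card_le_finrank (b := fun j => (ProperFin.h0Sec N).symm (t j)) ?_)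
  rw [Fintype.linearIndependent_iff]
  intro c hc
  refine congrFun (hi c ?_)
  have h := congrArg (ProperFin.h0Sec N) hc
  rw [map_sum, map_zero] at h
  refine Eq.trans (Finset.sum_congr rfl fun j _ => ?_) h
  exact ((ProperFin.h0Sec_smul N (Coh.toGlobal (X ↘ Spec (CommRingCat.of k)) (c j))
    ((ProperFin.h0Sec N).symm (t j))).trans (congrArg _ ((ProperFin.h0Sec N).apply_symm_apply (t j)))).symm

/-- The invariants of an invertible subsheaf of `Ω` carrying `m` independent sections. -/
theorem exists_invariants {Ω : X.Modules} (hΩ : PicF.IsInvertible Ω) {M : X.Modules} (hM : PicF.IsInvertible M)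
    (ι : M ⟶ Ω) {m : ℕ} (hm : 0 < m) (w : Fin m → LinSer.Sect X Ω) (hw : LinSer.LinIndep k X Ω w)
    (v : Fin m → LinSer.Sect X M) (hv : ∀ j, (ι.val.app (Opposite.op ⊤)).hom (v j) = w j) :
    m ≤ ell (divOf k hdim hM) ∧ 1 ≤ ell (divOf k hdim hΩ - divOf k hdim hM) ∧
      (ell (divOf k hdim hM) = m → ∀ x : LinSer.Sect X M, ∃ c : Fin m → k,
        (ι.val.app (Opposite.op ⊤)).hom x = ∑ j, (Coh.toGlobal (X ↘ Spec (CommRingCat.of k)) (c j)) • w j) := by
  classical
  have hK := isFunctionField_of_isAlgClosed (X := X) k hdim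
  haveI := EulerChar.finite_HH k M (VBLib.isCoh_of_ofRank (ProjTwist.isFinLocFreeOfRank_one hM)) 0
  let b : Fin m → Coh.HH X M 0 := fun j => (ProperFin.h0Sec M).symm (v j)
  have hcomb : ∀ c : Fin m → k, ProperFin.h0Sec M (∑ j, c j • b j) =
      ∑ j, (Coh.toGlobal (X ↘ Spec (CommRingCat.of k)) (c j)) • v j := fun c => by
    rw [map_sum]
    exact Finset.sum_congr rfl fun j _ => (ProperFin.h0Sec_smul M (Coh.toGlobal (X ↘ Spec (CommRingCat.of k)) (c j))
      (b j)).trans (congrArg _ ((ProperFin.h0Sec M).apply_symm_apply (v j)))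
  have himg : ∀ c : Fin m → k, (ι.val.app (Opposite.op ⊤)).hom
      (∑ j, (Coh.toGlobal (X ↘ Spec (CommRingCat.of k)) (c j)) • v j) =
      ∑ j, (Coh.toGlobal (X ↘ Spec (CommRingCat.of k)) (c j)) • w j := fun c => by
    rw [map_sum]
    exact Finset.sum_congr rfl fun j _ => (map_smul _ _ _).trans (congrArg _ (hv j))
  have hb : LinearIndependent k b := by
    rw [Fintype.linearIndependent_iff]
    intro c hc
    refine congrFun (hw c ?_)
    rw [← himg c, ← hcomb c, hc, map_zero, map_zero]
  rw [← finrank_zero k hdim hK hM]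
  refine ⟨by simpa using hb.fintype_card_le_finrank, ?_, fun he x => ?_⟩
  · obtain ⟨a, ha⟩ := exists_crd_app (triv hM) (triv hΩ) ι
    have hne : w ⟨0, hm⟩ ≠ 0 := fun h => by
      have := hw (Pi.single ⟨0, hm⟩ 1) (by
        rw [Finset.sum_eq_single ⟨0, hm⟩ (fun j _ hj => by rw [Pi.single_eq_of_ne hj, map_zero, zero_smul])
          (fun h' => absurd (Finset.mem_univ _) h'), h, smul_zero])
      simpa using congrFun this ⟨0, hm⟩
    have h0 := ha ⊤ trivial (v ⟨0, hm⟩)
    rw [show ι.app ⊤ (v ⟨0, hm⟩) = w ⟨0, hm⟩ from hv _] at h0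
    have ha0 : a ≠ 0 := fun e => hne (crd_injective (triv hΩ) hΩ ⊤ trivial (by
      rw [h0, e, zero_mul, map_zero]))
    have hle : 0 ≤ divOf k hdim hΩ - divOf k hdim hM + div k a := fun P => by
      obtain ⟨x, rfl⟩ := (placeEquiv k hdim).surjective P
      obtain ⟨U, g, hxU, hg⟩ := exists_isGen hM x.1
      have h1 := val_crd_le (triv hΩ) k hdim hΩ (genericPoint_mem hxU) (ι.app U g) x hxU
      rw [ha U _ g, map_mul, val_gen' (triv hM) k hdim hM hg x hxU,
        FF.val_eq_exp_ord (toPlace k hdim x) ha0, ← exp_add, exp_le_exp] at h1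
      change -(toPlace k hdim x).ord a + divOf k hdim hM (toPlace k hdim x) ≤ divOf k hdim hΩ (toPlace k hdim x) at h1
      rw [Finsupp.add_apply, Finsupp.sub_apply, div_apply' k hdim]
      change (0 : ℤ) ≤ divOf k hdim hΩ (toPlace k hdim x) - divOf k hdim hM (toPlace k hdim x) + (toPlace k hdim x).ord a
      omega
    rw [← FF.ell_add_div hK ha0]
    haveI := FF.finiteDimensional_L hK (divOf k hdim hΩ - divOf k hdim hM + div k a)
    have := (FF.relDim_L_ell hK.1 hle).1
    rw [FF.ell_zero hK] at this
    exact this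
  · haveI : Nonempty (Fin m) := ⟨⟨0, hm⟩⟩
    let B := basisOfLinearIndependentOfCardEqFinrank hb (by simpa using he.symm)
    refine ⟨fun j => B.repr ((ProperFin.h0Sec M).symm x) j, ?_⟩
    rw [← himg, ← hcomb]
    congr 1
    conv_lhs => rw [← (ProperFin.h0Sec M).apply_symm_apply x, ← B.sum_repr ((ProperFin.h0Sec M).symm x)]
    simp [B]

end Groth.Agent.FFCurve
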