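import Groth.Agent.FFCurve.Genus
import Groth.Agent.Props.GenLocus
import Groth.Agent.Ref1.Rank

/-!
# Invertible modules on a curve inside the function field, and their divisors
-/

universe u

open CategoryTheory AlgebraicGeometry TopologicalSpace FunFld WithZero Opposite
open Groth.Agent.CurveCoh Groth.Agent.PullStalk.Sky Groth.Agent.Props.GenLocus
open Groth.Agent.QCoh (res res_res res_smul)

set_option linter.style.haveILetI false
set_option backward.isDefEq.respectTransparency false
set_option backward.isDefEq.respectTransparency.types false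

namespace Groth.Agent.FFCurve

variable {X : Scheme.{u}} [IsIntegral X] {M : X.Modules}

/-- An invertible module has rank one at the generic point. -/
lemma isRankOne_of_invertible (hM : PicF.IsInvertible M) : Ref1.IsRankOne M := by
  obtain ⟨U, e, hU, he⟩ := exists_isGen hM (genericPoint X)
  exact Ref1.free_of_gen_frame ((isGen_iff_isFrame e).1 he) _ hU

variable (φ : M.presheaf.stalk (genericPoint X) ≃ₗ[X.presheaf.stalk (genericPoint X)]
  X.presheaf.stalk (genericPoint X))

/-- The coordinate of a section in the function field. -/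
noncomputable def crd (W : X.Opens) (hW : genericPoint X ∈ W) : Γ(M, W) →+ X.functionField :=
  AddMonoidHom.mk' (fun m => φ (germM M W (genericPoint X) hW m)) fun a b => by
    exact (congrArg φ (map_add (M.presheaf.germ W (genericPoint X) hW).hom a b)).trans (map_add φ _ _)

lemma crd_apply (W : X.Opens) (hW : genericPoint X ∈ W) (m : Γ(M, W)) :
    crd φ W hW m = φ (germM M W (genericPoint X) hW m) := rfl

lemma crd_smul (W : X.Opens) (hW : genericPoint X ∈ W) (a : Γ(X, W)) (m : Γ(M, W)) :
    crd φ W hW (a • m) = secK W hW a * crd φ W hW m := by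
  rw [crd_apply, germM_smul, map_smul]
  rfl

lemma crd_res {V W : X.Opens} (h : W ≤ V) (hW : genericPoint X ∈ W) (m : Γ(M, V)) :
    crd φ W hW (res M h m) = crd φ V (h hW) m :=
  congrArg φ (TopCat.Presheaf.germ_res_apply M.presheaf (homOfLE h) _ hW m)

lemma crd_gen_ne_zero {U : X.Opens} {e : Γ(M, U)} (he : IsGen M U e) (hU : genericPoint X ∈ U) :
    crd φ U hU e ≠ 0 := by
  intro h
  have h0 : germM M U (genericPoint X) hU e = 0 := φ.injective (h.trans (map_zero φ).symm)
  have hb := ((isGen_iff_isFrame e).1 he).stalkComb_bijective _ hU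
  have h1 : LFFrame.stalkComb M (fun _ : Fin 1 => e) _ hU (fun _ => 1) =
      LFFrame.stalkComb M (fun _ : Fin 1 => e) _ hU (fun _ => 0) := by
    simp [LFFrame.stalkComb, Fintype.linearCombination_apply, h0]
  exact one_ne_zero (α := X.presheaf.stalk (genericPoint X)) (congrFun (hb.1 h1) 0)

lemma crd_injective (hM : PicF.IsInvertible M) (W : X.Opens) (hW : genericPoint X ∈ W) :
    Function.Injective (crd φ W hW) := by
  rw [injective_iff_map_eq_zero]
  intro m hm
  choose U e hxU he using fun x : W => exists_isGen hM x.1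
  refine TopCat.Sheaf.eq_of_locally_eq' ⟨M.presheaf, M.isSheaf⟩ (fun x : W => W ⊓ U x) W
    (fun x => homOfLE inf_le_left) (fun x hx => Opens.mem_iSup.2 ⟨⟨x, hx⟩, hx, hxU ⟨x, hx⟩⟩) m 0
    fun x => ?_
  rw [map_zero]
  obtain ⟨a, ha, -⟩ := (he x).exists_eq inf_le_right (res M inf_le_left m : Γ(M, W ⊓ U x))
  have hη : genericPoint X ∈ W ⊓ U x := ⟨hW, genericPoint_mem (hxU x)⟩
  have h1 : secK (W ⊓ U x) hη a * crd φ (U x) hη.2 (e x) = 0 := by
    rw [← crd_res φ inf_le_right hη (e x), ← crd_smul, ← ha, crd_res φ inf_le_left hη m]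
    exact hm
  rcases mul_eq_zero.1 h1 with h | h
  · have : a = 0 := secK_injective _ hη (h.trans (map_zero _).symm)
    change res M inf_le_left m = 0
    rw [ha, this, zero_smul]
  · exact absurd h (crd_gen_ne_zero φ (he x) hη.2)

section Curve

variable (k : Type u) [Field k] [X.Over (Spec (CommRingCat.of k))]
  [IsProper (X ↘ Spec (CommRingCat.of k))] [RegCurve X] (hdim : topologicalKrullDim X = 1)
include hdim

variable (hM : PicF.IsInvertible M)
include hM

/-- A generator near a closed point. -/
noncomputable def genAt (x : X) : Σ U : X.Opens, Γ(M, U) :=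
  ⟨(exists_isGen hM x).choose, (exists_isGen hM x).choose_spec.choose⟩

/-- The divisor function of an invertible module. -/
noncomputable def divFun (P : Place k X.functionField) : ℤ :=
  -(P.ord (crd φ (exists_isGen hM ((placeEquiv k hdim).symm P).1).choose
    (genericPoint_mem (exists_isGen hM ((placeEquiv k hdim).symm P).1).choose_spec.choose_spec.1)
    (exists_isGen hM ((placeEquiv k hdim).symm P).1).choose_spec.choose))

lemma val_le_of_mem {U : X.Opens} {e : Γ(M, U)} (he : IsGen M U e) (x : ZetaLib.ClosedPt X) (hx : x.1 ∈ U)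
    {W : X.Opens} (hW : x.1 ∈ W) (m : Γ(M, W)) :
    (toPlace k hdim x).1 (crd φ W (genericPoint_mem hW) m) ≤
      (toPlace k hdim x).1 (crd φ U (genericPoint_mem hx) e) := by
  obtain ⟨a, ha, -⟩ := he.exists_eq inf_le_right (res M inf_le_left m : Γ(M, W ⊓ U))
  have hη : genericPoint X ∈ W ⊓ U := ⟨genericPoint_mem hW, genericPoint_mem hx⟩
  rw [← crd_res φ inf_le_left hη m, ha, crd_smul, map_mul, crd_res φ inf_le_right hη e]
  exact mul_le_of_le_one_left' (val_secK_le k hdim hη a x ⟨hW, hx⟩)

lemma val_gen {U : X.Opens} {e : Γ(M, U)} (he : IsGen M U e) (x : ZetaLib.ClosedPt X) (hx : x.1 ∈ U) :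
    (toPlace k hdim x).1 (crd φ U (genericPoint_mem hx) e) = exp (divFun φ k hdim hM (toPlace k hdim x)) := by
  have key : ∀ x' : ZetaLib.ClosedPt X, x' = x →
      (toPlace k hdim x).1 (crd φ U (genericPoint_mem hx) e) =
        (toPlace k hdim x).1 (crd φ (exists_isGen hM x'.1).choose
          (genericPoint_mem (exists_isGen hM x'.1).choose_spec.choose_spec.1)
          (exists_isGen hM x'.1).choose_spec.choose) := by
    rintro x' rfl
    obtain ⟨hxU', he'⟩ := (exists_isGen hM x'.1).choose_spec.choose_spec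
    exact le_antisymm (val_le_of_mem φ k hdim hM he' x' hxU' hx e)
      (val_le_of_mem φ k hdim hM he x' hx hxU' _)
  have hsymm : (placeEquiv k hdim).symm (toPlace k hdim x) = x := (placeEquiv k hdim).symm_apply_apply x
  rw [key _ hsymm, divFun, ← FF.val_eq_exp_ord]
  exact crd_gen_ne_zero φ (exists_isGen hM _).choose_spec.choose_spec.2 _

lemma finite_support_divFun : (Function.support (divFun φ k hdim hM)).Finite := by
  obtain ⟨U, e, hU, he⟩ := exists_isGen hM (genericPoint X)
  set c := crd φ U hU e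
  haveI : CompactSpace X := QuasiCompact.compactSpace_of_compactSpace (X ↘ Spec (CommRingCat.of k))
  have h1 : ((U : Set X)ᶜ).Finite :=
    VarDim.finite_of_isClosed k hdim U.2.isClosed_compl fun h => h hU
  refine ((h1.preimage (f := fun P : Place k X.functionField => ((placeEquiv k hdim).symm P).1)
    fun a _ b _ hab => (placeEquiv k hdim).symm.injective (Subtype.ext hab)).union
      (FF.finite_support_ord (isFF (X := X) k hdim) c)).subset fun P hP => ?_
  obtain ⟨x, rfl⟩ := (placeEquiv k hdim).surjective P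
  by_cases hx : x.1 ∈ U
  · refine Or.inr fun h0 => hP ?_
    have h := val_gen φ k hdim hM he x hx
    have hne : c ≠ 0 := crd_gen_ne_zero φ he hU
    change divFun φ k hdim hM (toPlace k hdim x) = 0
    change (toPlace k hdim x).ord c = 0 at h0
    rw [← (FF.val_eq_one_iff _ hne)] at h0
    rw [h0, ← exp_zero, exp_inj] at h
    exact h.symm
  · refine Or.inl ?_
    change ((placeEquiv k hdim).symm (placeEquiv k hdim x)).1 ∉ U
    rwa [Equiv.symm_apply_apply]

/-- The divisor of an invertible module, relative to a trivialisation at the generic point. -/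
noncomputable def divisor : Divisor k X.functionField :=
  Finsupp.ofSupportFinite (divFun φ k hdim hM) (finite_support_divFun φ k hdim hM)

lemma val_gen' {U : X.Opens} {e : Γ(M, U)} (he : IsGen M U e) (x : ZetaLib.ClosedPt X) (hx : x.1 ∈ U) :
    (toPlace k hdim x).1 (crd φ U (genericPoint_mem hx) e) = exp (divisor φ k hdim hM (toPlace k hdim x)) :=
  val_gen φ k hdim hM he x hx

lemma val_crd_le {W : X.Opens} (hW : genericPoint X ∈ W) (m : Γ(M, W)) (x : ZetaLib.ClosedPt X) (hx : x.1 ∈ W) :
    (toPlace k hdim x).1 (crd φ W hW m) ≤ exp (divisor φ k hdim hM (toPlace k hdim x)) := by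
  obtain ⟨U, e, hxU, he⟩ := exists_isGen hM x.1
  exact (val_le_of_mem φ k hdim hM he x hxU hx m).trans_eq (val_gen' φ k hdim hM he x hxU)

lemma exists_crd_eq (W : X.Opens) (hW : genericPoint X ∈ W) (z : X.functionField)
    (h : ∀ x : ZetaLib.ClosedPt X, x.1 ∈ W →
      (toPlace k hdim x).1 z ≤ exp (divisor φ k hdim hM (toPlace k hdim x))) :
    ∃ m : Γ(M, W), crd φ W hW m = z := by
  choose U e hxU he using fun x : W => exists_isGen hM x.1
  have hη : ∀ i : W, genericPoint X ∈ W ⊓ U i := fun i => ⟨hW, genericPoint_mem (hxU i)⟩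
  have hloc : ∀ i : W, ∃ m : Γ(M, W ⊓ U i), crd φ (W ⊓ U i) (hη i) m = z := by
    intro i
    have hc := crd_gen_ne_zero φ (he i) (hη i).2
    obtain ⟨a, ha⟩ := exists_secK_eq k hdim (W ⊓ U i) (hη i) (z / crd φ (U i) (hη i).2 (e i)) fun x hx => by
      rw [map_div₀, val_gen' φ k hdim hM (he i) x hx.2, div_le_one₀ exp_pos]
      exact h x hx.1
    exact ⟨a • res M inf_le_right (e i), by
      rw [crd_smul, crd_res φ inf_le_right (hη i), ha, div_mul_cancel₀ z hc]⟩
  choose m hm using hloc
  obtain ⟨s, hs, -⟩ := TopCat.Sheaf.existsUnique_gluing' ⟨M.presheaf, M.isSheaf⟩ (fun i : W => W ⊓ U i) W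
    (fun i => homOfLE inf_le_left) (fun x hx => Opens.mem_iSup.2 ⟨⟨x, hx⟩, hx, hxU ⟨x, hx⟩⟩) m
    fun i j => by
      have hij : genericPoint X ∈ (W ⊓ U i) ⊓ (W ⊓ U j) := ⟨hη i, hη j⟩
      refine crd_injective φ hM _ hij ?_
      exact ((crd_res φ inf_le_left hij (m i)).trans (hm i)).trans
        ((crd_res φ inf_le_right hij (m j)).trans (hm j)).symm
  let i₀ : W := ⟨genericPoint X, hW⟩
  refine ⟨s, ?_⟩
  rw [← hm i₀, ← hs i₀]
  exact (crd_res φ inf_le_left (hη i₀) s).symm

end Curve

end Groth.Agent.FFCurve
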