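import Groth.Agent.FFCurve.P1Map
import Groth.Agent.FF.LR.Hasse
import Mathlib.FieldTheory.RatFunc.Luroth

/-!
# Lüroth: curves dominated by the line
-/

universe u

open CategoryTheory CategoryTheory.Limits AlgebraicGeometry TopologicalSpace

set_option linter.style.haveILetI false
set_option backward.isDefEq.respectTransparency false
set_option backward.isDefEq.respectTransparency.types false

namespace Groth.Agent.FFCurve

variable (k : Type u) [Field k]

/-- A subfield of a rational function field is rational. -/
theorem exists_gen_of_algHom {K L : Type u} [Field K] [Field L] [Algebra k K] [Algebra k L]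
    (φ : K →ₐ[k] L) {t : L} (ht : Transcendental k t)
    (htop : IntermediateField.adjoin k ({t} : Set L) = ⊤) {x : K} (hx : Transcendental k x) :
    ∃ h : K, Transcendental k h ∧ IntermediateField.adjoin k ({h} : Set K) = ⊤ := by
  obtain ⟨e, -⟩ := FF.exists_gen_hom t ht
  let e' : RatFunc k ≃ₐ[k] L :=
    e.trans ((IntermediateField.equivOfEq htop).trans IntermediateField.topEquiv)
  let ψ : K →ₐ[k] RatFunc k := e'.symm.toAlgHom.comp φ
  have hne : ψ.fieldRange ≠ ⊥ := fun h => by
    have h1 : ψ x ∈ ψ.fieldRange := ⟨x, rfl⟩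
    rw [h, IntermediateField.mem_bot] at h1
    obtain ⟨c, hc⟩ := h1
    exact hx ((isAlgebraic_algHom_iff ψ ψ.toRingHom.injective).1 (hc ▸ isAlgebraic_algebraMap c))
  obtain ⟨h, hh⟩ := RatFunc.Luroth.generator_mem (E := ψ.fieldRange)
  have hh' : ψ h = RatFunc.Luroth.generator ψ.fieldRange := hh
  refine ⟨h, fun halg => RatFunc.Luroth.transcendental_generator hne (hh' ▸ halg.algHom ψ), ?_⟩
  apply IntermediateField.map_injective ψ
  rw [IntermediateField.adjoin_map, Set.image_singleton, hh', ← RatFunc.Luroth.eq_adjoin_generator,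
    AlgHom.fieldRange_eq_map]

/-- An affine line as a chart gives a generator of the function field. -/
theorem exists_gen_of_chart {Y : Scheme.{u}} [IsIntegral Y] [Y.Over (Spec (CommRingCat.of k))]
    (j : Spec (CommRingCat.of (Polynomial k)) ⟶ Y) [IsOpenImmersion j]
    (hj : j ≫ (Y ↘ Spec (CommRingCat.of k)) = Spec.map (CommRingCat.ofHom Polynomial.C)) :
    ∃ t : Y.functionField, Transcendental k t ∧
      IntermediateField.adjoin k ({t} : Set Y.functionField) = ⊤ := by
  have hη : genericPoint Y ∈ Set.range j :=
    ((genericPoint_spec Y).mem_open_set_iff j.isOpenEmbedding.isOpen_range).2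
      ⟨j ⟨⊥, Ideal.isPrime_bot⟩, trivial, ⟨_, rfl⟩⟩
  have hr : Set.range (Y.fromSpecStalk (genericPoint Y)) ⊆ Set.range j := by
    rw [range_fromSpecStalk_generic, Set.singleton_subset_iff]; exact hη
  set g : Spec Y.functionField ⟶ Spec (CommRingCat.of (Polynomial k)) :=
    IsOpenImmersion.lift j (Y.fromSpecStalk (genericPoint Y)) hr
  have hg : g ≫ j = Y.fromSpecStalk (genericPoint Y) := IsOpenImmersion.lift_fac _ _ _
  set a := Spec.preimage g
  have ha : Spec.map a = g := Spec.map_preimage g
  refine ⟨a Polynomial.X, ?_, ?_⟩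
  case' _ => skip
  all_goals
    have hC : ∀ c : k, a (Polynomial.C c) = algebraMap k Y.functionField c := fun c => by
      have h1 : g ≫ Spec.map (CommRingCat.ofHom Polynomial.C) =
          Spec.map (CommRingCat.ofHom (algebraMap k Y.functionField)) := by
        rw [← hj, ← Category.assoc, hg, fromSpecStalk_str]
      rw [← ha, ← Spec.map_comp] at h1
      exact congrArg (fun m => (CommRingCat.Hom.hom m) c) (Spec.map_injective h1)
    have haev : a = CommRingCat.ofHom (Polynomial.aeval (R := k) (a Polynomial.X)).toRingHom := by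
      refine CommRingCat.hom_ext (Polynomial.ringHom_ext (fun c => ?_) ?_)
      · exact (hC c).trans (Polynomial.aeval_C _ c).symm
      · exact (Polynomial.aeval_X _).symm
  · rw [transcendental_iff]
    intro p hp
    have hbot : (g (IsLocalRing.closedPoint Y.functionField)).asIdeal = ⊥ := by
      set z := g (IsLocalRing.closedPoint Y.functionField)
      have hz : j z = genericPoint Y := by
        have h0 : Y.fromSpecStalk (genericPoint Y) (IsLocalRing.closedPoint Y.functionField) = genericPoint Y :=
          Scheme.fromSpecStalk_closedPoint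
        have h1 := congrArg (fun m : Spec Y.functionField ⟶ Y => m (IsLocalRing.closedPoint Y.functionField)) hg
        simp only [Scheme.Hom.comp_apply] at h1
        exact h1.trans h0
      have h2 : j z ⤳ j ⟨⊥, Ideal.isPrime_bot⟩ := hz ▸ genericPoint_specializes _
      have h3 : z ⤳ (⟨⊥, Ideal.isPrime_bot⟩ : PrimeSpectrum (Polynomial k)) :=
        j.isOpenEmbedding.isInducing.specializes_iff.1 h2
      exact le_bot_iff.1 ((PrimeSpectrum.le_iff_specializes _ _).2 h3)
    have hmem : p ∈ (g (IsLocalRing.closedPoint Y.functionField)).asIdeal := by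
      rw [← ha]
      show a p ∈ (IsLocalRing.closedPoint Y.functionField).asIdeal
      rw [haev]
      show Polynomial.aeval (a Polynomial.X) p ∈ _
      rw [hp]
      exact zero_mem _
    rwa [hbot, Ideal.mem_bot] at hmem
  · have hr2 := range_stalkClosedPointTo_aeval k (a Polynomial.X)
    rw [← haev, ha] at hr2
    have key : ∀ m : Spec Y.functionField ⟶ Y, m = Y.fromSpecStalk (genericPoint Y) →
        Function.Surjective (Scheme.stalkClosedPointTo m) := by
      rintro m rfl
      rw [Scheme.stalkClosedPointTo_fromSpecStalk]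
      exact (ConcreteCategory.bijective_of_isIso _).2
    refine eq_top_iff.2 fun z _ => ?_
    rw [← SetLike.mem_coe, ← hr2]
    obtain ⟨w, hw⟩ := key _ hg z
    rw [Scheme.stalkClosedPointTo_comp] at hw
    exact ⟨_, hw⟩

variable {X Y : Scheme.{u}} [IsIntegral X] [IsIntegral Y] [X.Over (Spec (CommRingCat.of k))]
  [Y.Over (Spec (CommRingCat.of k))]

/-- A dominant morphism maps function fields. -/
lemma exists_algHom_of_hom (f : Y ⟶ X) (hf : f ≫ (X ↘ Spec (CommRingCat.of k)) = Y ↘ Spec (CommRingCat.of k))
    (h : f (genericPoint Y) = genericPoint X) :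
    Nonempty (X.functionField →ₐ[k] Y.functionField) := by
  let ψ : X.functionField ⟶ Y.functionField :=
    X.presheaf.stalkSpecializes (specializes_of_eq h) ≫ f.stalkMap (genericPoint Y)
  refine ⟨AlgHom.mk ψ.hom fun c => ?_⟩
  show f.stalkMap (genericPoint Y) (X.presheaf.stalkSpecializes _
    (X.presheaf.germ ⊤ (genericPoint X) trivial (Coh.toGlobal (X ↘ Spec (CommRingCat.of k)) c))) =
      Y.presheaf.germ ⊤ (genericPoint Y) trivial (Coh.toGlobal (Y ↘ Spec (CommRingCat.of k)) c)
  rw [TopCat.Presheaf.germ_stalkSpecializes_apply, Scheme.Hom.germ_stalkMap_apply, ← hf]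
  rfl

end Groth.Agent.FFCurve
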