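import Groth.Agent.FFCurve.Count
import Groth.Agent.FFCurve.Genus
import Groth.Agent.FFRH.Main
import Groth.Prelude.Def_Curve

/-!
# The Riemann hypothesis for curves over finite fields
-/

universe u

open CategoryTheory AlgebraicGeometry FunFld
open Groth.Agent.CurveCoh

set_option linter.style.haveILetI false

namespace Groth.Agent.FFCurve

section FF

variable {k K : Type*} [Field k] [Finite k] [Field K] [Algebra k K] (hK : IsFunctionField k K)
include hK

/-- Integrality, pairing and modulus for one family of reciprocal roots. -/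
theorem exists_roots_all :
    ∃ α : Fin (2 * genus k K) → ℂ, (∀ i, IsIntegral ℤ (α i)) ∧
      PowerSeries.map (Int.castRingHom ℂ) (numerZ k K) =
        ((∏ i, (1 - Polynomial.C (α i) * Polynomial.X) : Polynomial ℂ) : PowerSeries ℂ) ∧
      (∀ i, ‖α i‖ ^ 2 = (Nat.card k : ℝ)) ∧
      ∀ i, α (Fin.rev i) * α i = (Nat.card k : ℂ) := by
  obtain ⟨α, hint, hα, hpair⟩ := FF.Zeta.exists_roots hK
  obtain ⟨p, hp, -⟩ := FF.Zeta.exists_numer hK
  have hne : ∀ i, α i ≠ 0 := fun i h => by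
    have := hpair i
    rw [h, zero_mul] at this
    exact (Nat.cast_ne_zero.2 Nat.card_pos.ne') this.symm
  refine ⟨α, hint, hα, fun i => ?_, fun i => by rw [mul_comm, hpair i]⟩
  have hP : p.map (Int.castRingHom ℂ) = ∏ i, (1 - Polynomial.C (α i) * Polynomial.X) := by
    apply Polynomial.coe_injective ℂ
    rw [Polynomial.polynomial_map_coe, hp, hα]
  have h := FFRH.norm_root hK p hp (α i)⁻¹ (by
    rw [hP, Polynomial.IsRoot, Polynomial.eval_prod, Finset.prod_eq_zero_iff]
    exact ⟨i, Finset.mem_univ i, by simp [mul_inv_cancel₀ (hne i)]⟩)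
  rw [norm_inv, inv_pow, inv_mul_eq_one₀ (pow_ne_zero 2 (norm_ne_zero_iff.2 (hne i)))] at h
  exact h

/-- The bound for the point count of degree `j`. -/
theorem abs_ptCount_sub_le {j : ℕ} (hj : 1 ≤ j) :
    |(FF.Zeta.ptCount k K j : ℝ) - ((Nat.card k : ℝ) ^ j + 1)| ≤
      2 * (genus k K : ℝ) * Real.sqrt (Nat.card k : ℝ) ^ j := by
  obtain ⟨α, -, hα, hn, -⟩ := exists_roots_all hK
  have e : (((FF.Zeta.ptCount k K j : ℝ) - ((Nat.card k : ℝ) ^ j + 1) : ℝ) : ℂ) = -∑ i, α i ^ j := by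
    push_cast
    rw [FF.Zeta.ptCount_eq hK α hα hj]
    ring
  rw [← Real.norm_eq_abs, ← Complex.norm_real, e, norm_neg]
  refine (norm_sum_le _ _).trans ?_
  have h1 : ∀ i ∈ Finset.univ, ‖α i ^ j‖ ≤ Real.sqrt (Nat.card k : ℝ) ^ j := fun i _ => by
    rw [norm_pow, ← hn i, Real.sqrt_sq (norm_nonneg _)]
  refine (Finset.sum_le_card_nsmul _ _ _ h1).trans (le_of_eq ?_)
  simp

/-- There is a place of every large prime degree. -/
theorem exists_place_deg_prime : ∃ N : ℕ, ∀ p : ℕ, p.Prime → N ≤ p → ∃ P : Place k K, P.deg = p := by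
  set q : ℝ := (Nat.card k : ℝ) with hq
  set g : ℝ := (genus k K : ℝ)
  set s : ℝ := Real.sqrt q
  have hq2 : (2 : ℝ) ≤ q := by
    rw [hq]; exact_mod_cast Finite.one_lt_card
  have hs : 1 < s := Real.lt_sqrt_of_sq_lt (by linarith)
  have hg : 0 ≤ g := Nat.cast_nonneg _
  obtain ⟨N, hN⟩ := pow_unbounded_of_one_lt (2 * g + q + 2 * g * s) hs
  refine ⟨N, fun p hp hNp => ?_⟩
  by_contra! hno
  have he : FF.Zeta.ptCount k K p = FF.Zeta.ptCount k K 1 := by
    unfold FF.Zeta.ptCount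
    refine finsum_mem_congr (Set.ext fun P => ?_) fun _ _ => rfl
    simp only [Set.mem_setOf_eq, Nat.dvd_prime hp, Nat.dvd_one, hno P, or_false]
  have h1 := abs_ptCount_sub_le hK (le_refl 1)
  have h2 := abs_ptCount_sub_le hK hp.one_lt.le
  rw [he, abs_le] at h2
  rw [pow_one, pow_one, abs_le] at h1
  have hsp : s ^ p * s ^ p = q ^ p := by rw [← mul_pow, Real.mul_self_sqrt (by linarith)]
  have hbig : 2 * g + q + 2 * g * s < s ^ p :=
    hN.trans_le (pow_le_pow_right₀ hs.le hNp)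
  have hsp1 : 1 ≤ s ^ p := one_le_pow₀ hs.le
  have h3 : (2 * g + q + 2 * g * s) * s ^ p < s ^ p * s ^ p :=
    mul_lt_mul_of_pos_right hbig (by linarith)
  have h4 : q + 2 * g * s ≤ (q + 2 * g * s) * s ^ p := le_mul_of_one_le_right (by positivity) hsp1
  change (_ ≤ _) ∧ _ at h2
  linarith [h1.2, h2.1]

end FF

variable {k : Type u} [Field k] [Finite k] {C : Scheme.{u}}
  (f : C ⟶ Spec (CommRingCat.of k))

lemma genus_eq [IsIntegral C] [IsProper f] [Smooth f] [GeometricallyIrreducible f]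
    (hdim : topologicalKrullDim C = 1) (g : ℕ)
    (hg : Nat.card (Coh.HH C (Coh.structureModule C) 1) = Nat.card k ^ g) :
    letI : C.Over (Spec (CommRingCat.of k)) := ⟨f⟩
    genus k C.functionField = g := by
  letI : C.Over (Spec (CommRingCat.of k)) := ⟨f⟩
  have : IsProper (C ↘ Spec (CommRingCat.of k)) := ‹IsProper f›
  have : Smooth (C ↘ Spec (CommRingCat.of k)) := ‹Smooth f›
  have : RegCurve C := regCurve_of_smooth k hdim
  have : GeometricallyIrreducible (C ↘ Spec (CommRingCat.of k)) := ‹GeometricallyIrreducible f›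
  exact Nat.pow_right_injective (Finite.one_lt_card) ((natCard_HH_one k hdim).symm.trans hg)

theorem weil_conjectures (hC : Curve.IsSmoothProperCurve k C f)
    [GeometricallyIrreducible f] (g : ℕ)
    (hg : Nat.card (Coh.HH C (Coh.structureModule C) 1) = Nat.card k ^ g) :
    ∃ α : Fin (2 * g) → ℂ, (∀ i, IsIntegral ℤ (α i)) ∧ (∀ i, ‖α i‖ ^ 2 = Nat.card k) ∧
      (∃ σ : Equiv.Perm (Fin (2 * g)), ∀ i, α (σ i) * α i = Nat.card k) ∧
      ∀ (k' : Type u) [Field k'] [Algebra k k'] [Finite k'],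
        (SgaExt.pointCount f k' : ℂ) =
          (Nat.card k : ℂ) ^ Module.finrank k k' + 1 - ∑ i, α i ^ Module.finrank k k' := by
  obtain ⟨hP, hS, hI, hdim⟩ := hC
  letI : C.Over (Spec (CommRingCat.of k)) := ⟨f⟩
  have : IsProper (C ↘ Spec (CommRingCat.of k)) := hP
  have : Smooth (C ↘ Spec (CommRingCat.of k)) := hS
  have : RegCurve C := regCurve_of_smooth k hdim
  have : GeometricallyIrreducible (C ↘ Spec (CommRingCat.of k)) := ‹GeometricallyIrreducible f›
  obtain rfl := genus_eq f hdim g hg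
  obtain ⟨α, h1, h2, h3, h4⟩ := exists_roots_all (isFunctionField (X := C) k hdim)
  exact ⟨α, h1, h3, ⟨Fin.revPerm, h4⟩, fun k' _ _ _ => pointCount_eq_roots k hdim α h2 k'⟩

theorem hasseWeil_bound (hC : Curve.IsSmoothProperCurve k C f)
    [GeometricallyIrreducible f] (g : ℕ)
    (hg : Nat.card (Coh.HH C (Coh.structureModule C) 1) = Nat.card k ^ g)
    (k' : Type u) [Field k'] [Algebra k k'] [Finite k'] :
    |(SgaExt.pointCount f k' : ℝ) - ((Nat.card k : ℝ) ^ Module.finrank k k' + 1)| ≤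
      2 * g * (Nat.card k : ℝ) ^ ((Module.finrank k k' : ℝ) / 2) := by
  obtain ⟨hP, hS, hI, hdim⟩ := hC
  letI : C.Over (Spec (CommRingCat.of k)) := ⟨f⟩
  have : IsProper (C ↘ Spec (CommRingCat.of k)) := hP
  have : Smooth (C ↘ Spec (CommRingCat.of k)) := hS
  have : RegCurve C := regCurve_of_smooth k hdim
  have : GeometricallyIrreducible (C ↘ Spec (CommRingCat.of k)) := ‹GeometricallyIrreducible f›
  obtain rfl := genus_eq f hdim g hg
  have : Module.Finite k k' := .of_finite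
  rw [show SgaExt.pointCount f k' = _ from pointCount_eq k hdim k']
  refine (abs_ptCount_sub_le (isFunctionField (X := C) k hdim) Module.finrank_pos).trans (le_of_eq ?_)
  rw [Real.sqrt_eq_rpow, ← Real.rpow_natCast, ← Real.rpow_mul (Nat.cast_nonneg _)]
  ring_nf

theorem exists_coprime_degrees (hC : Curve.IsSmoothProperCurve k C f) [GeometricallyIrreducible f] :
    ∃ x y : C, IsClosed ({x} : Set C) ∧ IsClosed ({y} : Set C) ∧
      Nat.Coprime (EGA4loc.residueDegree f x) (EGA4loc.residueDegree f y) := by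
  obtain ⟨hP, hS, hI, hdim⟩ := hC
  letI : C.Over (Spec (CommRingCat.of k)) := ⟨f⟩
  have : IsProper (C ↘ Spec (CommRingCat.of k)) := hP
  have : Smooth (C ↘ Spec (CommRingCat.of k)) := hS
  have : RegCurve C := regCurve_of_smooth k hdim
  have : GeometricallyIrreducible (C ↘ Spec (CommRingCat.of k)) := ‹GeometricallyIrreducible f›
  obtain ⟨N, hN⟩ := exists_place_deg_prime (isFunctionField (X := C) k hdim)
  obtain ⟨p, hNp, hp⟩ := Nat.exists_infinite_primes N
  obtain ⟨l, hpl, hl⟩ := Nat.exists_infinite_primes (p + 1)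
  obtain ⟨P, hP'⟩ := hN p hp hNp
  obtain ⟨Q, hQ'⟩ := hN l hl (by omega)
  obtain ⟨x, rfl⟩ := (placeEquiv (X := C) k hdim).surjective P
  obtain ⟨y, rfl⟩ := (placeEquiv (X := C) k hdim).surjective Q
  refine ⟨x.1, y.1, x.2, y.2, ?_⟩
  change Nat.Coprime (EGA4loc.residueDegree (C ↘ Spec (CommRingCat.of k)) x.1)
    (EGA4loc.residueDegree (C ↘ Spec (CommRingCat.of k)) y.1)
  rw [finrank_residueField k hdim x, finrank_residueField k hdim y]
  exact hP' ▸ hQ' ▸ (Nat.coprime_primes hp hl).2 (by omega)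

end Groth.Agent.FFCurve
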