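import Groth.Agent.FFCurve.Pic
import Groth.Agent.AmpleLib.Basic
import Groth.Agent.FF.Linear

/-! Surjectivity of multiplication of global sections, read in the function field. -/

universe u

open CategoryTheory AlgebraicGeometry TopologicalSpace FunFld WithZero Opposite
open Groth.Agent.CurveCoh Groth.Agent.PullStalk.Sky Groth.Agent.Props.GenLocus
open Groth.Agent.QCoh (res res_res res_smul)
open scoped TensorProduct

set_option autoImplicit false
set_option linter.style.haveILetI false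
set_option backward.isDefEq.respectTransparency false
set_option backward.isDefEq.respectTransparency.types false

namespace Groth.Agent.FFCurve

variable (k : Type u) [Field k] {X : Scheme.{u}} [X.Over (Spec (CommRingCat.of k))] [IsIntegral X]
  [IsProper (X ↘ Spec (CommRingCat.of k))] [Smooth (X ↘ Spec (CommRingCat.of k))]
  (hdim : topologicalKrullDim X = 1) [RegCurve X] {M N : X.Modules}

/-- Coordinates multiply under `⊗`, and divisors add. -/
theorem exists_crd_tmul (hM : PicF.IsInvertible M) (hN : PicF.IsInvertible N)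
    (hMN : PicF.IsInvertible (CohB1.tensorMod M N)) :
    ∃ c : X.functionField, c ≠ 0 ∧
      (∀ (W : X.Opens) (hW : genericPoint X ∈ W) (a : Γ(M, W)) (b : Γ(N, W)),
        crd (triv hMN) W hW (Props.GenTensor.tmul a b) = c * (crd (triv hM) W hW a * crd (triv hN) W hW b)) ∧
      ∀ P : Place k X.functionField,
        exp (divOf k hdim hMN P) = P.1 c * exp (divOf k hdim hM P + divOf k hdim hN P) := by
  obtain ⟨U₀, e₀, hU₀, he₀⟩ := exists_isGen hM (genericPoint X)
  obtain ⟨V₀, f₀, hV₀, hf₀⟩ := exists_isGen hN (genericPoint X)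
  set W₀ := U₀ ⊓ V₀
  have hW₀ : genericPoint X ∈ W₀ := ⟨hU₀, hV₀⟩
  set e := res M (inf_le_left : W₀ ≤ U₀) e₀
  set f := res N (inf_le_right : W₀ ≤ V₀) f₀
  have he : IsGen M W₀ e := he₀.restrict _
  have hf : IsGen N W₀ f := hf₀.restrict _
  set ce := crd (triv hM) W₀ hW₀ e
  set cf := crd (triv hN) W₀ hW₀ f
  set cg := crd (triv hMN) W₀ hW₀ (Props.GenTensor.tmul e f)
  have hce : ce ≠ 0 := crd_gen_ne_zero _ he hW₀
  have hcf : cf ≠ 0 := crd_gen_ne_zero _ hf hW₀
  have hcg : cg ≠ 0 := crd_gen_ne_zero _ (Props.GenTensor.isGen_tmul he hf) hW₀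
  have key : ∀ (W : X.Opens) (hW : genericPoint X ∈ W) (a : Γ(M, W)) (b : Γ(N, W)),
      crd (triv hMN) W hW (Props.GenTensor.tmul a b) =
        cg / (ce * cf) * (crd (triv hM) W hW a * crd (triv hN) W hW b) := by
    intro W hW a b
    have hη : genericPoint X ∈ W ⊓ W₀ := ⟨hW, hW₀⟩
    obtain ⟨u, hu, -⟩ := he.exists_eq (inf_le_right : W ⊓ W₀ ≤ W₀) (res M inf_le_left a)
    obtain ⟨v, hv, -⟩ := hf.exists_eq (inf_le_right : W ⊓ W₀ ≤ W₀) (res N inf_le_left b)
    rw [← crd_res (triv hM) (inf_le_left : W ⊓ W₀ ≤ W) hη a, hu, crd_smul, crd_res (triv hM) inf_le_right hη e,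
      ← crd_res (triv hN) (inf_le_left : W ⊓ W₀ ≤ W) hη b, hv, crd_smul, crd_res (triv hN) inf_le_right hη f,
      ← crd_res (triv hMN) (inf_le_left : W ⊓ W₀ ≤ W) hη, Props.GenTensor.res_tmul, hu, hv,
      Props.GenTensor.tmul_smul_left, Props.GenTensor.tmul_smul_right, crd_smul, crd_smul,
      ← Props.GenTensor.res_tmul, crd_res (triv hMN) inf_le_right hη (Props.GenTensor.tmul e f)]
    change secK _ hη u * (secK _ hη v * cg) = cg / (ce * cf) * (secK _ hη u * ce * (secK _ hη v * cf))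
    field_simp
  refine ⟨_, div_ne_zero hcg (mul_ne_zero hce hcf), key, fun P => ?_⟩
  obtain ⟨x, rfl⟩ := (placeEquiv k hdim).surjective P
  obtain ⟨U, g, hxU, hg⟩ := exists_isGen hM x.1
  obtain ⟨V, g', hxV, hg'⟩ := exists_isGen hN x.1
  have hxW : x.1 ∈ U ⊓ V := ⟨hxU, hxV⟩
  have h1 := val_gen' (triv hM) k hdim hM (hg.restrict (inf_le_left : U ⊓ V ≤ U)) x hxW
  have h2 := val_gen' (triv hN) k hdim hN (hg'.restrict (inf_le_right : U ⊓ V ≤ V)) x hxW
  have h3 := val_gen' (triv hMN) k hdim hMN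
    (Props.GenTensor.isGen_tmul (hg.restrict (inf_le_left : U ⊓ V ≤ U)) (hg'.restrict (inf_le_right : U ⊓ V ≤ V))) x hxW
  rw [key, map_mul, map_mul (toPlace k hdim x).1 (crd (triv hM) _ _ _), h1, h2, ← exp_add] at h3
  exact h3.symm

/-- The structure module has a principal divisor. -/
theorem exists_divOf_structure (hK : IsFunctionField k X.functionField)
    (hO : PicF.IsInvertible (Coh.structureModule X)) :
    ∃ f : X.functionField, f ≠ 0 ∧ divOf k hdim hO = FunFld.div k f := by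
  have hg := Props.GenTensor.isGen_one (X := X) ⊤
  have hη : genericPoint X ∈ (⊤ : X.Opens) := trivial
  set c := crd (triv hO) ⊤ hη (one' ⊤)
  have hc : c ≠ 0 := crd_gen_ne_zero _ hg hη
  refine ⟨c⁻¹, inv_ne_zero hc, Finsupp.ext fun P => ?_⟩
  obtain ⟨x, rfl⟩ := (placeEquiv k hdim).surjective P
  have h := val_gen' (triv hO) k hdim hO hg x trivial
  change (toPlace k hdim x).1 c = exp (divOf k hdim hO (toPlace k hdim x)) at h
  rw [FF.div_apply hK.1, FF.ord_inv]
  change divOf k hdim hO (toPlace k hdim x) = -(toPlace k hdim x).ord c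
  rw [FF.ord_of_val_eq _ h]
  omega

/-- If `L(D_M + D_N) = L(D_M) L(D_N)` then global multiplication is surjective. -/
theorem surjective_mul (hM : PicF.IsInvertible M) (hN : PicF.IsInvertible N)
    (h : L (divOf k hdim hM + divOf k hdim hN) ≤ L (divOf k hdim hM) * L (divOf k hdim hN)) :
    Function.Surjective
      ((toSheafify (Opens.grothendieckTopology X) (CohB1.tensorPre M N).presheaf).app (Opposite.op ⊤)) := by
  have hMN : PicF.IsInvertible (CohB1.tensorMod M N) := AmpleLib.isInvertible_tensorMod hM hN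
  obtain ⟨c, hc, hmul, hval⟩ := exists_crd_tmul k hdim hM hN hMN
  have hη : genericPoint X ∈ (⊤ : X.Opens) := trivial
  have mem : ∀ {A : X.Modules} (hA : PicF.IsInvertible A) (P : Place k X.functionField) (a : Γ(A, ⊤)),
      P.1 (crd (triv hA) ⊤ hη a) ≤ exp (divOf k hdim hA P) := fun hA P a => by
    obtain ⟨x, rfl⟩ := (placeEquiv k hdim).surjective P
    exact val_crd_le (triv hA) k hdim hA hη a x trivial
  have exi : ∀ {A : X.Modules} (hA : PicF.IsInvertible A) (z : X.functionField),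
      z ∈ L (divOf k hdim hA) → ∃ a : Γ(A, ⊤), crd (triv hA) ⊤ hη a = z := fun hA z hz =>
    exists_crd_eq (triv hA) k hdim hA ⊤ hη z fun x _ => hz _
  intro x
  let x' : Γ(CohB1.tensorMod M N, ⊤) := x
  have hz : crd (triv hMN) ⊤ hη x' / c ∈ L (divOf k hdim hM + divOf k hdim hN) := fun P => by
    have := mem hMN P x'
    rw [hval P] at this
    rw [map_div₀, div_le_iff₀ (zero_lt_iff.2 ((map_ne_zero P.1).2 hc)), Finsupp.add_apply, mul_comm]
    exact this
  have key : ∀ z ∈ L (divOf k hdim hM) * L (divOf k hdim hN),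
      ∃ t : (CohB1.tensorPre M N).obj (op ⊤), crd (triv hMN) ⊤ hη
        (show Γ(CohB1.tensorMod M N, ⊤) from (Props.GenTensor.η M N).app (op ⊤) t) = c * z := by
    intro z hz
    induction hz using Submodule.mul_induction_on' with
    | mem_mul_mem a ha b hb =>
      obtain ⟨a', rfl⟩ := exi hM a ha
      obtain ⟨b', rfl⟩ := exi hN b hb
      exact ⟨show (CohB1.tensorPre M N).obj (op ⊤) from (a' ⊗ₜ[Γ(X, ⊤)] b' : Γ(M, ⊤) ⊗[Γ(X, ⊤)] Γ(N, ⊤)),
        hmul ⊤ hη a' b'⟩
    | add a _ b _ ha hb =>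
      obtain ⟨t, ht⟩ := ha
      obtain ⟨t', ht'⟩ := hb
      refine ⟨t + t', ?_⟩
      rw [mul_add, ← ht, ← ht', ← map_add]
      exact congrArg _ (map_add ((Props.GenTensor.η M N).app (op ⊤)).hom t t')
  obtain ⟨t, ht⟩ := key _ (h hz)
  rw [mul_div_cancel₀ _ hc] at ht
  exact ⟨t, crd_injective (triv hMN) hMN ⊤ hη ht⟩

end Groth.Agent.FFCurve
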