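import Groth.Agent.FFCurve.NormalEuler
import Groth.Agent.RedNorm.Delta
import Groth.Agent.S6279
import Groth.Agent.GeomFieldLib.NormalRing
import Groth.Prelude.Def_Brnch
import Mathlib.RingTheory.MvPowerSeries.Equiv
import Mathlib.RingTheory.PowerSeries.Inverse

/-!
# The multicross singularity: branches and δ-invariant
-/

set_option autoImplicit false
set_option linter.style.haveILetI false
set_option backward.isDefEq.respectTransparency false
set_option backward.isDefEq.respectTransparency.types false
set_option maxHeartbeats 800000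

universe u

noncomputable section

namespace Groth.Agent.FFCurve.Multicross

/-- For a birational integral extension by a normal ring, the normalization is that ring. -/
theorem exists_integralClosure_equiv {O B : Type u} [CommRing O] [CommRing B] [Algebra O B]
    (hinj : Function.Injective (algebraMap O B)) [Algebra.IsIntegral O B] (hB : EGA4.IsNormalRing B)
    (f : O) (hf : f ∈ nonZeroDivisors O) (hf' : algebraMap O B f ∈ nonZeroDivisors B)
    (hb : ∀ b : B, ∃ (n : ℕ) (a : O), algebraMap O B (f ^ n) * b = algebraMap O B a) :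
    Nonempty (integralClosure O (FractionRing O) ≃+* B) := by
  have hnzd : ∀ r ∈ nonZeroDivisors O, algebraMap O B r ∈ nonZeroDivisors B := fun r hr =>
    mem_nonZeroDivisors_iff_right.2 fun b h0 => by
      obtain ⟨n, a, ha⟩ := hb b
      have h1 : a * r = 0 := hinj (by rw [map_mul, ← ha, mul_assoc, h0, mul_zero, map_zero])
      rw [mem_nonZeroDivisors_iff_right.1 hr a h1, map_zero, mul_comm, map_pow] at ha
      exact mem_nonZeroDivisors_iff_right.1 (pow_mem hf' n) b ha
  haveI : IsScalarTower O B (FractionRing B) := inferInstance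
  haveI : IsFractionRing O (FractionRing B) := (isLocalization_iff _ _).2 ⟨fun r =>
    IsLocalization.map_units (FractionRing B) (⟨_, hnzd r r.2⟩ : nonZeroDivisors B), fun z => by
      obtain ⟨⟨b, c, hc⟩, hbc⟩ := IsLocalization.surj (nonZeroDivisors B) z
      obtain ⟨n, a, ha⟩ := hb b
      obtain ⟨n', a', ha'⟩ := hb c
      have hmem : f ^ n * a' ∈ nonZeroDivisors O := mul_mem (pow_mem hf n)
        (mem_nonZeroDivisors_iff_right.2 fun x hx => hinj <| by
          have h1 : algebraMap O B x * algebraMap O B (f ^ n') * c = 0 := by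
            rw [mul_assoc, ha', ← map_mul, hx, map_zero]
          have h2 := mem_nonZeroDivisors_iff_right.1 hc _ h1
          rw [map_pow] at h2
          rw [mem_nonZeroDivisors_iff_right.1 (pow_mem hf' n') _ h2, map_zero])
      refine ⟨(f ^ n' * a, ⟨f ^ n * a', hmem⟩), ?_⟩
      simp only [IsScalarTower.algebraMap_apply O B (FractionRing B), map_mul, ← ha, ← ha']
      rw [← hbc]
      ring, fun {x y} h => ⟨1, congrArg _ (hinj (IsFractionRing.injective B (FractionRing B) h))⟩⟩
  let g : B →+* integralClosure O (FractionRing B) :=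
    ((IsScalarTower.toAlgHom O B (FractionRing B)).codRestrict _ fun b =>
      (Algebra.IsIntegral.isIntegral b).map (IsScalarTower.toAlgHom O B (FractionRing B))).toRingHom
  have hg : Function.Bijective g := by
    refine ⟨fun b c h => IsFractionRing.injective B (FractionRing B) (congrArg Subtype.val h), fun z => ?_⟩
    obtain ⟨c, hc⟩ := NormalEuler.exists_eq_of_isIntegral hB z.1 z.2.tower_top
    exact ⟨c, Subtype.ext hc⟩
  exact ⟨((IsLocalization.algEquiv (nonZeroDivisors O) (FractionRing O) (FractionRing B)).mapIntegralClosure).toRingEquiv.trans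
    (RingEquiv.ofBijective g hg).symm⟩

variable {k : Type u} [Field k] {n : ℕ}

/-- Tuples of power series with a common constant term. -/
def Compat (v : (Fin (n + 1) → PowerSeries k)) : Prop := ∀ i j, PowerSeries.constantCoeff (v i) = PowerSeries.constantCoeff (v j)

theorem isNormalRing_pi : EGA4.IsNormalRing (Fin (n + 1) → PowerSeries k) :=
  EGA4Lib.isNormalRing_of_ringEquiv (RingEquiv.piCongrLeft (fun _ : Fin (n + 1) => PowerSeries k) Equiv.ulift)
    (S6279.result (fun _ : ULift.{u} (Fin (n + 1)) => PowerSeries k) fun _ => GeomFieldLib.isNormalRing_of_isDomain _)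

/-- The uniformizer on each branch. -/
def tt : (Fin (n + 1) → PowerSeries k) := fun _ => PowerSeries.X

theorem compat_tt_mul (v : (Fin (n + 1) → PowerSeries k)) : Compat (tt * v) := fun i j => by simp [tt]

theorem tt_mem_nonZeroDivisors : (tt : (Fin (n + 1) → PowerSeries k)) ∈ nonZeroDivisors (Fin (n + 1) → PowerSeries k) :=
  mem_nonZeroDivisors_iff_right.2 fun v hv => funext fun i =>
    (mul_eq_zero.1 (show v i * PowerSeries.X = 0 from congrFun hv i)).resolve_right PowerSeries.X_ne_zero

variable {A : Type u} [CommRing A]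

section extension

variable [Algebra A (Fin (n + 1) → PowerSeries k)] (hrange : ∀ v : (Fin (n + 1) → PowerSeries k), v ∈ Set.range (algebraMap A (Fin (n + 1) → PowerSeries k)) ↔ Compat v)
include hrange

theorem isIntegral_pi : Algebra.IsIntegral A (Fin (n + 1) → PowerSeries k) := by
  refine ⟨fun v => ?_⟩
  choose a ha using fun i : Fin (n + 1) => (hrange (fun _ => v i)).2 fun _ _ => rfl
  refine ⟨∏ i, (Polynomial.X - Polynomial.C (a i)),
    Polynomial.monic_prod_of_monic _ _ fun i _ => Polynomial.monic_X_sub_C _, ?_⟩
  rw [Polynomial.eval₂_finsetProd]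
  funext j
  rw [Finset.prod_apply, Pi.zero_apply]
  refine Finset.prod_eq_zero (Finset.mem_univ j) ?_
  rw [Polynomial.eval₂_sub, Polynomial.eval₂_X, Polynomial.eval₂_C, ha j]
  simp

theorem exists_t : ∃ t : A, algebraMap A (Fin (n + 1) → PowerSeries k) t = tt := (hrange _).2 fun i j => rfl

theorem nzd_t (hinj : Function.Injective (algebraMap A (Fin (n + 1) → PowerSeries k))) {t : A} (ht : algebraMap A (Fin (n + 1) → PowerSeries k) t = tt) :
    t ∈ nonZeroDivisors A :=
  mem_nonZeroDivisors_iff_right.2 fun a ha => hinj <| by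
    have h1 : algebraMap A (Fin (n + 1) → PowerSeries k) a * tt = 0 := by rw [← ht, ← map_mul, ha, map_zero]
    rw [map_zero]
    exact (mem_nonZeroDivisors_iff_right.1 (tt_mem_nonZeroDivisors (k := k) (n := n))) _ h1

theorem birational {t : A} (ht : algebraMap A (Fin (n + 1) → PowerSeries k) t = tt) (v : (Fin (n + 1) → PowerSeries k)) :
    ∃ (m : ℕ) (a : A), algebraMap A (Fin (n + 1) → PowerSeries k) (t ^ m) * v = algebraMap A (Fin (n + 1) → PowerSeries k) a := by
  obtain ⟨a, ha⟩ := (hrange _).2 (compat_tt_mul v)
  exact ⟨1, a, by rw [pow_one, ht, ha]⟩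

/-- The δ-invariant of the multicross with `n + 1` branches. -/
theorem deltaInv_eq (hinj : Function.Injective (algebraMap A (Fin (n + 1) → PowerSeries k))) : Curv2.deltaInv A = n := by
  obtain ⟨t, ht⟩ := exists_t hrange
  haveI := isIntegral_pi hrange
  rw [← NormalEuler.length_quotient_eq_deltaInv hinj isNormalRing_pi t (nzd_t hrange hinj ht)
    (ht ▸ tt_mem_nonZeroDivisors) (birational hrange ht)]
  let χ : A →+* k := (PowerSeries.constantCoeff.comp (Pi.evalRingHom _ (0 : Fin (n + 1)))).comp (algebraMap A (Fin (n + 1) → PowerSeries k))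
  letI : Algebra A k := χ.toAlgebra
  have hχ : Function.Surjective (algebraMap A k) := fun c => by
    obtain ⟨a, ha⟩ := (hrange (fun _ => PowerSeries.C c)).2 fun _ _ => rfl
    refine ⟨a, ?_⟩
    show PowerSeries.constantCoeff ((algebraMap A (Fin (n + 1) → PowerSeries k) a) 0) = c
    rw [ha, PowerSeries.constantCoeff_C]
  letI : Module A (Fin (n + 1) → PowerSeries k) := Algebra.toModule
  letI : SMul A (Fin (n + 1) → PowerSeries k) := Algebra.toSMul
  let ψ : (Fin (n + 1) → PowerSeries k) →ₗ[A] (Fin n → k) :=
    { toFun := fun v i => PowerSeries.constantCoeff (v i.succ) - PowerSeries.constantCoeff (v 0)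
      map_add' := fun v w => funext fun i => by simp [sub_add_sub_comm]
      map_smul' := fun a v => funext fun i => by
        have h := (hrange _).1 ⟨a, rfl⟩ i.succ 0
        simp only [Algebra.smul_def, Pi.mul_apply, map_mul, RingHom.id_apply, Pi.smul_apply, h]
        exact (mul_sub _ _ _).symm }
  have hker : LinearMap.range (Algebra.linearMap A (Fin (n + 1) → PowerSeries k)) = LinearMap.ker ψ := by
    ext v
    rw [LinearMap.mem_ker]
    refine Iff.trans (hrange v) ⟨fun h => funext fun i => sub_eq_zero.2 (h _ _), fun h => ?_⟩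
    have h0 : ∀ i, PowerSeries.constantCoeff (v i) = PowerSeries.constantCoeff (v 0) := fun i => by
      induction i using Fin.cases with
      | zero => rfl
      | succ j => exact sub_eq_zero.1 (congrFun h j)
    exact fun i j => (h0 i).trans (h0 j).symm
  have hψ : Function.Surjective ψ := fun c => ⟨Fin.cons 0 fun i => PowerSeries.C (c i), funext fun i => by simp [ψ]⟩
  rw [((Submodule.quotEquivOfEq _ _ hker).trans (LinearMap.quotKerEquivOfSurjective ψ hψ)).length_eq,
    Module.length_eq_of_surjective (S := A) (R := k) (M := Fin n → k) hχ, Module.length_eq_finrank,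
    Module.finrank_fin_fun]

end extension

/-- The maximal ideals of a finite product of rings of power series. -/
theorem card_maximalSpectrum_pi : ENat.card (MaximalSpectrum (Fin (n + 1) → PowerSeries k)) = ((n + 1 : ℕ) : ℕ∞) := by
  classical
  let m : Fin (n + 1) → MaximalSpectrum (Fin (n + 1) → PowerSeries k) := fun i =>
    ⟨(IsLocalRing.maximalIdeal (PowerSeries k)).comap (Pi.evalRingHom (fun _ => PowerSeries k) i),
      Ideal.comap_isMaximal_of_surjective _ fun c => ⟨fun _ => c, rfl⟩⟩
  have hm : Function.Bijective m := by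
    refine ⟨fun i j h => ?_, fun Q => ?_⟩
    · by_contra hne
      have h1 : (Pi.single j 1 : (Fin (n + 1) → PowerSeries k)) ∈ (m i).asIdeal := by
        show (Pi.single j 1 : (Fin (n + 1) → PowerSeries k)) i ∈ IsLocalRing.maximalIdeal (PowerSeries k)
        rw [Pi.single_eq_of_ne hne]
        exact zero_mem _
      rw [h] at h1
      have h2 : (Pi.single j 1 : (Fin (n + 1) → PowerSeries k)) j ∈ IsLocalRing.maximalIdeal (PowerSeries k) := h1
      rw [Pi.single_eq_same] at h2
      exact (IsLocalRing.maximalIdeal.isMaximal _).ne_top ((Ideal.eq_top_iff_one _).2 h2)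
    · obtain ⟨i, hi⟩ : ∃ i, (Pi.single i 1 : (Fin (n + 1) → PowerSeries k)) ∉ Q.asIdeal := by
        by_contra hcon
        push Not at hcon
        refine Q.isMaximal.ne_top ((Ideal.eq_top_iff_one _).2 ?_)
        rw [← Finset.univ_sum_single (1 : (Fin (n + 1) → PowerSeries k))]
        exact Q.asIdeal.sum_mem fun j _ => hcon j
      refine ⟨i, MaximalSpectrum.ext (Q.isMaximal.eq_of_le (m i).isMaximal.ne_top fun v hv => ?_).symm⟩
      by_contra hu
      obtain ⟨w, hw⟩ := IsUnit.exists_right_inv (IsLocalRing.notMem_maximalIdeal.1 hu)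
      refine hi ?_
      have h3 : v * Pi.single i w = Pi.single i 1 := funext fun j => by
        by_cases hj : j = i
        · subst hj
          simpa using hw
        · simp [Pi.single_eq_of_ne hj]
      exact h3 ▸ Q.asIdeal.mul_mem_right _ hv
  rw [← ENat.card_congr (Equiv.ofBijective m hm)]
  simp

/-- Branches and δ of a ring isomorphic to the multicross. -/
theorem numBranches_and_deltaInv [IsLocalRing A] [IsNoetherianRing A] (ψ : A →+* (Fin (n + 1) → PowerSeries k))
    (hinj : Function.Injective ψ) (hrange : ∀ v : (Fin (n + 1) → PowerSeries k), v ∈ Set.range ψ ↔ Compat v) :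
    Brnch.numBranches A = ((n + 1 : ℕ) : ℕ∞) ∧ Curv2.deltaInv A + 1 = ((n + 1 : ℕ) : ℕ∞) := by
  letI := ψ.toAlgebra
  refine ⟨?_, ?_⟩
  · haveI : IsReduced A := isReduced_of_injective ψ hinj
    have hnil : nilradical A = ⊥ := nilradical_eq_zero A
    let ψ' : CAlg2.red A →+* (Fin (n + 1) → PowerSeries k) := Ideal.Quotient.lift (nilradical A) ψ fun a ha => by
      rw [hnil, Ideal.mem_bot] at ha
      rw [ha, map_zero]
    letI : Algebra (CAlg2.red A) (Fin (n + 1) → PowerSeries k) := ψ'.toAlgebra
    have hinj' : Function.Injective (algebraMap (CAlg2.red A) (Fin (n + 1) → PowerSeries k)) := fun a b h => by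
      obtain ⟨a, rfl⟩ := Ideal.Quotient.mk_surjective a
      obtain ⟨b, rfl⟩ := Ideal.Quotient.mk_surjective b
      exact congrArg _ (hinj h)
    have hrange' : ∀ v : (Fin (n + 1) → PowerSeries k), v ∈ Set.range (algebraMap (CAlg2.red A) (Fin (n + 1) → PowerSeries k)) ↔ Compat v := fun v => by
      rw [← hrange v]
      exact ⟨fun ⟨a, ha⟩ => by obtain ⟨a, rfl⟩ := Ideal.Quotient.mk_surjective a; exact ⟨a, ha⟩,
        fun ⟨a, ha⟩ => ⟨Ideal.Quotient.mk _ a, ha⟩⟩
    haveI := isIntegral_pi hrange'
    obtain ⟨t, ht⟩ := exists_t hrange'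
    obtain ⟨e⟩ := exists_integralClosure_equiv hinj' isNormalRing_pi t (nzd_t hrange' hinj' ht)
      (ht ▸ tt_mem_nonZeroDivisors) (birational hrange' ht)
    unfold Brnch.numBranches
    rw [if_pos (minimalPrimes.finite_of_isNoetherianRing A), ← card_maximalSpectrum_pi (k := k) (n := n)]
    refine ENat.card_congr
      ⟨fun m => ⟨m.asIdeal.comap e.symm.toRingHom,
          Ideal.comap_isMaximal_of_surjective _ e.symm.surjective⟩,
        fun m => ⟨m.asIdeal.comap e.toRingHom, Ideal.comap_isMaximal_of_surjective _ e.surjective⟩,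
        fun m => MaximalSpectrum.ext ?_, fun m => MaximalSpectrum.ext ?_⟩
    · show (m.asIdeal.comap e.symm.toRingHom).comap e.toRingHom = m.asIdeal
      ext z
      show e.symm (e z) ∈ m.asIdeal ↔ _
      rw [e.symm_apply_apply]
    · show (m.asIdeal.comap e.toRingHom).comap e.symm.toRingHom = m.asIdeal
      ext z
      show e (e.symm z) ∈ m.asIdeal ↔ _
      rw [e.apply_symm_apply]
  · rw [deltaInv_eq (A := A) hrange hinj]
    push_cast
    rfl

section series

variable (k n)

/-- The restriction of a series to the coordinate axes. -/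
def axes : MvPowerSeries (Fin (n + 1)) k →+* (Fin (n + 1) → PowerSeries k) :=
  Pi.ringHom fun i =>
    { toFun := fun f => PowerSeries.mk fun m => MvPowerSeries.coeff (Finsupp.single i m) f
      map_one' := by
        ext m
        classical
        simp [PowerSeries.coeff_one, MvPowerSeries.coeff_one, Finsupp.single_eq_zero]
      map_mul' := fun f g => by
        ext m
        classical
        rw [PowerSeries.coeff_mk, PowerSeries.coeff_mul, MvPowerSeries.coeff_mul, Finsupp.antidiagonal_single,
          Finset.sum_map]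
        exact Finset.sum_congr rfl fun p _ => by simp
      map_zero' := by ext m; simp
      map_add' := fun f g => by ext m; simp }

theorem coeff_axes (f : MvPowerSeries (Fin (n + 1)) k) (i : Fin (n + 1)) (m : ℕ) :
    PowerSeries.coeff m (axes k n f i) = MvPowerSeries.coeff (Finsupp.single i m) f := by
  show PowerSeries.coeff m (PowerSeries.mk fun m => MvPowerSeries.coeff (R := k) (Finsupp.single i m) f) = _
  rw [PowerSeries.coeff_mk]

theorem mem_range_axes (v : (Fin (n + 1) → PowerSeries k)) : v ∈ Set.range (axes k n) ↔ Compat v := by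
  classical
  constructor
  · rintro ⟨f, rfl⟩ i j
    rw [← PowerSeries.coeff_zero_eq_constantCoeff, coeff_axes, coeff_axes]
    simp
  · intro hv
    let f : MvPowerSeries (Fin (n + 1)) k := fun d =>
      if d = 0 then PowerSeries.constantCoeff (v 0)
      else if h : ∃ i, d = Finsupp.single i (d i) then PowerSeries.coeff (d h.choose) (v h.choose) else 0
    refine ⟨f, funext fun i => PowerSeries.ext fun m => ?_⟩
    rw [coeff_axes]
    show f (Finsupp.single i m) = _
    by_cases hm : m = 0
    · subst hm
      simp only [f, Finsupp.single_zero, if_pos]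
      rw [PowerSeries.coeff_zero_eq_constantCoeff]
      exact hv 0 i
    · simp only [f]
      rw [if_neg (by simp [Finsupp.single_eq_zero, hm])]
      have h : ∃ i', Finsupp.single i m = Finsupp.single i' ((Finsupp.single i m) i') := ⟨i, by simp⟩
      rw [dif_pos h]
      have hc : h.choose = i := by
        have h1 := h.choose_spec
        by_contra hne
        have h2 := DFunLike.congr_fun h1 i
        rw [Finsupp.single_eq_same, Finsupp.single_eq_of_ne (Ne.symm hne)] at h2
        exact hm h2
      rw [hc, Finsupp.single_eq_same]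

theorem ker_axes : RingHom.ker (axes k n) = Ideal.span {f : MvPowerSeries (Fin (n + 1)) k |
    ∃ i j : Fin (n + 1), i ≠ j ∧ f = MvPowerSeries.X i * MvPowerSeries.X j} := by
  classical
  let d₂ : Fin (n + 1) × Fin (n + 1) → (Fin (n + 1) →₀ ℕ) := fun p => Finsupp.single p.1 1 + Finsupp.single p.2 1
  have hX : ∀ i j : Fin (n + 1), (MvPowerSeries.X i * MvPowerSeries.X j : MvPowerSeries (Fin (n + 1)) k) =
      MvPowerSeries.monomial (d₂ (i, j)) 1 := fun i j => by
    rw [MvPowerSeries.X_def, MvPowerSeries.X_def, MvPowerSeries.monomial_mul_monomial, one_mul]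
  apply le_antisymm
  · intro f hf
    let S : Finset (Fin (n + 1) × Fin (n + 1)) := Finset.univ.filter fun p => p.1 ≠ p.2
    have hch : ∀ d : Fin (n + 1) →₀ ℕ, (¬ ∃ i m, d = Finsupp.single i m) → ∃ p ∈ S, d₂ p ≤ d := fun d hd => by
      obtain ⟨i, hi⟩ : ∃ i, d i ≠ 0 := by
        by_contra hc
        push Not at hc
        exact hd ⟨0, 0, by ext j; simp [hc j]⟩
      obtain ⟨j, hji, hj⟩ : ∃ j, j ≠ i ∧ d j ≠ 0 := by
        by_contra hc
        push Not at hc
        exact hd ⟨i, d i, by
          ext j
          by_cases hj : j = i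
          · simp [hj]
          · rw [hc j hj, Finsupp.single_eq_of_ne hj]⟩
      refine ⟨(i, j), by simp [S, Ne.symm hji], fun l => ?_⟩
      simp only [d₂, Finsupp.add_apply, Finsupp.single_apply]
      split_ifs with h1 h2 h2
      · exact absurd (h2.trans h1.symm) hji
      · subst h1; omega
      · subst h2; omega
      · omega
    choose p hpS hp using hch
    let g : Fin (n + 1) × Fin (n + 1) → MvPowerSeries (Fin (n + 1)) k := fun q d =>
      if h : ¬ ∃ i m, d + d₂ q = Finsupp.single i m then
        (if p _ h = q then MvPowerSeries.coeff (d + d₂ q) f else 0) else 0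
    have hsum : f = ∑ q ∈ S, MvPowerSeries.monomial (d₂ q) 1 * g q := by
      ext d
      rw [map_sum]
      by_cases hd : ∃ i m, d = Finsupp.single i m
      · obtain ⟨i, m, rfl⟩ := hd
        have h0 : MvPowerSeries.coeff (Finsupp.single i m) f = 0 := by
          rw [← coeff_axes, show axes k n f = 0 from hf]
          simp
        rw [h0]
        refine (Finset.sum_eq_zero fun q hq => ?_).symm
        rw [MvPowerSeries.coeff_monomial_mul]
        split_ifs with hle
        · exfalso
          have hne : q.1 ≠ q.2 := (Finset.mem_filter.1 hq).2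
          have h1 := hle q.1
          have h2 := hle q.2
          simp only [d₂, Finsupp.add_apply, Finsupp.single_apply, Ne.symm hne, hne, if_true, if_false] at h1 h2
          split_ifs at h1 h2 with a b <;> first | omega | exact hne (a.symm.trans b) | skip
        · rfl
      · rw [Finset.sum_eq_single (p d hd)]
        · rw [MvPowerSeries.coeff_monomial_mul, if_pos (hp d hd), one_mul]
          show _ = g (p d hd) (d - d₂ (p d hd))
          have he : d - d₂ (p d hd) + d₂ (p d hd) = d := tsub_add_cancel_of_le (hp d hd)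
          simp only [g, he, dif_pos hd, if_pos]
        · intro q _ hq
          rw [MvPowerSeries.coeff_monomial_mul]
          split_ifs with hle
          · rw [one_mul]
            show g q (d - d₂ q) = 0
            have he : d - d₂ q + d₂ q = d := tsub_add_cancel_of_le hle
            simp only [g, he, dif_pos hd, if_neg (Ne.symm hq)]
          · rfl
        · intro h
          exact absurd (hpS d hd) h
    rw [hsum]
    refine Ideal.sum_mem _ fun q hq => Ideal.mul_mem_right _ _ (Ideal.subset_span ⟨q.1, q.2, ?_, (hX _ _).symm⟩)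
    exact (Finset.mem_filter.1 hq).2
  · rw [Ideal.span_le]
    rintro _ ⟨i, j, hij, rfl⟩
    refine funext fun l => PowerSeries.ext fun m => ?_
    rw [coeff_axes, hX, MvPowerSeries.coeff_monomial]
    simp only [Pi.zero_apply, map_zero]
    rw [if_neg]
    intro h
    have h1 := DFunLike.congr_fun h i
    have h2 := DFunLike.congr_fun h j
    simp only [d₂, Finsupp.add_apply, Finsupp.single_apply, hij, Ne.symm hij, if_true, if_false] at h1 h2
    split_ifs at h1 h2 with a b <;> first | omega | exact hij (a.symm.trans b) | skip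

/-- `k[[T]]/(T_i T_j)` as the ring of compatible tuples. -/
theorem exists_hom : ∃ ψ : (MvPowerSeries (Fin (n + 1)) k ⧸ Ideal.span {f : MvPowerSeries (Fin (n + 1)) k |
      ∃ i j : Fin (n + 1), i ≠ j ∧ f = MvPowerSeries.X i * MvPowerSeries.X j}) →+* (Fin (n + 1) → PowerSeries k),
    Function.Injective ψ ∧ (∀ v : (Fin (n + 1) → PowerSeries k), v ∈ Set.range ψ ↔ Compat v) ∧
      ∀ c : k, ψ (Ideal.Quotient.mk _ (MvPowerSeries.C c)) = fun _ => PowerSeries.C c := by
  refine ⟨(RingHom.kerLift (axes k n)).comp (Ideal.quotEquivOfEq (ker_axes k n).symm).toRingHom, ?_, fun v => ?_, fun c => ?_⟩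
  · exact (RingHom.kerLift_injective _).comp (RingEquiv.injective _)
  · rw [← mem_range_axes]
    constructor
    · rintro ⟨q, rfl⟩
      obtain ⟨f, rfl⟩ := Ideal.Quotient.mk_surjective q
      exact ⟨f, rfl⟩
    · rintro ⟨f, rfl⟩
      exact ⟨Ideal.Quotient.mk _ f, rfl⟩
  · funext i
    ext m
    show PowerSeries.coeff m (axes k n (MvPowerSeries.C c) i) = _
    classical
    rw [coeff_axes, MvPowerSeries.coeff_C, PowerSeries.coeff_C]
    simp [Finsupp.single_eq_zero]

end series

end Groth.Agent.FFCurve.Multicross
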