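import Groth.Agent.FFCurve.NoetherLin
import Groth.Agent.FFCurve.LinStab
import Groth.Agent.FF.Norm
import Groth.Agent.FF.LinSys
import Groth.Agent.FFEmb.Plane
import Groth.Agent.FFWr.DegDiff

/-! Max Noether's theorem: the canonical ring is generated in degree one. -/

set_option autoImplicit false
set_option linter.style.haveILetI false
set_option linter.unusedSectionVars false

open FunFld WithZero IntermediateField

namespace Groth.Agent.FF

open Groth.Agent.FFCurve.NoetherLin

variable {k K : Type*} [Field k] [Field K] [Algebra k K] [IsAlgClosed k] [CharZero k]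
  (hK : IsFunctionField k K)

omit [IsAlgClosed k] [CharZero k] in
lemma val_aeval_pow {Q : Place k K} {y : K} (hy : Q.1 y < 1) {p : Polynomial k} (hp : p ≠ 0) :
    Q.1 (Polynomial.aeval y p) = Q.1 y ^ p.rootMultiplicity 0 := by
  obtain ⟨q, hq⟩ := Polynomial.pow_rootMultiplicity_dvd p 0
  have hq0 : q.coeff 0 ≠ 0 := by
    intro h
    have h2 := (Polynomial.rootMultiplicity_le_iff hp 0 (p.rootMultiplicity 0)).1 le_rfl
    rw [map_zero, sub_zero] at hq h2
    obtain ⟨r, hr⟩ := Polynomial.X_dvd_iff.2 h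
    exact h2 ⟨r, by rw [pow_succ, mul_assoc, ← hr]; exact hq⟩
  have hqv : Q.1 (Polynomial.aeval y q) = 1 := by
    have hdec := congrArg (Polynomial.aeval y) (Polynomial.X_mul_divX_add q)
    simp only [map_add, map_mul, Polynomial.aeval_X, Polynomial.aeval_C] at hdec
    rw [← hdec]
    have hc : Q.1 (algebraMap k K (q.coeff 0)) = 1 := by
      refine le_antisymm (Q.2.1 _) ?_
      have h1 := mul_le_mul' (le_refl (Q.1 (algebraMap k K (q.coeff 0)))) (Q.2.1 (q.coeff 0)⁻¹)
      rwa [← map_mul, ← map_mul, mul_inv_cancel₀ hq0, map_one, map_one, mul_one] at h1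
    have hle : ∀ r : Polynomial k, Q.1 (Polynomial.aeval y r) ≤ 1 := by
      intro r
      induction r using Polynomial.induction_on' with
      | add r s hr hs => rw [map_add]; exact (Q.1.map_add _ _).trans (max_le hr hs)
      | monomial n a =>
        rw [Polynomial.aeval_monomial, map_mul, map_pow]
        exact mul_le_one' (Q.2.1 a) (pow_le_one' hy.le n)
    rw [Valuation.map_add_eq_of_lt_right _ ?_] <;> try exact hc
    rw [hc, map_mul]
    exact (mul_le_mul' le_rfl (hle _)).trans_lt (by rwa [mul_one])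
  conv_lhs => rw [hq]
  rw [map_mul, map_pow, map_sub, Polynomial.aeval_X, Polynomial.aeval_C, map_zero, sub_zero,
    map_mul, map_pow, hqv, mul_one]

include hK

/-- All but finitely many fibres of a nonconstant function are reduced. -/
lemma exists_finite_bad {x : K} (hx : Transcendental k x) :
    ∃ B : Set (Place k K), B.Finite ∧ ∀ (c : k) (Q : Place k K), Q ∉ B →
      Q.1 (x - algebraMap k K c) < 1 → Q.ord (x - algebraMap k K c) = 1 := by
  haveI := finite_adjoin hK.1 hx
  haveI : CharZero K := charZero_of_injective_algebraMap (algebraMap k K).injective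
  haveI : Algebra.IsSeparable k⟮x⟯ K := Algebra.IsAlgebraic.isSeparable_of_perfectField
  refine ⟨_, finite_ramified (k := k) (K := k⟮x⟯) (K' := K) (FFWr.isFunctionField_adjoin hK hx).1, fun c Q hQ hlt => ?_⟩
  simp only [Set.mem_ofPred_eq, not_not] at hQ
  set y := x - algebraMap k K c
  have hy0 : y ≠ 0 := fun e => hx (by
    rw [sub_eq_zero] at e
    rw [e]
    exact isAlgebraic_algebraMap c)
  obtain ⟨z, hz⟩ := hQ (exp (-1 : ℤ))
  have hzy : (z : K) ∈ k⟮y⟯ := by
    have hle : k⟮x⟯ ≤ k⟮y⟯ := by
      rw [adjoin_simple_le_iff]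
      simpa [y] using add_mem (mem_adjoin_simple_self k y) (k⟮y⟯.algebraMap_mem c)
    exact hle z.2
  obtain ⟨r, s, hrs⟩ := (mem_adjoin_simple_iff (F := k) (α := y) (z : K)).1 hzy
  change Q.1 (z : K) = exp (-1 : ℤ) at hz
  rw [hrs, map_div₀] at hz
  rcases eq_or_ne r 0 with rfl | hr
  · rw [map_zero, map_zero, zero_div] at hz; exact absurd hz.symm exp_ne_zero
  rcases eq_or_ne s 0 with rfl | hs
  · rw [map_zero, map_zero, div_zero] at hz; exact absurd hz.symm exp_ne_zero
  rw [val_aeval_pow hlt hr, val_aeval_pow hlt hs, val_eq_exp_ord Q hy0, ← exp_nsmul, ← exp_nsmul,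
    ← exp_sub, exp_inj] at hz
  have hpos := (val_lt_one_iff Q hy0).1 hlt
  simp only [nsmul_eq_mul] at hz
  have e : Q.ord y * ((r.rootMultiplicity 0 : ℤ) - s.rootMultiplicity 0) = 1 := by linarith
  exact Int.eq_one_of_mul_eq_one_right hpos.le e

/-- A base point free divisor moves to a reduced one, with a section having all the poles exact. -/
lemma exists_reduced {D : Divisor k K} (hd : 0 < D.deg)
    (hbp : ∀ P : Place k K, ell (D - Finsupp.single P 1) < ell D) :
    ∃ s : K, s ≠ 0 ∧ 0 ≤ D + div k s ∧ (∀ P, (D + div k s) P ≤ 1) ∧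
      ∃ u ∈ L (D + div k s), ∀ P ∈ (D + div k s).support, P.1 u = exp (1 : ℤ) := by
  classical
  haveI := finiteDimensional_L hK.1 D
  have hex : ∀ Q : Place k K, ∃ v ∈ L D, Q.1 v = exp (D Q) := fun Q =>
    (ell_lt_iff_exists hK D Q).1 (hbp Q)
  obtain ⟨Q₀⟩ := nonempty_place hK.1
  obtain ⟨t, ht, ht0⟩ : ∃ t ∈ L D, t ≠ 0 := by
    obtain ⟨t, ht, hv⟩ := hex Q₀
    exact ⟨t, ht, ne_zero_of_val_eq_exp Q₀ hv⟩
  set E := D + div k t
  have hE : 0 ≤ E := (mem_L_iff hK.1 ht0).1 ht
  have hEne : E.support.Nonempty := by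
    rw [Finsupp.support_nonempty_iff]
    intro e
    have : E.deg = D.deg := by rw [deg_add, deg_div hK.1, add_zero]
    rw [e, deg_zero'] at this
    omega
  obtain ⟨s, hs, hsE⟩ := FFEmb.Plane.exists_exact_combination le_rfl hex E.support
  obtain ⟨P₀, hP₀⟩ := hEne
  have hs0 : s ≠ 0 := ne_zero_of_val_eq_exp P₀ (hsE P₀ hP₀)
  set x := s / t
  have hxE : ∀ Q ∈ E.support, Q.ord x = -E Q := fun Q hQ => by
    have h1 := ord_mul Q (div_ne_zero hs0 ht0) ht0
    rw [div_mul_cancel₀ _ ht0, ord_of_val_eq Q (hsE Q hQ)] at h1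
    simp only [E, Finsupp.add_apply, div_apply hK.1, x]
    omega
  have hEpos : ∀ Q ∈ E.support, 0 < E Q := fun Q hQ =>
    lt_of_le_of_ne (hE Q) (Ne.symm (Finsupp.mem_support_iff.1 hQ))
  have hxtr : Transcendental k x := fun ha => by
    obtain ⟨c, hc⟩ := hK.2 x ha
    have := hxE P₀ hP₀
    rw [← hc, ord_const] at this
    have := hEpos P₀ hP₀
    omega
  obtain ⟨B, hB, hgood⟩ := exists_finite_bad hK hxtr
  have hfin : (⋃ Q ∈ B, {c : k | Q.1 (x - algebraMap k K c) < 1}).Finite := by
    refine hB.biUnion fun Q _ => Set.Subsingleton.finite fun a ha b hb => ?_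
    by_contra hab
    have h1 : Q.1 (algebraMap k K (b - a)) < 1 := by
      rw [map_sub, show algebraMap k K b - algebraMap k K a =
        (x - algebraMap k K a) - (x - algebraMap k K b) by ring]
      exact (Q.1.map_sub _ _).trans_lt (max_lt ha hb)
    have h2 := (val_lt_one_iff Q ((map_ne_zero (algebraMap k K)).2 (sub_ne_zero.2 (Ne.symm hab)))).1 h1
    rw [ord_const] at h2
    exact lt_irrefl _ h2
  obtain ⟨c, hc⟩ := hfin.infinite_compl.nonempty
  set y := x - algebraMap k K c
  have hy0 : y ≠ 0 := fun e => hxtr (by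
    rw [sub_eq_zero] at e; rw [e]; exact isAlgebraic_algebraMap c)
  have hty : D + div k (t * y) = E + div k y := by rw [div_mul hK.1 ht0 hy0]; simp only [E]; abel
  have hmem : t * y ∈ L D := by
    have : t * y = s - c • t := by
      simp only [y, x, Algebra.smul_def, mul_sub, mul_div_cancel₀ _ ht0]; ring
    rw [this]
    exact sub_mem hs (Submodule.smul_mem _ _ ht)
  have hval : ∀ Q, (E + div k y) Q = E Q + Q.ord y := fun Q => by
    rw [Finsupp.add_apply, div_apply hK.1]
  have hcases : ∀ Q, (E + div k y) Q = 0 ∨ ((E + div k y) Q = 1 ∧ E Q = 0) := by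
    intro Q
    rw [hval]
    by_cases hQ : Q ∈ E.support
    · left
      have hx0 := div_ne_zero hs0 ht0
      have h1 : 1 < Q.1 x := by
        rw [val_eq_exp_ord Q hx0, ← exp_zero, exp_lt_exp, hxE Q hQ]
        have := hEpos Q hQ; omega
      have h2 : Q.1 y = Q.1 x := Valuation.map_sub_eq_of_lt_left _ ((Q.2.1 c).trans_lt h1)
      have h3 : Q.ord y = Q.ord x := by simp only [Place.ord, h2]
      rw [h3, hxE Q hQ]; ring
    · rw [Finsupp.notMem_support_iff.1 hQ]
      have h0 : 0 ≤ Q.ord y := by
        have := ((mem_L_iff hK.1 (mul_ne_zero ht0 hy0)).1 hmem) Q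
        rw [hty, hval, Finsupp.notMem_support_iff.1 hQ] at this
        simpa using this
      rcases h0.eq_or_lt with h | h
      · left; omega
      · right
        have hlt := (val_lt_one_iff Q hy0).2 h
        rw [hgood c Q (fun hQB => hc (Set.mem_biUnion hQB hlt)) hlt]
        exact ⟨rfl, rfl⟩
  refine ⟨t * y, mul_ne_zero ht0 hy0, (mem_L_iff hK.1 (mul_ne_zero ht0 hy0)).1 hmem,
    fun P => by rw [hty]; rcases hcases P with h | ⟨h, -⟩ <;> omega, y⁻¹, ?_, fun P hP => ?_⟩
  · rw [← mul_mem_L_iff hK (mul_ne_zero ht0 hy0), mul_inv_cancel_right₀ hy0]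
    exact ht
  · rw [hty] at hP
    rcases hcases P with h | ⟨h, hE0⟩
    · exact absurd h (Finsupp.mem_support_iff.1 hP)
    · rw [hval, hE0, zero_add] at h
      rw [val_eq_exp_ord P (inv_ne_zero hy0), ord_inv, h]; norm_num

variable {C : Divisor k K} (hC : IsCanonical k K C)

/-- For a reduced effective canonical divisor the products fill up `L((m + 1)C)`. -/
theorem noether_reduced (hC : IsCanonical k K C) (hg : 3 ≤ genus k K)
    (hnh : ∀ E : Divisor k K, E.deg = 2 → ell E < 2) (h0 : 0 ≤ C) (h1 : ∀ P, C P ≤ 1)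
    {u₀ : K} (hu₀ : u₀ ∈ L C) (hu₀v : ∀ P ∈ C.support, P.1 u₀ = exp (1 : ℤ)) :
    ∀ m : ℕ, 1 ≤ m → L ((m + 1) • C) ≤ L C * L (m • C) := by
  classical
  let S := C.support
  have hS : ∀ P, P ∈ S → C P = 1 := fun P hP => by
    have := Finsupp.mem_support_iff.1 hP
    have := h0 P
    have := h1 P
    simp at *
    omega
  have hdC := deg_canonical hK hC
  have hlC := ell_canonical hK hC
  have hcard : (S.card : ℤ) = 2 * (genus k K : ℤ) - 2 := by
    rw [← hdC, Divisor.deg, Finsupp.sum, Finset.card_eq_sum_ones, Nat.cast_sum]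
    exact Finset.sum_congr rfl fun P hP => by rw [hS P hP, deg_eq_one hK P]; norm_num
  choose τ hτ using fun P : Place k K => exists_uniformizer P
  have hbd : ∀ (m : ℕ) (P : S) (f : L (m • C)), P.1.1 ((f : K) * τ P.1 ^ m) ≤ 1 := fun m P f => by
    rw [map_mul, map_pow, hτ]
    refine (mul_le_mul' (f.2 P.1) le_rfl).trans ?_
    rw [Finsupp.smul_apply, hS P.1 P.2, ← exp_nsmul, ← exp_add, ← exp_zero, exp_le_exp]
    simp
  choose ev hev using fun m P f => exists_residue hK P.1 (hbd m P f)
  have uniq : ∀ (P : Place k K) (z : K) (a b : k), P.1 (z - algebraMap k K a) < 1 →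
      P.1 (z - algebraMap k K b) < 1 → a = b := fun P z a b ha hb => by
    by_contra hab
    have h1 : P.1 (algebraMap k K (b - a)) < 1 := by
      rw [map_sub, show algebraMap k K b - algebraMap k K a =
        (z - algebraMap k K a) - (z - algebraMap k K b) by ring]
      exact (P.1.map_sub _ _).trans_lt (max_lt ha hb)
    have h2 := (val_lt_one_iff P ((map_ne_zero (algebraMap k K)).2 (sub_ne_zero.2 (Ne.symm hab)))).1 h1
    rw [ord_const] at h2
    exact lt_irrefl _ h2
  let evL : ∀ m : ℕ, L (m • C) →ₗ[k] (S → k) := fun m =>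
    { toFun := fun f P => ev m P f
      map_add' := fun f g => funext fun P => uniq P.1 _ _ _ (hev m P (f + g)) (by
        rw [Pi.add_apply, map_add, Submodule.coe_add, add_mul, add_sub_add_comm]
        exact (P.1.1.map_add _ _).trans_lt (max_lt (hev m P f) (hev m P g)))
      map_smul' := fun a f => funext fun P => uniq P.1 _ _ _ (hev m P (a • f)) (by
        rw [RingHom.id_apply, Pi.smul_apply, smul_eq_mul, map_mul, Submodule.coe_smul, Algebra.smul_def,
          mul_assoc, ← mul_sub, map_mul]
        exact (mul_le_mul' (P.1.2.1 a) le_rfl).trans_lt (by rw [one_mul]; exact hev m P f)) }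
  have evmul : ∀ (a b : ℕ) (f : L (a • C)) (g : L (b • C)) (h : L ((a + b) • C)),
      (h : K) = (f : K) * g → evL (a + b) h = evL a f * evL b g := fun a b f g h he => funext fun P =>
    uniq P.1 _ _ _ (hev (a + b) P h) (by
      show P.1.1 ((h : K) * τ P.1 ^ (a + b) - algebraMap k K (ev a P f * ev b P g)) < 1
      rw [he, map_mul, show (f : K) * g * τ P.1 ^ (a + b) - algebraMap k K (ev a P f) * algebraMap k K (ev b P g) =
        ((f : K) * τ P.1 ^ a - algebraMap k K (ev a P f)) * ((g : K) * τ P.1 ^ b) +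
        algebraMap k K (ev a P f) * ((g : K) * τ P.1 ^ b - algebraMap k K (ev b P g)) by ring]
      refine (P.1.1.map_add _ _).trans_lt (max_lt ?_ ?_)
      · rw [map_mul]; exact (mul_le_mul' le_rfl (hbd b P g)).trans_lt (by rw [mul_one]; exact hev a P f)
      · rw [map_mul]; exact (mul_le_mul' (P.1.2.1 _) le_rfl).trans_lt (by rw [one_mul]; exact hev b P g))
  -- vanishing of coordinates
  have hker : ∀ (m : ℕ) (T : Finset S) (f : L (m • C)),
      (∀ P ∈ T, evL m f P = 0) ↔ (f : K) ∈ L (m • C - ∑ P ∈ T, Finsupp.single P.1 1) := by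
    intro m T f
    have hco : ∀ Q, (∑ P ∈ T, Finsupp.single (P : Place k K) (1 : ℤ)) Q =
        if Q ∈ T.map (Function.Embedding.subtype _) then 1 else 0 := fun Q => by
      rw [Finsupp.finsetSum_apply]
      split_ifs with hQ
      · obtain ⟨P, hP, rfl⟩ := Finset.mem_map.1 hQ
        show ∑ i ∈ T, (Finsupp.single (i : Place k K) (1 : ℤ)) (P : Place k K) = 1
        rw [Finset.sum_eq_single P (fun R _ hR => Finsupp.single_eq_of_ne (fun e => hR (Subtype.ext e.symm)))
          (fun h => absurd hP h)]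
        exact Finsupp.single_eq_same
      · exact Finset.sum_eq_zero fun R hR => Finsupp.single_eq_of_ne fun e =>
          hQ (Finset.mem_map.2 ⟨R, hR, e.symm⟩)
    have hdrop : ∀ P : S, evL m f P = 0 ↔ P.1.1 (f : K) ≤ exp ((m • C) P.1 - 1) := by
      intro P
      rw [Finsupp.smul_apply, hS P.1 P.2]
      constructor
      · intro hz
        have h2 := hev m P f
        rw [show ev m P f = 0 from hz, map_zero, sub_zero, map_mul, map_pow, hτ] at h2
        rcases eq_or_ne (f : K) 0 with e | e
        · rw [e, map_zero]; exact zero_le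
        rw [val_eq_exp_ord P.1 e, ← exp_nsmul, ← exp_add, ← exp_zero, exp_lt_exp] at h2
        rw [val_eq_exp_ord P.1 e, exp_le_exp]
        simp at h2 ⊢
        omega
      · intro hz
        refine uniq P.1 _ _ _ (hev m P f) ?_
        rw [map_zero, sub_zero, map_mul, map_pow, hτ]
        refine (mul_le_mul' hz le_rfl).trans_lt ?_
        rw [← exp_nsmul, ← exp_add, ← exp_zero, exp_lt_exp]
        simp
    constructor
    · intro h Q
      rw [Finsupp.sub_apply, hco]
      split_ifs with hQ
      · obtain ⟨P, hP, rfl⟩ := Finset.mem_map.1 hQ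
        exact (hdrop P).1 (h P hP)
      · rw [sub_zero]; exact f.2 Q
    · intro h P hP
      refine (hdrop P).2 ?_
      have := h P.1
      rw [Finsupp.sub_apply, hco, if_pos (show (P : Place k K) ∈ T.map (Function.Embedding.subtype _) from Finset.mem_map.2 ⟨P, hP, rfl⟩)] at this
      exact this
  have hsum : ∑ P ∈ (Finset.univ : Finset S), Finsupp.single (P : Place k K) (1 : ℤ) = C := by
    rw [Finset.sum_coe_sort S (fun P => Finsupp.single P (1 : ℤ))]
    conv_rhs => rw [← C.sum_single]
    exact Finset.sum_congr rfl fun P hP => by rw [hS P hP]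
  have hfin : ∀ D : Divisor k K, FiniteDimensional k (L D) := fun D => finiteDimensional_L hK.1 D
  have hrank : ∀ m : ℕ, Module.finrank k (LinearMap.range (evL m)) + ell (m • C - C) = ell (m • C) := by
    intro m
    haveI := hfin (m • C)
    have e : LinearMap.ker (evL m) = (L (m • C - C)).comap (L (m • C)).subtype := by
      ext f
      rw [LinearMap.mem_ker, Submodule.mem_comap]
      have := hker m Finset.univ f
      rw [hsum] at this
      exact ⟨fun h => this.1 fun P _ => by rw [h]; rfl, fun h => funext fun P => this.2 h P (Finset.mem_univ _)⟩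
    have := LinearMap.finrank_range_add_finrank_ker (evL m)
    rw [e, (Submodule.comapSubtypeEquivOfLe (L_mono (sub_le_self _ h0))).finrank_eq] at this
    exact this
  set U := LinearMap.range (evL 1)
  have hCl : ∀ T : Finset S, T.Nonempty → T ≠ Finset.univ →
      T.card < 2 * Module.finrank k (U.map (res T)) := by
    intro T hT hTu
    haveI := hfin (1 • C)
    set F : Divisor k K := ∑ P ∈ T, Finsupp.single (P : Place k K) 1
    have hFd : F.deg = T.card := by
      simp only [F]
      rw [show Divisor.deg (∑ P ∈ T, Finsupp.single (P : Place k K) (1 : ℤ)) =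
          ∑ P ∈ T, Divisor.deg (Finsupp.single (P : Place k K) (1 : ℤ) : Divisor k K) from
          map_sum (AddMonoidHom.mk' (Divisor.deg (k := k) (K := K)) deg_add) _ _]
      simp [deg_single, deg_eq_one hK]
    have hFle : F ≤ 1 • C := by
      rw [one_smul, ← hsum]
      exact Finset.sum_le_sum_of_subset_of_nonneg (Finset.subset_univ T)
        fun P _ _ => Finsupp.single_nonneg.2 zero_le_one
    have hTlt : T.card < S.card := by
      rw [← Fintype.card_coe S]
      exact Finset.card_lt_univ_of_notMem (Classical.not_forall.1 (fun h => hTu (Finset.eq_univ_iff_forall.2 h))).choose_spec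
    have e : LinearMap.ker ((res T).comp (evL 1)) = (L (1 • C - F)).comap (L (1 • C)).subtype := by
      ext f
      rw [LinearMap.mem_ker, Submodule.mem_comap]
      refine ⟨fun h => (hker 1 T f).1 fun P hP => congrFun h ⟨P, hP⟩, fun h => funext fun P => ?_⟩
      exact (hker 1 T f).2 h P.1 P.2
    have hr := LinearMap.finrank_range_add_finrank_ker ((res T).comp (evL 1))
    rw [e, (Submodule.comapSubtypeEquivOfLe (L_mono (sub_le_self _ (by
      exact Finset.sum_nonneg fun P _ => Finsupp.single_nonneg.2 zero_le_one)))).finrank_eq,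
      LinearMap.range_comp] at hr
    change Module.finrank k (U.map (res T)) + ell (1 • C - F) = ell (1 • C) at hr
    rw [one_smul, hlC] at hr
    have hdd : (C - F).deg = 2 * (genus k K : ℤ) - 2 - T.card := by rw [deg_sub, hdC, hFd]
    have hTpos : 0 < T.card := hT.card_pos
    have hF1 : 1 ≤ ell F := by
      rw [← ell_zero hK]
      exact (relDim_L_ell hK.1 (Finset.sum_nonneg fun P _ => Finsupp.single_nonneg.2 zero_le_one)).1
    have hrr := riemann_roch hK hC F
    rcases (show ell (C - F) ≤ 1 ∨ 2 ≤ ell (C - F) by omega) with h | h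
    · omega
    rcases (show ell F = 1 ∨ 2 ≤ ell F by omega) with h' | h'
    · omega
    · have := index_one hK hC hnh (C - F) h (by rw [sub_sub_cancel]; exact h')
      omega
  haveI : Nonempty S := by
    rw [← Fintype.card_pos_iff, Fintype.card_coe]; omega
  have hcardS : Fintype.card S = S.card := Fintype.card_coe S
  have hfull := full_sq U hCl
  have hmemU : ∀ {m : ℕ} (f : L (m • C)) (u : L (1 • C)),
      evL 1 u * evL m f ∈ LinearMap.range (evL (1 + m)) := fun {m} f u => by
    refine ⟨⟨(u : K) * f, fun P => ?_⟩, evmul 1 m u f _ rfl⟩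
    rw [map_mul, add_smul, Finsupp.add_apply, exp_add]
    exact mul_le_mul' (u.2 P) (f.2 P)
  have hPle : ∀ m : ℕ, prodSpan U (LinearMap.range (evL m)) ≤ LinearMap.range (evL (1 + m)) := by
    intro m
    refine Submodule.span_le.2 ?_
    rintro _ ⟨_, ⟨u, rfl⟩, _, ⟨f, rfl⟩, rfl⟩
    exact hmemU f u
  let w₀ : L (1 • C) := ⟨u₀, by rw [one_smul]; exact hu₀⟩
  have hw₀ : ∀ P, evL 1 w₀ P ≠ 0 := fun P hz => by
    have := (hker 1 {P} w₀).1 (fun Q hQ => by rw [Finset.mem_singleton.1 hQ]; exact hz) P.1
    rw [Finsupp.sub_apply, Finset.sum_singleton, Finsupp.single_eq_same, Finsupp.smul_apply, hS P.1 P.2] at this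
    rw [show ((w₀ : K)) = u₀ from rfl, hu₀v P.1 P.2, exp_le_exp] at this
    simp at this
  have hU2 : 2 ≤ Module.finrank k U := by
    have := hrank 1
    have e1 : ell (1 • C) = genus k K := by rw [one_smul, hlC]
    have e0 : ell (1 • C - C) = 1 := by rw [one_smul, sub_self, ell_zero hK]
    change Module.finrank k (LinearMap.range (evL 1)) ≥ 2
    omega
  have hsurj : ∀ m : ℕ, 1 ≤ m → LinearMap.range (evL (1 + m)) ≤ prodSpan U (LinearMap.range (evL m)) ∧
      Full (LinearMap.range (evL (1 + m))) := by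
    intro m hm
    induction m, hm using Nat.le_induction with
    | base =>
      have hr2 := hrank (1 + 1)
      rw [show (1 + 1 : ℕ) • C - C = C by rw [add_smul, one_smul]; abel, hlC] at hr2
      have hl2 := ell_eq_of_deg_ge hK (D := (1 + 1 : ℕ) • C) (by
        rw [add_smul, one_smul, deg_add, hdC]; omega)
      rw [show ((1 + 1 : ℕ) • C).deg = C.deg + C.deg by rw [add_smul, one_smul, deg_add], hdC] at hl2
      have h3 : Fintype.card S ≤ Module.finrank k (prodSpan U U) + 1 := hfull.card_le_finrank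
      have h4 : Module.finrank k (LinearMap.range (evL (1 + 1))) ≤ Module.finrank k (prodSpan U U) := by omega
      exact ⟨(Submodule.eq_of_le_of_finrank_le (hPle 1) h4).ge, hfull.mono (hPle 1)⟩
    | succ m hm ih =>
      have htop := prod_eq_top (H := LinearMap.range (evL (m + 1))) (U := U)
        (by rw [add_comm m 1]; exact ih.2) _ ⟨w₀, rfl⟩ hw₀ hU2
      exact ⟨by rw [htop]; exact le_top, full_of_eq_top (eq_top_iff.2 (htop ▸ hPle (m + 1)))⟩
  intro m hm f hf
  have hone : (1 : K) ∈ L C := fun P => by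
    rw [map_one, ← exp_zero, exp_le_exp]; exact h0 P
  have key : ∀ v ∈ prodSpan U (LinearMap.range (evL m)), ∃ w : L ((1 + m) • C),
      (w : K) ∈ L C * L (m • C) ∧ evL (1 + m) w = v := by
    intro v hv
    induction hv using Submodule.span_induction with
    | mem v hv =>
      obtain ⟨_, ⟨u, rfl⟩, _, ⟨g, rfl⟩, rfl⟩ := hv
      refine ⟨⟨(u : K) * g, fun P => ?_⟩, Submodule.mul_mem_mul (L_mono (one_smul ℕ C).le u.2) g.2, evmul 1 m u g _ rfl⟩
      rw [map_mul, add_smul, Finsupp.add_apply, exp_add]
      exact mul_le_mul' (u.2 P) (g.2 P)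
    | zero => exact ⟨0, zero_mem _, map_zero _⟩
    | add a b _ _ ha hb =>
      obtain ⟨w, hw, rfl⟩ := ha
      obtain ⟨w', hw', rfl⟩ := hb
      exact ⟨w + w', add_mem hw hw', map_add _ _ _⟩
    | smul c a _ ha =>
      obtain ⟨w, hw, rfl⟩ := ha
      exact ⟨c • w, Submodule.smul_mem _ c hw, map_smul _ _ _⟩
  let F : L ((1 + m) • C) := ⟨f, by rw [add_comm]; exact hf⟩
  obtain ⟨w, hw, hwF⟩ := key _ ((hsurj m hm).1 ⟨F, rfl⟩)
  have hd : ((F - w : L ((1 + m) • C)) : K) ∈ L ((1 + m) • C - C) := by
    have := (hker (1 + m) Finset.univ (F - w)).1 fun P _ => by rw [map_sub, hwF, sub_self]; rfl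
    rwa [hsum] at this
  rw [show (1 + m) • C - C = m • C by rw [add_smul, one_smul]; abel] at hd
  have := add_mem (Submodule.mul_mem_mul hone hd) hw
  simpa [F] using this

/-- **Max Noether**: `L((m+1)C) = L(C) L(mC)` on a nonhyperelliptic function field. -/
theorem noether (hC : IsCanonical k K C) (hg : 3 ≤ genus k K)
    (hnh : ∀ E : Divisor k K, E.deg = 2 → ell E < 2) (m : ℕ) :
    L ((m + 1) • C) ≤ L C * L (m • C) := by
  rcases Nat.eq_zero_or_pos m with rfl | hm
  · intro f hf
    rw [zero_smul, zero_add, one_smul] at *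
    simpa using Submodule.mul_mem_mul hf (L_zero_le_of_const (K := K) (1 : k))
  have hdC := deg_canonical hK hC
  obtain ⟨s, hs, h0, h1, u, hu, huv⟩ := exists_reduced hK (D := C) (by omega) fun P => by
    have hlC := ell_canonical hK hC
    have hrr := riemann_roch hK hC (Finsupp.single P 1)
    have hP1 : ell (Finsupp.single P 1 : Divisor k K) ≤ 1 := by
      have hdP : Divisor.deg (Finsupp.single P 1 : Divisor k K) = 1 := by
        rw [deg_single, deg_eq_one hK P]; norm_num
      have := clifford hK (deg_eq_one hK P) (D := Finsupp.single P 1) (by omega) (by omega)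
      omega
    rw [deg_single, deg_eq_one hK P] at hrr
    omega
  set C' := C + div k s
  have hC' : IsCanonical k K C' := by
    obtain ⟨ω, hω0, hω⟩ := hC
    exact ⟨_, fun e => hs (mulWHom_injective hK hω0 (show mulWHom hK ω s = mulWHom hK ω 0 by rw [map_zero]; exact e)),
      isDivOf_mulW hK hs (mul_mem_adele hK.1 s) hω⟩
  have key := noether_reduced hK hC' hg hnh h0 h1 hu huv m hm
  intro f hf
  have hsm : ∀ n : ℕ, div k (s ^ n) = n • div k s := fun n => FFEmb.Map.div_pow hK s n
  have hf' : f / s ^ (m + 1) ∈ L ((m + 1) • C') := by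
    rw [show (m + 1) • C' = (m + 1) • C + div k (s ^ (m + 1)) by rw [hsm, smul_add],
      ← mul_mem_L_iff hK (pow_ne_zero _ hs), mul_div_cancel₀ _ (pow_ne_zero _ hs)]
    exact hf
  have h2 : ∀ z ∈ L C' * L (m • C'), s ^ (m + 1) * z ∈ L C * L (m • C) := by
    intro z hz
    induction hz using Submodule.mul_induction_on' with
    | mem_mul_mem a ha b hb =>
      rw [show s ^ (m + 1) * (a * b) = (s * a) * (s ^ m * b) by ring]
      refine Submodule.mul_mem_mul ((mul_mem_L_iff hK hs a).2 ha) ((mul_mem_L_iff hK (pow_ne_zero _ hs) b).2 ?_)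
      rwa [hsm, ← smul_add]
    | add a _ b _ ha hb => rw [mul_add]; exact add_mem ha hb
  simpa [mul_div_cancel₀ _ (pow_ne_zero (m + 1) hs)] using h2 _ (key hf')

end Groth.Agent.FF
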