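import Mathlib

/-! Linear algebra of coordinatewise products of subspaces of `ι → k`. -/

set_option autoImplicit false

namespace Groth.Agent.FFCurve.NoetherLin

variable {k : Type*} [Field k] {ι : Type*} [Fintype ι] [DecidableEq ι]

/-- The span of the coordinatewise products. -/
def prodSpan (U H : Submodule k (ι → k)) : Submodule k (ι → k) :=
  Submodule.span k {v | ∃ u ∈ U, ∃ h ∈ H, v = u * h}

lemma mul_mem_prodSpan {U H : Submodule k (ι → k)} {u h : ι → k} (hu : u ∈ U) (hh : h ∈ H) :
    u * h ∈ prodSpan U H := Submodule.subset_span ⟨u, hu, h, hh, rfl⟩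

/-- Every nonzero functional killing `V` has no zero coefficient. -/
def Full (V : Submodule k (ι → k)) : Prop :=
  ∀ φ ∈ V.dualAnnihilator, φ ≠ 0 → ∀ i, φ (Pi.single i 1) ≠ 0

lemma apply_eq_sum (φ : Module.Dual k (ι → k)) (v : ι → k) : φ v = ∑ i, v i * φ (Pi.single i 1) := by
  conv_lhs => rw [pi_eq_sum_univ' v, map_sum]
  exact Finset.sum_congr rfl fun i _ => by rw [map_smul, smul_eq_mul]

lemma ext_coeff {φ ψ : Module.Dual k (ι → k)} (h : ∀ i, φ (Pi.single i 1) = ψ (Pi.single i 1)) :
    φ = ψ := LinearMap.ext fun v => by rw [apply_eq_sum, apply_eq_sum ψ]; simp [h]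

lemma Full.mono {V W : Submodule k (ι → k)} (hV : Full V) (h : V ≤ W) : Full W :=
  fun φ hφ => hV φ (Submodule.dualAnnihilator_anti h hφ)

lemma full_of_eq_top {V : Submodule k (ι → k)} (h : V = ⊤) : Full V := fun φ hφ hne => by
  subst h; exact absurd (by simpa using hφ) hne

lemma Full.exists_gen [Nonempty ι] {V : Submodule k (ι → k)} (hV : Full V) :
    ∃ ψ : Module.Dual k (ι → k), V.dualAnnihilator ≤ Submodule.span k {ψ} := by
  obtain ⟨i⟩ := (inferInstance : Nonempty ι)
  by_cases h : V.dualAnnihilator = ⊥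
  · exact ⟨0, by rw [h]; exact bot_le⟩
  obtain ⟨ψ, hψ, hψ0⟩ := Submodule.exists_mem_ne_zero_of_ne_bot h
  refine ⟨ψ, fun φ hφ => ?_⟩
  have hz : φ (Pi.single i 1) • ψ - ψ (Pi.single i 1) • φ = 0 := by
    by_contra hne
    exact hV _ (sub_mem (Submodule.smul_mem _ _ hψ) (Submodule.smul_mem _ _ hφ)) hne i
      (by simp [mul_comm])
  rw [sub_eq_zero] at hz
  rw [Submodule.mem_span_singleton]
  exact ⟨(ψ (Pi.single i 1))⁻¹ * φ (Pi.single i 1), by
    rw [mul_smul, hz, smul_smul, inv_mul_cancel₀ (hV ψ hψ hψ0 i), one_smul]⟩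

lemma Full.card_le_finrank [Nonempty ι] {V : Submodule k (ι → k)} (hV : Full V) :
    Fintype.card ι ≤ Module.finrank k V + 1 := by
  obtain ⟨ψ, hψ⟩ := hV.exists_gen
  have h1 := Subspace.finrank_add_finrank_dualAnnihilator_eq V
  have h2 := Submodule.finrank_mono hψ
  have h3 : Module.finrank k (Submodule.span k ({ψ} : Set (Module.Dual k (ι → k)))) ≤ 1 :=
    (finrank_span_le_card _).trans (by simp)
  rw [Module.finrank_pi] at h1
  omega

lemma mul_single_one (u : ι → k) (i : ι) : u * Pi.single i 1 = u i • Pi.single i (1 : k) := by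
  ext j
  rcases eq_or_ne j i with rfl | hj
  · simp
  · simp [Pi.single_eq_of_ne hj]

/-- The restriction to a set of coordinates. -/
abbrev res (T : Finset ι) : (ι → k) →ₗ[k] (T → k) := LinearMap.funLeft k k (Subtype.val : T → ι)

/-- A totally isotropic subspace of a nondegenerate diagonal form has at most half the dimension. -/
lemma two_mul_finrank_le (U : Submodule k (ι → k)) (c : ι → k)
    (h : ∀ u ∈ U, ∀ v ∈ U, ∑ i, (u i * v i) * c i = 0) (T : Finset ι) (hT : ∀ i, i ∈ T ↔ c i ≠ 0) :
    2 * Module.finrank k (U.map (res T)) ≤ T.card := by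
  classical
  let U' := U.map (res T)
  let B : (T → k) →ₗ[k] Module.Dual k (T → k) :=
    { toFun := fun u => ∑ i : T, (c i * u i) • LinearMap.proj i
      map_add' := fun u v => by simp [mul_add, add_smul, Finset.sum_add_distrib]
      map_smul' := fun a u => by
        simp only [Pi.smul_apply, smul_eq_mul, RingHom.id_apply, Finset.smul_sum, smul_smul]
        exact Finset.sum_congr rfl fun i _ => by rw [mul_left_comm] }
  have hB : ∀ u v, B u v = ∑ i : T, c i * u i * v i := fun u v => by
    simp [B, LinearMap.sum_apply]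
  have hinj : Function.Injective B := by
    refine (injective_iff_map_eq_zero B).2 fun u hu => funext fun i => ?_
    have h1 := congrArg (fun f : Module.Dual k (T → k) => f (Pi.single i 1)) hu
    simp only [hB, LinearMap.zero_apply] at h1
    rw [Finset.sum_eq_single i (fun j _ hj => by simp [hj]) (by simp)] at h1
    simpa [(hT i.1).1 i.2] using h1
  have hle : U'.map B ≤ U'.dualAnnihilator := by
    rintro _ ⟨_, ⟨u, hu, rfl⟩, rfl⟩
    rw [Submodule.mem_dualAnnihilator]
    rintro _ ⟨v, hv, rfl⟩
    rw [hB]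
    refine Eq.trans ?_ (h u hu v hv)
    rw [← Finset.sum_subset (Finset.subset_univ T) (fun i _ hi => by
      simp [not_not.1 (fun hc => hi ((hT i).2 hc))]), ← Finset.sum_coe_sort T]
    exact Finset.sum_congr rfl fun i _ => by simp [LinearMap.funLeft_apply]; ring
  have h1 := Subspace.finrank_add_finrank_dualAnnihilator_eq U'
  have h2 := Submodule.finrank_mono hle
  rw [← (Submodule.equivMapOfInjective B hinj U').finrank_eq] at h2
  rw [Module.finrank_pi, Fintype.card_coe] at h1
  change 2 * Module.finrank k U' ≤ T.card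
  omega

/-- Strict Clifford gives full annihilators of the squares. -/
lemma full_sq (U : Submodule k (ι → k))
    (hU : ∀ T : Finset ι, T.Nonempty → T ≠ Finset.univ → T.card < 2 * Module.finrank k (U.map (res T))) :
    Full (prodSpan U U) := by
  classical
  intro φ hφ hne i hi
  let T := Finset.univ.filter fun j => φ (Pi.single j 1) ≠ 0
  have hiso := two_mul_finrank_le U (fun j => φ (Pi.single j 1)) (fun u hu v hv => by
    have h0 := (Submodule.mem_dualAnnihilator φ).1 hφ _ (mul_mem_prodSpan hu hv)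
    rw [apply_eq_sum] at h0
    simpa using h0) T (fun j => by simp [T])
  have hTne : T.Nonempty := by
    by_contra hT
    refine hne (ext_coeff fun j => ?_)
    by_contra hj
    exact hT ⟨j, by simpa [T] using hj⟩
  have := hU T hTne (fun e => by
    have : i ∈ T := e ▸ Finset.mem_univ i
    simp [T, hi] at this)
  omega

/-- A full space times a base point free space of dimension two or more is everything. -/
lemma prod_eq_top [Nonempty ι] {U H : Submodule k (ι → k)} (hH : Full H) (u₀ : ι → k) (hu₀ : u₀ ∈ U)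
    (hne : ∀ i, u₀ i ≠ 0) (hdim : 2 ≤ Module.finrank k U) : prodSpan U H = ⊤ := by
  rw [← Subspace.dualAnnihilator_inj, Submodule.dualAnnihilator_top, eq_bot_iff]
  intro φ hφ
  rw [Submodule.mem_bot]
  obtain ⟨ψ, hψ⟩ := hH.exists_gen
  set c : ι → k := fun i => φ (Pi.single i 1)
  have key : ∀ u ∈ U, ∃ μ : k, ∀ i, c i * u i = μ * ψ (Pi.single i 1) := by
    intro u hu
    obtain ⟨μ, hμ⟩ := Submodule.mem_span_singleton.1 (hψ (show φ.comp (LinearMap.mulLeft k u) ∈ H.dualAnnihilator by
      rw [Submodule.mem_dualAnnihilator]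
      exact fun h hh => (Submodule.mem_dualAnnihilator φ).1 hφ _ (mul_mem_prodSpan hu hh)))
    refine ⟨μ, fun i => ?_⟩
    have h1 := congrArg (fun f : Module.Dual k (ι → k) => f (Pi.single i 1)) hμ
    simp only [LinearMap.smul_apply, smul_eq_mul, LinearMap.comp_apply, LinearMap.mulLeft_apply] at h1
    rw [h1, mul_single_one, map_smul, smul_eq_mul, mul_comm]
  obtain ⟨μ₀, h₀⟩ := key u₀ hu₀
  by_contra hφ0
  have hc : ∃ i, c i ≠ 0 := by
    by_contra! hc
    exact hφ0 (ext_coeff fun i => by simpa using hc i)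
  obtain ⟨i₀, hi₀⟩ := hc
  have hμ₀ : μ₀ ≠ 0 := fun e => by
    have := h₀ i₀
    rw [e, zero_mul] at this
    exact (mul_ne_zero hi₀ (hne i₀)) this
  by_cases hψ0 : ∀ i, ψ (Pi.single i 1) = 0
  · have := h₀ i₀
    rw [hψ0, mul_zero] at this
    exact (mul_ne_zero hi₀ (hne i₀)) this
  have hsub : U ≤ Submodule.span k {u₀} := by
    intro u hu
    obtain ⟨μ, hμ⟩ := key u hu
    refine Submodule.mem_span_singleton.2 ⟨μ / μ₀, funext fun i => ?_⟩
    have hcall : ∀ i, c i ≠ 0 := fun i hci => by
      have := h₀ i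
      rw [hci, zero_mul] at this
      have hψi : ψ (Pi.single i 1) = 0 := (mul_eq_zero.1 this.symm).resolve_left hμ₀
      obtain ⟨χ, hχ, hχi⟩ : ∃ χ ∈ H.dualAnnihilator, χ ≠ 0 := by
        refine ⟨φ.comp (LinearMap.mulLeft k u₀), ?_, ?_⟩
        · rw [Submodule.mem_dualAnnihilator]
          exact fun h hh => (Submodule.mem_dualAnnihilator φ).1 hφ _ (mul_mem_prodSpan hu₀ hh)
        · intro e
          have h1 := congrArg (fun f : Module.Dual k (ι → k) => f (Pi.single i₀ 1)) e
          simp only [LinearMap.comp_apply, LinearMap.mulLeft_apply, LinearMap.zero_apply] at h1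
          rw [mul_single_one, map_smul, smul_eq_mul] at h1
          exact (mul_ne_zero (hne i₀) hi₀) h1
      obtain ⟨a, ha⟩ := Submodule.mem_span_singleton.1 (hψ hχ)
      exact hH χ hχ hχi i (by rw [← ha, LinearMap.smul_apply, hψi, smul_zero])
    have h1 := hμ i
    have h2 := h₀ i
    simp only [Pi.smul_apply, smul_eq_mul]
    apply mul_left_cancel₀ (hcall i)
    rw [h1, mul_left_comm, h2]
    field_simp
  have h1 := Submodule.finrank_mono hsub
  have h2 : Module.finrank k (Submodule.span k ({u₀} : Set (ι → k))) ≤ 1 :=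
    (finrank_span_le_card _).trans (by simp)
  omega

end Groth.Agent.FFCurve.NoetherLin
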