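import Groth.Agent.ProjTwist.Pn.H0
import Groth.Agent.Omega.Lift
import Groth.Agent.ShStabLib.BC.Sys
import Groth.Agent.PlanePts.Forms
import Groth.Agent.ProperFin.FinEx
import Groth.Agent.HurwitzLib.Formula

/-!
# Nondegenerate maps to projective space
-/

set_option autoImplicit false
set_option linter.style.haveILetI false
set_option backward.isDefEq.respectTransparency false
set_option backward.isDefEq.respectTransparency.types false

universe u

open CategoryTheory AlgebraicGeometry TopologicalSpace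

noncomputable section

namespace Groth.Agent.FFCurve

/-- Nondegeneracy passes to a map through which the given one factors. -/
lemma pullSect_ne_zero_of_comp {X Y Z : Scheme.{u}} (f : X ⟶ Y) (g : Y ⟶ Z) (M : Z.Modules)
    (m : Γ(M, ⊤)) (h : OmegaSh.pullSect (f ≫ g) M ⊤ m ≠ 0) : OmegaSh.pullSect g M ⊤ m ≠ 0 := fun h0 => by
  have key := Omega.Lift.pullbackComp_inv_pullSect (h := g) f (Ω := M) ⊤ m
  rw [h0, map_zero] at key
  have h1 := congrArg (((Scheme.Modules.pullbackComp f g).hom.app M).app ((f ≫ g) ⁻¹ᵁ ⊤)) key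
  rw [← ConcreteCategory.comp_apply, ← Scheme.Modules.Hom.comp_app, ← NatTrans.comp_app,
    Iso.inv_hom_id] at h1
  exact h (h1.trans (map_zero _))

/-- A nondegenerate map to `P^r` gives a line bundle with `r + 1` independent sections. -/
theorem succ_le_h0_pullback (k : Type u) [Field k] {r : ℕ} {X : Scheme.{u}} [X.Over (Spec (CommRingCat.of k))]
    (g : X ⟶ CohB1.ProjSpace r k) (hg : g ≫ CohB1.ProjSpace.toSpec r k = X ↘ Spec (CommRingCat.of k))
    [Module.Finite k (Coh.HH X ((Scheme.Modules.pullback g).obj (Twist.twistProjSpace r k 1)) 0)]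
    (h : ∀ s : Γ(Twist.twistProjSpace r k 1, (⊤ : (CohB1.ProjSpace r k).Opens)), s ≠ 0 →
      OmegaSh.pullSect g (Twist.twistProjSpace r k 1) ⊤ s ≠ 0) :
    r + 1 ≤ Module.finrank k (Coh.HH X ((Scheme.Modules.pullback g).obj (Twist.twistProjSpace r k 1)) 0) := by
  letI : (CohB1.ProjSpace r k).Over (Spec (CommRingCat.of k)) := ⟨CohB1.ProjSpace.toSpec r k⟩
  set M := Twist.twistProjSpace r k (1 : ℤ) with hM
  set L := (Scheme.Modules.pullback g).obj M with hL
  letI : Module k Γ(M, ⊤) := Module.compHom _ (KSMod.kTop k ((CohB1.ProjSpace r k) ↘ Spec (CommRingCat.of k)))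
  letI : Module k Γ(L, ⊤) := Module.compHom _ (KSMod.kTop k (X ↘ Spec (CommRingCat.of k)))
  let φ : Γ(M, ⊤) →ₗ[k] Γ(L, ⊤) :=
    { toFun := fun m => OmegaSh.pullSect g M ⊤ m
      map_add' := fun a b => map_add _ a b
      map_smul' := fun c m => by
        refine (OmegaSh.pullSect_smul g M ⊤ _ m).trans ?_
        rw [RingHom.id_apply]
        exact congrArg (fun t => t • OmegaSh.pullSect g M ⊤ m) (ProperFin.toGlobal_comp g hg c) }
  have hinj : Function.Injective φ := (injective_iff_map_eq_zero φ).2 fun m hm => by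
    by_contra hne
    exact h m hne hm
  let ψ : Coh.HH (CohB1.ProjSpace r k) M 0 →ₗ[k] Coh.HH X L 0 :=
    (ShStabLib.BC.h0Equiv (k := k) L).symm.toLinearMap.comp
      (φ.comp (ShStabLib.BC.h0Equiv (k := k) M).toLinearMap)
  have hψ : Function.Injective ψ :=
    (ShStabLib.BC.h0Equiv (k := k) L).symm.injective.comp
      (hinj.comp (ShStabLib.BC.h0Equiv (k := k) M).injective)
  have := LinearMap.finrank_le_finrank_of_injective hψ
  have e := (ProjTwist.Pn.h0Equiv r k 1).finrank_eq
  rw [PlanePts.finrank_forms, Nat.choose_succ_self_right] at e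
  exact e.trans_le this

end Groth.Agent.FFCurve
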