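import Groth.Agent.FFCurve.NormalEuler
import Groth.Agent.RedNorm.Delta
import Groth.Prelude.Def_Brnch
import Groth.Agent.BirLib.Basic
import Groth.Agent.EulerChar.PointCount
import Groth.Agent.AbVarLib.H0Field
import Groth.Agent.Props.Components
import Groth.Agent.GITLib.RigidGroup
import Groth.Agent.VBLib.RR
import Groth.Agent.S10961

/-!
# Branches and global functions of the normalization of a reduced curve
-/

set_option autoImplicit false
set_option linter.style.haveILetI false
set_option backward.isDefEq.respectTransparency false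
set_option backward.isDefEq.respectTransparency.types false

universe u

open CategoryTheory CategoryTheory.Limits AlgebraicGeometry TopologicalSpace Opposite
open Groth.Agent.PullStalk.Sky Groth.Agent.PullStalk.Exact Groth.Agent.Props.GenLocus

noncomputable section

namespace Groth.Agent.FFCurve.NormalCount

/-- There is at least one branch. -/
theorem one_le_numBranches (A : Type u) [CommRing A] [IsLocalRing A] : 1 ≤ Brnch.numBranches A := by
  haveI := RedNorm.isLocalRing_red A
  haveI : Nontrivial (CAlg2.normRed A) := inferInstance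
  obtain ⟨M, hM⟩ := Ideal.exists_maximal (CAlg2.normRed A)
  haveI : Nonempty (MaximalSpectrum (CAlg2.normRed A)) := ⟨⟨M, hM⟩⟩
  unfold Brnch.numBranches
  split_ifs with h
  · exact Order.one_le_iff_pos.mpr ENat.card_pos
  · exact le_top

/-- The number of branches is at most `δ + 1`. -/
theorem numBranches_le (A : Type u) [CommRing A] [IsLocalRing A] [IsNoetherianRing A] [IsReduced A] :
    Brnch.numBranches A ≤ Curv2.deltaInv A + 1 := by
  classical
  rw [RedNorm.deltaInv_congr (RingEquiv.ofBijective (Ideal.Quotient.mk (nilradical A)) ⟨fun a b h => by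
      have := Ideal.Quotient.eq.mp h
      rw [nilradical_eq_zero] at this
      exact sub_eq_zero.mp this, Ideal.Quotient.mk_surjective⟩)]
  haveI := RedNorm.isLocalRing_red A
  have hle := fun S => RedNorm.sum_length_quotient_le (R := CAlg2.red A) (N := CAlg2.normRed A) S
  have hpos : ∀ m : MaximalSpectrum (CAlg2.normRed A),
      1 ≤ Module.length (CAlg2.red A) (CAlg2.normRed A ⧸ m.asIdeal) := fun m => by
    haveI := Ideal.Quotient.nontrivial_iff.mpr m.isMaximal.ne_top
    exact Order.one_le_iff_pos.mpr Module.length_pos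
  have hS : ∀ S : Finset (MaximalSpectrum (CAlg2.normRed A)),
      ((S.card : ℕ) : ℕ∞) ≤ Curv2.deltaInv (CAlg2.red A) + 1 := fun S =>
    le_trans (by simpa using Finset.sum_le_sum (s := S) fun m _ => hpos m) (hle S)
  unfold Brnch.numBranches
  rw [if_pos (minimalPrimes.finite_of_isNoetherianRing A)]
  rcases finite_or_infinite (MaximalSpectrum (CAlg2.normRed A)) with hf | hi
  · cases nonempty_fintype (MaximalSpectrum (CAlg2.normRed A))
    rw [ENat.card_eq_coe_fintype_card]
    exact hS Finset.univ
  · by_cases htop : Curv2.deltaInv (CAlg2.red A) = ⊤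
    · rw [htop, top_add]; exact le_top
    obtain ⟨S, hS'⟩ := Infinite.exists_subset_card_eq (MaximalSpectrum (CAlg2.normRed A))
      ((Curv2.deltaInv (CAlg2.red A)).toNat + 2)
    have h1 := hS S
    rw [hS', Nat.cast_add, ENat.coe_toNat htop] at h1
    exact absurd h1 (not_le.mpr ((ENat.add_lt_add_iff_left htop).mpr (by norm_num)))

section geometry

variable {X X' : Scheme.{u}} (π : X' ⟶ X)

/-- A finite birational map to a reduced scheme is an isomorphism over a dense open. -/
theorem exists_dense_isIso [IsNoetherian X] [IsFinite π] [IsReduced X] [IsReduced X']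
    (hbij : Set.BijOn (fun x' : X' => π x') {x' : X' | closure ({x'} : Set X') ∈ irreducibleComponents (X' : Type u)}
      {x : X | closure ({x} : Set X) ∈ irreducibleComponents (X : Type u)})
    (hres : ∀ x' : X', closure ({x'} : Set X') ∈ irreducibleComponents (X' : Type u) →
      Function.Bijective (π.residueFieldMap x').hom) :
    ∃ U : X.Opens, Dense (U : Set X) ∧ Dense ((π ⁻¹ᵁ U : X'.Opens) : Set X') ∧ IsIso (π ∣_ U) := by
  haveI : IsLocallyNoetherian X' := LocallyOfFiniteType.isLocallyNoetherian π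
  haveI : CompactSpace X' := QuasiCompact.compactSpace_of_compactSpace π
  haveI : IsNoetherian X' := {}
  have hiso : ∀ x : X', closure {x} ∈ irreducibleComponents X' → IsIso (π.stalkMap x) := fun x hx => by
    have hF : IsField (X'.presheaf.stalk x) :=
      S10961.isField_stalk x ((S10961.mem_irreducibleComponents_iff x).mp hx)
    have hF' : IsField (X.presheaf.stalk (π x)) :=
      S10961.isField_stalk (π x) ((S10961.mem_irreducibleComponents_iff (π x)).mp (hbij.1 hx))
    have h1 : ∀ {R : Scheme.{u}} (r : R), IsField (R.presheaf.stalk r) → Function.Injective (R.residue r).hom := by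
      intro R r hr
      letI := hr.toField
      exact RingHom.injective _
    refine (ConcreteCategory.isIso_iff_bijective _).2 ⟨fun a b hab => ?_, fun b => ?_⟩
    · letI := hF'.toField
      exact RingHom.injective (π.stalkMap x).hom hab
    · obtain ⟨c, hc⟩ := (hres x hx).2 (X'.residue x b)
      obtain ⟨a, ha⟩ := X.residue_surjective (π x) c
      refine ⟨a, h1 x hF ?_⟩
      rw [← hc, ← ha]
      exact (ConcreteCategory.congr_hom (Scheme.residue_residueFieldMap π x) a).symm
  obtain ⟨U', V, e, -, hV, hI, hmem⟩ := BirLib.exists_dense_isIso_resLE π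
    NoetherianSpace.finite_irreducibleComponents NoetherianSpace.finite_irreducibleComponents hbij hiso
    (Or.inl ⟨inferInstance, inferInstance⟩)
  let C : Set X := π '' (U' : Set X')ᶜ
  have hC : IsClosed C := π.isClosedMap _ U'.2.isClosed_compl
  let W : X.Opens := V ⊓ ⟨Cᶜ, hC.isOpen_compl⟩
  have hW : ∀ η : X, closure {η} ∈ irreducibleComponents X → η ∈ W := fun η hη => by
    refine ⟨FlatMor.GenericPts.mem_of_dense hV hη, ?_⟩
    rintro ⟨z, hz, rfl⟩
    obtain ⟨ξ, hξ, hξz⟩ := FlatMor.GenericPts.exists_generic_specializes z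
    have h2 : π ξ ⤳ π z := hξz.map π.continuous
    have h3 : π ξ = π z := (S10961.mem_irreducibleComponents_iff (π z)).mp hη (π ξ) h2
    haveI : DiscreteTopology (π ⁻¹' {π z}) := (π.isDiscrete_preimage_singleton (π z)).to_subtype
    have h4 : (⟨ξ, h3⟩ : π ⁻¹' {π z}) = ⟨z, rfl⟩ := by
      have h5 : (⟨ξ, h3⟩ : π ⁻¹' {π z}) ⤳ ⟨z, rfl⟩ := (subtype_specializes_iff _ _).2 hξz
      exact specializes_iff_eq.1 h5
    obtain rfl : ξ = z := congrArg Subtype.val h4
    exact hz (hmem ξ hξ)
  have hpre : π ⁻¹ᵁ W ≤ U' := fun z hz => by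
    by_contra hzU
    exact hz.2 ⟨z, hzU, rfl⟩
  have hdense : ∀ {R : Scheme.{u}} (O : R.Opens), (∀ η, closure {η} ∈ irreducibleComponents R → η ∈ O) →
      Dense (O : Set R) := by
    intro R O h
    rw [dense_iff_inter_open]
    rintro O' hO' ⟨z, hz⟩
    obtain ⟨η, hη, hηz⟩ := FlatMor.GenericPts.exists_generic_specializes z
    exact ⟨η, hηz.mem_open hO' hz, h η hη⟩
  refine ⟨W, hdense W hW, hdense _ fun η hη => hW _ (hbij.1 hη), ?_⟩
  have h6 := BirLib.isIso_resLE_of_le π e hI (W := W) inf_le_left
  have hU : U' ⊓ π ⁻¹ᵁ W = π ⁻¹ᵁ W := inf_eq_right.2 hpre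
  rw [← Scheme.Hom.resLE_eq_morphismRestrict]
  exact (Scheme.Hom.resLE_congr π inf_le_right rfl hU (MorphismProperty.isomorphisms Scheme.{u})).mp h6

variable (k : Type u) [Field k]

/-- Global functions of a normal proper scheme over an algebraically closed field. -/
theorem finrank_h0_normal [IsAlgClosed k] (Y : Scheme.{u}) [Y.Over (Spec (CommRingCat.of k))]
    [IsProper (Y ↘ Spec (CommRingCat.of k))] (hY : Pi1.IsNormalScheme Y) :
    Module.finrank k (Coh.HH Y (Coh.structureModule Y) 0) = Nat.card (irreducibleComponents (Y : Type u)) := by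
  haveI := EulerChar.isNoetherian k (X := Y)
  have hdom : ∀ y : Y, IsDomain (Y.presheaf.stalk y) := fun y => (hY y).1
  haveI : ∀ y : Y, _root_.IsReduced (Y.presheaf.stalk y) := fun y => haveI := hdom y; inferInstance
  haveI : IsReduced Y := isReduced_of_isReduced_stalk Y
  have hfin : (irreducibleComponents (Y : Type u)).Finite := NoetherianSpace.finite_irreducibleComponents
  haveI := hfin.to_subtype
  have hopen : ∀ Z ∈ irreducibleComponents (Y : Type u), IsOpen Z := fun Z hZ =>
    Props.Components.isOpen_of_locally_finite hdom (fun y => ⟨⊤, trivial, hfin.subset fun W hW => hW.1⟩) Z hZ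
  let V : irreducibleComponents (Y : Type u) → Y.Opens := fun Z => ⟨Z.1, hopen _ Z.2⟩
  have hcov : ∀ y : Y, ∃ Z, y ∈ V Z := fun y =>
    ⟨⟨irreducibleComponent y, irreducibleComponent_mem_irreducibleComponents y⟩, mem_irreducibleComponent⟩
  let ρ : Γ(Y, ⊤) →+* ∀ Z, Γ(Y, V Z) := RingHom.pi fun Z => (Y.presheaf.map (homOfLE le_top).op).hom
  have hρ : Function.Bijective ρ := by
    refine ⟨fun a b hab => ?_, fun s => ?_⟩
    · exact TopCat.Sheaf.eq_of_locally_eq' Y.sheaf V ⊤ (fun Z => homOfLE le_top)
        (fun y _ => Opens.mem_iSup.2 (hcov y)) a b fun Z => congrFun hab Z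
    · obtain ⟨t, ht, -⟩ := TopCat.Sheaf.existsUnique_gluing' Y.sheaf V ⊤ (fun Z => homOfLE le_top)
        (fun y _ => Opens.mem_iSup.2 (hcov y)) s fun Z Z' => by
          by_cases he : Z = Z'
          · subst he; rfl
          · have hbot : V Z ⊓ V Z' = ⊥ := eq_bot_iff.2 fun y hy => he (Subtype.ext
              ((Props.Components.existsUnique_component hdom y).unique ⟨Z.2, hy.1⟩ ⟨Z'.2, hy.2⟩))
            refine TopCat.Presheaf.section_ext Y.sheaf _ _ _ fun y hy => ?_
            have hy' : y ∈ V Z ⊓ V Z' := hy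
            rw [hbot] at hy'
            exact hy'.elim
      exact ⟨t, funext ht⟩
  let c : k →+* Γ(Y, ⊤) := Coh.toGlobal (Y ↘ Spec (CommRingCat.of k))
  letI algT : Algebra k Γ(Y, ⊤) := c.toAlgebra
  letI algV : ∀ Z, Algebra k Γ(Y, V Z) := fun Z => ((Y.presheaf.map (homOfLE le_top).op).hom.comp c).toAlgebra
  let E : Coh.HH Y (Coh.structureModule Y) 0 ≃ₗ[k] Γ(Y, ⊤) :=
    { AbVarLib.H0Field.h0Equiv Y with
      map_smul' := fun a x => AbVarLib.H0Field.h0Equiv_smul a x }
  haveI : Module.Finite k (Coh.HH Y (Coh.structureModule Y) 0) := EulerChar.finite_HH k _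
    (VBLib.isCoh_of_ofRank (ProjTwist.isFinLocFreeOfRank_one (PicLoc.isInvertible_structureModule Y))) 0
  haveI : Module.Finite k Γ(Y, ⊤) := Module.Finite.equiv E
  let R : Γ(Y, ⊤) ≃ₐ[k] (∀ Z, Γ(Y, V Z)) := AlgEquiv.ofRingEquiv (f := RingEquiv.ofBijective ρ hρ) fun _ => rfl
  let q : ∀ Z, Γ(Y, ⊤) →ₐ[k] Γ(Y, V Z) := fun Z => (Pi.evalAlgHom k _ Z).comp R.toAlgHom
  have hq : ∀ Z, Function.Bijective (algebraMap k Γ(Y, V Z)) := fun Z => by
    haveI : Module.Finite k Γ(Y, V Z) := Module.Finite.of_surjective (q Z).toLinearMap fun v => by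
      classical
      exact ⟨R.symm (Pi.single Z v), by simp [q]⟩
    haveI : Nonempty (V Z) := Z.2.1.1.to_subtype
    haveI : IrreducibleSpace (V Z).toScheme :=
      Subtype.irreducibleSpace (show IsIrreducible ((V Z : Y.Opens) : Set Y) from Z.2.1)
    haveI : IsReduced (V Z).toScheme := isReduced_of_isOpenImmersion (V Z).ι
    haveI : IsIntegral (V Z).toScheme := isIntegral_of_irreducibleSpace_of_isReduced _
    haveI : IsDomain Γ((V Z).toScheme, ⊤) := by
      haveI : Nonempty (⊤ : (V Z).toScheme.Opens) := ⟨⟨Classical.arbitrary _, trivial⟩⟩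
      exact IsIntegral.component_integral _
    haveI : IsDomain Γ(Y, V Z) := (V Z).topIso.commRingCatIsoToRingEquiv.symm.toMulEquiv.isDomain _
    haveI : Algebra.IsIntegral k Γ(Y, V Z) := Algebra.IsIntegral.of_finite k _
    exact IsAlgClosed.algebraMap_bijective_of_isIntegral
  cases nonempty_fintype (irreducibleComponents (Y : Type u))
  haveI : ∀ Z, Module.Finite k Γ(Y, V Z) := fun Z =>
    Module.Finite.of_surjective (Algebra.linearMap k Γ(Y, V Z)) (hq Z).2
  rw [E.finrank_eq, R.toLinearEquiv.finrank_eq, Module.finrank_pi_fintype k,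
    Finset.sum_congr rfl fun Z _ => (LinearEquiv.ofBijective (Algebra.linearMap k Γ(Y, V Z)) (hq Z)).finrank_eq.symm]
  simp [Nat.card_eq_fintype_card]

/-- Global functions of a connected reduced proper scheme over an algebraically closed field. -/
theorem finrank_h0_connected [IsAlgClosed k] (Y : Scheme.{u}) [Y.Over (Spec (CommRingCat.of k))]
    [IsProper (Y ↘ Spec (CommRingCat.of k))] [IsReduced Y] [ConnectedSpace Y] :
    Module.finrank k (Coh.HH Y (Coh.structureModule Y) 0) = 1 := by
  refine VBLib.finrank_H0_structure_eq_one ?_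
  exact (GITLib.Rigid.bijective_appTop (Y ↘ Spec (CommRingCat.of k))).comp
    (ConcreteCategory.bijective_of_isIso (Scheme.ΓSpecIso (CommRingCat.of k)).inv)

end geometry

end Groth.Agent.FFCurve.NormalCount
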