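import Groth.Prelude.Def_EGA4b
import Groth.Agent.Curv2Norm.Coker
import Groth.Agent.CycLib.ModStalk
import Groth.Agent.CycLib.PushStalk
import Groth.Agent.ExtSuppLib.Excision
import Groth.Agent.FlatMor.GenericPts
import Groth.Agent.RedNorm.Basic
import Groth.Agent.S1666

/-!
# The cokernel of `O_X → π_* O_{X'}` for the normalization of a reduced scheme
-/

set_option autoImplicit false
set_option linter.style.haveILetI false
set_option backward.isDefEq.respectTransparency false
set_option backward.isDefEq.respectTransparency.types false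
set_option maxHeartbeats 800000

universe u

open CategoryTheory CategoryTheory.Limits AlgebraicGeometry TopologicalSpace Opposite
open Groth.Agent.PullStalk.Sky Groth.Agent.PullStalk.Exact Groth.Agent.Props.GenLocus

noncomputable section

namespace Groth.Agent.FFCurve.NormalEuler

/-- A normal ring is integrally closed in its total ring of fractions. -/
theorem exists_eq_of_isIntegral {T : Type u} [CommRing T] (h : EGA4.IsNormalRing T) (y : FractionRing T)
    (hy : IsIntegral T y) : ∃ c, algebraMap T (FractionRing T) c = y := by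
  obtain ⟨⟨a, s, hs⟩, has⟩ := IsLocalization.surj (nonZeroDivisors T) y
  let I : Ideal T :=
    { carrier := {d | ∃ c, algebraMap T (FractionRing T) d * y = algebraMap T _ c}
      add_mem' := by
        rintro d d' ⟨c, hc⟩ ⟨c', hc'⟩
        exact ⟨c + c', by rw [map_add, map_add, add_mul, hc, hc']⟩
      zero_mem' := ⟨0, by rw [map_zero, zero_mul]⟩
      smul_mem' := by
        rintro r d ⟨c, hc⟩
        exact ⟨r * c, by rw [smul_eq_mul, map_mul, map_mul, mul_assoc, hc]⟩ }
  by_cases hI : I = ⊤
  · obtain ⟨c, hc⟩ : (1 : T) ∈ I := hI ▸ trivial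
    exact ⟨c, by rw [← hc, map_one, one_mul]⟩
  exfalso
  obtain ⟨m, hm, hIm⟩ := I.exists_le_maximal hI
  obtain ⟨_, _⟩ := h m
  let L := Localization.AtPrime m
  let F := FractionRing L
  have hne : ∀ r : nonZeroDivisors T, IsUnit (((algebraMap L F).comp (algebraMap T L)) (r : T)) := fun r => by
    refine isUnit_iff_ne_zero.2 fun h0 => ?_
    have h1 : algebraMap T L (r : T) = 0 := IsFractionRing.injective L F (h0.trans (map_zero _).symm)
    obtain ⟨t, ht⟩ := (IsLocalization.map_eq_zero_iff m.primeCompl L (r : T)).1 h1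
    exact t.2 ((mem_nonZeroDivisors_iff_right.1 r.2 _ ht).symm ▸ m.zero_mem)
  let ψ : FractionRing T →+* F := IsLocalization.lift (M := nonZeroDivisors T) hne
  have hψ : ∀ r, ψ (algebraMap T _ r) = algebraMap L F (algebraMap T L r) := fun r =>
    IsLocalization.lift_eq _ r
  have hint : IsIntegral L (ψ y) := hy.map_of_comp_eq (algebraMap T L) ψ (RingHom.ext fun r => (hψ r).symm)
  obtain ⟨w, hw⟩ := IsIntegrallyClosed.isIntegral_iff.1 hint
  have h2 : algebraMap T L a = w * algebraMap T L s := IsFractionRing.injective L F (by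
    rw [map_mul, hw, ← hψ, ← hψ, ← map_mul, ← has])
  obtain ⟨⟨c, t⟩, hct⟩ := IsLocalization.surj m.primeCompl w
  have h3 : algebraMap T L (a * t) = algebraMap T L (c * s) := by
    rw [map_mul, map_mul, h2, ← hct]
    ring
  obtain ⟨v, hv⟩ := (IsLocalization.eq_iff_exists m.primeCompl L).1 h3
  have hvt : (v : T) * t ∈ I := by
    refine ⟨v * c, (IsLocalization.map_units (FractionRing T) ⟨s, hs⟩).mul_right_cancel ?_⟩
    rw [mul_assoc, has, ← map_mul, ← map_mul, mul_assoc (v : T) (t : T) a, mul_comm (t : T) a, hv,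
      mul_assoc]
  exact (v * t).2 (hIm hvt)

/-- Localizations of normal rings are normal. -/
theorem isNormalRing_localization {T : Type u} [CommRing T] (h : EGA4.IsNormalRing T) (M : Submonoid T) :
    EGA4.IsNormalRing (Localization M) := by
  intro P _
  haveI := (h (P.comap (algebraMap T (Localization M)))).1
  haveI := (h (P.comap (algebraMap T (Localization M)))).2
  let e := (IsLocalization.localizationLocalizationAtPrimeIsoLocalization M P).toRingEquiv
  exact ⟨e.symm.toMulEquiv.isDomain _, IsIntegrallyClosed.of_equiv e⟩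

/-- For a birational integral extension by a normal ring the colength is the δ-invariant. -/
theorem length_quotient_eq_deltaInv {O B : Type u} [CommRing O] [CommRing B] [Algebra O B]
    (hinj : Function.Injective (algebraMap O B)) [Algebra.IsIntegral O B] (hB : EGA4.IsNormalRing B)
    (f : O) (hf : f ∈ nonZeroDivisors O) (hf' : algebraMap O B f ∈ nonZeroDivisors B)
    (hb : ∀ b : B, ∃ (n : ℕ) (a : O), algebraMap O B (f ^ n) * b = algebraMap O B a) :
    Module.length O (B ⧸ LinearMap.range (Algebra.linearMap O B)) = Curv2.deltaInv O := by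
  have hnzd : ∀ r ∈ nonZeroDivisors O, algebraMap O B r ∈ nonZeroDivisors B := fun r hr =>
    mem_nonZeroDivisors_iff_right.2 fun b h0 => by
      obtain ⟨n, a, ha⟩ := hb b
      have h1 : a * r = 0 := hinj (by rw [map_mul, ← ha, mul_assoc, h0, mul_zero, map_zero])
      rw [mem_nonZeroDivisors_iff_right.1 hr a h1, map_zero, mul_comm, map_pow] at ha
      exact mem_nonZeroDivisors_iff_right.1 (pow_mem hf' n) b ha
  haveI : IsScalarTower O B (FractionRing B) := inferInstance
  haveI : IsFractionRing O (FractionRing B) := (isLocalization_iff _ _).2 ⟨fun r =>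
    IsLocalization.map_units (FractionRing B) (⟨_, hnzd r r.2⟩ : nonZeroDivisors B), fun z => by
      obtain ⟨⟨b, c, hc⟩, hbc⟩ := IsLocalization.surj (nonZeroDivisors B) z
      obtain ⟨n, a, ha⟩ := hb b
      obtain ⟨n', a', ha'⟩ := hb c
      have hmem : f ^ n * a' ∈ nonZeroDivisors O := mul_mem (pow_mem hf n)
        (mem_nonZeroDivisors_iff_right.2 fun x hx => hinj <| by
          have h1 : algebraMap O B x * algebraMap O B (f ^ n') * c = 0 := by
            rw [mul_assoc, ha', ← map_mul, hx, map_zero]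
          have h2 := mem_nonZeroDivisors_iff_right.1 hc _ h1
          rw [map_pow] at h2
          rw [mem_nonZeroDivisors_iff_right.1 (pow_mem hf' n') _ h2, map_zero])
      refine ⟨(f ^ n' * a, ⟨f ^ n * a', hmem⟩), ?_⟩
      simp only [IsScalarTower.algebraMap_apply O B (FractionRing B), map_mul, ← ha, ← ha']
      rw [← hbc]
      ring, fun {x y} h => ⟨1, congrArg _ (hinj (IsFractionRing.injective B (FractionRing B) h))⟩⟩
  rw [← Curv2Norm.length_quotient_eq_deltaInv O (FractionRing B)]
  let g : B →ₗ[O] integralClosure O (FractionRing B) :=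
    { toFun := fun b => ⟨algebraMap B (FractionRing B) b, (Algebra.IsIntegral.isIntegral b).map
        (IsScalarTower.toAlgHom O B (FractionRing B))⟩
      map_add' := fun b c => Subtype.ext (map_add _ b c)
      map_smul' := fun r b => Subtype.ext (by
        show algebraMap B (FractionRing B) (r • b) = r • algebraMap B (FractionRing B) b
        rw [Algebra.smul_def, Algebra.smul_def, map_mul]
        rfl) }
  have hg : Function.Bijective g := by
    refine ⟨fun b c h => IsFractionRing.injective B (FractionRing B) (congrArg Subtype.val h), fun z => ?_⟩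
    obtain ⟨c, hc⟩ := exists_eq_of_isIntegral hB z.1 z.2.tower_top
    exact ⟨c, Subtype.ext hc⟩
  refine (Submodule.Quotient.equiv _ _ (LinearEquiv.ofBijective g hg) ?_).length_eq
  rw [← LinearMap.range_comp]
  congr 1

section geometry

variable {X X' : Scheme.{u}} (π : X' ⟶ X)

/-- Over a dense open where `π` is an isomorphism, functions pull back injectively. -/
theorem app_injective [IsReduced X] (U : X.Opens) (hU : Dense (U : Set X))
    (hπU : IsIso (π ∣_ U)) (W : X.Opens) : Function.Injective (π.app W) := by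
  refine (injective_iff_map_eq_zero (π.app W).hom).2 fun r hr => ?_
  have h1 : π.app (W ⊓ U) (X.presheaf.map (homOfLE (inf_le_left : W ⊓ U ≤ W)).op r) = 0 := by
    refine (ConcreteCategory.congr_hom (π.naturality (homOfLE (inf_le_left : W ⊓ U ≤ W)).op) r).trans ?_
    exact (congrArg (X'.presheaf.map _) (show π.app W r = 0 from hr)).trans (map_zero _)
  have h2 := (S1666.bijective_app_of_le π U hπU _ inf_le_right).1 (h1.trans (map_zero _).symm)
  refine (basicOpen_eq_bot_iff r).1 ?_
  by_contra hne
  obtain ⟨y, hy, hyU⟩ := hU.inter_open_nonempty _ (X.basicOpen r).2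
    ((X.basicOpen r).ne_bot_iff_nonempty.1 hne)
  have h3 : y ∈ X.basicOpen (X.presheaf.map (homOfLE (inf_le_left : W ⊓ U ≤ W)).op r) := by
    rw [Scheme.basicOpen_res]
    exact ⟨⟨X.basicOpen_le r hy, hyU⟩, hy⟩
  rw [h2, Scheme.basicOpen_zero] at h3
  exact h3

/-- A dense open contains the minimal primes. -/
theorem minimalPrimes_mem {Z : Scheme.{u}} [IsLocallyNoetherian Z] {W : Z.Opens} (hW : IsAffineOpen W)
    {U : Z.Opens} (hU : Dense (U : Set Z)) (Q : Ideal Γ(Z, W)) (hQ : Q ∈ minimalPrimes Γ(Z, W)) :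
    hW.fromSpec ⟨Q, hQ.1.1⟩ ∈ U := by
  haveI : IsNoetherianRing Γ(Z, W) := IsLocallyNoetherian.component_noetherian ⟨W, hW⟩
  refine FlatMor.GenericPts.mem_of_dense (Y := Spec Γ(Z, W)) (U := hW.fromSpec ⁻¹ᵁ U)
    (hU.preimage hW.fromSpec.isOpenEmbedding.isOpenMap) ?_
  rw [FlatMor.GenericPts.closure_mem_irreducibleComponents_iff]
  intro z hz
  have h1 : z.asIdeal ≤ Q := (PrimeSpectrum.le_iff_specializes z _).2 hz
  exact (PrimeSpectrum.le_iff_specializes _ z).1 (hQ.2 ⟨z.2, bot_le⟩ h1)

/-- The stalk of the cokernel of `O_X → π_* O_{X'}` has length the δ-invariant. -/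
theorem length_stalk_cokernel [IsLocallyNoetherian X] [IsReduced X] [IsFinite π] (hX' : Pi1.IsNormalScheme X')
    (U : X.Opens) (hU : Dense (U : Set X)) (hU' : Dense ((π ⁻¹ᵁ U : X'.Opens) : Set X'))
    (hπU : IsIso (π ∣_ U)) (φ : Coh.structureModule X ⟶ (Scheme.Modules.pushforward π).obj (Coh.structureModule X'))
    [Mono φ] (happ : ∀ (W : X.Opens) (r : Γ(X, W)), φ.app W r = CycLib.mkPush π (π.app W r)) (x : X) :
    Module.length (X.presheaf.stalk x) ((cokernel φ).presheaf.stalk x) = Curv2.deltaInv (X.presheaf.stalk x) := by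
  haveI : IsLocallyNoetherian X' := LocallyOfFiniteType.isLocallyNoetherian π
  haveI : (Coh.structureModule X').IsQuasicoherent :=
    (VBLib.isCoh_of_ofRank (ProjTwist.isFinLocFreeOfRank_one (PicLoc.isInvertible_structureModule X'))).1
  let P := (Scheme.Modules.pushforward π).obj (Coh.structureModule X')
  haveI : P.IsQuasicoherent := (ProperFin.isCoh_push_of_isFinite π _
    (VBLib.isCoh_of_ofRank (ProjTwist.isFinLocFreeOfRank_one (PicLoc.isInvertible_structureModule X')))).1
  obtain ⟨e₀⟩ := Curv2Norm.exists_stalk_cokernel_equiv φ x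
  refine e₀.length_eq.trans ?_
  obtain ⟨W, hW, hxW, -⟩ := exists_isAffineOpen_mem_and_subset (x := x) (U := ⊤) trivial
  have hV := hW.preimage π
  -- the rings
  let A := Γ(X, W)
  let B := Γ(X', π ⁻¹ᵁ W)
  haveI : IsNoetherianRing A := IsLocallyNoetherian.component_noetherian ⟨W, hW⟩
  haveI : IsNoetherianRing B := IsLocallyNoetherian.component_noetherian ⟨_, hV⟩
  letI algAB : Algebra A B := (π.app W).hom.toAlgebra
  haveI hfin : Module.Finite A B := IsFinite.finite_app π W hW
  have hAB : Function.Injective (algebraMap A B) := app_injective π U hU hπU W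
  have hB : EGA4.IsNormalRing B := fun Q _ => by
    let z : X' := hV.fromSpec ⟨Q, ‹_›⟩
    have hz : z ∈ π ⁻¹ᵁ W := hV.range_fromSpec.le ⟨_, rfl⟩
    letI := TopCat.Presheaf.algebra_section_stalk X'.presheaf (⟨z, hz⟩ : (π ⁻¹ᵁ W : X'.Opens))
    haveI : IsLocalization.AtPrime (X'.presheaf.stalk z) Q := hV.isLocalization_stalk' ⟨Q, ‹_›⟩ hz
    obtain ⟨_, _⟩ := hX' z
    let e := (IsLocalization.algEquiv Q.primeCompl (Localization.AtPrime Q) (X'.presheaf.stalk z)).toRingEquiv
    exact ⟨e.toMulEquiv.isDomain _, IsIntegrallyClosed.of_equiv e.symm⟩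
  haveI : _root_.IsReduced B := isReduced_ofLocalizationMaximal B fun P hP => by
    haveI := (hB P).1
    infer_instance
  -- an element with `D(f) ⊆ U`, avoiding all minimal primes
  let C : Set (PrimeSpectrum A) := ((hW.fromSpec ⁻¹ᵁ U : (Spec Γ(X, W)).Opens) : Set (Spec Γ(X, W)))ᶜ
  have hC : IsClosed C := (hW.fromSpec ⁻¹ᵁ U).2.isClosed_compl
  let S : Set (Ideal A) := minimalPrimes A ∪ (fun Q : Ideal B => Q.comap (algebraMap A B)) '' minimalPrimes B
  have hSfin : S.Finite := (minimalPrimes.finite_of_isNoetherianRing A).union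
    ((minimalPrimes.finite_of_isNoetherianRing B).image _)
  have hSp : ∀ q ∈ S, ∃ hq : q.IsPrime, hW.fromSpec ⟨q, hq⟩ ∈ U := by
    rintro q (hq | ⟨Q, hQ, rfl⟩)
    · exact ⟨hq.1.1, minimalPrimes_mem hW hU q hq⟩
    · haveI := hQ.1.1
      refine ⟨inferInstance, ?_⟩
      have h1 : π (hV.fromSpec ⟨Q, hQ.1.1⟩) ∈ U := minimalPrimes_mem hV hU' Q hQ
      have h2 := congrArg (fun g => g (⟨Q, hQ.1.1⟩ : Spec Γ(X', π ⁻¹ᵁ W))) (hW.SpecMap_appLE_fromSpec π hV le_rfl)
      simp only [Scheme.Hom.comp_apply] at h2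
      rw [← Scheme.Hom.app_eq_appLE] at h2
      rw [← h2] at h1
      exact h1
  obtain ⟨f, hfC, hfS⟩ : ∃ f ∈ PrimeSpectrum.vanishingIdeal C, ∀ q ∈ S, f ∉ q := by
    by_contra hcon
    push Not at hcon
    obtain ⟨q, hq, hle⟩ := (Ideal.subset_union_prime_finite hSfin (f := fun q : Ideal A => q) ⊥ ⊥
      (fun q hq _ _ => (hSp q hq).1)).1 (fun f hf => by obtain ⟨q, hq, hfq⟩ := hcon f hf; exact Set.mem_iUnion₂.2 ⟨q, hq, hfq⟩)
    obtain ⟨hqp, hqU⟩ := hSp q hq
    have : (⟨q, hqp⟩ : PrimeSpectrum A) ∈ PrimeSpectrum.zeroLocus (PrimeSpectrum.vanishingIdeal C : Set A) :=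
      hle
    rw [PrimeSpectrum.zeroLocus_vanishingIdeal_eq_closure, hC.closure_eq] at this
    exact this hqU
  have hDU : X.basicOpen f ≤ U := fun y hy => by
    have hyW : y ∈ W := X.basicOpen_le f hy
    have h1 : f ∉ (hW.primeIdealOf ⟨y, hyW⟩).asIdeal :=
      (CycLib.not_mem_primeIdealOf_iff hW hyW f).2 ((X.mem_basicOpen f y hyW).1 hy)
    by_contra hyU
    refine h1 ((PrimeSpectrum.mem_vanishingIdeal _ _).1 hfC _ fun h2 => hyU ?_)
    have h3 : hW.fromSpec (hW.primeIdealOf ⟨y, hyW⟩) ∈ U := h2
    rwa [hW.fromSpec_primeIdealOf] at h3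
  have hfA : f ∈ nonZeroDivisors A :=
    (RedNorm.mem_nonZeroDivisors_iff).2 fun q => hfS _ (Or.inl q.2)
  have hfB : algebraMap A B f ∈ nonZeroDivisors B :=
    (RedNorm.mem_nonZeroDivisors_iff).2 fun q h => hfS _ (Or.inr ⟨q.1, q.2, rfl⟩) h
  have hb : ∀ b : B, ∃ (n : ℕ) (a : A), algebraMap A B (f ^ n) * b = algebraMap A B a := fun b => by
    have hle : π ⁻¹ᵁ X.basicOpen f ≤ π ⁻¹ᵁ W := π.preimage_mono (X.basicOpen_le f)
    obtain ⟨a', ha'⟩ := (S1666.bijective_app_of_le π U hπU _ hDU).2 (X'.presheaf.map (homOfLE hle).op b)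
    letI := (X.presheaf.map (homOfLE (X.basicOpen_le f)).op).hom.toAlgebra
    haveI : IsLocalization.Away f Γ(X, X.basicOpen f) := hW.isLocalization_basicOpen f
    obtain ⟨⟨a, _, n, rfl⟩, hn⟩ := IsLocalization.surj (Submonoid.powers f) a'
    refine ⟨n, a, ?_⟩
    letI := (X'.presheaf.map (homOfLE hle).op).hom.toAlgebra
    haveI : IsLocalization.Away (π.app W f) Γ(X', π ⁻¹ᵁ X.basicOpen f) :=
      hV.isLocalization_of_eq_basicOpen _ _ (Scheme.preimage_basicOpen π f)
    refine IsLocalization.injective Γ(X', π ⁻¹ᵁ X.basicOpen f)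
      (Submonoid.powers_le.2 hfB : Submonoid.powers (π.app W f) ≤ _) ?_
    have hnat : ∀ r : A, π.app (X.basicOpen f) (X.presheaf.map (homOfLE (X.basicOpen_le f)).op r) =
        X'.presheaf.map (homOfLE hle).op (π.app W r) := fun r =>
      ConcreteCategory.congr_hom (π.naturality (homOfLE (X.basicOpen_le f)).op) r
    have h4 := congrArg (π.app (X.basicOpen f)).hom hn
    rw [map_mul] at h4
    rw [RingHom.algebraMap_toAlgebra, map_mul]
    refine Eq.trans ?_ ((h4.trans (hnat a)))
    rw [mul_comm]
    exact congrArg₂ (· * ·) ha'.symm (hnat (f ^ n)).symm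
  -- localize at `x`
  let p := (hW.primeIdealOf ⟨x, hxW⟩).asIdeal
  letI algO : Algebra A (X.presheaf.stalk x) := TopCat.Presheaf.algebra_section_stalk X.presheaf (⟨x, hxW⟩ : W)
  haveI : IsLocalization.AtPrime (X.presheaf.stalk x) p := hW.isLocalization_stalk ⟨x, hxW⟩
  let M := Algebra.algebraMapSubmonoid B p.primeCompl
  letI algOB : Algebra (X.presheaf.stalk x) (Localization M) := localizationAlgebra p.primeCompl B
  haveI : IsScalarTower A (X.presheaf.stalk x) (Localization M) :=
    IsScalarTower.of_algebraMap_eq fun a => by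
      rw [IsScalarTower.algebraMap_apply A B (Localization M)]
      exact (IsLocalization.map_eq _ a).symm
  have hinj : Function.Injective (algebraMap (X.presheaf.stalk x) (Localization M)) := by
    haveI : IsLocalization (p.primeCompl.map (algebraMap A B)) (Localization M) :=
      inferInstanceAs (IsLocalization M (Localization M))
    exact IsLocalization.map_injective_of_injective (M := p.primeCompl) (g := algebraMap A B)
      (S := X.presheaf.stalk x) (Q := Localization M) hAB
  haveI : Algebra.IsIntegral (X.presheaf.stalk x) (Localization M) :=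
    ⟨isIntegral_localization⟩
  have hlen := length_quotient_eq_deltaInv (O := X.presheaf.stalk x) (B := Localization M) hinj
    (isNormalRing_localization hB M) (algebraMap A _ f)
    (IsLocalization.map_nonZeroDivisors_le p.primeCompl _ ⟨f, hfA, rfl⟩)
    (by
      rw [← IsScalarTower.algebraMap_apply, IsScalarTower.algebraMap_apply A B (Localization M)]
      exact IsLocalization.map_nonZeroDivisors_le M _ ⟨_, hfB, rfl⟩)
    fun b => by
      obtain ⟨b₀, ⟨_, s, hs, rfl⟩, rfl⟩ := IsLocalization.exists_mk'_eq M b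
      obtain ⟨n, a, ha⟩ := hb b₀
      refine ⟨n, IsLocalization.mk' _ a (⟨s, hs⟩ : p.primeCompl), ?_⟩
      rw [← map_pow, ← IsScalarTower.algebraMap_apply, IsScalarTower.algebraMap_apply A B (Localization M),
        IsLocalization.mul_mk'_eq_mk'_of_mul, ha]
      exact (IsLocalization.map_mk' (g := algebraMap A B) (T := M) (Q := Localization M)
        (S := X.presheaf.stalk x) (hy := Submonoid.le_comap_map _) a (⟨s, hs⟩ : p.primeCompl)).symm
  rw [← hlen]
  -- the stalk of the pushforward is the localization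
  letI : Module A (P.presheaf.stalk x) := Module.compHom _ (algebraMap A (X.presheaf.stalk x))
  haveI : IsScalarTower A (X.presheaf.stalk x) (P.presheaf.stalk x) :=
    IsScalarTower.of_algebraMap_smul fun _ _ => rfl
  let g : B →ₗ[A] P.presheaf.stalk x :=
    { toFun := fun b => germM P W x hxW (CycLib.mkPush π b)
      map_add' := fun b c => map_add _ _ _
      map_smul' := fun a b => by
        show germM P W x hxW (CycLib.mkPush π (a • b)) =
          X.presheaf.germ W x hxW a • germM P W x hxW (CycLib.mkPush π b)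
        rw [Algebra.smul_def, ← germM_smul, CycLib.smul_mkPush]
        rfl }
  have hu : ∀ s : p.primeCompl, IsUnit (algebraMap A (X.presheaf.stalk x) (s : A)) :=
    IsLocalization.map_units _
  haveI : IsLocalizedModule p.primeCompl g := by
    refine ⟨fun s => ?_, fun t => ?_, fun {b c} h => ?_⟩
    · rw [Module.End.isUnit_iff]
      exact ⟨fun v w e => (hu s).smul_left_cancel.1 e,
        fun v => ⟨((hu s).unit⁻¹ : (X.presheaf.stalk x)ˣ) • v, smul_inv_smul (hu s).unit v⟩⟩
    · obtain ⟨m, s, hs, hst⟩ := CycLib.exists_smul_germ_eq P hW hxW t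
      exact ⟨(m, ⟨s, (CycLib.not_mem_primeIdealOf_iff hW hxW s).2 hs⟩), hst⟩
    · have h0 : germM P W x hxW (CycLib.mkPush π (b - c)) = 0 := by
        refine (map_sub _ (CycLib.mkPush π b) (CycLib.mkPush π c)).trans ?_
        exact sub_eq_zero.2 h
      obtain ⟨s, hs, hs0⟩ := CycLib.exists_smul_eq_zero_of_germ_eq_zero P hW hxW _ h0
      refine ⟨⟨s, (CycLib.not_mem_primeIdealOf_iff hW hxW s).2 hs⟩, ?_⟩
      show s • b = s • c
      rw [← sub_eq_zero, ← smul_sub, Algebra.smul_def]
      exact hs0
  haveI : IsLocalizedModule p.primeCompl (IsScalarTower.toAlgHom A B (Localization M)).toLinearMap :=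
    isLocalizedModule_iff_isLocalization.2 inferInstance
  let e₁ := IsLocalizedModule.linearEquiv p.primeCompl g (IsScalarTower.toAlgHom A B (Localization M)).toLinearMap
  let e : P.presheaf.stalk x ≃ₗ[X.presheaf.stalk x] Localization M :=
    e₁.extendScalarsOfIsLocalization p.primeCompl (X.presheaf.stalk x)
  refine (Submodule.Quotient.equiv _ _ e ?_).length_eq
  have key : ∀ r : A, e (stalkLin φ x (germM (Coh.structureModule X) W x hxW r)) =
      algebraMap (X.presheaf.stalk x) (Localization M) (X.presheaf.germ W x hxW r) := fun r => by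
    rw [stalkLin_germ, happ]
    refine (IsLocalizedModule.linearEquiv_apply p.primeCompl g _ (π.app W r)).trans ?_
    exact (IsScalarTower.algebraMap_apply A B (Localization M) r).symm.trans
      (IsScalarTower.algebraMap_apply A (X.presheaf.stalk x) (Localization M) r)
  ext v
  constructor
  · rintro ⟨_, ⟨t, rfl⟩, rfl⟩
    haveI : (Coh.structureModule X).IsQuasicoherent :=
      (VBLib.isCoh_of_ofRank (ProjTwist.isFinLocFreeOfRank_one (PicLoc.isInvertible_structureModule X))).1
    obtain ⟨m, s, hs, hst⟩ := CycLib.exists_smul_germ_eq (Coh.structureModule X) hW hxW t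
    refine ⟨(↑hs.unit⁻¹ : X.presheaf.stalk x) * X.presheaf.germ W x hxW m, ?_⟩
    have ht : t = (↑hs.unit⁻¹ : X.presheaf.stalk x) • germM (Coh.structureModule X) W x hxW m := by
      rw [← hst, smul_smul, IsUnit.val_inv_mul, one_smul]
    rw [ht, map_smul]
    refine Eq.trans ?_ ((map_smul e _ _).trans (congrArg (_ • ·) (key m))).symm
    rw [Algebra.linearMap_apply, map_mul, Algebra.smul_def]
  · rintro ⟨r, rfl⟩
    obtain ⟨⟨a, s⟩, hrs⟩ := IsLocalization.surj p.primeCompl r
    refine ⟨(↑(hu s).unit⁻¹ : X.presheaf.stalk x) • stalkLin φ x (germM (Coh.structureModule X) W x hxW a),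
      ⟨_, map_smul (stalkLin φ x) _ _⟩, ?_⟩
    refine (map_smul e _ _).trans ?_
    rw [key, Algebra.smul_def, Algebra.linearMap_apply, ← map_mul]
    congr 1
    show _ * algebraMap A (X.presheaf.stalk x) a = r
    rw [← hrs, mul_comm r, ← mul_assoc, IsUnit.val_inv_mul, one_mul]

end geometry

end Groth.Agent.FFCurve.NormalEuler
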