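import Groth.Agent.EGA4Lib.SkFibers
import Groth.Agent.RegLoc.SupportDim
import Groth.Agent.S0602
import Mathlib

/-!
# Normality of flat algebras with reduced fibres of dimension one
-/

set_option autoImplicit false
set_option linter.style.haveILetI false

universe u

namespace Groth.Agent.FFCurve.NormalFamily

/-- A reduced Noetherian ring of dimension at most one satisfies `(S_2)`. -/
theorem hasSk_two (R : Type u) [CommRing R] [IsNoetherianRing R] [IsReduced R]
    (hd : ringKrullDim R ≤ 1) : LocCoh.HasSk 2 R R := by
  intro p _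
  have h1 := ((S0602.result R).1 inferInstance).2 p
  have hdp : ringKrullDim (Localization.AtPrime p) ≤ ringKrullDim R := by
    rw [IsLocalization.AtPrime.ringKrullDim_eq_height p (Localization.AtPrime p)]
    exact Ideal.height_le_ringKrullDim_of_ne_top ‹p.IsPrime›.ne_top
  have hle : Module.supportDim (Localization.AtPrime p) (LocalizedModule p.primeCompl R) ≤ 1 :=
    (Module.supportDim_le_ringKrullDim _ _).trans (hdp.trans hd)
  rw [Nat.cast_one, min_eq_right hle] at h1
  rw [min_eq_right (hle.trans (by norm_num))]
  exact h1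

variable (A B : Type u) [CommRing A] [IsDomain A] [CommRing B] [IsNoetherianRing A] [IsNoetherianRing B]
  [Algebra A B] [Module.Flat A B]

theorem map_eq_maximal (p : Ideal A) [p.IsPrime] (Q : Ideal (p.Fiber B)) [Q.IsPrime] [_root_.IsReduced (p.Fiber B)]
    (hQ : Q ∈ minimalPrimes (p.Fiber B)) (r : Ideal B) [r.IsPrime]
    (hr : Q.comap (Algebra.TensorProduct.includeRight (R := A) (A := p.ResidueField) (B := B)) = r) :
    (p.map (algebraMap A B)).map (algebraMap B (Localization.AtPrime r)) =
      IsLocalRing.maximalIdeal (Localization.AtPrime r) := by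
  subst hr
  haveI : Ring.KrullDimLE 0 (Localization.AtPrime Q) := by
    rw [Ring.krullDimLE_iff, IsLocalization.AtPrime.ringKrullDim_eq_height Q (Localization.AtPrime Q),
      (Ideal.height_eq_zero_iff).2 hQ]
    simp
  have hF : IsField (Localization.AtPrime Q) := Ring.KrullDimLE.isField_of_isReduced
  have hF' := hF
  exact IsLocalRing.eq_maximalIdeal (Ideal.Quotient.maximal_of_isField _
    ((Ideal.Fiber.algEquivAux₂ p Q).toRingEquiv.toMulEquiv.isField_congr.1 hF'))

theorem hasRk_one (hA : LocCoh.HasRk 1 A) (hred : ∀ (p : Ideal A) [p.IsPrime], _root_.IsReduced (p.Fiber B))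
    (hgen : ∀ (q : Ideal B) [q.IsPrime], q.comap (algebraMap A B) = ⊥ →
      IsDomain (Localization.AtPrime q) ∧ IsIntegrallyClosed (Localization.AtPrime q)) :
    LocCoh.HasRk 1 B := by
  intro q _ hq
  let L := Localization.AtPrime q
  have hdimL : ringKrullDim L ≤ 1 := by
    rw [IsLocalization.AtPrime.ringKrullDim_eq_height q L]
    exact_mod_cast hq
  by_cases hp : q.comap (algebraMap A B) = ⊥
  · obtain ⟨hd, hc⟩ := hgen q hp
    haveI := hd
    haveI := hc
    haveI : Ring.KrullDimLE 1 L := Ring.krullDimLE_iff.2 (by exact_mod_cast hdimL)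
    haveI : Ring.DimensionLEOne L := ⟨fun h0 hp' => hp'.isMaximal_of_ne_bot h0⟩
    haveI : IsDedekindDomain L := { }
    by_cases hF : IsField L
    · letI := hF.toField
      infer_instance
    · haveI : IsDiscreteValuationRing L :=
        ((IsDiscreteValuationRing.TFAE L hF).out 2 0 :).1 inferInstance
      infer_instance
  · let p := q.comap (algebraMap A B)
    haveI hqp : q.LiesOver p := ⟨rfl⟩
    obtain ⟨r₀, hr₀, hr₀p, hr₀o⟩ :=
      Ideal.exists_ideal_lt_liesOver_of_lt (p := (⊥ : Ideal A)) (q := p) q (bot_lt_iff_ne_bot.2 hp)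
    haveI := hr₀p
    haveI := hr₀o
    -- `q` has height one and is minimal over `p`
    have hq1 : 1 ≤ q.height := by
      have := Ideal.height_strict_mono_of_isPrime hr₀
      exact Order.one_le_iff_pos.2 (lt_of_le_of_lt bot_le this)
    have hmin : ∀ r : Ideal B, r.IsPrime → r ≤ q → r.comap (algebraMap A B) = p → r = q := by
      intro r hr hrq hrp
      by_contra hne
      haveI := hr
      haveI : r.LiesOver p := ⟨hrp.symm⟩
      obtain ⟨r', hr', hr'p, -⟩ :=
        Ideal.exists_ideal_lt_liesOver_of_lt (p := (⊥ : Ideal A)) (q := p) r (bot_lt_iff_ne_bot.2 hp)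
      haveI := hr'p
      have h1 := Ideal.height_strict_mono_of_isPrime hr'
      have h2 := Ideal.height_strict_mono_of_isPrime (lt_of_le_of_ne hrq hne)
      have h3 : (1 : ℕ∞) < q.height := lt_of_le_of_lt (Order.one_le_iff_pos.2 (lt_of_le_of_lt bot_le h1)) h2
      exact (lt_of_lt_of_le h3 hq).ne rfl
    have hpA : p.height ≤ 1 := by
      by_contra hgt
      have h2 : (2 : ℕ∞) ≤ p.height := by
        rw [not_le] at hgt
        exact Order.add_one_le_of_lt hgt
      rw [show p.height = Order.height (⟨p, inferInstance⟩ : PrimeSpectrum A) from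
        PrimeSpectrum.height_eq_orderHeight ⟨p, inferInstance⟩] at h2
      have h2' : ((2 : ℕ) : ℕ∞) ≤ Order.height (⟨p, inferInstance⟩ : PrimeSpectrum A) := h2
      obtain ⟨l, hl, hlen⟩ := Order.exists_series_of_le_height _ h2'
      haveI : q.LiesOver l.last.asIdeal := by rw [hl]; exact hqp
      obtain ⟨M, hM, hMl, -⟩ := Ideal.exists_ltSeries_of_hasGoingDown l q
      have h3 : (M.length : ℕ∞) ≤ Order.height (⟨q, inferInstance⟩ : PrimeSpectrum B) :=
        Order.length_le_height hMl.le
      rw [hM, hlen] at h3
      have h4 : q.height = Order.height (⟨q, inferInstance⟩ : PrimeSpectrum B) :=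
        PrimeSpectrum.height_eq_orderHeight ⟨q, inferInstance⟩
      rw [← h4] at h3
      exact absurd (h3.trans hq) (by norm_num)
    haveI := hA p hpA
    -- the maximal ideal of `B_q` is generated by `p`
    obtain ⟨Q, hQp, hQ⟩ := EGA4Lib.exists_fiber_prime A q
    haveI := hQp
    haveI := hred p
    have hQmin : Q ∈ minimalPrimes (p.Fiber B) := by
      refine ⟨⟨hQp, bot_le⟩, fun R hR hRQ => ?_⟩
      haveI := hR.1
      let φ : B →ₐ[A] p.Fiber B := Algebra.TensorProduct.includeRight
      have h1 : R.comap φ ≤ q := (Ideal.comap_mono hRQ).trans hQ.le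
      have h2 : (R.comap φ).comap (algebraMap A B) = p := by
        show (R.comap φ.toRingHom).comap (algebraMap A B) = p
        rw [Ideal.comap_comap, show φ.toRingHom.comp (algebraMap A B) = algebraMap A (p.Fiber B) from φ.comp_algebraMap]
        exact (R.over_def p).symm
      have h3 := hmin _ inferInstance h1 h2
      refine (?_ : (⟨Q, hQp⟩ : PrimeSpectrum (p.Fiber B)) ≤ ⟨R, hR.1⟩)
      rw [← (PrimeSpectrum.preimageOrderIsoFiber A B ⟨p, inferInstance⟩).symm.le_iff_le]
      show Q.comap φ ≤ R.comap φ
      rw [h3, hQ]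
    have hm := map_eq_maximal A B p Q hQmin q hQ
    -- `A_p` is a regular local ring of dimension at most one
    have hs : (IsLocalRing.maximalIdeal (Localization.AtPrime p)).spanFinrank ≤ 1 := by
      have h := IsRegularLocalRing.spanFinrank_maximalIdeal (R := Localization.AtPrime p)
      rw [IsLocalization.AtPrime.ringKrullDim_eq_height p (Localization.AtPrime p)] at h
      exact_mod_cast h.le.trans (show (p.height : WithBot ℕ∞) ≤ (1 : WithBot ℕ∞) by exact_mod_cast hpA)
    refine IsRegularLocalRing.of_spanFinrank_maximalIdeal_le _ ?_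
    have hsub : ((IsLocalRing.maximalIdeal L).spanFinrank) ≤ 1 := by
      have : IsLocalRing.maximalIdeal L =
          (IsLocalRing.maximalIdeal (Localization.AtPrime p)).map
            (Localization.localRingHom p q (algebraMap A B) rfl) := by
        rw [← Localization.AtPrime.map_eq_maximalIdeal (I := p), Ideal.map_map, ← hm, Ideal.map_map]
        congr 1
        ext x
        simp [Localization.localRingHom_to_map]
      rw [this]
      exact (Ideal.spanFinrank_map_le_of_fg _ (IsNoetherian.noetherian _)).trans hs
    rw [IsLocalization.AtPrime.ringKrullDim_eq_height q L]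
    exact_mod_cast (Nat.cast_le.2 hsub).trans hq1

end Groth.Agent.FFCurve.NormalFamily
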