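import Groth.Agent.FFCurve.OmegaBC
import Groth.Agent.EulerChar.AmpleCurve
import Groth.Agent.VarBC.H0
import Groth.Agent.AbVarLib.Basics
import Groth.Agent.ProperFin.Descend
import Groth.Agent.S9776
import Groth.Agent.Omega.Basic
import Groth.Agent.Omega.DiagUniv
import Groth.Agent.AmpleLib.Locus

/-!
# Ampleness of `Ω` on smooth proper integral curves of negative Euler characteristic
-/

set_option autoImplicit false
set_option linter.style.haveILetI false
set_option backward.isDefEq.respectTransparency false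
set_option backward.isDefEq.respectTransparency.types false

universe u

open CategoryTheory CategoryTheory.Limits AlgebraicGeometry

namespace Groth.Agent.FFCurve.OmegaAmple

/-- `Ω` over `k` is ample when `X` is a curve over a finite separable `L` of constants. -/
theorem isAmple_omega_of_stein {k L : Type u} [Field k] [Field L] [Algebra k L] {X : Scheme.{u}}
    [X.Over (Spec (CommRingCat.of k))] [X.Over (Spec (CommRingCat.of L))]
    [IsProper (X ↘ Spec (CommRingCat.of L))] [Smooth (X ↘ Spec (CommRingCat.of L))] [IsIntegral X]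
    [Etale (Spec.map (CommRingCat.ofHom (algebraMap k L)))]
    (hs : (X ↘ Spec (CommRingCat.of L)) ≫ Spec.map (CommRingCat.ofHom (algebraMap k L)) =
      X ↘ Spec (CommRingCat.of k))
    (hbij : Function.Bijective (Coh.toGlobal (X ↘ Spec (CommRingCat.of L))))
    (hdim : topologicalKrullDim X = 1)
    (hχ : Module.finrank k (Coh.HH X (Coh.structureModule X) 0) <
      Module.finrank k (Coh.HH X (Coh.structureModule X) 1)) :
    CohB1.IsAmple (Omega.sheaf (X ↘ Spec (CommRingCat.of k))) := by
  have hcomp : ∀ a : k, Coh.toGlobal (X ↘ Spec (CommRingCat.of L)) (algebraMap k L a) =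
      Coh.toGlobal (X ↘ Spec (CommRingCat.of k)) a := fun a => by
    simp only [Coh.toGlobal, ← hs, Scheme.Hom.comp_appTop, CommRingCat.hom_comp]
    refine congrArg (CommRingCat.Hom.hom (Scheme.Hom.appTop (X ↘ Spec (CommRingCat.of L)))) ?_
    exact congr($((Scheme.ΓSpecIso_inv_naturality (CommRingCat.ofHom (algebraMap k L)))).hom a)
  haveI : QuasiSeparated (X ↘ Spec (CommRingCat.of k)) := by rw [← hs]; infer_instance
  haveI hT : ∀ j, IsScalarTower k L (Coh.HH X (Coh.structureModule X) j) := fun j =>
    IsScalarTower.of_algebraMap_smul fun a v =>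
      congrArg (fun r : Coh.Γtop X => r • v) (hcomp a)
  have hmul : ∀ j, Module.finrank k L * Module.finrank L (Coh.HH X (Coh.structureModule X) j) =
      Module.finrank k (Coh.HH X (Coh.structureModule X) j) := fun j => Module.finrank_mul_finrank k L _
  have h0 : Module.finrank L (Coh.HH X (Coh.structureModule X) 0) = 1 := by
    obtain ⟨v, hv⟩ := (ProperFin.h0Sec (Coh.structureModule X)).surjective (1 : Γ(X, ⊤))
    refine finrank_eq_one v (fun h => ?_) (fun w => ?_)
    · rw [h, map_zero] at hv
      haveI : Nontrivial Γ(X, ⊤) := (X.presheaf.germ ⊤ (Classical.arbitrary X) trivial).hom.domain_nontrivial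
      exact zero_ne_one (α := Γ(X, ⊤)) hv
    · obtain ⟨b, hb⟩ := hbij.2 (show Coh.Γtop X from ProperFin.h0Sec (Coh.structureModule X) w)
      refine ⟨b, (ProperFin.h0Sec (Coh.structureModule X)).injective ?_⟩
      refine (ProperFin.h0Sec_smul _ (Coh.toGlobal (X ↘ Spec (CommRingCat.of L)) b) v).trans ?_
      rw [hv]
      refine (congrArg (fun r : Γ(X, ⊤) => r • (1 : Γ(X, ⊤))) hb).trans ?_
      exact _root_.mul_one _
  haveI : GeometricallyConnected (X ↘ Spec (CommRingCat.of L)) := OmegaBC.geometricallyConnected L h0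
  have hg : 1 < Curv2.genus L X := by
    show 1 < Module.finrank L (Coh.HH X (Coh.structureModule X) 1)
    have e0 := hmul 0
    have e1 := hmul 1
    rw [h0, mul_one] at e0
    by_contra hle
    have := Nat.mul_le_mul_left (Module.finrank k L) (not_lt.1 hle)
    omega
  have hL : CohB1.IsAmple (Omega.sheaf (X ↘ Spec (CommRingCat.of L))) :=
    EulerChar.isAmple_of_deg_pos L hdim (OmegaBC.isInvertible_omega L hdim) (by
      rw [(OmegaBC.finrank_and_deg L hdim).2]; omega)
  obtain ⟨c, hc, -⟩ := Omega.Basic.existsUnique_diffCompat (𝟙 X) (f := X ↘ Spec (CommRingCat.of k))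
    (f' := X ↘ Spec (CommRingCat.of L)) (b := Spec.map (CommRingCat.ofHom (algebraMap k L)))
    ((Category.id_comp _).trans hs.symm).symm
    (Omega.DiagUniv.isUniversal_dOmega _) (OmegaSh.dOmega _)
  haveI : IsIso c := S9776.result _ _ (𝟙 X) (Spec.map (CommRingCat.ofHom (algebraMap k L)))
    ((Category.id_comp _).trans hs.symm) _ _
    (Omega.DiagUniv.isUniversal_dOmega _) _ _ (Omega.DiagUniv.isUniversal_dOmega _) c hc
  exact AmpleLib.isAmple_of_iso ((asIso c).symm ≪≫ (Scheme.Modules.pullbackId X).app _) hL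

/-- `Ω` is ample as soon as `h⁰(O) < h¹(O)`; no connectedness over the base field is needed. -/
theorem isAmple_omega {k : Type u} [Field k] {X : Scheme.{u}} [X.Over (Spec (CommRingCat.of k))]
    [IsProper (X ↘ Spec (CommRingCat.of k))] [Smooth (X ↘ Spec (CommRingCat.of k))] [IsIntegral X]
    (hdim : topologicalKrullDim X = 1)
    (hχ : Module.finrank k (Coh.HH X (Coh.structureModule X) 0) <
      Module.finrank k (Coh.HH X (Coh.structureModule X) 1)) :
    CohB1.IsAmple (Omega.sheaf (X ↘ Spec (CommRingCat.of k))) := by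
  haveI := AbVarLib.Basics.geometricallyReduced_of_smooth (X ↘ Spec (CommRingCat.of k))
  let L : Type u := Γ(X, ⊤)
  let φ : k →+* Γ(X, ⊤) := Coh.toGlobal (X ↘ Spec (CommRingCat.of k))
  have hfin : φ.Finite :=
    (finite_appTop_of_universallyClosed k (X ↘ Spec (CommRingCat.of k))).comp
      (RingHom.Finite.of_surjective _ (Scheme.ΓSpecIso (CommRingCat.of k)).commRingCatIsoToRingEquiv.symm.surjective)
  letI : Field L := (isField_of_universallyClosed k (X ↘ Spec (CommRingCat.of k))).toField
  letI : Algebra k L := φ.toAlgebra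
  haveI : Module.Finite k L := hfin
  haveI : Algebra.IsSeparable k L :=
    letI := VarBC.H0.topAlgebra k X
    VarBC.H0.isSeparable_of_geometricallyReduced k X (F := L) { RingHom.id L with commutes' := fun _ => rfl }
  let s : Spec (CommRingCat.of L) ⟶ Spec (CommRingCat.of k) := Spec.map (CommRingCat.ofHom φ)
  haveI : Algebra.FormallyEtale k L := Algebra.FormallyEtale.of_isSeparable k L
  haveI : Algebra.FinitePresentation k L := Algebra.FinitePresentation.of_finiteType.1 inferInstance
  haveI : Algebra.Etale k L := { }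
  haveI : Etale s :=
    (HasRingHomProperty.Spec_iff (P := @Etale)).2 (RingHom.etale_algebraMap.2 (inferInstance : Algebra.Etale k L))
  let h : X ⟶ Spec (CommRingCat.of L) := X.toSpecΓ
  have hs : h ≫ s = X ↘ Spec (CommRingCat.of k) := by
    refine ext_of_isAffine ?_
    show (s.appTop ≫ X.toSpecΓ.appTop) = _
    rw [Scheme.toSpecΓ_appTop, Scheme.ΓSpecIso_naturality]
    ext a
    show φ ((Scheme.ΓSpecIso (CommRingCat.of k)).hom a) = _
    simp only [φ, Coh.toGlobal, RingHom.coe_comp, Function.comp_apply]
    rw [Iso.hom_inv_id_apply]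
  haveI : IsProper h :=
    haveI : IsProper (h ≫ s) := by rw [hs]; infer_instance
    IsProper.of_comp h s
  haveI : Smooth h := by
    have hw : 𝟙 X ≫ (h ≫ s) = h ≫ s := Category.id_comp _
    let γ : X ⟶ pullback (h ≫ s) s := pullback.lift (𝟙 X) h hw
    haveI : Etale γ := by
      haveI : Etale (γ ≫ pullback.fst (h ≫ s) s) := by rw [pullback.lift_fst]; infer_instance
      exact Etale.of_comp γ (pullback.fst (h ≫ s) s)
    haveI : Smooth (h ≫ s) := by rw [hs]; infer_instance
    rw [show h = γ ≫ pullback.snd (h ≫ s) s from (pullback.lift_snd _ _ _).symm]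
    infer_instance
  letI : X.Over (Spec (CommRingCat.of L)) := ⟨h⟩
  haveI : IsProper (X ↘ Spec (CommRingCat.of L)) := ‹IsProper h›
  haveI : Smooth (X ↘ Spec (CommRingCat.of L)) := ‹Smooth h›
  haveI : Etale (Spec.map (CommRingCat.ofHom (algebraMap k L))) := ‹Etale s›
  refine isAmple_omega_of_stein (L := L) hs ?_ hdim hχ
  have hid : ∀ b : L, (Coh.toGlobal (X ↘ Spec (CommRingCat.of L)) b : Γ(X, ⊤)) = b := fun b => by
    show X.toSpecΓ.appTop ((Scheme.ΓSpecIso (CommRingCat.of L)).inv b) = b
    rw [Scheme.toSpecΓ_appTop]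
    exact Iso.inv_hom_id_apply _ _
  exact ⟨fun a b hab => (hid a).symm.trans (hab.trans (hid b)), fun b => ⟨b, hid b⟩⟩

end Groth.Agent.FFCurve.OmegaAmple
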