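import Groth.Agent.REq71.Line
import Groth.Prelude.Def_LefPen

/-!
# The standard chart of the projective line as the affine line
-/

universe u

open CategoryTheory CategoryTheory.Limits AlgebraicGeometry

set_option backward.isDefEq.respectTransparency false

namespace Groth.Agent.FFCurve

open Groth.Agent.Chow Groth.Agent.REq71

variable (K : Type u) [Field K]

/-- The chart `D₊(T₀)` is an affine line over the base. -/
theorem exists_chartZero : ∃ j : Spec (CommRingCat.of (Polynomial K)) ⟶ CohB1.ProjSpace 1 K,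
    IsOpenImmersion j ∧ Set.range j = ((LefPen.chart 1 K 0 : (CohB1.ProjSpace 1 K).Opens) : Set _) ∧
      j ≫ CohB1.ProjSpace.toSpec 1 K = Spec.map (CommRingCat.ofHom Polynomial.C) := by
  have h0 : IsUnit (dehom01 K (MvPolynomial.X 0)) := by simp [dehom01]
  let φ := away (dehom01 K) (MvPolynomial.X 0) h0
  let ψ : Polynomial K →+* HomogeneousLocalization.Away (CohB1.polyGrading 1 K)
      (MvPolynomial.X (0 : Fin (1 + 1))) :=
    Polynomial.eval₂RingHom (scal 1 K _) (dh 1 K 0 (MvPolynomial.X 1))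
  have h01 : dehom01 K (MvPolynomial.X 0) = 1 := by simp [dehom01]
  have hφdh : ∀ p, φ (dh 1 K 0 p) = dehom01 K p := fun p =>
    RingHom.congr_fun (away_dh (dehom01 K) 0 h0 h01) p
  have hψφ : ψ.comp φ = RingHom.id _ := by
    refine RingHom.ext fun y => ?_
    obtain ⟨z, rfl⟩ := ZetaLib.dehom_surjective (CohB1.polyGrading 1 K) (X_mem (0 : Fin (1 + 1))) y
    have : ψ.comp (dehom01 K) = dh 1 K 0 := by
      refine MvPolynomial.ringHom_ext (fun r => ?_) fun i => ?_
      · simp [ψ, dehom01, dh_C]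
      · fin_cases i
        · simp [ψ, dehom01]
          rw [dh, ZetaLib.dehom_of_mem _ _ (X_mem (0 : Fin (1 + 1)))]
          refine (HomogeneousLocalization.val_injective _ ?_).symm
          simp [Localization.mk_self
            ⟨(MvPolynomial.X 0 : MvPolynomial (Fin (1 + 1)) K), Submonoid.mem_powers _⟩]
        · simp [ψ, dehom01]
    exact (congrArg ψ (hφdh z)).trans (RingHom.congr_fun this z)
  have hφψ : φ.comp ψ = RingHom.id _ := by
    refine Polynomial.ringHom_ext (fun r => ?_) ?_
    · simp only [ψ, RingHom.comp_apply, Polynomial.coe_eval₂RingHom, Polynomial.eval₂_C, RingHom.id_apply]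
      refine ((congrArg φ (dh_C (0 : Fin (1 + 1)) r)).symm.trans (hφdh _)).trans ?_
      simp [dehom01]
    · simp only [ψ, RingHom.comp_apply, Polynomial.coe_eval₂RingHom, Polynomial.eval₂_X, RingHom.id_apply]
      rw [hφdh]
      simp [dehom01]
  haveI : IsIso (CommRingCat.ofHom φ) :=
    ⟨⟨CommRingCat.ofHom ψ, CommRingCat.hom_ext hψφ, CommRingCat.hom_ext hφψ⟩⟩
  refine ⟨Spec.map (CommRingCat.ofHom φ) ≫ Proj.awayι (CohB1.polyGrading 1 K) (MvPolynomial.X 0)
    (X_mem (0 : Fin (1 + 1))) one_pos, inferInstance, ?_, ?_⟩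
  · rw [Scheme.Hom.comp_base, TopCat.coe_comp, Set.range_comp,
      Set.range_eq_univ.2 (Spec.map (CommRingCat.ofHom φ)).surjective, Set.image_univ]
    exact congrArg SetLike.coe (Proj.opensRange_awayι (CohB1.polyGrading 1 K) (MvPolynomial.X 0)
      (X_mem (0 : Fin (1 + 1))) one_pos)
  rw [Category.assoc,
    show Proj.awayι (CohB1.polyGrading 1 K) (MvPolynomial.X 0) (X_mem (0 : Fin (1 + 1))) one_pos ≫
      CohB1.ProjSpace.toSpec 1 K = _ from chart_toSpec _ (X_mem (0 : Fin (1 + 1))) one_pos, ← Spec.map_comp,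
    ← CommRingCat.ofHom_comp]
  congr 2
  refine RingHom.ext fun r => ?_
  rw [RingHom.comp_apply, ← dh_C, hφdh]
  simp [dehom01]

end Groth.Agent.FFCurve
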