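import Groth.Agent.FFCurve.P1Map
import Groth.Agent.FFCurve.GenericRank
import Groth.Agent.S0220

/-!
# Finite morphisms of curves to the projective line: flatness and rank
-/

universe u

open CategoryTheory CategoryTheory.Limits AlgebraicGeometry TopologicalSpace

set_option linter.style.haveILetI false
set_option backward.isDefEq.respectTransparency false
set_option backward.isDefEq.respectTransparency.types false

namespace Groth.Agent.FFCurve

variable (k : Type u) [Field k] {X : Scheme.{u}} [IsIntegral X] [X.Over (Spec (CommRingCat.of k))]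
  [IsProper (X ↘ Spec (CommRingCat.of k))] (hdim : topologicalKrullDim X = 1)
  (φ : X ⟶ CohB1.ProjSpace 1 k)
  (hφ : φ ≫ CohB1.ProjSpace.toSpec 1 k = X ↘ Spec (CommRingCat.of k)) [IsFinite φ]
  (hnc : ¬ IsClosed ({φ (genericPoint X)} : Set (CohB1.ProjSpace 1 k)))

include hdim hφ hnc

/-- A finite dominant morphism of a curve onto the line is flat, of constant rank the residue degree,
and étale on an open set when the generic residue extension is separable. -/
theorem p1Map_rank :
    Flat φ ∧ (∀ y, φ.finrank y = φ.residueDegree (genericPoint X)) ∧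
      ((letI := (φ.residueFieldMap (genericPoint X)).hom.toAlgebra
        Algebra.IsSeparable ((CohB1.ProjSpace 1 k).residueField (φ (genericPoint X)))
          (X.residueField (genericPoint X))) →
        ∃ V : X.Opens, (V : Set X).Nonempty ∧ Etale (V.ι ≫ φ)) := by
  obtain ⟨hPp, hPs, hPi, hPd⟩ := p1_facts k
  haveI := hPi
  letI : (CohB1.ProjSpace 1 k).Over (Spec (CommRingCat.of k)) := ⟨CohB1.ProjSpace.toSpec 1 k⟩
  haveI : IsProper ((CohB1.ProjSpace 1 k) ↘ Spec (CommRingCat.of k)) := hPp
  haveI : Smooth ((CohB1.ProjSpace 1 k) ↘ Spec (CommRingCat.of k)) := hPs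
  haveI := hPp
  have hξ : φ (genericPoint X) = genericPoint (CohB1.ProjSpace 1 k) := by_contra fun hne =>
    hnc (VarDim.isClosed_singleton_of_ne_genericPoint (X := CohB1.ProjSpace 1 k) k hPd hne)
  have hN : ∀ y : CohB1.ProjSpace 1 k, IsDomain ((CohB1.ProjSpace 1 k).presheaf.stalk y) ∧
      IsIntegrallyClosed ((CohB1.ProjSpace 1 k).presheaf.stalk y) := fun y => by
    haveI := CurveCoh.isDomain_stalk k (CohB1.ProjSpace 1 k) y
    haveI := CurveCoh.valuationRing_stalk k (CohB1.ProjSpace 1 k) hPd y
    exact ⟨inferInstance, inferInstance⟩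
  have hrange : (Set.range φ.base).Nontrivial := by
    obtain ⟨x, hx⟩ : ∃ x : X, IsClosed ({x} : Set X) := by
      haveI : CompactSpace X := QuasiCompact.compactSpace_of_compactSpace (X ↘ Spec (CommRingCat.of k))
      obtain ⟨x, hx, hc⟩ := IsClosed.exists_closed_singleton (S := (Set.univ : Set X)) isClosed_univ Set.univ_nonempty
      exact ⟨x, hc⟩
    refine ⟨φ x, ⟨x, rfl⟩, φ (genericPoint X), ⟨_, rfl⟩, fun h => hnc ?_⟩
    rw [← h]
    have := φ.isClosedMap _ hx
    rwa [Set.image_singleton] at this
  haveI : QuasiCompact (X ↘ Spec (CommRingCat.of k)) := inferInstance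
  haveI hflat : Flat φ := S0220.result k X (CohB1.ProjSpace 1 k) (X ↘ Spec (CommRingCat.of k))
    (CohB1.ProjSpace.toSpec 1 k) hdim hPd hN φ hφ hrange
  haveI : IsLocallyNoetherian (CohB1.ProjSpace 1 k) :=
    LocallyOfFiniteType.isLocallyNoetherian (CohB1.ProjSpace.toSpec 1 k)
  haveI : LocallyOfFiniteType (φ ≫ CohB1.ProjSpace.toSpec 1 k) := hφ ▸ inferInstance
  haveI : LocallyOfFiniteType φ := locallyOfFiniteType_of_comp φ (CohB1.ProjSpace.toSpec 1 k)
  haveI : LocallyOfFinitePresentation φ := inferInstance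
  refine ⟨hflat, fun y => ?_, GenericRank.exists_etale_open φ hξ⟩
  haveI : PreconnectedSpace (CohB1.ProjSpace 1 k) := inferInstance
  rw [← GenericRank.finrank_genericPoint φ hξ]
  exact (Scheme.Hom.isLocallyConstant_finrank φ).apply_eq_of_preconnectedSpace _ _

end Groth.Agent.FFCurve
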