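import Groth.Agent.FFCurve.RRoch
import Groth.Agent.LineCoc.Basic
import Groth.Agent.Props.GenTensor
import Groth.Agent.Ref1.Extend

/-!
# Invertible modules up to isomorphism are divisors up to principal ones
-/

universe u

open CategoryTheory AlgebraicGeometry TopologicalSpace FunFld WithZero
open Groth.Agent.CurveCoh Groth.Agent.Props.GenLocus Groth.Agent.PullStalk.Sky
open Groth.Agent.QCoh (res res_res res_smul)

set_option linter.style.haveILetI false
set_option backward.isDefEq.respectTransparency false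
set_option backward.isDefEq.respectTransparency.types false

namespace Groth.Agent.FFCurve

variable {X : Scheme.{u}} [IsIntegral X]

/-- A chosen trivialisation at the generic point. -/
noncomputable def triv {M : X.Modules} (hM : PicF.IsInvertible M) :
    M.presheaf.stalk (genericPoint X) ≃ₗ[X.presheaf.stalk (genericPoint X)]
      X.presheaf.stalk (genericPoint X) :=
  (isRankOne_of_invertible hM).some.symm

section General

variable {L M : X.Modules}
  (φ : L.presheaf.stalk (genericPoint X) ≃ₗ[X.presheaf.stalk (genericPoint X)]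
    X.presheaf.stalk (genericPoint X))
  (ψ : M.presheaf.stalk (genericPoint X) ≃ₗ[X.presheaf.stalk (genericPoint X)]
    X.presheaf.stalk (genericPoint X))

lemma toη_injective_of_invertible (hM : PicF.IsInvertible M) (x : X) :
    Function.Injective (Ref1.toη M x) := by
  rw [injective_iff_map_eq_zero]
  intro v hv
  obtain ⟨V, hV, m, rfl⟩ := exists_germM_eq M x v
  rw [Ref1.toη, Ref1.sp_germ] at hv
  have : crd (triv hM) V (genericPoint_mem hV) m = 0 := (congrArg (triv hM) hv).trans (map_zero _)
  rw [crd_injective (triv hM) hM V _ (this.trans (map_zero _).symm)]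
  exact map_zero (M.presheaf.germ V x hV).hom

/-- The scalar of a morphism at the generic point. -/
lemma exists_crd_app (θ : L ⟶ M) :
    ∃ a : X.functionField, ∀ (W : X.Opens) (hW : genericPoint X ∈ W) (m : Γ(L, W)),
      crd ψ W hW (θ.app W m) = a * crd φ W hW m := by
  refine ⟨ψ (RefHull.stalkMapₗ θ (genericPoint X) (φ.symm 1)), fun W hW m => ?_⟩
  rw [crd_apply, crd_apply, germM, germM, ← RefHull.stalkMapₗ_germ θ (genericPoint X) hW m]
  set v := L.presheaf.germ W (genericPoint X) hW m
  have hv : v = φ v • φ.symm 1 := φ.injective (by rw [map_smul, LinearEquiv.apply_symm_apply, smul_eq_mul, mul_one])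
  conv_lhs => rw [hv, map_smul, map_smul, smul_eq_mul, mul_comm]

end General

variable (k : Type u) [Field k] [X.Over (Spec (CommRingCat.of k))]
  [IsProper (X ↘ Spec (CommRingCat.of k))] [RegCurve X] (hdim : topologicalKrullDim X = 1)
include hdim

/-- The divisor of an invertible module. -/
noncomputable def divOf {M : X.Modules} (hM : PicF.IsInvertible M) : Divisor k X.functionField :=
  divisor (triv hM) k hdim hM

lemma div_apply' (z : X.functionField) (P : Place k X.functionField) : div k z P = P.ord z :=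
  FF.div_apply (isFF k hdim) z P

/-- Isomorphic modules have linearly equivalent divisors. -/
lemma exists_div_of_iso {L M : X.Modules} (hL : PicF.IsInvertible L) (hM : PicF.IsInvertible M)
    (e : L ≅ M) : ∃ a : X.functionField, a ≠ 0 ∧ divOf k hdim hM = divOf k hdim hL - div k a := by
  obtain ⟨a, ha⟩ := exists_crd_app (triv hL) (triv hM) e.hom
  obtain ⟨b, hb⟩ := exists_crd_app (triv hM) (triv hL) e.inv
  have hab : b * a = 1 := by
    obtain ⟨U, g, hU, hg⟩ := exists_isGen hL (genericPoint X)
    have h1 := hb U hU (e.hom.app U g)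
    rw [ha U hU g, ← mul_assoc] at h1
    have h2 : e.inv.app U (e.hom.app U g) = g := by
      rw [← ConcreteCategory.comp_apply, ← Scheme.Modules.Hom.comp_app, e.hom_inv_id]; rfl
    rw [h2] at h1
    exact mul_right_cancel₀ (crd_gen_ne_zero (triv hL) hg hU) (h1.symm.trans (one_mul _).symm)
  have ha0 : a ≠ 0 := right_ne_zero_of_mul_eq_one hab
  refine ⟨a, ha0, Finsupp.ext fun P => ?_⟩
  obtain ⟨x, rfl⟩ := (placeEquiv k hdim).surjective P
  set P := toPlace k hdim x
  rw [Finsupp.sub_apply, div_apply' k hdim]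
  change divOf k hdim hM P = divOf k hdim hL P - P.ord a
  obtain ⟨U, g, hxU, hg⟩ := exists_isGen hL x.1
  obtain ⟨V, g', hxV, hg'⟩ := exists_isGen hM x.1
  have h1 := val_crd_le (triv hM) k hdim hM (genericPoint_mem hxU) (e.hom.app U g) x hxU
  rw [ha U _ g, map_mul, val_gen' (triv hL) k hdim hL hg x hxU, FF.val_eq_exp_ord P ha0, ← exp_add,
    exp_le_exp] at h1
  have h2 := val_crd_le (triv hL) k hdim hL (genericPoint_mem hxV) (e.inv.app V g') x hxV
  rw [hb V _ g', map_mul, val_gen' (triv hM) k hdim hM hg' x hxV,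
    FF.val_eq_exp_ord P (left_ne_zero_of_mul_eq_one hab), ← exp_add, exp_le_exp] at h2
  have hord : P.ord b + P.ord a = 0 := by
    rw [← FF.ord_mul P (left_ne_zero_of_mul_eq_one hab) ha0, hab, FF.ord_one]
  change -P.ord a + divOf k hdim hL P ≤ divOf k hdim hM P at h1
  change -P.ord b + divOf k hdim hM P ≤ divOf k hdim hL P at h2
  omega

/-- A morphism with prescribed scalar at the generic point. -/
lemma exists_hom_of_mul {L M : X.Modules} (hL : PicF.IsInvertible L) (hM : PicF.IsInvertible M)
    (a : X.functionField)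
    (h : ∀ P : Place k X.functionField,
      P.1 a * exp (divOf k hdim hL P) ≤ exp (divOf k hdim hM P)) :
    ∃ θ : L ⟶ M, ∀ v, triv hM (RefHull.stalkMapₗ θ (genericPoint X) v) = a * triv hL v := by
  let T : RefHull.StalkHom L M (genericPoint X) :=
    (triv hM).symm.toLinearMap ∘ₗ (a • (triv hL).toLinearMap)
  obtain ⟨θ, hθ⟩ := Ref1.exists_hom_of_generic (toη_injective_of_invertible hM) T fun x v => by
    obtain ⟨V, hV, m, rfl⟩ := exists_germM_eq L x v
    rw [Ref1.toη, Ref1.sp_germ]
    by_cases hx : x = genericPoint X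
    · subst hx
      refine ⟨T (germM L V (genericPoint X) hV m), ?_⟩
      obtain ⟨W, hW, n, hn⟩ := exists_germM_eq M (genericPoint X) (T (germM L V (genericPoint X) hV m))
      rw [← hn]
      exact Ref1.sp_germ M _ hW n
    · let xc : ZetaLib.ClosedPt X := ⟨x, VarDim.isClosed_singleton_of_ne_genericPoint k hdim hx⟩
      obtain ⟨U, g, hxU, hg⟩ := exists_isGen hM x
      have hηU := genericPoint_mem hxU
      have hc := crd_gen_ne_zero (triv hM) hg hηU
      set z := crd (triv hL) V (genericPoint_mem hV) m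
      have hz := val_crd_le (triv hL) k hdim hL (genericPoint_mem hV) m xc hV
      have hreg : (toPlace k hdim xc).1 (a * z / crd (triv hM) U hηU g) ≤ 1 := by
        rw [map_div₀, map_mul, val_gen' (triv hM) k hdim hM hg xc hxU, div_le_one₀ exp_pos]
        exact (mul_le_mul_right hz _).trans (h _)
      obtain ⟨r, hr⟩ := (val_toPlace_le_one_iff k hdim xc _).1 hreg
      refine ⟨r • germM M U x hxU g, ?_⟩
      rw [Ref1.sp_smul, Ref1.sp_germ, show Ref1.spR (Ref1.hsp x) r = _ from hr]
      refine (triv hM).injective ?_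
      rw [map_smul, show T (germM L V (genericPoint X) _ m) = (triv hM).symm (a * z) from rfl,
        LinearEquiv.apply_symm_apply, smul_eq_mul]
      exact div_mul_cancel₀ (a * z) hc
  refine ⟨θ, fun v => ?_⟩
  rw [hθ]
  exact LinearEquiv.apply_symm_apply (triv hM) _

/-- Linearly equivalent divisors give isomorphic modules. -/
lemma nonempty_iso_of_div {L M : X.Modules} (hL : PicF.IsInvertible L) (hM : PicF.IsInvertible M)
    {a : X.functionField} (ha : a ≠ 0) (h : divOf k hdim hM = divOf k hdim hL - div k a) :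
    Nonempty (L ≅ M) := by
  have hP : ∀ P : Place k X.functionField, divOf k hdim hM P = divOf k hdim hL P - P.ord a :=
    fun P => by rw [h, Finsupp.sub_apply, div_apply' k hdim]
  obtain ⟨θ, hθ⟩ := exists_hom_of_mul k hdim hL hM a fun P => by
    rw [FF.val_eq_exp_ord P ha, ← exp_add, exp_le_exp, hP P]; omega
  obtain ⟨θ', hθ'⟩ := exists_hom_of_mul k hdim hM hL a⁻¹ fun P => by
    rw [FF.val_eq_exp_ord P (inv_ne_zero ha), FF.ord_inv, ← exp_add, exp_le_exp, hP P]; omega
  refine ⟨⟨θ, θ', ?_, ?_⟩⟩
  · refine Ref1.hom_ext_η (toη_injective_of_invertible hL) (LinearMap.ext fun v => ?_)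
    rw [RefFun.stalkMapₗ_comp, RefFun.stalkMapₗ_id, LinearMap.comp_apply, LinearMap.id_apply]
    refine (triv hL).injective ?_
    rw [hθ', hθ, inv_mul_cancel_left₀ ha]
  · refine Ref1.hom_ext_η (toη_injective_of_invertible hM) (LinearMap.ext fun v => ?_)
    rw [RefFun.stalkMapₗ_comp, RefFun.stalkMapₗ_id, LinearMap.comp_apply, LinearMap.id_apply]
    refine (triv hM).injective ?_
    rw [hθ, hθ', mul_inv_cancel_left₀ ha]

/-- Divisors are additive in tensor products, up to principal divisors. -/
lemma exists_div_tensor {L M : X.Modules} (hL : PicF.IsInvertible L) (hM : PicF.IsInvertible M)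
    (hLM : PicF.IsInvertible (CohB1.tensorMod L M)) :
    ∃ a : X.functionField, a ≠ 0 ∧
      divOf k hdim hLM = divOf k hdim hL + divOf k hdim hM - div k a := by
  obtain ⟨U₀, e₀, hU₀, he₀⟩ := exists_isGen hL (genericPoint X)
  obtain ⟨V₀, f₀, hV₀, hf₀⟩ := exists_isGen hM (genericPoint X)
  set W₀ := U₀ ⊓ V₀
  have hW₀ : genericPoint X ∈ W₀ := ⟨hU₀, hV₀⟩
  set e := res L (inf_le_left : W₀ ≤ U₀) e₀
  set f := res M (inf_le_right : W₀ ≤ V₀) f₀
  have he : IsGen L W₀ e := he₀.restrict _
  have hf : IsGen M W₀ f := hf₀.restrict _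
  set ce := crd (triv hL) W₀ hW₀ e
  set cf := crd (triv hM) W₀ hW₀ f
  set cg := crd (triv hLM) W₀ hW₀ (Props.GenTensor.tmul e f)
  have hce : ce ≠ 0 := crd_gen_ne_zero _ he hW₀
  have hcf : cf ≠ 0 := crd_gen_ne_zero _ hf hW₀
  have hcg : cg ≠ 0 := crd_gen_ne_zero _ (Props.GenTensor.isGen_tmul he hf) hW₀
  set a := cg / (ce * cf)
  have ha : a ≠ 0 := div_ne_zero hcg (mul_ne_zero hce hcf)
  refine ⟨a, ha, Finsupp.ext fun P => ?_⟩
  obtain ⟨x, rfl⟩ := (placeEquiv k hdim).surjective P
  set P := toPlace k hdim x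
  rw [Finsupp.sub_apply, Finsupp.add_apply, div_apply' k hdim]
  change divOf k hdim hLM P = divOf k hdim hL P + divOf k hdim hM P - P.ord a
  obtain ⟨U, g, hxU, hg⟩ := exists_isGen hL x.1
  obtain ⟨V, g', hxV, hg'⟩ := exists_isGen hM x.1
  have hxW : x.1 ∈ U ⊓ V := ⟨hxU, hxV⟩
  have h3 := val_gen' (triv hLM) k hdim hLM
    (Props.GenTensor.isGen_tmul (hg.restrict (inf_le_left : U ⊓ V ≤ U)) (hg'.restrict (inf_le_right : U ⊓ V ≤ V))) x hxW
  have hη := genericPoint_mem hxW
  set W := (U ⊓ V) ⊓ W₀
  have hηW : genericPoint X ∈ W := ⟨hη, hW₀⟩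
  obtain ⟨u, hu, -⟩ := he.exists_eq (inf_le_right : W ≤ W₀) (res L (inf_le_left.trans inf_le_left : W ≤ U) g)
  obtain ⟨v, hv, -⟩ := hf.exists_eq (inf_le_right : W ≤ W₀) (res M (inf_le_left.trans inf_le_right : W ≤ V) g')
  have hcu : crd (triv hL) U (genericPoint_mem hxU) g = secK W hηW u * ce := by
    rw [← crd_res (triv hL) (inf_le_left.trans inf_le_left : W ≤ U) hηW g, hu, crd_smul, crd_res]
  have hcv : crd (triv hM) V (genericPoint_mem hxV) g' = secK W hηW v * cf := by
    rw [← crd_res (triv hM) (inf_le_left.trans inf_le_right : W ≤ V) hηW g', hv, crd_smul, crd_res]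
  have hct : crd (triv hLM) (U ⊓ V) hη
      (Props.GenTensor.tmul (res L inf_le_left g) (res M inf_le_right g')) =
      secK W hηW u * (secK W hηW v * cg) := by
    rw [← crd_res (triv hLM) (inf_le_left : W ≤ U ⊓ V) hηW, Props.GenTensor.res_tmul, res_res, res_res,
      hu, hv, Props.GenTensor.tmul_smul_left, Props.GenTensor.tmul_smul_right, crd_smul, crd_smul,
      ← Props.GenTensor.res_tmul, crd_res]
  have h1 := val_gen' (triv hL) k hdim hL hg x hxU
  have h2 := val_gen' (triv hM) k hdim hM hg' x hxV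
  rw [hcu] at h1
  rw [hcv] at h2
  rw [hct, show cg = a * (ce * cf) from (div_mul_cancel₀ cg (mul_ne_zero hce hcf)).symm,
    show secK W hηW u * (secK W hηW v * (a * (ce * cf))) = a * ((secK W hηW u * ce) * (secK W hηW v * cf)) by ring,
    map_mul, map_mul P.1 (secK W hηW u * ce), h1, h2, FF.val_eq_exp_ord P ha, ← exp_add, ← exp_add, exp_inj] at h3
  change -P.ord a + (divOf k hdim hL P + divOf k hdim hM P) = divOf k hdim hLM P at h3
  omega

/-- Every divisor comes from an invertible module. -/
lemma exists_divOf_eq (D : Divisor k X.functionField) :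
    ∃ (M : X.Modules) (hM : PicF.IsInvertible M) (a : X.functionField), a ≠ 0 ∧
      divOf k hdim hM = D - div k a := by
  classical
  haveI : CompactSpace X := QuasiCompact.compactSpace_of_compactSpace (X ↘ Spec (CommRingCat.of k))
  have hg : ∀ i : X, ∃ g : X.functionField, g ≠ 0 ∧ ∀ h : IsClosed ({i} : Set X),
      D (toPlace k hdim ⟨i, h⟩) + (toPlace k hdim ⟨i, h⟩).ord g = 0 := by
    intro i
    by_cases h : IsClosed ({i} : Set X)
    · obtain ⟨g, hg⟩ := FF.exists_val (toPlace k hdim ⟨i, h⟩) (D (toPlace k hdim ⟨i, h⟩))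
      refine ⟨g, FF.ne_zero_of_val_eq_exp _ hg, fun h' => ?_⟩
      rw [FF.ord_of_val_eq _ hg]; omega
    · exact ⟨1, one_ne_zero, fun h' => absurd h' h⟩
  choose g hg0 hg using hg
  let bad : X → Set X := fun i => {y | ∃ h : IsClosed ({y} : Set X),
    D (toPlace k hdim ⟨y, h⟩) + (toPlace k hdim ⟨y, h⟩).ord (g i) ≠ 0}
  have hbad : ∀ i, (bad i).Finite := by
    intro i
    refine ((((D.support.finite_toSet.union (FF.finite_support_ord (isFF (X := X) k hdim) (g i))).image
      (fun P => ((placeEquiv k hdim).symm P).1))).subset ?_)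
    rintro y ⟨h, hy⟩
    refine ⟨toPlace k hdim ⟨y, h⟩, ?_, congrArg Subtype.val ((placeEquiv k hdim).symm_apply_apply ⟨y, h⟩)⟩
    by_contra hn
    simp only [Set.mem_union, Finset.mem_coe, Finsupp.mem_support_iff, not_or, Function.mem_support,
      not_not] at hn
    exact hy (by rw [hn.1, hn.2, add_zero])
  have hclosed : ∀ i, IsClosed (bad i) := fun i => by
    rw [← Set.biUnion_of_singleton (bad i)]
    exact (hbad i).isClosed_biUnion fun y hy => hy.1
  let W : X → X.Opens := fun i => ⟨(bad i)ᶜ, (hclosed i).isOpen_compl⟩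
  have hηbad : ∀ i, genericPoint X ∈ W i := fun i ⟨h, _⟩ => by
    have := (genericPoint_spec X).def
    rw [h.closure_eq] at this
    obtain ⟨f, hf⟩ := exists_transcendental (X := X) k hdim
    obtain ⟨P, -⟩ := FF.exists_zero (isFF (X := X) k hdim) hf
    obtain ⟨z, rfl⟩ := (placeEquiv k hdim).surjective P
    haveI := isDVR k hdim z.2
    have hz : z.1 = genericPoint X := by
      have : z.1 ∈ ({genericPoint X} : Set X) := by
        rw [‹({genericPoint X} : Set X) = Set.univ›]; trivial
      exact this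
    have hfield : IsField (X.presheaf.stalk z.1) := by
      rw [hz]; exact Field.toIsField X.functionField
    exact IsDiscreteValuationRing.not_isField _ hfield
  have hval : ∀ i j (x : ZetaLib.ClosedPt X), x.1 ∈ W i ⊓ W j →
      (toPlace k hdim x).1 (g j / g i) ≤ 1 := by
    intro i j x hx
    have h1 : D (toPlace k hdim x) + (toPlace k hdim x).ord (g i) = 0 := by
      by_contra h; exact hx.1 ⟨x.2, h⟩
    have h2 : D (toPlace k hdim x) + (toPlace k hdim x).ord (g j) = 0 := by
      by_contra h; exact hx.2 ⟨x.2, h⟩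
    rw [FF.val_le_one_iff, FF.ord_div _ (hg0 j) (hg0 i)]
    omega
  choose a ha using fun i j => exists_secK_eq k hdim (W i ⊓ W j) ⟨hηbad i, hηbad j⟩ (g j / g i) (hval i j)
  let C : LineCoc.Cocycle X :=
    { ι := X
      W := W
      a := a
      cover := fun x _ => Opens.mem_iSup.2 ⟨x, fun ⟨h, hx⟩ => hx (hg x h)⟩
      self := fun i => secK_injective (W i ⊓ W i) ⟨hηbad i, hηbad i⟩ (by rw [ha, map_one, div_self (hg0 i)])
      coc := fun i j l V h₁ h₂ h₃ => by
        by_cases hV : genericPoint X ∈ V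
        · refine secK_injective V hV ?_
          rw [map_mul]
          erw [secK_res h₁ hV, secK_res h₂ hV, secK_res h₃ hV]
          rw [ha, ha, ha, div_mul_div_comm, mul_comm (g i) (g j), mul_div_mul_left _ _ (hg0 j)]
        · have : (V : Set X) = ∅ := Set.eq_empty_iff_forall_notMem.2 fun y hy => hV (genericPoint_mem hy)
          exact TopCat.Presheaf.section_ext X.sheaf V _ _ fun y hy => absurd hy (by
            show ¬ y ∈ (V : Set X); rw [this]; exact fun h => h) }
  have hM : PicF.IsInvertible (LineCoc.mod C) := LineCoc.isInvertible C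
  set η := genericPoint X
  set c := fun i : X => crd (triv hM) (W i) (hηbad i) (LineCoc.gen C i)
  have hrel : ∀ i j, c j = g j / g i * c i := by
    intro i j
    have h := congrArg (crd (triv hM) (W i ⊓ W j) ⟨hηbad i, hηbad j⟩) (LineCoc.res_gen_eq C i j)
    rw [crd_smul] at h
    erw [crd_res, crd_res, ha] at h
    exact h
  have hc0 : ∀ i, c i ≠ 0 := fun i => crd_gen_ne_zero _ (LineCoc.isGen_gen C i) _
  set b := c η / g η
  have hb : b ≠ 0 := div_ne_zero (hc0 η) (hg0 η)
  refine ⟨LineCoc.mod C, hM, b, hb, Finsupp.ext fun P => ?_⟩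
  obtain ⟨x, rfl⟩ := (placeEquiv k hdim).surjective P
  set P := toPlace k hdim x
  rw [Finsupp.sub_apply, div_apply' k hdim]
  change divOf k hdim hM P = D P - P.ord b
  have hxW : x.1 ∈ W x.1 := fun ⟨h, hx⟩ => hx (hg x.1 h)
  have h := val_gen' (triv hM) k hdim hM (LineCoc.isGen_gen C x.1) x hxW
  change P.1 (c x.1) = exp (divOf k hdim hM P) at h
  rw [show c x.1 = b * g x.1 by rw [hrel η x.1]; simp only [b]; field_simp, map_mul,
    FF.val_eq_exp_ord P hb, FF.val_eq_exp_ord P (hg0 x.1), ← exp_add, exp_inj] at h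
  have := hg x.1 x.2
  change D P + P.ord (g x.1) = 0 at this
  omega

end Groth.Agent.FFCurve
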