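import Groth.Agent.FFCurve.PointRR
import Groth.Agent.FFCurve.Main
import Groth.Agent.FF.ConstExtBuild
import Groth.Agent.ZetaLib.Euler

/-!
# Degree classes of line bundles and the zeta function of a curve over a finite field
-/

universe u

open CategoryTheory AlgebraicGeometry FunFld

set_option linter.style.haveILetI false
set_option backward.isDefEq.respectTransparency false
set_option backward.isDefEq.respectTransparency.types false

namespace Groth.Agent.FFCurve

variable {X : Scheme.{u}}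

lemma nonempty_iso_of_cl_eq {L M : X.Modules} (h : PicF.cl L = PicF.cl M) : Nonempty (L ≅ M) :=
  Equivalence.eqvGen_iff (r := fun L L' : X.Modules => Nonempty (L ≅ L'))
    ⟨fun _ => ⟨Iso.refl _⟩, fun ⟨e⟩ => ⟨e.symm⟩, fun ⟨e⟩ ⟨e'⟩ => ⟨e.trans e'⟩⟩ |>.1
    (Quot.eqvGen_exact h)

/-- Classes of invertible modules of degree `m`. -/
abbrev PicDeg (k : Type u) [Field k] (X : Scheme.{u}) [X.Over (Spec (CommRingCat.of k))] (m : ℤ) :
    Type (u + 1) :=
  {c : PicF.Cl X // ∃ L : X.Modules, PicF.cl L = c ∧ PicF.IsInvertible L ∧ Curv2.deg k X L 1 = m}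

variable [IsIntegral X] (k : Type u) [Field k] [X.Over (Spec (CommRingCat.of k))]
  [IsProper (X ↘ Spec (CommRingCat.of k))] [RegCurve X] (hdim : topologicalKrullDim X = 1)
  (hK : IsFunctionField k X.functionField)
include hdim hK

/-- A degree `m` divisor identifies degree zero classes with classes of modules of degree `m`. -/
theorem nonempty_equiv_picDeg {m : ℤ} {D₀ : Divisor k X.functionField} (hD₀ : D₀.deg = m) :
    Nonempty (FF.Zeta.Cl0 k X.functionField ≃ PicDeg k X m) := by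
  choose M hM a ha hMa using fun c : FF.Zeta.Cl0 k X.functionField =>
    exists_divOf_eq k hdim (FF.Zeta.rep c + D₀)
  have hdeg : ∀ c, Curv2.deg k X (M c) 1 = m := fun c => by
    rw [deg_eq k hdim hK (hM c), hMa c, FF.deg_sub, FF.deg_add, FF.deg_div hK.1, FF.Zeta.deg_rep, hD₀]
    ring
  refine ⟨Equiv.ofBijective (fun c => ⟨PicF.cl (M c), M c, rfl, hM c, hdeg c⟩) ⟨fun c d h => ?_, ?_⟩⟩
  · obtain ⟨e⟩ := nonempty_iso_of_cl_eq (congrArg Subtype.val h)
    obtain ⟨z, hz, hz'⟩ : DivEq k (FF.Zeta.rep d + D₀) (FF.Zeta.rep c + D₀) :=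
      DivEq.trans' k hdim (DivEq.symm' k hdim (divEq_of_sub k hdim (ha d) (hMa d)))
        (DivEq.trans' k hdim (divEq_iso k hdim (hM c) (hM d) e) (divEq_of_sub k hdim (ha c) (hMa c)))
    have h1 := (FF.Zeta.cls_eq_iff hK (FF.Zeta.deg_rep c) (FF.Zeta.deg_rep d)).2
      ⟨z, hz, add_right_cancel (hz'.trans (add_right_comm _ _ _))⟩
    rwa [FF.Zeta.cls_rep, FF.Zeta.cls_rep] at h1
  · rintro ⟨c, L, rfl, hL, hLm⟩
    have hd : (divOf k hdim hL - D₀).deg = 0 := by
      rw [FF.deg_sub, ← deg_eq k hdim hK hL, hLm, hD₀, sub_self]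
    set c₀ := FF.Zeta.cls (divOf k hdim hL - D₀) hd
    refine ⟨c₀, Subtype.ext (Quot.sound ?_)⟩
    obtain ⟨z, hz, hz'⟩ := (FF.Zeta.cls_eq_iff hK hd (FF.Zeta.deg_rep c₀)).1 (FF.Zeta.cls_rep c₀).symm
    refine nonempty_iso_of_div k hdim (hM c₀) hL (a := z * (a c₀)⁻¹)
      (mul_ne_zero hz (inv_ne_zero (ha c₀))) ?_
    rw [FF.div_mul hK.1 hz (inv_ne_zero (ha c₀)), FF.div_inv hK.1, hMa c₀, hz']
    abel

variable [Finite k]

theorem natCard_picDeg (m : ℤ) :
    Finite (PicDeg k X m) ∧ Nonempty (PicDeg k X m) ∧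
      Nat.card (PicDeg k X m) = classNum k X.functionField := by
  obtain ⟨D₁, h1⟩ := FF.Zeta.period_eq_one hK
  obtain ⟨e⟩ := nonempty_equiv_picDeg k hdim hK (D₀ := m • D₁) (m := m) (by
    show (degHom k X.functionField) (m • D₁) = m
    rw [map_zsmul, show (degHom k X.functionField) D₁ = 1 from h1, smul_eq_mul, mul_one])
  haveI := FF.Zeta.finite_cl0 hK
  exact ⟨Finite.of_equiv _ e, ⟨e 0⟩, (Nat.card_congr e).symm⟩

/-- The zeta function of the curve is the zeta series of its function field. -/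
theorem zetaFun_eq_zetaZ :
    Zeta.zetaFun (X ↘ Spec (CommRingCat.of k)) =
      PowerSeries.map (Int.castRingHom ℚ) (zetaZ k X.functionField) := by
  have hc : PowerSeries.constantCoeff (Zeta.logZeta (X ↘ Spec (CommRingCat.of k))) = 0 :=
    ZetaLib.constantCoeff_logZeta _
  refine FF.Zeta.LogRec.unique (N := fun j => (FF.Zeta.ptCount k X.functionField j : ℚ)) ?_
    (((FF.Zeta.logRec_zetaZ hK).map (Int.castRingHom ℚ)).congr fun i _ => by simp) ?_
  · unfold FF.Zeta.LogRec
    refine (PowExp.deriv_expS hc).trans ?_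
    rw [mul_comm]
    congr 1
    ext n
    rw [PowerSeries.coeff_derivative, Zeta.logZeta, PowerSeries.coeff_mk, PowerSeries.coeff_mk,
      nPts_eq_ptCount k hdim n.succ_ne_zero]
    push_cast
    field_simp
  · refine (PowExp.constantCoeff_expS hc).trans ?_
    rw [← PowerSeries.coeff_zero_eq_constantCoeff_apply, PowerSeries.coeff_map, zetaZ,
      PowerSeries.coeff_mk, FF.Zeta.effDivCount_zero hK]
    simp

/-- Rationality with the class number as the value at one. -/
theorem exists_zeta_numer :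
    ∃ P : Polynomial ℤ, P.natDegree ≤ 2 * genus k X.functionField ∧ P.coeff 0 = 1 ∧
      P.eval 1 = (classNum k X.functionField : ℤ) ∧
      Zeta.zetaFun (X ↘ Spec (CommRingCat.of k)) *
          ((1 - PowerSeries.X) * (1 - PowerSeries.C (Nat.card k : ℚ) * PowerSeries.X)) =
        ((P.map (Int.castRingHom ℚ) : Polynomial ℚ) : PowerSeries ℚ) := by
  obtain ⟨p, hp, h1⟩ := FF.Zeta.exists_numer hK
  refine ⟨p, Polynomial.natDegree_le_iff_coeff_eq_zero.2 fun N hN => ?_, ?_, h1, ?_⟩
  · rw [← Polynomial.coeff_coe p, hp]; exact FF.Zeta.coeff_vanish hK hN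
  · rw [← Polynomial.coeff_coe p, hp]; exact FF.Zeta.coeff_numer_zero hK
  · rw [Polynomial.polynomial_map_coe, hp, zetaFun_eq_zetaZ k hdim hK, numerZ]
    simp only [map_mul, map_sub, map_one, map_natCast, PowerSeries.map_X]
    ring

end Groth.Agent.FFCurve
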