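import Groth.Agent.FFCurve.Basic
import Groth.Agent.FF.Basic
import Groth.Agent.ZetaLib.Points
import Groth.Agent.ZetaLib.ArithZeta

/-!
# Closed points of a curve and places of its function field
-/

universe u

open CategoryTheory AlgebraicGeometry FunFld WithZero
open Groth.Agent.CurveCoh

set_option linter.style.haveILetI false

namespace Groth.Agent.FFCurve

variable (k : Type u) [Field k] {X : Scheme.{u}} [IsIntegral X] [X.Over (Spec (CommRingCat.of k))]

lemma algebraMap_stalk_injective (x : X) :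
    Function.Injective (algebraMap (X.presheaf.stalk x) X.functionField) :=
  IsFractionRing.injective _ _

lemma algebraMap_germ_secK {W : X.Opens} {x : X} (hx : x ∈ W) (s : Γ(X, W)) :
    algebraMap (X.presheaf.stalk x) X.functionField (X.presheaf.germ W x hx s) =
      secK W (genericPoint_mem hx) s := algebraMap_germ x hx s

lemma algebraMap_k_stalk (x : X) (c : k) :
    algebraMap (X.presheaf.stalk x) X.functionField
        (X.presheaf.germ ⊤ x trivial (Coh.toGlobal (X ↘ Spec (CommRingCat.of k)) c)) =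
      algebraMap k X.functionField c := algebraMap_germ x (W := ⊤) trivial _

variable (hv : ∀ x : X, ValuationRing (X.presheaf.stalk x))

/-- The local ring at `x` inside the function field. -/
noncomputable def stalkVS (x : X) : ValuationSubring X.functionField where
  toSubring := (algebraMap (X.presheaf.stalk x) X.functionField).range
  mem_or_inv_mem' z := by
    haveI := hv x
    exact (ValuationRing.isInteger_or_isInteger (X.presheaf.stalk x) z).imp id id

lemma mem_stalkVS {x : X} {z : X.functionField} : z ∈ stalkVS hv x ↔ IsReg z x := Iff.rfl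

lemma stalkVS_ne_top (x : X) [IsDiscreteValuationRing (X.presheaf.stalk x)] : stalkVS hv x ≠ ⊤ := by
  intro h
  refine IsDiscreteValuationRing.not_isField (X.presheaf.stalk x) ⟨exists_pair_ne _, mul_comm,
    fun {a} ha => ?_⟩
  have hne : algebraMap (X.presheaf.stalk x) X.functionField a ≠ 0 :=
    fun e => ha (algebraMap_stalk_injective x (e.trans (map_zero _).symm))
  obtain ⟨b, hb⟩ : IsReg ((algebraMap (X.presheaf.stalk x) X.functionField a)⁻¹) x :=
    (mem_stalkVS hv).1 (h ▸ ValuationSubring.mem_top _)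
  exact ⟨b, algebraMap_stalk_injective x (by rw [map_mul, hb, mul_inv_cancel₀ hne, map_one])⟩

section Proper

variable [IsProper (X ↘ Spec (CommRingCat.of k))] [RegCurve X]
  (hdim : topologicalKrullDim X = 1)
include hdim

include k in
set_option linter.style.haveILetI false in
lemma isDVR {x : X} (hx : IsClosed ({x} : Set X)) : IsDiscreteValuationRing (X.presheaf.stalk x) := by
  haveI := FFCurve.hv (X := X) k hdim x
  haveI : IsLocallyNoetherian X := LocallyOfFiniteType.isLocallyNoetherian (X ↘ Spec (CommRingCat.of k))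
  haveI : IsPrincipalIdealRing (X.presheaf.stalk x) := by
    have hN : IsNoetherianRing (X.presheaf.stalk x) := inferInstance
    exact (IsBezout.TFAE.out 0 1).mp hN
  exact { not_a_field' := fun h => by
            have hf : IsField (X.presheaf.stalk x) := IsLocalRing.isField_iff_maximalIdeal_eq.2 h
            have h0 := ringKrullDim_eq_zero_of_isField hf
            rw [ringKrullDim_stalk_eq_coheight,
              CurveDVR.coheight_eq_one (X ↘ Spec (CommRingCat.of k)) hdim hx] at h0
            exact one_ne_zero h0 }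

lemma exists_place_stalk (x : ZetaLib.ClosedPt X) :
    ∃ P : Place k X.functionField, P.O = stalkVS (FFCurve.hv k hdim) x.1 := by
  haveI := isDVR k hdim x.2
  exact FF.exists_place_O_eq (isFF k hdim) (stalkVS (FFCurve.hv k hdim) x.1)
    (fun c => ⟨_, algebraMap_k_stalk k x.1 c⟩) (stalkVS_ne_top _ x.1)

/-- The place of a closed point. -/
noncomputable def toPlace (x : ZetaLib.ClosedPt X) : Place k X.functionField :=
  (exists_place_stalk k hdim x).choose

lemma toPlace_O (x : ZetaLib.ClosedPt X) :
    (toPlace k hdim x).O = stalkVS (FFCurve.hv k hdim) x.1 :=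
  (exists_place_stalk k hdim x).choose_spec

lemma val_toPlace_le_one_iff (x : ZetaLib.ClosedPt X) (z : X.functionField) :
    (toPlace k hdim x).1 z ≤ 1 ↔ IsReg z x.1 := by
  rw [← FF.mem_O, toPlace_O k hdim x]; exact Iff.rfl

include k in
lemma exists_regLocus_mem {f : X.functionField} (x : X) : x ∈ regLocus f ∨ x ∈ regLocus f⁻¹ := by
  have h : x ∈ regLocus f ⊔ regLocus f⁻¹ := by
    rw [regLocus_sup_inv (FFCurve.hv k hdim) f]; trivial
  exact h

lemma isUnit_germ_iff {W : X.Opens} (x : ZetaLib.ClosedPt X) (hx : x.1 ∈ W) (a : Γ(X, W)) :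
    x.1 ∈ X.basicOpen a ↔ (toPlace k hdim x).1 (secK W (genericPoint_mem hx) a) = 1 := by
  set P := toPlace k hdim x
  rw [Scheme.mem_basicOpen _ _ x.1 hx, ← algebraMap_germ_secK hx]
  set z := X.presheaf.germ W x.1 hx a
  constructor
  · rintro ⟨w, hw⟩
    rw [← hw]
    have h1 := (val_toPlace_le_one_iff k hdim x _).2 ⟨(w : X.presheaf.stalk x.1), rfl⟩
    have h2 := (val_toPlace_le_one_iff k hdim x _).2 ⟨((w⁻¹ : (X.presheaf.stalk x.1)ˣ) : X.presheaf.stalk x.1), rfl⟩
    refine le_antisymm h1 ?_
    rw [map_units_inv, map_inv₀] at h2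
    have hne : P.1 (algebraMap (X.presheaf.stalk x.1) X.functionField (w : X.presheaf.stalk x.1)) ≠ 0 := by
      rw [Valuation.ne_zero_iff]
      exact fun e => w.ne_zero (algebraMap_stalk_injective x.1 (e.trans (map_zero _).symm))
    rwa [inv_le_one₀ (zero_lt_iff.2 hne)] at h2
  · intro h
    have hne : algebraMap (X.presheaf.stalk x.1) X.functionField z ≠ 0 := fun e => by simp [e] at h
    obtain ⟨b, hb⟩ := (val_toPlace_le_one_iff k hdim x
      ((algebraMap (X.presheaf.stalk x.1) X.functionField z)⁻¹)).1 (by rw [map_inv₀, h, inv_one])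
    exact IsUnit.of_mul_eq_one b (algebraMap_stalk_injective x.1
      (by rw [map_mul, hb, mul_inv_cancel₀ hne, map_one]))

lemma toPlace_injective : Function.Injective (toPlace (X := X) k hdim) := by
  intro x y h
  obtain ⟨f, hf⟩ := exists_transcendental (X := X) k hdim
  have hreg : ∀ z, IsReg z x.1 ↔ IsReg z y.1 := fun z => by
    rw [← val_toPlace_le_one_iff k hdim x, h, val_toPlace_le_one_iff k hdim y]
  obtain ⟨f, hf, hx⟩ : ∃ f : X.functionField, Transcendental k f ∧ x.1 ∈ regLocus f := by
    rcases exists_regLocus_mem k hdim (f := f) x.1 with hx | hx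
    · exact ⟨f, hf, hx⟩
    · exact ⟨f⁻¹, (transc_iff k _).1 ((transc_iff k f).2 hf).inv, hx⟩
  have hy : y.1 ∈ regLocus f := (hreg f).1 hx
  have hU := isAffineOpen_regLocus k (FFCurve.hv k hdim) hdim f ((transc_iff k f).2 hf)
  have hb : ∀ a : Γ(X, regLocus f), x.1 ∈ X.basicOpen a ↔ y.1 ∈ X.basicOpen a := fun a => by
    rw [isUnit_germ_iff k hdim x hx, isUnit_germ_iff k hdim y hy, h]
  refine Subtype.ext (Inseparable.eq (inseparable_iff_forall_isOpen.2 fun s hs => ⟨fun hxs => ?_, fun hys => ?_⟩))
  · obtain ⟨a, hle, ha⟩ := hU.exists_basicOpen_le (V := ⟨s, hs⟩) ⟨x.1, hxs⟩ hx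
    exact hle ((hb a).1 ha)
  · obtain ⟨a, hle, ha⟩ := hU.exists_basicOpen_le (V := ⟨s, hs⟩) ⟨y.1, hys⟩ hy
    exact hle ((hb a).2 ha)

omit [RegCurve X] in
lemma val_secK_le_one (hv : ∀ x : X, ValuationRing (X.presheaf.stalk x))
    (P : Place k X.functionField) {f : X.functionField} (hf : Transcendental k f)
    (hP : P.1 f ≤ 1) (a : Γ(X, regLocus f)) :
    P.1 (secK (regLocus f) (genericPoint_mem_regLocus f) a) ≤ 1 := by
  letI : Algebra (Polynomial k) Γ(X, regLocus f) := (polyMap k f).hom.toAlgebra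
  haveI hfin : Module.Finite (Polynomial k) Γ(X, regLocus f) :=
    finite_polyMap k hv hdim f ((transc_iff k f).2 hf)
  obtain ⟨p, hpm, hp0⟩ := Algebra.IsIntegral.isIntegral (R := Polynomial k) a
  let φ : Polynomial k →+* P.O :=
    ((Polynomial.aeval (R := k) (⟨f, (FF.mem_O P).2 hP⟩ : P.O))).toRingHom
  have hcomp : (algebraMap P.O X.functionField).comp φ =
      (secK (regLocus f) (genericPoint_mem_regLocus f)).comp
        (algebraMap (Polynomial k) Γ(X, regLocus f)) := by
    refine Polynomial.ringHom_ext (fun c => ?_) ?_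
    · simp only [RingHom.comp_apply, φ, AlgHom.toRingHom_eq_coe, RingHom.coe_coe, Polynomial.aeval_C]
      exact ((secK_polyMap k f (Polynomial.C c)).trans (Polynomial.aeval_C f c)).symm
    · simp only [RingHom.comp_apply, φ, AlgHom.toRingHom_eq_coe, RingHom.coe_coe, Polynomial.aeval_X]
      exact ((secK_polyMap k f Polynomial.X).trans (Polynomial.aeval_X f)).symm
  have hint : IsIntegral P.O (secK (regLocus f) (genericPoint_mem_regLocus f) a) := by
    refine ⟨p.map φ, hpm.map φ, ?_⟩
    rw [Polynomial.eval₂_map, hcomp, ← Polynomial.hom_eval₂, hp0, map_zero]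
  obtain ⟨y, hy⟩ := IsIntegrallyClosed.isIntegral_iff.1 hint
  rw [← hy]
  exact (FF.mem_O P).1 y.2

lemma toPlace_surjective : Function.Surjective (toPlace (X := X) k hdim) := by
  intro P
  have hv' := FFCurve.hv (X := X) k hdim
  obtain ⟨f₀, hf₀⟩ := exists_transcendental (X := X) k hdim
  obtain ⟨f, hf, hP⟩ : ∃ f : X.functionField, Transcendental k f ∧ P.1 f ≤ 1 := by
    rcases le_total (P.1 f₀) 1 with h | h
    · exact ⟨f₀, hf₀, h⟩
    · refine ⟨f₀⁻¹, (transc_iff k _).1 ((transc_iff k f₀).2 hf₀).inv, ?_⟩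
      rw [map_inv₀]; exact inv_le_one_of_one_le₀ h
  have hU := isAffineOpen_regLocus k hv' hdim f ((transc_iff k f).2 hf)
  set σ := secK (regLocus f) (genericPoint_mem_regLocus f)
  let 𝔭 : Ideal Γ(X, regLocus f) :=
    { carrier := {a | P.1 (σ a) < 1}
      add_mem' := fun {a b} ha hb => by
        show P.1 (σ (a + b)) < 1
        rw [map_add]; exact (P.1.map_add _ _).trans_lt (max_lt ha hb)
      zero_mem' := by show P.1 (σ 0) < 1; simp
      smul_mem' := fun c a ha => by
        show P.1 (σ (c • a)) < 1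
        rw [smul_eq_mul, map_mul, map_mul]
        exact (mul_le_of_le_one_left' (val_secK_le_one k hdim hv' P hf hP c)).trans_lt ha }
  have hprime : 𝔭.IsPrime := by
    refine ⟨fun h => ?_, fun {a b} hab => ?_⟩
    · have : (1 : Γ(X, regLocus f)) ∈ 𝔭 := h ▸ trivial
      change P.1 (σ 1) < 1 at this
      simp at this
    · by_contra! h
      change ¬ P.1 (σ a) < 1 ∧ ¬ P.1 (σ b) < 1 at h
      change P.1 (σ (a * b)) < 1 at hab
      rw [map_mul, map_mul, le_antisymm (val_secK_le_one k hdim hv' P hf hP a) (not_lt.1 h.1),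
        le_antisymm (val_secK_le_one k hdim hv' P hf hP b) (not_lt.1 h.2), mul_one] at hab
      exact lt_irrefl _ hab
  let y : PrimeSpectrum Γ(X, regLocus f) := ⟨𝔭, hprime⟩
  have hy : hU.fromSpec y ∈ regLocus f := by
    have := hU.range_fromSpec ▸ Set.mem_range_self y
    exact this
  letI : Algebra Γ(X, regLocus f) (X.presheaf.stalk (hU.fromSpec y)) :=
    TopCat.Presheaf.algebra_section_stalk X.presheaf ⟨hU.fromSpec y, hy⟩
  haveI : IsLocalization 𝔭.primeCompl (X.presheaf.stalk (hU.fromSpec y)) :=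
    hU.isLocalization_stalk' y hy
  have hle : ∀ s : X.presheaf.stalk (hU.fromSpec y),
      P.1 (algebraMap _ X.functionField s) ≤ 1 ∧
        (¬ IsUnit s → P.1 (algebraMap _ X.functionField s) < 1) := by
    intro s
    obtain ⟨⟨a, b⟩, hab⟩ := IsLocalization.surj 𝔭.primeCompl s
    have hb : P.1 (σ b.1) = 1 :=
      le_antisymm (val_secK_le_one k hdim hv' P hf hP b.1) (not_lt.1 b.2)
    have h1 := congrArg (algebraMap (X.presheaf.stalk (hU.fromSpec y)) X.functionField) hab
    rw [map_mul] at h1
    erw [algebraMap_germ_secK hy, algebraMap_germ_secK hy] at h1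
    have h2 := congrArg P.1 h1
    rw [map_mul] at h2
    erw [hb, mul_one] at h2
    refine ⟨h2 ▸ val_secK_le_one k hdim hv' P hf hP a, fun hs => h2 ▸ ?_⟩
    by_contra ha
    refine hs ?_
    have hu : IsUnit (algebraMap Γ(X, regLocus f) (X.presheaf.stalk (hU.fromSpec y)) a) :=
      IsLocalization.map_units _ (⟨a, ha⟩ : 𝔭.primeCompl)
    rw [← hab] at hu
    exact isUnit_of_mul_isUnit_left hu
  have hclosed : IsClosed ({hU.fromSpec y} : Set X) := by
    refine VarDim.isClosed_singleton_of_ne_genericPoint k hdim fun h => ?_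
    obtain ⟨z, hz⟩ := FF.exists_val P 1
    have hreg : IsReg z (hU.fromSpec y) := by
      rw [h]; exact genericPoint_mem_regLocus (X := X) z |> fun hz' => hz'
    obtain ⟨s, hs⟩ := hreg
    have := (hle s).1
    rw [hs, hz, ← exp_zero, exp_le_exp] at this
    omega
  refine ⟨⟨_, hclosed⟩, (FF.ext_of_O fun z hz => ?_)⟩
  rw [val_toPlace_le_one_iff] at hz
  obtain ⟨s, rfl⟩ := hz
  exact (hle s).1

/-- Closed points correspond to places. -/
noncomputable def placeEquiv : ZetaLib.ClosedPt X ≃ Place k X.functionField :=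
  Equiv.ofBijective _ ⟨toPlace_injective k hdim, toPlace_surjective k hdim⟩

lemma finrank_residueField (x : ZetaLib.ClosedPt X) :
    EGA4loc.residueDegree (X ↘ Spec (CommRingCat.of k)) x.1 = (toPlace k hdim x).deg := by
  set P := toPlace k hdim x
  rw [ZetaLib.residueDegree_eq_finrank, Place.deg]
  letI := (Weil.structMap (X ↘ Spec (CommRingCat.of k)) x.1).toAlgebra
  have hmem : ∀ z : X.presheaf.stalk x.1, algebraMap (X.presheaf.stalk x.1) X.functionField z ∈ P.O :=
    fun z => (FF.mem_O P).2 ((val_toPlace_le_one_iff k hdim x _).2 ⟨z, rfl⟩)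
  let e₁ : X.presheaf.stalk x.1 ≃+* P.O :=
    RingEquiv.ofBijective ((algebraMap (X.presheaf.stalk x.1) X.functionField).codRestrict P.O hmem)
      ⟨fun a b h => algebraMap_stalk_injective x.1 (congrArg Subtype.val h), fun w => by
        obtain ⟨a, ha⟩ := (val_toPlace_le_one_iff k hdim x w.1).1 ((FF.mem_O P).1 w.2)
        exact ⟨a, Subtype.ext ha⟩⟩
  let e : X.residueField x.1 ≃+* IsLocalRing.ResidueField P.O := IsLocalRing.ResidueField.mapEquiv e₁
  refine Algebra.finrank_eq_of_equiv_equiv (RingEquiv.refl k) e ?_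
  ext c
  refine congrArg (IsLocalRing.residue P.O) (Subtype.ext ?_)
  exact (algebraMap_k_stalk k x.1 c).symm

end Proper

end Groth.Agent.FFCurve
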