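import Groth.Agent.RegLoc.AdicNoeth
import Groth.Agent.PlanePts.Forms
import Mathlib.RingTheory.Polynomial.UniqueFactorization

/-!
# Forms in three variables modulo a form and a power of the last variable
-/

set_option autoImplicit false
set_option linter.style.haveILetI false

open MvPolynomial

namespace Groth.Agent.FFCurve.PlaneForms

variable {k : Type*} [Field k]

local notation "S" => MvPolynomial (Fin 3) k

/-- Setting the last variable to zero. -/
noncomputable def π : S →ₐ[k] S := aeval ![X 0, X 1, 0]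

lemma X_two_dvd_sub (G : S) : X 2 ∣ G - π G := by
  induction G using MvPolynomial.induction_on with
  | C c => simp [π]
  | add p q hp hq =>
    rw [map_add, add_sub_add_comm]
    exact dvd_add hp hq
  | mul_X p i hp =>
    rw [map_mul, show p * X i - π p * π (X i) = (p - π p) * X i + π p * (X i - π (X i)) by ring]
    refine dvd_add (dvd_mul_of_dvd_left hp _) (dvd_mul_of_dvd_right ?_ _)
    fin_cases i <;> simp [π]

lemma π_X_two : π (k := k) (X 2) = 0 := by simp [π]

lemma π_ne_zero {f : S} (h : ¬ X 2 ∣ f) : π f ≠ 0 := fun e => h (by simpa [e] using X_two_dvd_sub f)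

lemma dvd_of_dvd_mul_both {f a b c : S} (hf : f ≠ 0) (hab : ∀ p : S, Prime p → p ∣ a → ¬ p ∣ b)
    (ha : f ∣ a * c) (hb : f ∣ b * c) : f ∣ c := by
  induction f using UniqueFactorizationMonoid.induction_on_prime generalizing c with
  | h₁ => exact absurd rfl hf
  | h₂ u hu => exact hu.dvd
  | h₃ f p hf0 hp ih =>
    have hpc : p ∣ c := by
      rcases hp.dvd_or_dvd ((dvd_mul_right p f).trans ha) with h | h
      · exact (hp.dvd_or_dvd ((dvd_mul_right p f).trans hb)).resolve_left (hab p hp h)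
      · exact h
    obtain ⟨c', rfl⟩ := hpc
    rw [mul_left_comm, mul_dvd_mul_iff_left hp.ne_zero] at ha hb
    exact mul_dvd_mul_left p (ih hf0 ha hb)

lemma X_prime_sep (e e' : ℕ) (p : S) (hp : Prime p) (h : p ∣ X 0 ^ e) : ¬ p ∣ X 1 ^ e' := by
  intro h'
  have h0 := (MvPolynomial.X_prime (R := k) (i := (0 : Fin 3)))
  have h1 := (MvPolynomial.X_prime (R := k) (i := (1 : Fin 3)))
  have a0 := (hp.irreducible.associated_of_dvd h0.irreducible (hp.dvd_of_dvd_pow h))
  have a1 := (hp.irreducible.associated_of_dvd h1.irreducible (hp.dvd_of_dvd_pow h'))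
  have := (a0.symm.trans a1).dvd
  obtain ⟨c, hc⟩ := this
  have := congrArg (MvPolynomial.eval (![0, 1, 0] : Fin 3 → k)) hc
  simp at this

/-- The ideal generated by `f` and a power of the last variable is saturated. -/
theorem sat {f : S} (hf : ¬ X 2 ∣ f) (e : ℕ) : ∀ (a : ℕ) (G A B A' B' : S),
    X 0 ^ e * G = f * A + X 2 ^ a * B → X 1 ^ e * G = f * A' + X 2 ^ a * B' →
      ∃ A₀ B₀ : S, G = f * A₀ + X 2 ^ a * B₀
  | 0, G, _, _, _, _, _, _ => ⟨0, G, by simp⟩
  | a + 1, G, A, B, A', B', h, h' => by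
    have hd : π f ∣ π G := by
      refine dvd_of_dvd_mul_both (π_ne_zero hf) (X_prime_sep e e) ?_ ?_
      · refine ⟨π A, ?_⟩
        have := congrArg π h
        simpa [π] using this
      · refine ⟨π A', ?_⟩
        have := congrArg π h'
        simpa [π] using this
    obtain ⟨c, hc⟩ := hd
    obtain ⟨G', hG'⟩ : X 2 ∣ G - f * c := by
      rw [show G - f * c = (G - π G) - (f - π f) * c by rw [hc]; ring]
      exact dvd_sub (X_two_dvd_sub G) (dvd_mul_of_dvd_left (X_two_dvd_sub f) c)
    have hG : G = f * c + X 2 * G' := by linear_combination hG'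
    have key : ∀ (u A B : S), u * G = f * A + X 2 ^ (a + 1) * B → ∃ A₂, u * G' = f * A₂ + X 2 ^ a * B := by
      intro u A B hu
      have hdv : X 2 ∣ f * (A - u * c) := ⟨u * G' - X 2 ^ a * B, by rw [hG] at hu; linear_combination -hu⟩
      obtain ⟨w, hw⟩ := ((MvPolynomial.X_prime (i := (2 : Fin 3))).dvd_or_dvd hdv).resolve_left hf
      refine ⟨w, mul_left_cancel₀ (MvPolynomial.X_ne_zero (2 : Fin 3)) ?_⟩
      rw [hG] at hu
      linear_combination hu + f * hw
    obtain ⟨A₂, h2⟩ := key _ A B h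
    obtain ⟨A₂', h2'⟩ := key _ A' B' h'
    obtain ⟨A₀, B₀, h0⟩ := sat hf e a G' A₂ B A₂' B' h2 h2'
    exact ⟨c + X 2 * A₀, B₀, by rw [hG, h0]; ring⟩

lemma comp_mul {F : S} {a : ℕ} (hF : F.IsHomogeneous a) (A : S) (b : ℕ) :
    homogeneousComponent (a + b) (F * A) = F * homogeneousComponent b A := by
  rw [mul_comm F A, RegLoc.AdicNoeth.homogeneousComponent_mul_of_isHomogeneous hF, if_pos (by omega),
    show a + b - a = b by omega, mul_comm]

/-- If `X^e G` and `Y^e G` are congruent to multiples of `Z^e` modulo `f`, so is `G`, homogeneously. -/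
theorem exists_form {f : S} {d : ℕ} (hd : f.IsHomogeneous d) (hf : ¬ X 2 ∣ f) {e m : ℕ} {G G₀ G₁ : S}
    (hG : G.IsHomogeneous (e + m)) (h0 : f ∣ X 0 ^ e * G - X 2 ^ e * G₀) (h1 : f ∣ X 1 ^ e * G - X 2 ^ e * G₁) :
    ∃ B : S, B.IsHomogeneous m ∧ f ∣ G - X 2 ^ e * B := by
  obtain ⟨A, hA⟩ := h0
  obtain ⟨A', hA'⟩ := h1
  obtain ⟨A₀, B₀, h⟩ := sat hf e e G A G₀ A' G₁ (by linear_combination hA) (by linear_combination hA')
  refine ⟨homogeneousComponent m B₀, homogeneousComponent_isHomogeneous m B₀, ?_⟩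
  have hX : (X 2 ^ e : S).IsHomogeneous e := by
    simpa using (isHomogeneous_X k (2 : Fin 3)).pow e
  have := congrArg (homogeneousComponent (e + m)) h
  rw [homogeneousComponent_of_mem hG, if_pos rfl, map_add, comp_mul hX] at this
  rw [this, add_sub_cancel_right, mul_comm f, RegLoc.AdicNoeth.homogeneousComponent_mul_of_isHomogeneous hd]
  split_ifs
  · exact dvd_mul_left f _
  · exact dvd_zero f

end Groth.Agent.FFCurve.PlaneForms
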