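import Groth.Agent.FFCurve.Curve
import Groth.Agent.FF.GenusOne
import Groth.Agent.ZetaLib.Decomp

/-!
# Curves with a rational point
-/

universe u v w

open CategoryTheory AlgebraicGeometry TopologicalSpace FunFld WithZero
open Groth.Agent.CurveCoh

set_option linter.style.haveILetI false
set_option linter.unusedSectionVars false
set_option backward.isDefEq.respectTransparency false
set_option backward.isDefEq.respectTransparency.types false

namespace Groth.Agent.FFCurve

section Field

variable {k : Type v} {K : Type w} [Field k] [Field K] [Algebra k K]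

/-- A place of degree one has residue field the constants. -/
lemma exists_sub_const_lt {P : Place k K} (hP : P.deg = 1) {z : K} (hz : P.1 z ≤ 1) :
    ∃ c : k, P.1 (z - algebraMap k K c) < 1 := by
  let a : P.O := ⟨z, (FF.mem_O P).2 hz⟩
  obtain ⟨c, hc⟩ := (finrank_eq_one_iff_of_nonzero' (1 : IsLocalRing.ResidueField P.O) one_ne_zero).1
    hP (FF.resHom P a)
  refine ⟨c, ?_⟩
  have h : FF.resHom P (a - algebraMap k P.O c) = 0 := by
    rw [map_sub, AlgHom.commutes, ← hc, Algebra.smul_def, mul_one, sub_self]
  exact (FF.resHom_eq_zero_iff P).1 h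

/-- A function field with a place of degree one has no new constants. -/
lemma isFunctionField_of_place_deg_one (hF : FF.IsFF k K) {P : Place k K} (hP : P.deg = 1) :
    IsFunctionField k K := by
  refine ⟨hF, fun y hy => ?_⟩
  obtain ⟨c, hc⟩ := exists_sub_const_lt hP (z := y)
    (by rw [FF.val_le_one_iff, FF.ord_eq_zero_of_isAlgebraic P hy])
  refine ⟨c, ?_⟩
  by_contra hne
  have hne' : y - algebraMap k K c ≠ 0 := sub_ne_zero.2 fun e => hne e.symm
  rw [FF.val_lt_one_iff P hne', FF.ord_eq_zero_of_isAlgebraic P (hy.sub (isAlgebraic_algebraMap c))] at hc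
  exact lt_irrefl _ hc

end Field

variable {k : Type u} [Field k] {X : Scheme.{u}} [IsIntegral X] [X.Over (Spec (CommRingCat.of k))]
  [IsProper (X ↘ Spec (CommRingCat.of k))] [RegCurve X]

/-- The place of a rational point. -/
theorem exists_place_of_point (hdim : topologicalKrullDim X = 1) (o : Spec (CommRingCat.of k) ⟶ X)
    (ho : o ≫ (X ↘ Spec (CommRingCat.of k)) = 𝟙 _) :
    ∃ x : ZetaLib.ClosedPt X, (toPlace k hdim x).deg = 1 ∧
      x.1 = o (IsLocalRing.closedPoint k) := by
  haveI : IsClosedImmersion o := by
    haveI : IsClosedImmersion (o ≫ (X ↘ Spec (CommRingCat.of k))) := by rw [ho]; infer_instance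
    exact IsClosedImmersion.of_comp o (X ↘ Spec (CommRingCat.of k))
  set s := IsLocalRing.closedPoint k
  have hcl : IsClosed ({o s} : Set X) := by
    rw [← Set.image_singleton]
    exact o.isClosedEmbedding.isClosedMap _ (isClosed_discrete _)
  refine ⟨⟨o s, hcl⟩, ?_, rfl⟩
  rw [← finrank_residueField k hdim ⟨o s, hcl⟩,
    ← ZetaLib.residueDegree_comp_preimmersion o (X ↘ Spec (CommRingCat.of k)) s, ho,
    ZetaLib.residueDegree_eq_residueDegree]
  exact ZetaLib.residueDegree_preimmersion (𝟙 (Spec (CommRingCat.of k))) s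

variable (k)

include k in
/-- Opens containing the generic point agree when they agree on closed points. -/
lemma opens_le_of_closedPt (hdim : topologicalKrullDim X = 1) {V W : X.Opens} (hW : genericPoint X ∈ W)
    (h : ∀ x : ZetaLib.ClosedPt X, x.1 ∈ V → x.1 ∈ W) : V ≤ W := fun z hz => by
  by_cases hη : z = genericPoint X
  · exact hη ▸ hW
  · exact h ⟨z, VarDim.isClosed_singleton_of_ne_genericPoint k hdim hη⟩ hz

lemma mem_regLocus_iff_val (hdim : topologicalKrullDim X = 1) (z : X.functionField)
    (x : ZetaLib.ClosedPt X) : x.1 ∈ regLocus z ↔ (toPlace k hdim x).1 z ≤ 1 :=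
  (val_toPlace_le_one_iff k hdim x z).symm

end Groth.Agent.FFCurve
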