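import Groth.Agent.FFCurve.PlaneChart
import Groth.Agent.FFCurve.PlaneForms
import Groth.Agent.FFCurve.Genus
import Groth.Agent.FFCurve.AlgClosed
import Groth.Agent.FFCurve.RatPoint
import Groth.Agent.S10820
import Groth.Agent.S10822
import Groth.Agent.S19926
import Groth.Agent.S18573

/-!
# A smooth plane curve and its function field
-/

set_option autoImplicit false
set_option linter.style.haveILetI false
set_option linter.unusedSectionVars false
set_option backward.isDefEq.respectTransparency false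
set_option backward.isDefEq.respectTransparency.types false

universe u

open CategoryTheory AlgebraicGeometry TopologicalSpace FunFld WithZero
open Groth.Agent.CurveCoh

noncomputable section

namespace Groth.Agent.FFCurve.Plane

open Groth.Agent.SepTang48 (D const ρ isAffineOpen_D iSup_D)
open Groth.Agent.QCoh Groth.Agent.ProjMorph Groth.Agent.Props.ProjFrame

variable {k : Type u} [Field k] {d : ℕ} (f : LefPen.Form 2 k d)

local notation "S" => MvPolynomial (Fin 3) k
/-- The plane curve of a form. -/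
abbrev Cv : Scheme.{u} := Scheme.IdealSheafData.subscheme (LefPen.hypIdeal f)

/-- Its embedding in the plane. -/
abbrev ιv : Cv f ⟶ CohB1.ProjSpace 2 k := Scheme.IdealSheafData.subschemeι (LefPen.hypIdeal f)

lemma isHomogeneous_form : f.1.IsHomogeneous d := (MvPolynomial.mem_homogeneousSubmodule _ _).1 f.2

lemma app_surjective (i : Fin 3) : Function.Surjective ((ιv f).app (D k 2 i)) :=
  (LefPen.hypIdeal f).subschemeι_app_surjective ⟨D k 2 i, isAffineOpen_D k 2 i⟩

lemma app_eq_zero_iff (i : Fin 3) (a : Γ(CohB1.ProjSpace 2 k, D k 2 i)) :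
    (ιv f).app (D k 2 i) a = 0 ↔ a ∈ Ideal.span {ev i f.1} := by
  have h := (LefPen.hypIdeal f).ker_subschemeι_app ⟨D k 2 i, isAffineOpen_D k 2 i⟩
  have h' := LefHyp.hypIdeal_ideal_of_le f i ⟨D k 2 i, isAffineOpen_D k 2 i⟩ le_rfl
  rw [h', dehom_eq_ev] at h
  rw [show rres (le_refl (D k 2 i)) (ev i f.1) = ev i f.1 by
    change (CohB1.ProjSpace 2 k).presheaf.map (homOfLE le_rfl).op (ev i f.1) = _
    rw [show (homOfLE (le_refl (D k 2 i))).op = 𝟙 _ from Subsingleton.elim _ _, CategoryTheory.Functor.map_id]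
    rfl] at h
  exact SetLike.ext_iff.1 h a

lemma range_ι : Set.range (ιv f) =
    ProjectiveSpectrum.zeroLocus (CohB1.polyGrading 2 k) ({f.1} : Set S) := by
  rw [Scheme.IdealSheafData.range_subschemeι]
  ext x
  obtain ⟨i, hi⟩ : ∃ i, x ∈ D k 2 i := SepTang48.exists_mem_D x
  have key : x ∈ (LefPen.hypIdeal f).support ↔
      x ∉ (CohB1.ProjSpace 2 k).basicOpen (LefPen.dehom f i) := by
    have h := Set.ext_iff.1 ((LefPen.hypIdeal f).coe_support_inter ⟨D k 2 i, isAffineOpen_D k 2 i⟩) x
    rw [LefHyp.hypIdeal_ideal_of_le f i ⟨D k 2 i, isAffineOpen_D k 2 i⟩ le_rfl] at h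
    simp only [Set.mem_inter_iff, SetLike.mem_coe, hi, and_true, Scheme.zeroLocus_span,
      Scheme.zeroLocus_singleton, Set.mem_compl_iff] at h
    rw [h]
    exact not_congr (by rw [Scheme.basicOpen_res]; simp [hi])
  rw [SetLike.mem_coe, key, LefHyp.dehom_eq_coeff f i (LefHyp.D_le_pow i d)]
  have hb := basicOpen_coeff (𝒜 := CohB1.polyGrading 2 k) f.2 (LefHyp.X_pow_mem i d) (D k 2 i) (LefHyp.D_le_pow i d)
  refine Iff.trans (not_congr (show x ∈ (CohB1.ProjSpace 2 k).basicOpen
      (coeff f.2 (LefHyp.X_pow_mem i d) (D k 2 i) (LefHyp.D_le_pow i d)) ↔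
      (f.1 : S) ∉ (show ProjectiveSpectrum (CohB1.polyGrading 2 k) from x).asHomogeneousIdeal from
    (SetLike.ext_iff.1 hb x).trans ⟨fun h => h.2, fun h => ⟨hi, h⟩⟩)) ?_
  rw [not_not]
  exact Set.singleton_subset_iff.symm

variable {f}

lemma add_one_cancel {a : WithBot ℕ∞} {n : ℕ} (h : a + 1 = (n : WithBot ℕ∞) + 1) : a = n := by
  induction a using WithBot.recBotCoe with
  | bot =>
    rw [WithBot.bot_add] at h
    exact absurd h (WithBot.bot_ne_coe (a := (n : ℕ∞) + 1))
  | coe a =>
    rw [show ((n : WithBot ℕ∞)) = ((n : ℕ∞) : WithBot ℕ∞) from rfl, ← WithBot.coe_one, ← WithBot.coe_add,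
      ← WithBot.coe_add, WithBot.coe_inj] at h
    exact congrArg _ (WithTop.add_right_cancel (by simp) h)

lemma connectedSpace (hf : f ≠ 0) (hd : 0 < d) : ConnectedSpace (Cv f) := by
  have h := S10820.result k 2 d le_rfl f.1 (isHomogeneous_form f) hd (fun e => hf (Subtype.ext e))
  rw [← range_ι] at h
  haveI := Subtype.connectedSpace h
  exact ((ιv f).isEmbedding.toHomeomorph.symm.surjective.connectedSpace
    ((ιv f).isEmbedding.toHomeomorph.symm.continuous))

lemma dim_eq_one [IrreducibleSpace (Cv f)] (hf : f ≠ 0) (hd : 0 < d) : topologicalKrullDim (Cv f) = 1 := by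
  rw [(ιv f).isEmbedding.toHomeomorph.isHomeomorph.topologicalKrullDim_eq, range_ι]
  let Z := ProjectiveSpectrum.zeroLocus (CohB1.polyGrading 2 k) ({f.1} : Set S)
  have hdim2 := S19926.result k 2 ⊥ (Ideal.IsHomogeneous.bot _) (by
    intro h
    have := h (HomogeneousIdeal.mem_irrelevant_of_mem _ one_pos (LefPen.X_mem 2 k 0))
    exact MvPolynomial.X_ne_zero 0 (Ideal.mem_bot.1 this))
  have hu : ProjectiveSpectrum.zeroLocus (CohB1.polyGrading 2 k)
      ((⊥ : Ideal S) : Set S) = Set.univ := by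
    ext x; simp
  rw [hu, (RingEquiv.quotientBot S).ringKrullDim, MvPolynomial.ringKrullDim_of_isNoetherianRing] at hdim2
  simp only [ringKrullDim_eq_zero_of_field, Nat.card_fin, zero_add] at hdim2
  have huniv : topologicalKrullDim ↥(Set.univ : Set (ProjectiveSpectrum (CohB1.polyGrading 2 k))) = 2 :=
    add_one_cancel (hdim2.symm.trans (by norm_num))
  have h10 := S10822.result k 2 d Set.univ isClosed_univ
    (haveI := S18573.irreducibleSpace_projSpace 2 k; IrreducibleSpace.isIrreducible_univ (CohB1.ProjSpace 2 k)) (by rw [huniv]; norm_num) f.1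
    (isHomogeneous_form f) (S10820.result k 2 d le_rfl f.1 (isHomogeneous_form f) hd
      (fun e => hf (Subtype.ext e))).nonempty (by
      intro h
      obtain ⟨e, he⟩ : ∃ x : ProjectiveSpectrum (CohB1.polyGrading 2 k), x.asHomogeneousIdeal.toIdeal = ⊥ :=
        ⟨⟨⊥, Ideal.isPrime_bot, fun h => MvPolynomial.X_ne_zero 0 (Ideal.mem_bot.1
          (h (HomogeneousIdeal.mem_irrelevant_of_mem _ one_pos (LefPen.X_mem 2 k 0))))⟩, rfl⟩
      have := h (Set.mem_univ e)
      rw [ProjectiveSpectrum.mem_zeroLocus, Set.singleton_subset_iff, SetLike.mem_coe,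
        ← HomogeneousIdeal.mem_iff] at this
      rw [he] at this
      exact hf (Subtype.ext this))
  haveI : IrreducibleSpace ↥Z := by
    have : IrreducibleSpace ↥(Set.range (ιv f)) :=
      ((ιv f).isEmbedding.toHomeomorph.symm).irreducibleSpace_iff.2 inferInstance
    rwa [range_ι] at this
  have hC := h10.2
  rw [Set.univ_inter] at hC
  have h2 := hC Set.univ (by
    rw [irreducibleComponents_eq_singleton]; rfl)
  rw [(Homeomorph.Set.univ _).isHomeomorph.topologicalKrullDim_eq] at h2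
  exact add_one_cancel (h2.trans (huniv.trans (by norm_num)))

section Curve

variable [IsIntegral (Cv f)] [(Cv f).Over (Spec (CommRingCat.of k))]
  [IsProper ((Cv f) ↘ Spec (CommRingCat.of k))] [RegCurve (Cv f)]

variable (f) in
/-- The trace of a chart on the curve. -/
abbrev U (i : Fin 3) : (Cv f).Opens := (ιv f) ⁻¹ᵁ D k 2 i

lemma app_mul_eq_zero (i : Fin 3) (a b : Γ(CohB1.ProjSpace 2 k, D k 2 i)) (h : a * b ∈ Ideal.span {ev i f.1}) :
    a ∈ Ideal.span {ev i f.1} ∨ b ∈ Ideal.span {ev i f.1} := by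
  simp only [← app_eq_zero_iff f i] at h ⊢
  by_cases hne : Nonempty ↥(U f i)
  · haveI : Nonempty ↥((U f i).toScheme) := hne
    rw [map_mul] at h
    haveI : IsDomain Γ(Cv f, U f i) := IsIntegral.component_integral _
    exact (mul_eq_zero (M₀ := Γ(Cv f, U f i))).1 h
  · have hbot : U f i = ⊥ := eq_bot_iff.2 fun x hx => (hne ⟨⟨x, hx⟩⟩).elim
    haveI : Subsingleton Γ((Cv f), U f i) := hbot ▸ inferInstance
    exact .inl (Subsingleton.elim _ _)

lemma not_X_dvd_form (hf : f ≠ 0) (hd : 2 ≤ d) (i : Fin 3) : ¬ MvPolynomial.X i ∣ f.1 :=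
  not_X_dvd (isHomogeneous_form f) (fun e => hf (Subtype.ext e)) hd app_mul_eq_zero i

lemma generic_mem (hf : f ≠ 0) (hd : 2 ≤ d) (i : Fin 3) : genericPoint (Cv f) ∈ U f i := by
  refine ((genericPoint_spec (Cv f)).mem_open_set_iff (U f i).2).2 ?_
  rw [Set.univ_inter, Set.nonempty_iff_ne_empty]
  intro he
  have hbot : U f i = ⊥ := SetLike.coe_injective (he.trans (Opens.coe_bot).symm)
  haveI : Subsingleton Γ((Cv f), U f i) := hbot ▸ inferInstance
  refine not_X_dvd_form hf hd i (X_dvd_of_isUnit (isHomogeneous_form f) (by omega) i ?_)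
  rw [← Ideal.span_singleton_eq_top, Ideal.eq_top_iff_one, ← app_eq_zero_iff f i]
  exact Subsingleton.elim _ _

variable (hf : f ≠ 0) (hd : 2 ≤ d)

/-- The values of the functions of a chart in the function field. -/
def sv (i : Fin 3) : Γ(CohB1.ProjSpace 2 k, D k 2 i) →+* (Cv f).functionField :=
  (secK (U f i) (generic_mem hf hd i)).comp ((ιv f).app (D k 2 i)).hom

/-- The coordinates of the generic point, normalised by the last one. -/
def q (l : Fin 3) : (Cv f).functionField := sv hf hd 2 (ρ k 2 2 l)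

lemma q_two : q hf hd 2 = 1 := by rw [q, SepTang48.ρ_self, map_one]

lemma sv_ρ_trans (j l : Fin 3) : q hf hd l = q hf hd j * sv hf hd j (ρ k 2 j l) := by
  let W : (CohB1.ProjSpace 2 k).Opens := D k 2 j ⊓ D k 2 2
  have h := LefHyp.rres_ρ_mul (k := k) (r := 2) j 2 l W inf_le_left inf_le_right
  have hW : genericPoint (Cv f) ∈ (ιv f) ⁻¹ᵁ W := ⟨generic_mem hf hd j, generic_mem hf hd 2⟩
  have key : ∀ {i : Fin 3} (hi : W ≤ D k 2 i) (a : Γ(CohB1.ProjSpace 2 k, D k 2 i)),
      secK ((ιv f) ⁻¹ᵁ W) hW ((ιv f).app W (rres hi a)) = sv hf hd i a := fun {i} hi a => by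
    rw [sv, RingHom.comp_apply]
    refine Eq.trans (congrArg _ ?_) (secK_res ((ιv f).preimage_mono hi) hW _)
    exact congrFun (congrArg DFunLike.coe (congrArg CommRingCat.Hom.hom ((ιv f).naturality (homOfLE hi).op))) a
  have := congrArg (fun a => secK ((ιv f) ⁻¹ᵁ W) hW ((ιv f).app W a)) h
  simp only [map_mul] at this
  exact (key inf_le_right _).symm.trans (this.trans (congrArg₂ (· * ·) (key inf_le_right _) (key inf_le_left _)))

lemma q_ne_zero (j : Fin 3) : q hf hd j ≠ 0 := fun e => by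
  have := sv_ρ_trans hf hd j 2
  rw [q_two, e, zero_mul] at this
  exact one_ne_zero this

section Over

variable (hinst : (Cv f) ↘ Spec (CommRingCat.of k) = (ιv f) ≫ CohB1.ProjSpace.toSpec 2 k)
include hinst

lemma sv_const (i : Fin 3) (c : k) : sv hf hd i (const k 2 i c) = algebraMap k (Cv f).functionField c := by
  rw [sv, RingHom.comp_apply]
  change secK _ _ ((ιv f).app (D k 2 i) (const k 2 i c)) = _
  rw [SepTang48.app_const (pX := (Cv f) ↘ Spec (CommRingCat.of k)) (f := ιv f) hinst.symm]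
  exact secK_kMap k _ _ c

lemma aeval_q {e : ℕ} {G : S} (hG : G.IsHomogeneous e) (i : Fin 3) :
    MvPolynomial.aeval (q hf hd) G = q hf hd i ^ e * sv hf hd i (ev i G) := by
  rw [show q hf hd = fun l => q hf hd i * sv hf hd i (ρ k 2 i l) from funext fun l => sv_ρ_trans hf hd i l,
    BertiniPn.aeval_scale hG]
  show _ = (q hf hd i * sv hf hd i (ρ k 2 i i)) ^ e * _
  rw [← sv_ρ_trans hf hd i i, ev]
  congr 1
  rw [MvPolynomial.map_eval₂Hom,
    show (sv hf hd i).comp (const k 2 i) = algebraMap k (Cv f).functionField from RingHom.ext (sv_const hf hd hinst i)]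
  rfl

lemma dvd_of_aeval_eq_zero {e : ℕ} {G : S} (hG : G.IsHomogeneous e) (h : MvPolynomial.aeval (q hf hd) G = 0) :
    f.1 ∣ G := by
  rw [aeval_q hf hd hinst hG 2, mul_eq_zero] at h
  have h' := h.resolve_left (pow_ne_zero _ (q_ne_zero hf hd 2))
  rw [sv, RingHom.comp_apply, map_eq_zero_iff _ (secK_injective _ _)] at h'
  obtain ⟨N, hN⟩ := exists_dvd_pow_mul (isHomogeneous_form f) hG 2 ((app_eq_zero_iff f 2 _).1 h')
  exact dvd_of_dvd_pow_mul (not_X_dvd_form hf hd 2) hN

lemma aeval_form : MvPolynomial.aeval (q hf hd) f.1 = 0 := by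
  rw [aeval_q hf hd hinst (isHomogeneous_form f) 2, sv, RingHom.comp_apply]
  change _ * secK _ _ ((ιv f).app (D k 2 2) (ev 2 f.1)) = 0
  rw [(app_eq_zero_iff f 2 _).2 (Ideal.mem_span_singleton_self _), map_zero, mul_zero]

end Over

variable (hdim : topologicalKrullDim (Cv f) = 1)

/-- The divisor of a line. -/
def H : Divisor k (Cv f).functionField :=
  (-FunFld.div k (q hf hd 0)) ⊔ ((-FunFld.div k (q hf hd 1)) ⊔ 0)

include hdim

lemma H_apply (P : Place k (Cv f).functionField) :
    H hf hd P = max (-P.ord (q hf hd 0)) (max (-P.ord (q hf hd 1)) 0) := by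
  simp [H, Finsupp.sup_apply, div_apply' k hdim]

lemma H_nonneg : 0 ≤ H hf hd := fun P => by
  rw [H_apply hf hd hdim]; simp

lemma val_q_le (P : Place k (Cv f).functionField) (l : Fin 3) : P.1 (q hf hd l) ≤ exp (H hf hd P) := by
  rw [FF.val_eq_exp_ord P (q_ne_zero hf hd l), exp_le_exp, H_apply hf hd hdim]
  fin_cases l
  · exact le_max_left _ _
  · exact le_max_of_le_right (le_max_left _ _)
  · simp [q_two]

lemma exp_H_eq {j : Fin 3} (x : ZetaLib.ClosedPt (Cv f)) (hx : x.1 ∈ U f j) :
    (toPlace k hdim x).1 (q hf hd j) = exp (H hf hd (toPlace k hdim x)) := by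
  refine le_antisymm (val_q_le hf hd hdim _ j) ?_
  have hle : ∀ l, (toPlace k hdim x).1 (q hf hd l) ≤ (toPlace k hdim x).1 (q hf hd j) := fun l => by
    rw [sv_ρ_trans hf hd j l, map_mul]
    exact mul_le_of_le_one_right' (val_secK_le k hdim _ _ x hx)
  rcases max_cases (-(toPlace k hdim x).ord (q hf hd 0)) (max (-(toPlace k hdim x).ord (q hf hd 1)) 0) with ⟨h, -⟩ | ⟨h, -⟩
  · rw [H_apply hf hd hdim, h, ← FF.val_eq_exp_ord _ (q_ne_zero hf hd 0)]; exact hle 0
  rcases max_cases (-(toPlace k hdim x).ord (q hf hd 1)) 0 with ⟨h', -⟩ | ⟨h', -⟩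
  · rw [H_apply hf hd hdim, h, h', ← FF.val_eq_exp_ord _ (q_ne_zero hf hd 1)]; exact hle 1
  · rw [H_apply hf hd hdim, h, h']
    simpa [q_two] using hle 2

variable (hinst : (Cv f) ↘ Spec (CommRingCat.of k) = (ιv f) ≫ CohB1.ProjSpace.toSpec 2 k)
include hinst

omit hdim hinst in
lemma isHomogeneous_X_pow (i : Fin 3) (n : ℕ) : (MvPolynomial.X i ^ n : S).IsHomogeneous n := by
  simpa using (MvPolynomial.isHomogeneous_X k i).pow n

theorem mem_L_iff (m : ℕ) (g : (Cv f).functionField) :
    g ∈ FunFld.L ((m : ℤ) • H hf hd) ↔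
      ∃ B : S, B.IsHomogeneous m ∧ MvPolynomial.aeval (q hf hd) B = g := by
  constructor
  · intro hg
    have hreg : ∀ j : Fin 3, ∃ (N : ℕ) (F : S), F.IsHomogeneous N ∧
        q hf hd j ^ N * g = q hf hd j ^ m * MvPolynomial.aeval (q hf hd) F := by
      intro j
      obtain ⟨s, hs⟩ := exists_secK_eq k hdim (U f j) (generic_mem hf hd j) (g / q hf hd j ^ m) fun x hx => by
        rw [map_div₀, map_pow, exp_H_eq hf hd hdim x hx, div_le_one₀ (pow_pos exp_pos _), ← exp_nsmul]
        simpa using hg (toPlace k hdim x)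
      obtain ⟨a, rfl⟩ := app_surjective f j s
      obtain ⟨N, F, hF, rfl⟩ := exists_homog_ev j a
      refine ⟨N, F, hF, ?_⟩
      rw [aeval_q hf hd hinst hF j, show sv hf hd j (ev j F) = g / q hf hd j ^ m from hs]
      field_simp [q_ne_zero hf hd j]
    choose N F hF hFg using hreg
    let e := N 0 + N 1 + N 2
    have hle : ∀ j, N j ≤ e + m := fun j => by
      fin_cases j <;> simp [e] <;> omega
    let F' : Fin 3 → S := fun j => MvPolynomial.X j ^ (e + m - N j) * F j
    have hF' : ∀ j, (F' j).IsHomogeneous (e + m) := fun j => by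
      have := (isHomogeneous_X_pow j (e + m - N j)).mul (hF j)
      rwa [Nat.sub_add_cancel (hle j)] at this
    have hF'g : ∀ j, MvPolynomial.aeval (q hf hd) (F' j) = q hf hd j ^ e * g := fun j => by
      refine mul_left_cancel₀ (pow_ne_zero m (q_ne_zero hf hd j)) ?_
      have hsplit : q hf hd j ^ (e + m - N j) * q hf hd j ^ N j = q hf hd j ^ e * q hf hd j ^ m := by
        rw [← pow_add, ← pow_add, Nat.sub_add_cancel (hle j)]
      simp only [F', map_mul, map_pow, MvPolynomial.aeval_X]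
      linear_combination (-(q hf hd j ^ (e + m - N j))) * hFg j + g * hsplit
    have hdvd : ∀ j, f.1 ∣ MvPolynomial.X j ^ e * F' 2 - MvPolynomial.X 2 ^ e * F' j := fun j =>
      dvd_of_aeval_eq_zero hf hd hinst (((isHomogeneous_X_pow j e).mul (hF' 2)).sub
        ((isHomogeneous_X_pow 2 e).mul (hF' j))) (by
          simp only [map_sub, map_mul, map_pow, MvPolynomial.aeval_X, hF'g]; ring)
    obtain ⟨B, hB, c, hc⟩ := PlaneForms.exists_form (isHomogeneous_form f) (not_X_dvd_form hf hd 2) (hF' 2) (hdvd 0) (hdvd 1)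
    refine ⟨B, hB, ?_⟩
    have := congrArg (MvPolynomial.aeval (q hf hd)) hc
    rw [map_sub, hF'g, map_mul, map_mul, aeval_form hf hd hinst, zero_mul, map_pow, MvPolynomial.aeval_X,
      q_two, one_pow, one_mul, one_mul, sub_eq_zero] at this
    exact this.symm
  · rintro ⟨B, hB, rfl⟩ P
    obtain ⟨x, rfl⟩ := toPlace_surjective k hdim P
    obtain ⟨j, hj⟩ := SepTang48.exists_mem_D ((ιv f) x.1)
    have hs : (toPlace k hdim x).1 (sv hf hd j (ev j B)) ≤ 1 := val_secK_le k hdim _ _ x hj
    rw [aeval_q hf hd hinst hB j, map_mul, map_pow, exp_H_eq hf hd hdim x hj, ← exp_nsmul]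
    exact (mul_le_of_le_one_right' hs).trans_eq (by simp)

omit hdim in
lemma finrank_ker {m m' : ℕ} (hm : m' + d = m) :
    Module.finrank k (LinearMap.ker ((MvPolynomial.aeval (R := k) (q hf hd)).toLinearMap.comp
      (MvPolynomial.homogeneousSubmodule (Fin 3) k m).subtype)) = (2 + m').choose 2 := by
  have hmem : ∀ G : MvPolynomial.homogeneousSubmodule (Fin 3) k m',
      f.1 * G.1 ∈ MvPolynomial.homogeneousSubmodule (Fin 3) k m := fun G => by
    have := (isHomogeneous_form f).mul ((MvPolynomial.mem_homogeneousSubmodule _ _).1 G.2)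
    rw [show d + m' = m by omega] at this
    exact (MvPolynomial.mem_homogeneousSubmodule _ _).2 this
  let μ := ((LinearMap.mulLeft k f.1).comp (MvPolynomial.homogeneousSubmodule (Fin 3) k m').subtype).codRestrict _ hmem
  have hinj : Function.Injective μ := fun a b h =>
    Subtype.ext (mul_left_cancel₀ (fun e => hf (Subtype.ext e)) (congrArg Subtype.val h))
  have hrange : LinearMap.range μ = LinearMap.ker ((MvPolynomial.aeval (R := k) (q hf hd)).toLinearMap.comp
      (MvPolynomial.homogeneousSubmodule (Fin 3) k m).subtype) := by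
    refine le_antisymm ?_ fun G hG => ?_
    · rintro _ ⟨A, rfl⟩
      change MvPolynomial.aeval (q hf hd) (f.1 * A.1) = 0
      rw [map_mul, aeval_form hf hd hinst, zero_mul]
    · have hGm := (MvPolynomial.mem_homogeneousSubmodule _ _).1 G.2
      obtain ⟨A, hA⟩ := dvd_of_aeval_eq_zero hf hd hinst hGm hG
      refine ⟨⟨MvPolynomial.homogeneousComponent m' A, MvPolynomial.homogeneousComponent_mem m' A⟩, Subtype.ext ?_⟩
      change f.1 * MvPolynomial.homogeneousComponent m' A = G.1
      have h := congrArg (MvPolynomial.homogeneousComponent m) hA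
      rw [MvPolynomial.homogeneousComponent_of_mem G.2, if_pos rfl, mul_comm f.1,
        RegLoc.AdicNoeth.homogeneousComponent_mul_of_isHomogeneous (isHomogeneous_form f), if_pos (by omega),
        show m - d = m' by omega] at h
      rw [h, mul_comm]
  rw [← hrange, LinearMap.finrank_range_of_inj hinj, PlanePts.finrank_forms]

omit hdim in
lemma finrank_ker_of_lt {m : ℕ} (hm : m < d) :
    Module.finrank k (LinearMap.ker ((MvPolynomial.aeval (R := k) (q hf hd)).toLinearMap.comp
      (MvPolynomial.homogeneousSubmodule (Fin 3) k m).subtype)) = 0 := by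
  rw [Submodule.finrank_eq_zero, Submodule.eq_bot_iff]
  intro G hG
  by_contra hG0
  obtain ⟨A, hA⟩ := dvd_of_aeval_eq_zero hf hd hinst ((MvPolynomial.mem_homogeneousSubmodule _ _).1 G.2) hG
  have hne : G.1 ≠ 0 := fun e => hG0 (Subtype.ext e)
  rw [hA] at hne
  have h1 := congrArg MvPolynomial.totalDegree hA
  rw [((MvPolynomial.mem_homogeneousSubmodule _ _).1 G.2).totalDegree (hA ▸ hne),
    MvPolynomial.totalDegree_mul_of_isDomain (left_ne_zero_of_mul hne) (right_ne_zero_of_mul hne),
    (isHomogeneous_form f).totalDegree (left_ne_zero_of_mul hne)] at h1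
  omega

lemma ell_add_ker (m : ℕ) :
    ell ((m : ℤ) • H hf hd) + Module.finrank k (LinearMap.ker ((MvPolynomial.aeval (R := k) (q hf hd)).toLinearMap.comp
      (MvPolynomial.homogeneousSubmodule (Fin 3) k m).subtype)) = (2 + m).choose 2 := by
  let φ := (MvPolynomial.aeval (R := k) (q hf hd)).toLinearMap.comp (MvPolynomial.homogeneousSubmodule (Fin 3) k m).subtype
  have h : LinearMap.range φ = FunFld.L ((m : ℤ) • H hf hd) := by
    ext g
    rw [mem_L_iff hf hd hdim hinst, LinearMap.mem_range]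
    constructor
    · rintro ⟨B, rfl⟩; exact ⟨B.1, (MvPolynomial.mem_homogeneousSubmodule _ _).1 B.2, rfl⟩
    · rintro ⟨B, hB, rfl⟩; exact ⟨⟨B, (MvPolynomial.mem_homogeneousSubmodule _ _).2 hB⟩, rfl⟩
  have := LinearMap.finrank_range_add_finrank_ker φ
  rw [h, PlanePts.finrank_forms] at this
  exact this

include hf hd in
theorem isFunctionField : IsFunctionField k (Cv f).functionField := by
  refine ⟨isFF k hdim, fun y hy => ?_⟩
  have hy0 : y ∈ FunFld.L (((0 : ℕ) : ℤ) • H hf hd) := fun P => by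
    rw [Nat.cast_zero, zero_smul, Finsupp.zero_apply, exp_zero, FF.val_le_one_iff, FF.ord_eq_zero_of_isAlgebraic P hy]
  obtain ⟨B, hB, rfl⟩ := (mem_L_iff hf hd hdim hinst 0 y).1 hy0
  obtain ⟨c, rfl⟩ : ∃ c : k, B = MvPolynomial.C c :=
    ⟨_, (MvPolynomial.totalDegree_eq_zero_iff_eq_C (p := B)).1 (Nat.le_zero.1 hB.totalDegree_le)⟩
  exact ⟨c, (MvPolynomial.aeval_C _ c).symm⟩

omit hdim hinst in
lemma two_mul_choose (n : ℕ) : 2 * (((2 + n).choose 2 : ℕ) : ℤ) = ((n : ℤ) + 2) * (n + 1) := by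
  induction n with
  | zero => simp
  | succ n ih =>
    rw [show 2 + (n + 1) = (2 + n) + 1 by omega, Nat.choose_succ_succ', Nat.choose_one_right]
    push_cast
    linear_combination ih

theorem deg_H_and_genus : (H hf hd).deg = d ∧
    2 * (genus k (Cv f).functionField : ℤ) = ((d : ℤ) - 1) * (d - 2) := by
  have hK := isFunctionField hf hd hdim hinst
  have hnn : (0 : ℤ) ≤ (H hf hd).deg := FF.deg_nonneg (H_nonneg hf hd hdim)
  have hpos : (1 : ℤ) ≤ (H hf hd).deg := by
    by_contra hlt
    have h0 : (H hf hd).deg = 0 := by omega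
    have h1 := ell_add_ker hf hd hdim hinst 1
    rw [finrank_ker_of_lt hf hd hinst (by omega : 1 < d)] at h1
    have h2 := FF.ell_le_of_nonneg hK (smul_nonneg (Int.natCast_nonneg 1) (H_nonneg hf hd hdim))
    rw [FF.deg_zsmul, h0] at h2
    simp at h1 h2
    omega
  set g := genus k (Cv f).functionField
  have key : ∀ n : ℕ, 2 * g ≤ n →
      2 * (((n + d : ℕ) : ℤ) * (H hf hd).deg + 1 - g) = ((n + d : ℕ) + 2) * ((n + d : ℕ) + 1) - (n + 2) * (n + 1) := by
    intro n hn
    have h1 := ell_add_ker hf hd hdim hinst (n + d)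
    rw [finrank_ker hf hd hinst (m' := n) rfl] at h1
    have h2 := FF.ell_eq_of_deg_ge hK (D := ((n + d : ℕ) : ℤ) • H hf hd) (by
      rw [FF.deg_zsmul]
      have : ((n + d : ℕ) : ℤ) ≤ ((n + d : ℕ) : ℤ) * (H hf hd).deg := le_mul_of_one_le_right (by positivity) hpos
      push_cast at this ⊢
      omega)
    rw [FF.deg_zsmul] at h2
    rw [← h2, ← two_mul_choose, ← two_mul_choose, ← h1]
    push_cast
    ring
  have a := key (2 * g) le_rfl
  have b := key (2 * g + 1) (by omega)
  push_cast at a b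
  have hh2 : 2 * (H hf hd).deg = 2 * d := by linear_combination b - a
  have hh : (H hf hd).deg = d := by omega
  refine ⟨hh, ?_⟩
  rw [hh] at a
  linear_combination -a

end Curve

end Groth.Agent.FFCurve.Plane
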