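import Groth.Agent.FFCurve.Curve
import Groth.Agent.IdealSh.IdealMod

/-!
# The ideal of a point of a curve is the divisor of minus that point
-/

universe u

open CategoryTheory AlgebraicGeometry TopologicalSpace FunFld WithZero
open Groth.Agent.CurveCoh Groth.Agent.PullStalk.Sky Groth.Agent.Props.GenLocus
open Groth.Agent.QCoh (res res_res res_smul)

set_option linter.style.haveILetI false
set_option backward.isDefEq.respectTransparency false
set_option backward.isDefEq.respectTransparency.types false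

namespace Groth.Agent.FFCurve

variable {X : Scheme.{u}}

/-- The ideal of a closed point. -/
noncomputable def pointI (x : ZetaLib.ClosedPt X) : X.IdealSheafData :=
  Scheme.IdealSheafData.vanishingIdeal ⟨{x.1}, x.2⟩

lemma mem_pointI_iff (x : ZetaLib.ClosedPt X) (U : X.affineOpens) (hx : x.1 ∈ U.1) (a : Γ(X, U.1)) :
    a ∈ (pointI x).ideal U ↔ x.1 ∉ X.basicOpen a := by
  rw [pointI, Scheme.IdealSheafData.vanishingIdeal_ideal, PrimeSpectrum.mem_vanishingIdeal]
  obtain ⟨y, hy⟩ : x.1 ∈ Set.range U.2.fromSpec := by rw [U.2.range_fromSpec]; exact hx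
  have key : ∀ p : PrimeSpectrum Γ(X, U.1), U.2.fromSpec p ∈ X.basicOpen a ↔ a ∉ p.asIdeal := fun p => by
    have h := congrArg (fun V : (Spec Γ(X, U.1)).Opens => p ∈ V) (U.2.fromSpec_preimage_basicOpen a)
    exact (iff_of_eq h).trans Iff.rfl
  constructor
  · intro h hb
    exact (key y).1 (hy ▸ hb) (h y hy)
  · intro h p hp
    by_contra hn
    have := (key p).2 hn
    rw [show U.2.fromSpec p = x.1 from hp] at this
    exact h this

lemma pointI_eq_top (x : ZetaLib.ClosedPt X) (U : X.affineOpens) (hx : x.1 ∉ U.1) :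
    (pointI x).ideal U = ⊤ := by
  rw [pointI, Scheme.IdealSheafData.vanishingIdeal_ideal, Ideal.eq_top_iff_one,
    PrimeSpectrum.mem_vanishingIdeal]
  intro p hp
  have hmem : U.2.fromSpec p ∈ U.1 := by
    have := Set.mem_range_self (f := U.2.fromSpec) p
    rwa [U.2.range_fromSpec] at this
  rw [show U.2.fromSpec p = x.1 from hp] at hmem
  exact absurd hmem hx

variable (k : Type u) [Field k] [IsIntegral X] [X.Over (Spec (CommRingCat.of k))]
  [IsProper (X ↘ Spec (CommRingCat.of k))] [RegCurve X] (hdim : topologicalKrullDim X = 1)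
include k hdim

open scoped Classical in
/-- Local equations of a closed point. -/
lemma exists_equation (x : ZetaLib.ClosedPt X) (y : X) :
    ∃ (U : X.affineOpens) (f : Γ(X, U.1)) (hη : genericPoint X ∈ U.1), y ∈ U.1 ∧
      f ∈ nonZeroDivisors Γ(X, U.1) ∧ (pointI x).ideal U = Ideal.span {f} ∧
      ∀ z : ZetaLib.ClosedPt X, z.1 ∈ U.1 →
        (toPlace k hdim z).1 (secK U.1 hη f) = exp (if z = x then (-1 : ℤ) else 0) := by
  haveI : CompactSpace X := QuasiCompact.compactSpace_of_compactSpace (X ↘ Spec (CommRingCat.of k))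
  by_cases hy : y = x.1
  · subst hy
    set P := toPlace k hdim x
    obtain ⟨t, ht⟩ := FF.exists_val P (-1)
    have ht0 : t ≠ 0 := FF.ne_zero_of_val_eq_exp _ ht
    let bad : Set X := {z | z ≠ x.1 ∧ ∃ h : IsClosed ({z} : Set X), (toPlace k hdim ⟨z, h⟩).ord t ≠ 0}
    have hfin : bad.Finite := by
      refine ((FF.finite_support_ord (isFF (X := X) k hdim) t).image
        (fun P => ((placeEquiv k hdim).symm P).1)).subset ?_
      rintro z ⟨-, h, hz⟩
      exact ⟨toPlace k hdim ⟨z, h⟩, hz, congrArg Subtype.val ((placeEquiv k hdim).symm_apply_apply ⟨z, h⟩)⟩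
    have hclosed : IsClosed bad := by
      rw [← Set.biUnion_of_singleton bad]
      exact hfin.isClosed_biUnion fun z hz => hz.2.1
    obtain ⟨U, hxU, hU⟩ := IdealSh.Comap.exists_affine_le x.1 ⟨badᶜ, hclosed.isOpen_compl⟩ fun h => h.1 rfl
    have hη := genericPoint_mem hxU
    have hval : ∀ z : ZetaLib.ClosedPt X, z.1 ∈ U.1 →
        (toPlace k hdim z).1 t = exp (if z = x then (-1 : ℤ) else 0) := by
      intro z hz
      split_ifs with h
      · subst h; exact ht
      · rw [FF.val_eq_exp_ord _ ht0, exp_inj]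
        by_contra hne
        exact hU hz ⟨fun e => h (Subtype.ext e), z.2, fun e => hne (by rw [e, neg_zero])⟩
    obtain ⟨f, hf⟩ := exists_secK_eq k hdim U.1 hη t fun z hz => by
      rw [hval z hz, ← exp_zero, exp_le_exp]
      split_ifs <;> omega
    refine ⟨U, f, hη, hxU, ?_, ?_, fun z hz => by rw [hf]; exact hval z hz⟩
    · refine mem_nonZeroDivisors_iff_right.mpr fun b hb => secK_injective U.1 hη ?_
      have := congrArg (secK U.1 hη) hb
      rw [map_mul, map_zero, hf] at this
      rw [map_zero]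
      exact (mul_eq_zero.1 this).resolve_right ht0
    · ext a
      rw [mem_pointI_iff x U hxU, isUnit_germ_iff k hdim x hxU, Ideal.mem_span_singleton']
      constructor
      · intro ha
        obtain ⟨b, hb⟩ := exists_secK_eq k hdim U.1 hη (secK U.1 hη a / t) fun z hz => by
          rw [map_div₀, hval z hz, div_le_one₀ exp_pos]
          split_ifs with h
          · subst h
            have h1 := lt_of_le_of_ne (val_secK_le k hdim hη a z hz) ha
            by_cases h0 : secK U.1 hη a = 0
            · rw [h0, map_zero]; exact zero_le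
            · rw [FF.val_eq_exp_ord _ h0, ← exp_zero, exp_lt_exp] at h1
              rw [FF.val_eq_exp_ord _ h0, exp_le_exp]
              omega
          · rw [exp_zero]; exact val_secK_le k hdim hη a z hz
        refine ⟨b, secK_injective U.1 hη ?_⟩
        rw [map_mul, hb, hf, div_mul_cancel₀ _ ht0]
      · rintro ⟨b, rfl⟩ h
        rw [map_mul, map_mul, hf, hval x hxU, if_pos rfl] at h
        have h1 : (toPlace k hdim x).1 (secK U.1 hη b) * exp (-1 : ℤ) ≤ exp (-1 : ℤ) :=
          mul_le_of_le_one_left' (val_secK_le k hdim hη b x hxU)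
        rw [h, ← exp_zero, exp_le_exp] at h1
        omega
  · obtain ⟨U, hyU, hU⟩ := IdealSh.Comap.exists_affine_le y ⟨{x.1}ᶜ, x.2.isOpen_compl⟩ hy
    have hxU : x.1 ∉ U.1 := fun h => hU h rfl
    refine ⟨U, 1, genericPoint_mem hyU, hyU, one_mem _, ?_, fun z hz => ?_⟩
    · rw [pointI_eq_top x U hxU, Ideal.span_singleton_one]
    · rw [if_neg (show ¬ z = x from fun h => hxU (by subst h; exact hz)), map_one, map_one, exp_zero]

lemma isInvertible_pointI (x : ZetaLib.ClosedPt X) : PicF.IsInvertible (ClSub.idealMod (pointI x)) :=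
  IdealSh.IdealMod.isInvertible_of_isEffCartierIdeal _ fun y => by
    obtain ⟨U, f, -, hy, hf, he, -⟩ := exists_equation k hdim x y
    exact ⟨U, hy, f, hf, he⟩

/-- The ideal of a closed point has divisor minus that point, up to principal divisors. -/
lemma exists_divOf_pointI (x : ZetaLib.ClosedPt X) :
    ∃ b : X.functionField, b ≠ 0 ∧
      divOf k hdim (isInvertible_pointI k hdim x) = -Finsupp.single (toPlace k hdim x) 1 - div k b := by
  classical
  have hI := isInvertible_pointI k hdim x
  have hO := isInvertible_structureModule (X := X)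
  obtain ⟨a, ha⟩ := exists_crd_app (triv hI) (triv hO) (ClSub.idealModι (pointI x))
  set c0 := crd (triv hO) ⊤ trivial (Props.GenLocus.one' (X := X) ⊤)
  have hc0 : c0 ≠ 0 := crd_gen_ne_zero _ (Props.GenTensor.isGen_one (X := X) ⊤) _
  have key : ∀ (U : X.affineOpens) (f : Γ(X, U.1)) (hη : genericPoint X ∈ U.1),
      f ∈ nonZeroDivisors Γ(X, U.1) → (pointI x).ideal U = Ideal.span {f} →
      ∃ e : Γ(ClSub.idealMod (pointI x), U.1), IsGen _ U.1 e ∧
        secK U.1 hη f * c0 = a * crd (triv hI) U.1 hη e := by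
    intro U f hη hf he
    obtain ⟨e, hfr, hfe⟩ := IdealSh.IdealMod.exists_isFrame_of_equation (pointI x) hf he
    refine ⟨e 0, (isGen_iff_isFrame _).2 (by
      rwa [show (fun _ : Fin 1 => e 0) = e from funext fun i => by rw [Subsingleton.elim i 0]]), ?_⟩
    have h1 := ha U.1 hη (e 0)
    have h2 : (ClSub.idealModι (pointI x)).app U.1 (e 0) =
        f • res (Coh.structureModule X) (le_top : U.1 ≤ ⊤) (Props.GenLocus.one' (X := X) ⊤) := by
      rw [show (ClSub.idealModι (pointI x)).app U.1 (e 0) = (f : Γ(X, U.1)) from hfe]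
      exact ((congrArg (fun z : Γ(X, U.1) => f * z)
        (X.presheaf.map (homOfLE (le_top : U.1 ≤ ⊤)).op).hom.map_one).trans (mul_one f)).symm
    rw [h2, crd_smul, crd_res] at h1
    exact h1
  have ha0 : a ≠ 0 := by
    obtain ⟨U, f, hη, -, hf, he, -⟩ := exists_equation k hdim x x.1
    obtain ⟨e, -, he'⟩ := key U f hη hf he
    intro h
    rw [h, zero_mul, mul_eq_zero] at he'
    refine he'.elim (fun h' => ?_) hc0
    haveI : Nonempty U.1 := ⟨⟨_, hη⟩⟩
    exact nonZeroDivisors.ne_zero hf (secK_injective _ hη (h'.trans (map_zero _).symm))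
  refine ⟨c0 / a, div_ne_zero hc0 ha0, Finsupp.ext fun P => ?_⟩
  obtain ⟨z, rfl⟩ := (placeEquiv k hdim).surjective P
  set P := toPlace k hdim z
  rw [Finsupp.sub_apply, Finsupp.neg_apply, div_apply' k hdim]
  change divOf k hdim hI P = -(Finsupp.single (toPlace k hdim x) (1 : ℤ) P) - P.ord (c0 / a)
  obtain ⟨U, f, hη, hzU, hf, he, hv⟩ := exists_equation k hdim x z.1
  obtain ⟨e, hg, he'⟩ := key U f hη hf he
  have h1 := congrArg P.1 he'
  rw [map_mul, map_mul, hv z hzU, val_gen' (triv hI) k hdim hI hg z hzU, FF.val_eq_exp_ord P hc0,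
    FF.val_eq_exp_ord P ha0, ← exp_add, ← exp_add, exp_inj] at h1
  have h2 : Finsupp.single (toPlace k hdim x) (1 : ℤ) P = if z = x then 1 else 0 := by
    rw [Finsupp.single_apply]
    exact if_congr ⟨fun h => ((placeEquiv k hdim).injective h).symm, fun h => by subst h; rfl⟩ rfl rfl
  change (if z = x then (-1 : ℤ) else 0) + -P.ord c0 = -P.ord a + divOf k hdim hI P at h1
  rw [h2, FF.ord_div _ hc0 ha0]
  split_ifs at h1 ⊢ <;> omega

end Groth.Agent.FFCurve
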