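import Groth.Agent.FF.LR.Diff
import Groth.Agent.FF.GalBasic

/-!
# The Hurwitz formula for a quadratic extension
-/

set_option autoImplicit false
set_option linter.style.haveILetI false
set_option linter.unusedSectionVars false

open FunFld WithZero Groth.Agent.FF

namespace Groth.Agent.FFCurve

variable {k K K' : Type*} [Field k] [IsAlgClosed k] [Field K] [Field K'] [Algebra k K] [Algebra K K']
  [Algebra k K'] [IsScalarTower k K K'] [FiniteDimensional K K'] [IsGalois K K']

/-- For a quadratic extension in odd characteristic the branch places are the fixed places. -/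
theorem quadratic_hurwitz (hK : IsFunctionField k K) (hK' : IsFunctionField k K')
    (h2 : (2 : k) ≠ 0) (hdeg : Module.finrank K K' = 2) {s : K' ≃ₐ[K] K'} (hs : s ≠ 1) :
    {Q : Place k K' | pull Q s = Q}.Finite ∧
      2 * (genus k K' : ℤ) - 2 =
        2 * (2 * (genus k K : ℤ) - 2) + ({Q : Place k K' | pull Q s = Q}.ncard : ℤ) := by
  classical
  have hG : Good k K := good_of_perfect
  obtain ⟨x, hxs⟩ := exists_isSepVar hK hG
  choose φ hφ using exists_expansion_of_isAlgClosed hK
  choose ψ hψ using exists_expansion_of_isAlgClosed hK'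
  choose below hbelow using exists_below (K' := K') hK.1
  choose e he using hbelow
  have hx : ∀ P, LocRes.vDiff (φ P) 1 x ≠ 0 := fun P => vDiff_ne_zero hK hG (hφ P) (D_ne_zero_of_isSepVar hK hxs) one_ne_zero
  have hcard : Nat.card (K' ≃ₐ[K] K') = 2 := (IsGalois.card_aut_eq_finrank K K').trans hdeg
  have hall : ∀ τ : K' ≃ₐ[K] K', τ = 1 ∨ τ = s := fun τ => by
    obtain ⟨a, b, -, huniv⟩ := Nat.card_eq_two_iff.1 hcard
    have h1 : ∀ y : K' ≃ₐ[K] K', y = a ∨ y = b := fun y => by
      have : y ∈ ({a, b} : Set (K' ≃ₐ[K] K')) := huniv ▸ Set.mem_univ y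
      simpa using this
    rcases h1 1 with h | h <;> rcases h1 s with h' | h' <;> rcases h1 τ with h'' | h'' <;>
      first | exact Or.inl (h''.trans h.symm) | exact Or.inr (h''.trans h'.symm) | exact absurd (h'.trans h.symm) hs
  have hram : ∀ Q, e Q = if pull Q s = Q then 2 else 1 := by
    intro Q
    have hw : IsOverWith Q (below Q) (e Q) := he Q
    have hw' : IsOverWith (pull Q s) (below Q) (e Q) := isOverWith_pull hw s
    obtain ⟨hfin, hsum⟩ := fundamental (K' := K') hK.1 (below Q)
    have hQs : hfin.toFinset = {Q, pull Q s} := by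
      ext R
      simp only [Set.Finite.mem_toFinset, Set.mem_ofPred_eq, Finset.mem_insert, Finset.mem_singleton]
      refine ⟨fun hR => ?_, ?_⟩
      · obtain ⟨τ, hτ⟩ := exists_pull_eq hK.1 ⟨_, hw⟩ hR
        rcases hall τ with rfl | rfl
        · exact Or.inl (by rw [← hτ, pull_one])
        · exact Or.inr hτ.symm
      · rintro (rfl | rfl)
        · exact ⟨_, hw⟩
        · exact ⟨_, hw'⟩
    have h := hsum hfin.toFinset (by simp)
    rw [hQs, hdeg, deg_eq_one hK] at h
    split_ifs with hfix
    · rw [hfix, Finset.insert_eq_of_mem (Finset.mem_singleton_self Q), Finset.sum_singleton, ramIdx_eq hw, deg_eq_one hK'] at h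
      omega
    · rw [Finset.sum_pair (Ne.symm hfix), ramIdx_eq hw, ramIdx_eq hw', deg_eq_one hK', deg_eq_one hK'] at h
      omega
  have hd : ∀ Q, LocRes.diffExp (φ (below Q)) (ψ Q) (e Q) x = if pull Q s = Q then 1 else 0 := by
    intro Q
    obtain ⟨D⟩ := exists_liesOver_place hK.1 (he Q) (hφ (below Q)) (hψ Q)
    have hek : (e Q : k) ≠ 0 := by
      rw [hram Q]
      split_ifs
      · exact_mod_cast h2
      · simp
    have hdv := LR.dVal_of_tame D hek
    have hx' : LocRes.vDiff (ψ Q) 1 (algebraMap K K' x) ≠ 0 := by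
      rw [LR.vDiff_above D, hdv]
      exact mul_ne_zero (pow_ne_zero _ (hx _)) exp_ne_zero
    rw [LR.diffExp_eq_log D (hx _) hx', hdv, log_exp, hram Q]
    split_ifs <;> norm_num
  obtain ⟨hf, hH⟩ := riemann_hurwitz (k' := k) hK hG hK' hφ hψ below e (fun Q z => he Q z) x hx
  have hset : (Function.support fun Q => LocRes.diffExp (φ (below Q)) (ψ Q) (e Q) x) =
      {Q : Place k K' | pull Q s = Q} := by
    ext Q
    rw [Function.mem_support, Set.mem_ofPred_eq, hd]
    split_ifs with h <;> simp [h]
  rw [hset] at hf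
  refine ⟨hf, ?_⟩
  rw [Module.finrank_self, hdeg] at hH
  rw [finsum_eq_sum_of_support_subset _ (s := hf.toFinset) fun Q hQ => by
    rw [Set.Finite.coe_toFinset, ← hset]
    exact fun h => hQ (by simp [h]),
    Finset.sum_congr rfl (g := fun _ => (1 : ℤ)) fun Q hQ => by
      rw [hd, if_pos (show pull Q s = Q from hf.mem_toFinset.1 hQ), deg_eq_one hK']; rfl] at hH
  rw [Finset.sum_const, nsmul_eq_mul, mul_one, ← Set.ncard_eq_toFinset_card _ hf] at hH
  push_cast at hH
  linarith

end Groth.Agent.FFCurve
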