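import Groth.Agent.FFCurve.OmegaBC
import Groth.Agent.FFCurve.SepPencilFF
import Groth.Agent.FlatPull.Local
import Groth.Agent.ParaFLib.QSepBC
import Groth.Agent.Props.GenPull

/-!
# Separating ratios of sections of a pencil of degree two
-/

universe u

open CategoryTheory CategoryTheory.Limits AlgebraicGeometry TopologicalSpace FunFld WithZero
open Groth.Agent.CurveCoh Groth.Agent.Props.GenLocus Groth.Agent.QCoh
open scoped TensorProduct

set_option linter.style.haveILetI false
set_option linter.unusedSectionVars false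
set_option synthInstance.maxHeartbeats 200000
set_option maxHeartbeats 2000000
set_option backward.isDefEq.respectTransparency false
set_option backward.isDefEq.respectTransparency.types false

noncomputable section

namespace Groth.Agent.FFCurve.SepPencil

attribute [local instance] Curv2.resAlgebra

variable (k : Type u) [Field k] {X : Scheme.{u}} [X.Over (Spec (CommRingCat.of k))]
  [IsProper (X ↘ Spec (CommRingCat.of k))] [Smooth (X ↘ Spec (CommRingCat.of k))]
  [GeometricallyConnected (X ↘ Spec (CommRingCat.of k))] [IsIntegral X] [RegCurve X]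
  (hdim : topologicalKrullDim X = 1)

local notation "Kbar" => AlgebraicClosure k
local notation "X'" => Curv2.bc k X Kbar
local notation "p" => Curv2.bcFst k X Kbar

include hdim

/-- Some ratio of two sections of a pencil of degree two has nonzero differential. -/
theorem exists_ratio_D_ne_zero (hg : 1 ≤ Curv2.genus k X) {Ω : X.Modules} (hΩ : PicF.IsInvertible Ω)
    (hd : Curv2.deg k X Ω 1 = 2) (hh : 2 ≤ Module.finrank k (Coh.HH X Ω 0)) :
    ∃ σ₀ σ₁ : Γ(Ω, ⊤),
      crd (triv hΩ) ⊤ trivial σ₀ ≠ 0 ∧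
      KaehlerDifferential.D k X.functionField
        (crd (triv hΩ) ⊤ trivial σ₁ / crd (triv hΩ) ⊤ trivial σ₀) ≠ 0 := by
  classical
  set c := crd (triv hΩ) ⊤ (trivial : genericPoint X ∈ (⊤ : X.Opens)) with hc
  by_contra! hall
  -- a nonzero section
  haveI : Nontrivial (Coh.HH X Ω 0) := Module.nontrivial_of_finrank_pos (R := k) (by omega)
  obtain ⟨v, hv⟩ := exists_ne (0 : Coh.HH X Ω 0)
  set σ₀ := ProperFin.h0Sec Ω v
  have hσ₀ : c σ₀ ≠ 0 := fun h => hv ((ProperFin.h0Sec Ω).injective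
    (crd_injective (triv hΩ) hΩ ⊤ trivial (by rw [map_zero, map_zero]; exact h)))
  have hall' : ∀ σ : Γ(Ω, ⊤), KaehlerDifferential.D k X.functionField (c σ / c σ₀) = 0 :=
    fun σ => hall σ₀ σ hσ₀
  -- the base change
  letI : (X').Over (Spec (CommRingCat.of Kbar)) := ⟨Curv2.bcSnd k X Kbar⟩
  obtain ⟨h1, h2, h3, hdK⟩ := OmegaBC.bc_props (X := X) k hdim
  haveI := regCurve_of_smooth (X := X') Kbar hdK
  let g := Spec.map (CommRingCat.ofHom (algebraMap k Kbar))
  let q : X' ⟶ Spec (CommRingCat.of Kbar) := Curv2.bcSnd k X Kbar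
  have hX : IsPullback p q (X ↘ Spec (CommRingCat.of k)) g := IsPullback.of_hasPullback _ _
  haveI : Flat g := AlgebraicGeometry.Flat.SpecMap_iff.2 (RingHom.flat_algebraMap_iff.2 inferInstance)
  haveI : Flat p := MorphismProperty.of_isPullback hX.flip inferInstance
  have hη : p (genericPoint X') = genericPoint X := FlatPull.map_genericPoint p
  -- the map of function fields
  let ψ : X.functionField →+* (X').functionField :=
    (X.presheaf.stalkSpecializes (specializes_of_eq hη) ≫ (p).stalkMap (genericPoint X')).hom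
  have hψ : ∀ (U : X.Opens) (hU : genericPoint X ∈ U) (a : Γ(X, U)),
      ψ (secK U hU a) = secK (p ⁻¹ᵁ U) (show p (genericPoint X') ∈ U from hη ▸ hU) ((p).app U a) :=
    fun U hU a => by
      show (p).stalkMap (genericPoint X') (X.presheaf.stalkSpecializes _ (X.presheaf.germ U _ hU a)) = _
      rw [TopCat.Presheaf.germ_stalkSpecializes_apply, Scheme.Hom.germ_stalkMap_apply]
      rfl
  have hcomm : ∀ a : k, ψ (algebraMap k X.functionField a) =
      algebraMap Kbar (X').functionField (algebraMap k Kbar a) := by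
    intro a
    refine (hψ ⊤ trivial (Coh.toGlobal (X ↘ Spec (CommRingCat.of k)) a)).trans ?_
    refine congrArg (secK (X := X') ⊤ trivial) ?_
    show (p).appTop ((X ↘ Spec (CommRingCat.of k)).appTop ((Scheme.ΓSpecIso (CommRingCat.of k)).inv a)) =
      (Curv2.bcSnd k X Kbar).appTop ((Scheme.ΓSpecIso (CommRingCat.of Kbar)).inv (algebraMap k Kbar a))
    rw [← CommRingCat.comp_apply, ← Scheme.Hom.comp_appTop, pullback.condition, Scheme.Hom.comp_appTop,
      CommRingCat.comp_apply]
    exact congrArg _ (congr($(Scheme.ΓSpecIso_inv_naturality (CommRingCat.ofHom (algebraMap k Kbar))) a)).symm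
  letI : Algebra X.functionField (X').functionField := ψ.toAlgebra
  letI : Algebra k (X').functionField :=
    ((algebraMap Kbar (X').functionField).comp (algebraMap k Kbar)).toAlgebra
  haveI : IsScalarTower k Kbar (X').functionField := IsScalarTower.of_algebraMap_eq fun _ => rfl
  haveI : IsScalarTower k X.functionField (X').functionField :=
    IsScalarTower.of_algebraMap_eq fun a => (hcomm a).symm
  have hDψ : ∀ z : X.functionField, KaehlerDifferential.D k X.functionField z = 0 →
      KaehlerDifferential.D Kbar (X').functionField (ψ z) = 0 := fun z hz => by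
    have h := KaehlerDifferential.map_D k Kbar X.functionField (X').functionField z
    rw [hz, map_zero] at h
    exact h.symm
  -- coordinates on a chart
  have hΩ' : PicF.IsInvertible ((Scheme.Modules.pullback p).obj Ω) := PicCl.isInvertible_pullback p hΩ
  set c' := crd (triv hΩ') ⊤ (trivial : genericPoint X' ∈ (⊤ : (X').Opens)) with hc'
  obtain ⟨U, e₀, hU, he₀⟩ := exists_isGen hΩ (genericPoint X)
  have hU' : genericPoint X' ∈ p ⁻¹ᵁ U := show p (genericPoint X') ∈ U from hη ▸ hU
  let ps : Γ(Ω, ⊤) → Γ((Scheme.Modules.pullback p).obj Ω, ⊤) := fun σ => LimTop.unitSec p Ω le_rfl σ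
  set E := crd (triv hΩ') (p ⁻¹ᵁ U) hU' (LimTop.unitSec p Ω le_rfl e₀)
  set E₀ := crd (triv hΩ) U hU e₀
  have hE₀ : E₀ ≠ 0 := crd_gen_ne_zero (triv hΩ) he₀ hU
  have hE : E ≠ 0 := by
    refine crd_gen_ne_zero (triv hΩ') (e := LimTop.unitSec p Ω le_rfl e₀) ?_ hU'
    have h := Props.GenPull.isGen_pb p he₀
    rwa [show Props.GenPull.pb p e₀ = LimTop.unitSec p Ω (le_refl (p ⁻¹ᵁ U)) e₀ from
      (QCoh.res_self _ _ _).symm] at h
  have hcoord : ∀ σ : Γ(Ω, ⊤), c' (ps σ) = ψ (c σ / E₀) * E := by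
    intro σ
    obtain ⟨a, ha, -⟩ := he₀.exists_eq le_rfl (res Ω le_top σ)
    rw [res_self] at ha
    have h1 : c σ = secK U hU a * E₀ := by
      rw [hc, ← crd_res (triv hΩ) (le_top : U ≤ ⊤) hU σ, ha, crd_smul]
    have h2 : c' (ps σ) = secK (p ⁻¹ᵁ U) hU' ((p).app U a) * E := by
      rw [hc', ← crd_res (triv hΩ') (le_top : p ⁻¹ᵁ U ≤ ⊤) hU' (ps σ)]
      rw [show res ((Scheme.Modules.pullback p).obj Ω) (le_top : p ⁻¹ᵁ U ≤ ⊤) (ps σ) =
        (p).app U a • LimTop.unitSec p Ω le_rfl e₀ from by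
          show res _ _ (LimTop.unitSec p Ω _ σ) = _
          rw [LimTop.res_unitSec, ← LimTop.unitSec_res p Ω (le_top : U ≤ ⊤) (le_refl (p ⁻¹ᵁ U)), ha,
            LimTop.unitSec_smul, Scheme.Hom.app_eq_appLE], crd_smul]
    rw [h2, h1, mul_div_cancel_right₀ _ hE₀, hψ]
  have hps₀ : c' (ps σ₀) ≠ 0 := by
    rw [hcoord]
    exact mul_ne_zero ((map_ne_zero ψ).2 (div_ne_zero hσ₀ hE₀)) hE
  have hD1 : ∀ σ : Γ(Ω, ⊤), KaehlerDifferential.D Kbar (X').functionField (c' (ps σ) / c' (ps σ₀)) = 0 := by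
    intro σ
    rw [hcoord, hcoord, mul_div_mul_right _ _ hE, ← map_div₀, div_div_div_cancel_right₀ hE₀]
    exact hDψ _ (hall' σ)
  -- all sections of the base change
  haveI : Ω.IsQuasicoherent := ProjTwist.isQCoh_of_isInvertible hΩ
  have hT : (⊤ : (Spec (CommRingCat.of Kbar)).Opens) ≤ g ⁻¹ᵁ ⊤ := fun _ _ => trivial
  letI := (g.appLE ⊤ ⊤ hT).hom.toAlgebra
  have hDall : ∀ τ : Γ((Scheme.Modules.pullback p).obj Ω, ⊤),
      KaehlerDifferential.D Kbar (X').functionField (c' τ / c' (ps σ₀)) = 0 := by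
    intro τ
    have hov : LFDesc.over p q ⊤ ((X ↘ Spec (CommRingCat.of k)) ⁻¹ᵁ ⊤) ≤ ⊤ := le_top
    have hηo : genericPoint X' ∈ LFDesc.over p q ⊤ ((X ↘ Spec (CommRingCat.of k)) ⁻¹ᵁ ⊤) := ⟨trivial, trivial⟩
    obtain ⟨z, hz⟩ := (ParaFLib.QSepBC.Φ_bijective (X ↘ Spec (CommRingCat.of k)) g p q Ω hT hX
      (isAffineOpen_top _) (isAffineOpen_top _)).2 (res _ hov τ)
    suffices H : ∀ z, KaehlerDifferential.D Kbar (X').functionField
        (crd (triv hΩ') _ hηo (LFDesc.Φ (X ↘ Spec (CommRingCat.of k)) g p q Ω hT hX.w le_rfl z) /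
          c' (ps σ₀)) = 0 by
      have := H z
      rwa [hz, crd_res] at this
    intro z
    induction z using TensorProduct.induction_on with
    | zero => rw [map_zero, map_zero, zero_div, map_zero]
    | add a b ha hb => rw [map_add, map_add, add_div, map_add, ha, hb, add_zero]
    | tmul b m =>
      rw [LFDesc.Φ_tmul, crd_smul]
      obtain ⟨r, rfl⟩ := (ConcreteCategory.bijective_of_isIso (Scheme.ΓSpecIso (CommRingCat.of Kbar)).inv).2 b
      have hb : secK (X := X') (LFDesc.over p q ⊤ ((X ↘ Spec (CommRingCat.of k)) ⁻¹ᵁ ⊤)) hηo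
          (q.appLE ⊤ _ inf_le_right ((Scheme.ΓSpecIso (CommRingCat.of Kbar)).inv r)) =
          algebraMap Kbar (X').functionField r := by
        show secK _ hηo ((X').presheaf.map _ (q.app ⊤ ((Scheme.ΓSpecIso (CommRingCat.of Kbar)).inv r))) = _
        rw [secK]
        exact (TopCat.Presheaf.germ_res_apply' _ _ _ _ _).trans rfl
      rw [hb, mul_div_assoc, ← Algebra.smul_def, Derivation.map_smul]
      have hm : crd (triv hΩ') (LFDesc.over p q ⊤ ((X ↘ Spec (CommRingCat.of k)) ⁻¹ᵁ ⊤)) hηo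
          (LimTop.unitSec p Ω inf_le_left (show Γ(Ω, (X ↘ Spec (CommRingCat.of k)) ⁻¹ᵁ ⊤) from m)) =
          c' (ps (show Γ(Ω, ⊤) from m)) := by
        rw [hc', ← crd_res (triv hΩ') hov hηo (ps _)]
        exact congrArg _ (LimTop.res_unitSec p Ω _ hov _).symm
      rw [hm, hD1, smul_zero]
  -- contradiction over the algebraic closure
  have hK' := isFunctionField_of_isAlgClosed (X := X') Kbar hdK
  set C := divOf Kbar hdK hΩ'
  have hg' : 1 ≤ genus Kbar (X').functionField := by
    rw [← genus_eq_genus (X := X') Kbar hdK hK', OmegaBC.genus_bc k]; exact hg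
  have hcoh := VBLib.isCoh_of_ofRank (ProjTwist.isFinLocFreeOfRank_one hΩ)
  have hO := VBLib.isCoh_of_ofRank (ProjTwist.isFinLocFreeOfRank_one (PicLoc.isInvertible_structureModule X))
  have hCd : C.deg = 2 := by
    rw [← hd, ← deg_eq Kbar hdK hK' hΩ', Curv2.deg, Curv2.deg, S7673.euler_pullback k X Kbar _ hcoh,
      ← EulerChar.euler_iso Kbar (QCoh.pullbackUnitIso p), S7673.euler_pullback k X Kbar _ hO]
  have hCl : 2 ≤ ell C := by
    rw [← finrank_zero Kbar hdK hK' hΩ', OmegaBC.finrank_HH_bc k hcoh]; exact hh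
  have hz₀ : c' (ps σ₀) ∈ FunFld.L C := fun Q => by
    obtain ⟨y, rfl⟩ := (placeEquiv Kbar hdK).surjective Q
    exact val_crd_le (triv hΩ') Kbar hdK hΩ' (W := ⊤) trivial _ y trivial
  obtain ⟨w, hw, hne⟩ := exists_D_ne_zero_pencil hK' hg' hCd hCl hz₀ hps₀
  obtain ⟨τ, hτ⟩ := exists_crd_eq (triv hΩ') Kbar hdK hΩ' ⊤ trivial w fun y _ => hw _
  exact hne (by rw [← hτ]; exact hDall τ)

end Groth.Agent.FFCurve.SepPencil
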