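import Groth.Agent.FF.InfSep
import Groth.Agent.FFCurve.Special
import Groth.Agent.FF.LR.Hasse
import Mathlib.RingTheory.Unramified.Field
import Mathlib.FieldTheory.IsAlgClosed.Basic

/-!
# Separating ratios of canonical sections
-/

universe u v

set_option linter.style.haveILetI false
set_option linter.unusedSectionVars false

open FunFld WithZero IntermediateField

namespace Groth.Agent.FFCurve

variable {k : Type u} {K : Type v} [Field k] [Field K] [Algebra k K] (hK : IsFunctionField k K)
include hK

/-- Elements of zero differential over an algebraically closed field are `p`-th powers or constants. -/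
lemma exists_pow_of_D_eq_zero [IsAlgClosed k] {p : ℕ} [hp : Fact p.Prime] [CharP K p] {x : K}
    (hx : KaehlerDifferential.D k K x = 0) : ∃ y : K, y ^ p = x := by
  haveI : CharP k p := (Algebra.charP_iff k K p).2 inferInstance
  haveI : ExpChar K p := ExpChar.prime hp.out
  have hmem : x ∈ FF.kKp k K p := by
    by_contra h
    exact FF.D_ne_zero_of_isSepVar hK ⟨FF.transcendental_of_notMem_kKp p hK h,
      FF.finite_adjoin hK.1 (FF.transcendental_of_notMem_kKp p hK h),
      FF.isSeparable_of_notMem p hK (FF.good_of_perfect p) h⟩ hx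
  let S : IntermediateField k K :=
    { (frobenius K p).fieldRange with
      algebraMap_mem' := fun c => by
        obtain ⟨d, hd⟩ := IsAlgClosed.exists_pow_nat_eq c hp.out.pos
        exact ⟨algebraMap k K d, by rw [frobenius_def, ← map_pow, hd]⟩ }
  have hle : FF.kKp k K p ≤ S := by
    rw [FF.kKp, IntermediateField.adjoin_le_iff]
    rintro _ ⟨y, rfl⟩
    exact ⟨y, rfl⟩
  obtain ⟨y, hy⟩ := hle hmem
  exact ⟨y, hy⟩

/-- Over an algebraically closed field, not all ratios of special functions of degree `2g - 2` have
zero differential. -/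
theorem exists_D_ne_zero [IsAlgClosed k] (hg : 2 ≤ genus k K) {C : Divisor k K}
    (hdeg : C.deg = 2 * (genus k K : ℤ) - 2) (hell : genus k K ≤ ell C) {z₀ : K} (hz₀ : z₀ ∈ FunFld.L C)
    (hne : z₀ ≠ 0) : ∃ w ∈ FunFld.L C, KaehlerDifferential.D k K (w / z₀) ≠ 0 := by
  classical
  by_contra! hall
  set C' := C + FunFld.div k z₀
  have hC'0 : 0 ≤ C' := (FF.mem_L_iff hK.1 hne).1 hz₀
  have hC'd : C'.deg = 2 * (genus k K : ℤ) - 2 := by rw [FF.deg_add, FF.deg_div hK.1, add_zero, hdeg]
  have hC'l : genus k K ≤ ell C' := by rw [FF.ell_add_div hK hne]; exact hell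
  have hD : ∀ u ∈ FunFld.L C', KaehlerDifferential.D k K u = 0 := fun u hu => by
    rcases eq_or_ne u 0 with rfl | hu0
    · exact map_zero _
    · have hw : u * z₀ ∈ FunFld.L C := by
        rw [FF.mem_L_iff hK.1 (mul_ne_zero hu0 hne), FF.div_mul hK.1 hu0 hne]
        refine ((FF.mem_L_iff hK.1 hu0).1 hu).trans_eq ?_
        simp only [C']
        abel
      have h := hall _ hw
      rwa [mul_div_cancel_right₀ _ hne] at h
  haveI := FF.finiteDimensional_L hK.1 C'
  obtain ⟨p, hp⟩ := CharP.exists K
  rcases CharP.char_is_prime_or_zero K p with hp' | rfl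
  · haveI : Fact p.Prime := ⟨hp'⟩
    haveI : ExpChar K p := ExpChar.prime hp'
    let b := Module.finBasis k (FunFld.L C')
    choose w hw using fun i => exists_pow_of_D_eq_zero hK (p := p) (hD _ (b i).2)
    let E : Divisor k K := C'.mapRange (fun n => n / (p : ℤ)) (by simp)
    have hpz : (0 : ℤ) < p := by exact_mod_cast hp'.pos
    have hE0 : 0 ≤ E := fun P => by
      simp only [E, Finsupp.mapRange_apply, Finsupp.coe_zero, Pi.zero_apply]
      exact Int.ediv_nonneg (hC'0 P) hpz.le
    have hwE : ∀ i, w i ∈ FunFld.L E := fun i P => by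
      rcases eq_or_ne (w i) 0 with h | h
      · rw [h, map_zero]; exact zero_le
      · have h1 := (b i).2 P
        rw [← hw i, map_pow, FF.val_eq_exp_ord P h, ← exp_nsmul, exp_le_exp, nsmul_eq_mul] at h1
        rw [FF.val_eq_exp_ord P h, exp_le_exp]
        simp only [E, Finsupp.mapRange_apply]
        rw [Int.le_ediv_iff_mul_le hpz, mul_comm]
        exact h1
    have hli : LinearIndependent k fun i => (⟨w i, hwE i⟩ : FunFld.L E) := by
      refine LinearIndependent.of_comp (FunFld.L E).subtype (Fintype.linearIndependent_iff.2 fun c hc i => ?_)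
      have h := congrArg (· ^ p) hc
      simp only [zero_pow hp'.ne_zero, sum_pow_char, Function.comp_apply, Submodule.subtype_apply,
        Algebra.smul_def, mul_pow, hw, ← map_pow] at h
      have h2 : ∑ i, (c i ^ p) • b i = 0 := Subtype.ext (by
        simpa [Submodule.coe_sum, Algebra.smul_def] using h)
      exact (pow_eq_zero_iff hp'.ne_zero).1 (Fintype.linearIndependent_iff.1 b.linearIndependent _ h2 i)
    haveI := FF.finiteDimensional_L hK.1 E
    have hEl : ell C' ≤ ell E := by
      have := hli.fintype_card_le_finrank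
      rwa [Fintype.card_fin] at this
    have hEd : (p : ℤ) * E.deg ≤ C'.deg := by
      rw [← FF.deg_zsmul]
      refine FF.deg_mono fun P => ?_
      simp only [Finsupp.smul_apply, E, Finsupp.mapRange_apply, smul_eq_mul]
      rw [mul_comm]
      exact Int.ediv_mul_le _ hpz.ne'
    have hEd0 := FF.deg_nonneg hE0
    have h2p : (2 : ℤ) ≤ p := by exact_mod_cast hp'.two_le
    have hEle : 2 * E.deg ≤ C'.deg := le_trans (mul_le_mul_of_nonneg_right h2p hEd0) hEd
    rcases eq_or_lt_of_le hEd0 with h0 | h0
    · have := FF.ell_le_deg_add hK.1 hE0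
      rw [FF.ell_zero hK] at this
      omega
    · have := ell_le_deg_of_pos hK (by omega) h0
      omega
  · haveI := CharP.charP_to_charZero K
    have hle : FunFld.L C' ≤ 1 := fun u hu => by
      by_contra hu1
      have hut : Transcendental k u := fun ha => hu1 (by
        obtain ⟨c, hc⟩ := hK.2 u ha
        exact Submodule.mem_one.2 ⟨c, hc⟩)
      exact FF.D_ne_zero_of_isSepVar hK (FF.isSepVar_charZero hK hut) (hD u hu)
    haveI : FiniteDimensional k (1 : Submodule k K) :=
      Module.finite_of_finrank_pos (by rw [FF.finrank_one (hK := hK.1)]; norm_num)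
    have h := Submodule.finrank_mono hle
    rw [FF.finrank_one (hK := hK.1)] at h
    change ell C' ≤ 1 at h
    omega

/-- A function with nonzero differential is a separating variable when the differentials are one-dimensional. -/
theorem isSepVar_of_D_ne_zero (h1 : Module.finrank K Ω[K⁄k] = 1) {x : K}
    (hx : KaehlerDifferential.D k K x ≠ 0) : FF.IsSepVar k x := by
  have hxt : Transcendental k x := by_contra fun h => hx (FF.D_eq_zero_of_not_transcendental hK h)
  haveI := FF.finite_adjoin hK.1 hxt
  refine ⟨hxt, inferInstance, ?_⟩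
  haveI : FiniteDimensional K Ω[K⁄k] := Module.finite_of_finrank_pos (by omega)
  haveI : Subsingleton Ω[K⁄k⟮x⟯] := by
    refine subsingleton_of_forall_eq 0 fun y => ?_
    obtain ⟨z, rfl⟩ := KaehlerDifferential.map_surjective k k⟮x⟯ K y
    obtain ⟨a, rfl⟩ := exists_smul_eq_of_finrank_eq_one h1 hx z
    rw [map_smul, KaehlerDifferential.map_D]
    rw [show KaehlerDifferential.D k⟮x⟯ K (algebraMap K K x) = 0 from
      (Derivation.map_algebraMap _ (⟨x, IntermediateField.mem_adjoin_simple_self k x⟩ : k⟮x⟯)), smul_zero]
  haveI : Algebra.FormallyUnramified k⟮x⟯ K := ⟨inferInstance⟩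
  haveI : Algebra.EssFiniteType k⟮x⟯ K := inferInstance
  exact Algebra.FormallyUnramified.isSeparable _ _

end Groth.Agent.FFCurve
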