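import Groth.Agent.FFCurve.AlgClosed
import Groth.Agent.FFCurve.Canonical
import Groth.Agent.FFCurve.Smooth
import Groth.Agent.FF.Linear

/-!
# Slopes of linear systems on curves over algebraically closed fields
-/

universe u

open CategoryTheory CategoryTheory.Limits AlgebraicGeometry TopologicalSpace FunFld

set_option linter.style.haveILetI false

namespace Groth.Agent.FFCurve

variable {k : Type u} [Field k] {X : Scheme.{u}} [X.Over (Spec (CommRingCat.of k))]
  [IsIntegral X] [IsProper (X ↘ Spec (CommRingCat.of k))] [IsAlgClosed k]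

/-- Either Clifford or Riemann-Roch bounds the sections of an invertible module. -/
theorem clifford_or_eq (hdim : topologicalKrullDim X = 1)
    (hreg : ∀ x : X, IsRegularLocalRing (X.presheaf.stalk x))
    {M : X.Modules} (hM : PicF.IsInvertible M) (h : 1 ≤ Module.finrank k (Coh.HH X M 0)) :
    0 ≤ Curv2.deg k X M 1 ∧
      (2 * (Module.finrank k (Coh.HH X M 0) : ℤ) ≤ Curv2.deg k X M 1 + 2 ∨
        (Module.finrank k (Coh.HH X M 0) : ℤ) = Curv2.deg k X M 1 + 1 - Curv2.genus k X) := by
  haveI := smooth_of_regular (X ↘ Spec (CommRingCat.of k)) hreg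
  haveI := regCurve_of_regular k hdim hreg
  have hK := isFunctionField_of_isAlgClosed (X := X) k hdim
  rw [finrank_zero k hdim hK hM, deg_eq k hdim hK hM, genus_eq_genus k hdim hK] at *
  set D := divOf k hdim hM
  have h0 : 0 ≤ D.deg := by
    by_contra hn
    rw [FF.ell_eq_zero_of_deg_neg hK (not_le.1 hn)] at h
    omega
  refine ⟨h0, ?_⟩
  rcases le_or_gt D.deg (2 * (FunFld.genus k X.functionField : ℤ)) with hle | hlt
  · obtain ⟨P, -⟩ := exists_place_not_mem hK (∅ : Finset (FunFld.Place k X.functionField))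
    exact Or.inl (FF.clifford hK (FF.deg_eq_one hK P) h0 hle)
  · exact Or.inr (FF.ell_eq_of_deg_ge hK (by omega))

/-- The slope inequality. -/
theorem slope_le (hdim : topologicalKrullDim X = 1)
    (hreg : ∀ x : X, IsRegularLocalRing (X.presheaf.stalk x))
    {M : X.Modules} (hM : PicF.IsInvertible M) {m : ℕ} (hm : 1 ≤ m) {d : ℤ}
    (hd : 2 * (Curv2.genus k X : ℤ) ≤ d) (hsec : m + 1 ≤ Module.finrank k (Coh.HH X M 0))
    (hdeg : Curv2.deg k X M 1 ≤ d) :
    d * (m : ℤ) ≤ Curv2.deg k X M 1 * (d - Curv2.genus k X) ∧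
      (1 ≤ Curv2.genus k X → 2 * (Curv2.genus k X : ℤ) < d →
        (Curv2.deg k X M 1 < d ∨ (m : ℤ) < d - Curv2.genus k X) →
          d * (m : ℤ) < Curv2.deg k X M 1 * (d - Curv2.genus k X)) := by
  obtain ⟨h0, h⟩ := clifford_or_eq (k := k) hdim hreg hM (le_trans (Nat.le_add_left 1 m) hsec)
  rcases h with h | h
  · have h2 : 2 * (m : ℤ) ≤ Curv2.deg k X M 1 := by omega
    exact ⟨by nlinarith, fun _ _ _ => by nlinarith⟩
  · have h2 : (m : ℤ) ≤ Curv2.deg k X M 1 - Curv2.genus k X := by omega
    refine ⟨by nlinarith, fun hg hd' hor => ?_⟩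
    rcases hor with hor | hor
    · nlinarith
    · rcases eq_or_lt_of_le hdeg with e | e
      · rw [e]; nlinarith
      · nlinarith

end Groth.Agent.FFCurve
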