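import Groth.Agent.FFCurve.AlgClosed

/-!
# The degree of a subsheaf of a vector bundle is bounded by its sections
-/

universe u

open CategoryTheory Limits AlgebraicGeometry
open Groth.Agent.CurveCoh

set_option linter.style.haveILetI false
set_option backward.isDefEq.respectTransparency false
set_option backward.isDefEq.respectTransparency.types false

namespace Groth.Agent.FFCurve

variable (k : Type u) [Field k] {X : Scheme.{u}} [IsIntegral X] [X.Over (Spec (CommRingCat.of k))]
  [IsProper (X ↘ Spec (CommRingCat.of k))] [RegCurve X] (hdim : topologicalKrullDim X = 1)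
include hdim

theorem deg_sub_le {E F : X.Modules} (hE : FlatMod.IsFinLocFree E) {r : ℕ} (hr : 0 < r)
    (hF : FlatMod.IsFinLocFreeOfRank r F) (i : F ⟶ E) [Mono i] :
    Curv2.deg k X F r ≤ (r : ℤ) * ((Module.finrank k (Coh.HH X E 0) : ℤ) + (Curv2.genus k X : ℤ) - 1) := by
  have hv := FFCurve.hv (X := X) k hdim
  have hO : Coh.IsCoh (Coh.structureModule X) :=
    VBLib.isCoh_of_ofRank (VBLib.ofRank_one_of_invertible isInvertible_structureModule)
  have hF' := VBLib.isCoh_of_ofRank hF
  have hE' := VBLib.isCoh_of_isFinLocFree hE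
  haveI := hO.1
  haveI := hF'.1
  haveI := CurveCoh.finite_HH_zero (k := k) (Coh.structureModule X) hv hdim hO
  haveI := CurveCoh.finite_HH_zero (k := k) E hv hdim hE'
  have hS : (ShortComplex.mk i (cokernel.π i) (cokernel.condition i)).ShortExact :=
    { exact := ShortComplex.exact_cokernel i
      mono_f := inferInstance
      epi_g := inferInstance }
  have h1 : Module.finrank k (Coh.HH X F 0) ≤ Module.finrank k (Coh.HH X E 0) :=
    LinearMap.finrank_le_finrank_of_injective (CurveCoh.injective_mapL_zero (k := k) hS)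
  have h2 : 1 ≤ Module.finrank k (Coh.HH X (Coh.structureModule X) 0) := by
    haveI : Nontrivial Γ(X, ⊤) := ⟨⟨1, 0, fun h => one_ne_zero (α := X.functionField)
      ((map_one (secK ⊤ trivial)).symm.trans ((congrArg (secK ⊤ trivial) h).trans (map_zero _)))⟩⟩
    haveI : Nontrivial (Coh.HH X (Coh.structureModule X) 0) :=
      (Sheaf.H.equiv₀ (Coh.toAb (Coh.structureModule X)) isTerminalTop).toEquiv.nontrivial (β := Γ(X, ⊤))
    exact Module.finrank_pos
  rw [Curv2.deg, CurveCoh.euler_eq F hv hdim, CurveCoh.euler_eq (Coh.structureModule X) hv hdim,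
    show Curv2.genus k X = Module.finrank k (Coh.HH X (Coh.structureModule X) 1) from rfl]
  have h1' : (Module.finrank k (Coh.HH X F 0) : ℤ) ≤ Module.finrank k (Coh.HH X E 0) := by exact_mod_cast h1
  have h2' : (1 : ℤ) ≤ Module.finrank k (Coh.HH X (Coh.structureModule X) 0) := by exact_mod_cast h2
  have hr' : (1 : ℤ) ≤ r := by exact_mod_cast hr
  nlinarith [(Nat.cast_nonneg (Module.finrank k (Coh.HH X F 1)) : (0 : ℤ) ≤ _),
    (Nat.cast_nonneg (Module.finrank k (Coh.HH X E 0)) : (0 : ℤ) ≤ _)]

end Groth.Agent.FFCurve
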