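import Groth.Agent.FFCurve.CastelnuovoSeveri
import Groth.Agent.FFCurve.QuadHurwitz
import Groth.Agent.FF.Small
import Groth.Agent.FF.LinSys

/-!
# Two double covers attaining the Castelnuovo–Severi bound: the quotients carry a g¹₂
-/

set_option autoImplicit false
set_option linter.style.haveILetI false
set_option linter.unusedSectionVars false

open FunFld WithZero Groth.Agent.FF

namespace Groth.Agent.FFCurve.CS

variable {k K K₁ K₂ : Type*} [Field k] [Field K] [Field K₁] [Field K₂]
  [Algebra k K] [Algebra k K₁] [Algebra k K₂] [Algebra K₁ K] [Algebra K₂ K]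
  [IsScalarTower k K₁ K] [IsScalarTower k K₂ K]
  [IsAlgClosed k] [Algebra.IsSeparable K₁ K] [Algebra.IsSeparable K₂ K]

omit [Algebra K₁ K] [Algebra K₂ K] in
lemma deg_mapDomain {F F' : Type*} [Field F] [Field F'] [Algebra k F] [Algebra k F']
    (hF : IsFunctionField k F) (hF' : IsFunctionField k F') (g : Place k F → Place k F') (E : Divisor k F) :
    Divisor.deg (Finsupp.mapDomain g E : Divisor k F') = E.deg := by
  induction E using Finsupp.induction_linear with
  | zero => simp
  | add D D' hD hD' => rw [Finsupp.mapDomain_add, deg_add, hD, hD', deg_add]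
  | single P n => rw [Finsupp.mapDomain_single, deg_single, deg_single, deg_eq_one hF, deg_eq_one hF']

omit [Algebra K₁ K] [Algebra K₂ K] in
lemma mapDomain_nonneg {F F' : Type*} [Field F] [Field F'] [Algebra k F] [Algebra k F']
    (g : Place k F → Place k F') {E : Divisor k F} (hE : 0 ≤ E) :
    0 ≤ (Finsupp.mapDomain g E : Divisor k F') := fun T => by
  classical
  simp only [Finsupp.mapDomain, Finsupp.sum_apply, Finsupp.coe_zero, Pi.zero_apply]
  refine Finsupp.sum_nonneg fun S _ => ?_
  rw [Finsupp.single_apply]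
  split_ifs
  · exact hE S
  · rfl

/-- Two double covers attaining the bound: the first quotient carries a g¹₂. -/
theorem exists_g12 (hK : IsFunctionField k K) (hK₁ : IsFunctionField k K₁) (hK₂ : IsFunctionField k K₂)
    (h₁ : Module.finrank K₁ K = 2) (h₂ : Module.finrank K₂ K = 2)
    (hne : Set.range (algebraMap K₁ K) ≠ Set.range (algebraMap K₂ K)) (hchar : (2 : k) ≠ 0)
    (hg : genus k K = 2 * genus k K₁ + 2 * genus k K₂ + 1) :
    ∃ M : Divisor k K₁, M.deg = 2 ∧ 2 ≤ ell M := by
  classical
  haveI : FiniteDimensional K₁ K := Module.finite_of_finrank_pos (by omega)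
  haveI : FiniteDimensional K₂ K := Module.finite_of_finrank_pos (by omega)
  haveI : Algebra.IsQuadraticExtension K₁ K := { finrank_eq_two' := h₁ }
  haveI : Algebra.IsQuadraticExtension K₂ K := { finrank_eq_two' := h₂ }
  obtain ⟨σ₁, h1ne, h11, hall₁, hfix₁⟩ := exists_involution K₁ K h₁
  obtain ⟨σ₂, h2ne, h22, hall₂, hfix₂⟩ := exists_involution K₂ K h₂
  have hs : ∀ x : K, σ₁ (σ₁ x) = x := fun x => AlgEquiv.congr_fun h11 x
  let f : Place k K → Place k K := fun R => pull R σ₁
  have hff : ∀ R, f (f R) = R := fun R => by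
    show pull (pull R σ₁) σ₁ = R
    rw [← pull_mul, h11, pull_one]
  have hfinj : Function.Injective f := fun a b h => by rw [← hff a, h, hff]
  have hfv : ∀ R x, (f R).1 x = R.1 (σ₁ x) := fun R x => rfl
  choose b₁ hb₁ using exists_below (K := K₁) (K' := K) hK₁.1
  choose b₂ hb₂ using exists_below (K := K₂) (K' := K) hK₂.1
  have habove : ∀ Q : Place k K₂, ∃ R : Place k K, IsOver R Q := fun Q => by
    obtain ⟨hfin, hsum⟩ := fundamental (K' := K) hK₂.1 Q
    by_contra! hno
    have h := hsum hfin.toFinset (by simp)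
    rw [Finset.sum_eq_zero (fun R hR => absurd (hfin.mem_toFinset.1 hR) (hno R)), deg_eq_one hK₂, h₂] at h
    omega
  -- the places whose fibre is moved
  let Good : Set (Place k K₂) := {Q | ∃ R, IsOver R Q ∧ ¬ IsOver (f R) Q}
  have hinf : ∀ {T : Set (Place k K)}, T.Infinite → ((2 * genus k K + 2 : ℕ) : ℕ∞) < T.encard :=
    fun h => h.encard_eq ▸ ENat.natCast_lt_top _
  have hbad : Goodᶜ.Finite := by
    by_contra hbad
    let s₁ : K ≃ₐ[k] K := σ₁.restrictScalars k
    let s₂ : K ≃ₐ[k] K := σ₂.restrictScalars k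
    choose up hup using habove
    have hS : (up '' Goodᶜ).Infinite := Set.Infinite.image (fun a _ b _ h =>
      isOver_unique (h ▸ hup a) (hup b)) hbad
    let A : Set (Place k K) := {P | ∀ x : K, P.1 x < 1 → P.1 (s₁ x) < 1}
    let B : Set (Place k K) := {P | ∀ x : K, P.1 x < 1 → P.1 ((s₁ * s₂) x) < 1}
    have hcov : up '' Goodᶜ ⊆ A ∪ B := by
      rintro _ ⟨Q, hQ, rfl⟩
      have hQ' : IsOver (f (up Q)) Q := by
        by_contra h
        exact hQ ⟨_, hup Q, h⟩
      obtain ⟨τ, hτ⟩ := exists_pull_eq hK₂.1 (hup Q) hQ'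
      rcases hall₂ τ with rfl | rfl
      · refine .inl fun x hx => ?_
        show (up Q).1 (σ₁ x) < 1
        rw [← hfv, ← hτ, pull_one]; exact hx
      · refine .inr fun x hx => ?_
        show (up Q).1 (σ₁ (τ x)) < 1
        rw [← hfv, ← hτ, pull_val, show τ (τ x) = x from AlgEquiv.congr_fun h22 x]; exact hx
    rcases Set.infinite_union.1 (hS.mono hcov) with h | h
    · exact h1ne (AlgEquiv.ext fun x => AlgEquiv.congr_fun (algEquiv_eq_one hK s₁ (hinf h)) x)
    · have he := algEquiv_eq_one hK (s₁ * s₂) (hinf h)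
      have heq : ∀ x : K, σ₁ x = σ₂ x := fun x => by
        have := AlgEquiv.congr_fun he (σ₂ x)
        change σ₁ (σ₂ (σ₂ x)) = σ₂ x at this
        rwa [show σ₂ (σ₂ x) = x from AlgEquiv.congr_fun h22 x] at this
      refine hne (Set.ext fun x => ⟨?_, ?_⟩)
      · rintro ⟨a, rfl⟩
        exact hfix₂ _ (by rw [← heq, σ₁.commutes])
      · rintro ⟨a, rfl⟩
        exact hfix₁ _ (by rw [heq, σ₂.commutes])
  have hgood : Good.Infinite := fun h => infinite_places hK₂.1
    ((h.union hbad).subset fun x _ => em _)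
  obtain ⟨Q, hQ⟩ := hgood.nonempty
  let F : Set (Place k K₂) := insert Q ((fun R => b₂ (f R)) '' {R | IsOver R Q})
  obtain ⟨Q', hQ', hQ'F⟩ := hgood.exists_notMem_finite
    (((finite_over hK₂.1 Q).image _).insert Q : F.Finite)
  have hQQ' : Q' ≠ Q := fun h => hQ'F (h ▸ Set.mem_insert _ _)
  have hcross : ∀ R, IsOver R Q → ¬ IsOver (f R) Q' := fun R hR h =>
    hQ'F (Set.mem_insert_of_mem _ ⟨R, hR, isOver_unique (hb₂ (f R)) h⟩)
  obtain ⟨R, hR, hRn⟩ := hQ
  obtain ⟨R', hR', hR'n⟩ := hQ'
  have hR'Q : ¬ IsOver (f R') Q := fun h => hcross _ h (by rw [hff]; exact hR')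
  -- a separating function for every divisor on the two places
  have hsep : ∀ B : Divisor k K₂, (∀ P, P ≠ Q → P ≠ Q' → B P = 0) → 2 ≤ ell B →
      ∃ y ∈ L B, algebraMap K₂ K y ∉ Set.range (algebraMap K₁ K) := by
    intro B hB hell
    by_contra! hall
    have hle : L B ≤ L (0 : Divisor k K₂) := fun y hy P => by
      obtain ⟨z, hz⟩ := hall y hy
      rw [Finsupp.zero_apply, exp_zero]
      by_contra! hP
      have key : ∀ (S : Place k K) (T : Place k K₂), IsOver S T → 1 < T.1 y →
          IsOver (f S) Q ∨ IsOver (f S) Q' := by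
        intro S T hST hT
        have hb : 1 < (b₂ (f S)).1 y := by
          by_contra! h
          have h' := (val_algebraMap_le_one_iff (hb₂ (f S)) y).2 h
          rw [hfv, ← hz, σ₁.commutes, hz, val_algebraMap_le_one_iff hST] at h'
          exact absurd h' (not_le.2 hT)
        by_contra! h
        have h0 := hB (b₂ (f S)) (fun e => h.1 (e ▸ hb₂ _)) (fun e => h.2 (e ▸ hb₂ _))
        have h3 := hy (b₂ (f S))
        rw [h0, exp_zero] at h3
        exact absurd h3 (not_le.2 hb)
      by_cases hPQ : P = Q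
      · subst hPQ
        exact (key R P hR hP).elim hRn (hcross R hR)
      by_cases hPQ' : P = Q'
      · subst hPQ'
        exact (key R' P hR' hP).elim hR'Q hR'n
      have := hy P
      rw [hB P hPQ hPQ', exp_zero] at this
      exact absurd this (not_le.2 hP)
    haveI := finiteDimensional_L hK₂.1 (0 : Divisor k K₂)
    have := Submodule.finrank_mono hle
    have h0 := ell_zero hK₂
    simp only [ell] at this h0 hell
    omega
  -- the divisor below
  let ψ : Divisor k K₂ → Divisor k K₁ := fun B => Finsupp.mapDomain b₁ (conorm K B)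
  have hconorm1 : ∀ S : Place k K, conorm K (Finsupp.single (b₁ S) 1) =
      Finsupp.single S 1 + Finsupp.single (f S) 1 := by
    intro S
    have hfS : IsOver (f S) (b₁ S) := by
      obtain ⟨e, he⟩ := hb₁ S
      exact ⟨e, isOverWith_pull he σ₁⟩
    set C := conorm K (Finsupp.single (b₁ S) (1 : ℤ))
    have hC : ∀ T, IsOver T (b₁ S) → 1 ≤ C T := fun T hT => by
      show 1 ≤ conorm K _ T
      rw [conorm_apply hK₁.1 _ hT, Finsupp.single_eq_same, mul_one]
      exact_mod_cast ramIdx_pos hT
    have hC0 : ∀ T, T ≠ S → T ≠ f S → C T = 0 := fun T hTS hTf => by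
      obtain ⟨P, hP⟩ := exists_below (K := K₁) hK₁.1 T
      show conorm K _ T = 0
      rw [conorm_apply hK₁.1 _ hP, Finsupp.single_eq_of_ne, mul_zero]
      rintro rfl
      obtain ⟨τ, hτ⟩ := exists_pull_eq hK₁.1 (hb₁ S) hP
      rcases hall₁ τ with rfl | rfl
      · exact hTS (by rw [← hτ, pull_one])
      · exact hTf hτ.symm
    have hdeg : C.deg = 2 := by
      rw [deg_conorm hK₁, h₁, deg_single, deg_eq_one hK₁]; norm_num
    have hsupp : C = if f S = S then Finsupp.single S (C S) else Finsupp.single S (C S) + Finsupp.single (f S) (C (f S)) := by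
      ext T
      split_ifs with hfix <;> rcases eq_or_ne T S with rfl | hTS
      · simp
      · rw [hC0 T hTS (fun e => hTS (e.trans hfix)), Finsupp.single_eq_of_ne hTS]
      · simp [Ne.symm hfix]
      · rcases eq_or_ne T (f S) with rfl | hTf
        · simp [hfix]
        · rw [hC0 T hTS hTf]; simp [hTS, hTf]
    have h1 := hC S (hb₁ S)
    have h2 := hC (f S) hfS
    rw [hsupp] at hdeg ⊢
    split_ifs with hfix
    · rw [if_pos hfix, deg_single, deg_eq_one hK] at hdeg
      rw [hfix, ← Finsupp.single_add]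
      congr 1
      push_cast at hdeg; omega
    · rw [if_neg hfix, deg_add, deg_single, deg_single, deg_eq_one hK, deg_eq_one hK] at hdeg
      push_cast at hdeg
      rw [show C S = 1 by omega, show C (f S) = 1 by omega]
  have hdown : ∀ E : Divisor k K, conorm K (Finsupp.mapDomain b₁ E) = E + Finsupp.mapDomain f E := by
    intro E
    induction E using Finsupp.induction_linear with
    | zero => simp [conorm]
    | add D D' hD hD' => rw [Finsupp.mapDomain_add, conorm_add, hD, hD', Finsupp.mapDomain_add]; abel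
    | single S n =>
      rw [Finsupp.mapDomain_single, Finsupp.mapDomain_single]
      ext T
      have h := congrArg (fun D : Divisor k K => D T) (hconorm1 S)
      obtain ⟨P, hP⟩ := exists_below (K := K₁) hK₁.1 T
      simp only [conorm_apply hK₁.1 _ hP, Finsupp.add_apply, Finsupp.single_apply] at h ⊢
      split_ifs at h ⊢ <;> simp_all <;> nlinarith [h]
  -- fixed places
  obtain ⟨hfixfin, hhur⟩ := quadratic_hurwitz hK₁ hK hchar h₁ h1ne
  let R₀ : Divisor k K := Finsupp.indicator hfixfin.toFinset (fun _ _ => (1 : ℤ))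
  have hR₀ : ∀ T, R₀ T = if f T = T then 1 else 0 := fun T => by
    simp only [R₀, Finsupp.indicator_apply, Set.Finite.mem_toFinset, Set.mem_ofPred_eq, dite_eq_ite, f]
  have hR₀deg : R₀.deg = ({T : Place k K | f T = T}.ncard : ℤ) := by
    rw [FunFld.Divisor.deg, Finsupp.sum_of_support_subset _ (Finsupp.support_indicator_subset _ _) _ (by simp),
      Finset.sum_congr rfl (g := fun _ => (1 : ℤ)) (fun T hT => by
        rw [hR₀, if_pos (show f T = T from hfixfin.mem_toFinset.1 hT), deg_eq_one hK]; rfl),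
      Finset.sum_const, nsmul_eq_mul, mul_one, ← Set.ncard_eq_toFinset_card _ hfixfin]
  have hmain : ∀ B : Divisor k K₂, 0 ≤ B → B.deg = genus k K₂ + 1 → ∀ y ∈ L B,
      algebraMap K₂ K y ∉ Set.range (algebraMap K₁ K) →
      FunFld.div k (algebraMap K₂ K y - σ₁ (algebraMap K₂ K y)) + conorm K (ψ B) = R₀ := by
    intro B hB hBd y hy hy'
    set η := algebraMap K₂ K y
    set w := η - σ₁ η
    set E := conorm K B
    have hE : ∀ T, (0 : ℤ) ≤ E T ∧ T.1 η ≤ exp (E T) := fun T => by
      show 0 ≤ conorm K B T ∧ T.1 η ≤ exp (conorm K B T)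
      rw [isOverWith_ramIdx (hb₂ T) y, conorm_apply hK₂.1 B (hb₂ T)]
      refine ⟨mul_nonneg (Int.natCast_nonneg _) (hB _), ?_⟩
      rw [← nsmul_eq_mul, exp_nsmul]
      exact pow_le_pow_left₀ zero_le (hy _) _
    have hw : w ≠ 0 := fun h => hy' (hfix₁ η (sub_eq_zero.1 h).symm)
    rw [hdown]
    have hσE : ∀ T, Finsupp.mapDomain f E T = E (f T) := fun T => by
      conv_lhs => rw [← hff T]
      exact Finsupp.mapDomain_apply hfinj E (f T)
    show FunFld.div k w + (E + Finsupp.mapDomain f E) = R₀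
    refine (sub_eq_zero.1 (eq_zero_of_nonneg_of_deg hK (fun T => ?_) ?_))
    · simp only [Finsupp.coe_zero, Pi.zero_apply, Finsupp.sub_apply, Finsupp.add_apply, hR₀, hσE, div_apply hK.1]
      have hle : T.1 w ≤ exp (max (E T) (E (f T))) :=
        (Valuation.map_sub _ _ _).trans (max_le ((hE T).2.trans (exp_le_exp.2 (le_max_left _ _)))
          (((hfv T η).symm.le.trans (hE (f T)).2).trans (exp_le_exp.2 (le_max_right _ _))))
      have hord : T.1 w = exp (-(T.ord w)) := val_eq_exp_ord _ hw
      have h0 := (hE T).1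
      have h0' := (hE (f T)).1
      rw [hord, exp_le_exp] at hle
      split_ifs with hfix
      · rw [hfix] at hle h0' ⊢
        rw [max_self] at hle
        rcases (show E T = 0 ∨ 1 ≤ E T by omega) with he | he
        · obtain ⟨a, ha⟩ := exists_residue hK T (t := η) ((hE T).2.trans_eq (by rw [he, exp_zero]))
          have ha' : T.1 (σ₁ η - algebraMap k K a) < 1 := by
            have : σ₁ η - algebraMap k K a = σ₁ (η - algebraMap k K a) := by
              rw [map_sub, IsScalarTower.algebraMap_apply k K₁ K, σ₁.commutes]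
            rw [this, ← hfv, hfix]; exact ha
          have : T.1 w < 1 := by
            rw [show w = (η - algebraMap k K a) - (σ₁ η - algebraMap k K a) by simp [w]]
            exact (Valuation.map_sub _ _ _).trans_lt (max_lt ha ha')
          rw [hord, ← exp_zero, exp_lt_exp] at this
          omega
        · omega
      · omega
    · rw [deg_sub, deg_add, deg_add, deg_div hK.1, hR₀deg]
      have hmd : Divisor.deg (Finsupp.mapDomain f E : Divisor k K) = E.deg := deg_mapDomain hK hK f E
      have hEd : E.deg = 2 * ((genus k K₂ : ℤ) + 1) := by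
        show (conorm K B).deg = _
        rw [deg_conorm hK₂, h₂, hBd]; push_cast; ring
      rw [hmd, hEd]
      change 2 * (genus k K : ℤ) - 2 = 2 * (2 * (genus k K₁ : ℤ) - 2) + ({T : Place k K | f T = T}.ncard : ℤ) at hhur
      push_cast [hg] at hhur
      omega
  let B : Divisor k K₂ := Finsupp.single Q ((genus k K₂ : ℤ) + 1)
  let B' : Divisor k K₂ := Finsupp.single Q (genus k K₂ : ℤ) + Finsupp.single Q' 1
  have hB0 : 0 ≤ B := Finsupp.single_nonneg.2 (by positivity)
  have hB'0 : 0 ≤ B' := add_nonneg (Finsupp.single_nonneg.2 (by positivity)) (Finsupp.single_nonneg.2 zero_le_one)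
  have hBd : B.deg = genus k K₂ + 1 := by rw [deg_single, deg_eq_one hK₂]; push_cast; ring
  have hB'd : B'.deg = genus k K₂ + 1 := by
    rw [deg_add, deg_single, deg_single, deg_eq_one hK₂, deg_eq_one hK₂]; push_cast; ring
  have hell : ∀ D : Divisor k K₂, D.deg = genus k K₂ + 1 → 2 ≤ ell D := fun D hD => by
    have := spec_le_genus hK₂ D
    rw [spec, hD] at this
    omega
  obtain ⟨y, hy, hy'⟩ := hsep B (fun P hP _ => Finsupp.single_eq_of_ne hP) (hell B hBd)
  obtain ⟨z, hz, hz'⟩ := hsep B' (fun P hP hP' => by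
    simp [B', Ne.symm hP, Ne.symm hP']) (hell B' hB'd)
  have e1 := hmain B hB0 hBd y hy hy'
  have e2 := hmain B' hB'0 hB'd z hz hz'
  set wy := algebraMap K₂ K y - σ₁ (algebraMap K₂ K y)
  set wz := algebraMap K₂ K z - σ₁ (algebraMap K₂ K z)
  have hwy : wy ≠ 0 := fun h => hy' (hfix₁ _ (sub_eq_zero.1 h).symm)
  have hwz : wz ≠ 0 := fun h => hz' (hfix₁ _ (sub_eq_zero.1 h).symm)
  obtain ⟨c, hc⟩ := hfix₁ (wy * wz⁻¹) (by
    simp only [map_mul, map_inv₀, wy, wz, map_sub, hs, ← neg_sub (algebraMap K₂ K y), ← neg_sub (algebraMap K₂ K z), inv_neg, neg_mul_neg])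
  have hc0 : c ≠ 0 := fun h => mul_ne_zero hwy (inv_ne_zero hwz) (by rw [← hc, h, map_zero])
  let M : Divisor k K₁ := Finsupp.mapDomain b₁ (conorm K (Finsupp.single Q 1))
  let M' : Divisor k K₁ := Finsupp.mapDomain b₁ (conorm K (Finsupp.single Q' 1))
  have hpos : ∀ P : Place k K₂, 0 ≤ conorm K (Finsupp.single P (1 : ℤ)) := fun P S => by
    show 0 ≤ conorm K _ S
    rw [conorm_apply hK₂.1 _ (hb₂ S)]
    exact mul_nonneg (Int.natCast_nonneg _) (Finsupp.single_nonneg.2 zero_le_one _)
  have hM' : 0 ≤ M' := mapDomain_nonneg b₁ (hpos Q')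
  have hdiv : M + FunFld.div k c = M' := by
    have hψ : ψ B' + M = ψ B + M' := by
      simp only [ψ, M, M', B, B', Finsupp.single_add, conorm_add, Finsupp.mapDomain_add]
      abel
    have he : conorm K (M + FunFld.div k c) = conorm K M' := by
      rw [conorm_add, ← div_algebraMap hK₁, hc, div_mul hK.1 hwy (inv_ne_zero hwz), div_inv hK.1]
      have := congrArg (conorm K) hψ
      rw [conorm_add, conorm_add] at this
      rw [← e2] at e1
      linear_combination (norm := abel) e1 + this
    ext T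
    obtain ⟨hfin, hsum⟩ := fundamental (K' := K) hK₁.1 T
    obtain ⟨S, hS⟩ : ∃ S, IsOver S T := by
      by_contra! hno
      have h := hsum hfin.toFinset (by simp)
      rw [Finset.sum_eq_zero (fun S hS => absurd (hfin.mem_toFinset.1 hS) (hno S)), deg_eq_one hK₁, h₁] at h
      omega
    have := congrArg (fun D : Divisor k K => D S) he
    simp only [conorm_apply hK₁.1 _ hS] at this
    exact mul_left_cancel₀ (Nat.cast_ne_zero.2 (ramIdx_pos hS).ne') this
  have hMd : M.deg = 2 := by
    have : M.deg = (conorm K (Finsupp.single Q 1)).deg := deg_mapDomain hK hK₁ b₁ _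
    rw [this, deg_conorm hK₂, h₂, deg_single, deg_eq_one hK₂]; norm_num
  have hM : 0 ≤ M := mapDomain_nonneg b₁ (hpos Q)
  refine ⟨M, hMd, ?_⟩
  have hcM : c ∈ L M := (mem_L_iff hK₁.1 hc0).2 (hdiv.symm ▸ hM')
  have hcnot : c ∉ L (0 : Divisor k K₁) := by
    rw [L_zero hK₁, Submodule.mem_one]
    rintro ⟨a, rfl⟩
    rw [div_const hK₁.1, add_zero] at hdiv
    have hS := congrArg (fun D => conorm K D R') hdiv
    simp only [M, M', hdown, Finsupp.add_apply] at hS
    have hz1 : ∀ (P : Place k K₂) (S : Place k K), ¬ IsOver S P → conorm K (Finsupp.single P (1 : ℤ)) S = 0 := fun P S h => by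
      rw [conorm_apply hK₂.1 _ (hb₂ S), Finsupp.single_eq_of_ne (fun e => h (by rw [← e]; exact hb₂ S)), mul_zero]
    have hnn : (0 : ℤ) ≤ conorm K (Finsupp.single Q' (1 : ℤ)) (f R') := by
      rw [conorm_apply hK₂.1 _ (hb₂ _)]
      exact mul_nonneg (Int.natCast_nonneg _) (Finsupp.single_nonneg.2 zero_le_one _)
    have hmd : ∀ D : Divisor k K, Finsupp.mapDomain f D R' = D (f R') := fun D => by
      conv_lhs => rw [← hff R']
      exact Finsupp.mapDomain_apply hfinj D (f R')
    rw [hmd, hmd, hz1 Q R' (fun h => hQQ' (isOver_unique hR' h)), hz1 Q (f R') hR'Q,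
      conorm_apply hK₂.1 _ hR', Finsupp.single_eq_same] at hS
    have : (1 : ℤ) ≤ (ramIdx R' Q' : ℤ) := by exact_mod_cast ramIdx_pos hR'
    omega
  haveI := finiteDimensional_L hK₁.1 M
  have hlt : L (0 : Divisor k K₁) < L M :=
    lt_of_le_of_ne (L_mono hM) fun h => hcnot (h ▸ hcM)
  have h3 := Submodule.finrank_lt_finrank_of_lt hlt
  have h0 := ell_zero hK₁
  simp only [ell] at h0 ⊢
  omega

end Groth.Agent.FFCurve.CS
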