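import Groth.Agent.FFCurve.GlobGen
import Groth.Agent.CurveSimple.VeryAmple
import Groth.Agent.SepTang48.Main
import Groth.Agent.VBLib.Basic
import Groth.Agent.ChiPoly.Basic
import Groth.Agent.Desc44.ProjBundle.Chart
import Groth.Agent.CurveSimple.ToP1
import Groth.Agent.FFCurve.Special
import Groth.Agent.PicLaw.Basic

/-!
# Very ample invertible modules on regular curves over algebraically closed fields
-/

universe u

open CategoryTheory CategoryTheory.Limits AlgebraicGeometry TopologicalSpace FunFld WithZero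
open Groth.Agent.CurveCoh Groth.Agent.Props.GenLocus Groth.Agent.PullStalk.Sky

set_option linter.style.haveILetI false
set_option linter.unusedSectionVars false
set_option synthInstance.maxHeartbeats 200000
set_option maxHeartbeats 1000000
set_option backward.isDefEq.respectTransparency false
set_option backward.isDefEq.respectTransparency.types false

namespace Groth.Agent.FFCurve

variable {X : Scheme.{u}} [IsIntegral X] (k : Type u) [Field k] [X.Over (Spec (CommRingCat.of k))]
  [IsProper (X ↘ Spec (CommRingCat.of k))] [RegCurve X] (hdim : topologicalKrullDim X = 1)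
include hdim

/-- The divisor separates points and tangents. -/
def IsSep (D : Divisor k X.functionField) : Prop :=
  ∀ P Q : Place k X.functionField,
    ell (D - Finsupp.single P 1 - Finsupp.single Q 1) + 2 = ell D

lemma DivEq.isSep {D E : Divisor k X.functionField} (h : DivEq k D E) (hD : IsSep k D) :
    IsSep k E := by
  intro P Q
  rw [← DivEq.ell_eq k hdim h, ← hD P Q]
  congr 1
  refine DivEq.ell_eq k hdim ?_
  rw [sub_sub, sub_sub, sub_eq_add_neg, sub_eq_add_neg]
  exact DivEq.add' k hdim (DivEq.symm' k hdim h) (divEq_refl k hdim _)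

/-! ### Germs and valuations -/

/-- The valuation of a germ. -/
lemma val_germ_lt_one_iff (x : ZetaLib.ClosedPt X) {W : X.Opens} (hx : x.1 ∈ W) (a : Γ(X, W)) :
    X.presheaf.germ W x.1 hx a ∈ IsLocalRing.maximalIdeal (X.presheaf.stalk x.1) ↔
      (toPlace k hdim x).1 (secK W (genericPoint_mem hx) a) < 1 := by
  rw [IsLocalRing.mem_maximalIdeal, mem_nonunits_iff, ← Scheme.mem_basicOpen _ _ x.1 hx,
    isUnit_germ_iff k hdim x hx a]
  have h : (toPlace k hdim x).1 (secK W (genericPoint_mem hx) a) ≤ 1 := by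
    rw [← algebraMap_germ_secK hx a]
    exact (val_toPlace_le_one_iff k hdim x _).2 ⟨_, rfl⟩
  exact ⟨fun h' => lt_of_le_of_ne h h', fun h' => h'.ne⟩

lemma germ_mem_sq_of_val (x : ZetaLib.ClosedPt X) {W : X.Opens} (hx : x.1 ∈ W) (a : Γ(X, W))
    (h : (toPlace k hdim x).1 (secK W (genericPoint_mem hx) a) ≤ exp (-2)) :
    X.presheaf.germ W x.1 hx a ∈ IsLocalRing.maximalIdeal (X.presheaf.stalk x.1) ^ 2 := by
  set P := toPlace k hdim x
  obtain ⟨z, hz⟩ := FF.exists_val P (-1)
  obtain ⟨p, hp⟩ := (val_toPlace_le_one_iff k hdim x z).1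
    (by rw [hz, ← exp_zero, exp_le_exp]; omega)
  have hz0 : z ≠ 0 := fun e => by rw [e, map_zero] at hz; exact exp_pos.ne hz
  set w := secK W (genericPoint_mem hx) a
  obtain ⟨b, hb⟩ := (val_toPlace_le_one_iff k hdim x (w / (z * z))).1 (by
    rw [map_div₀, map_mul, hz, ← exp_add, div_le_one₀ exp_pos]
    exact h)
  have hpm : p ∈ IsLocalRing.maximalIdeal (X.presheaf.stalk x.1) := by
    rw [IsLocalRing.mem_maximalIdeal, mem_nonunits_iff]
    rintro ⟨u, rfl⟩
    have h1 : P.1 (algebraMap (X.presheaf.stalk x.1) X.functionField ((u⁻¹ : (X.presheaf.stalk x.1)ˣ) : X.presheaf.stalk x.1)) ≤ 1 :=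
      (val_toPlace_le_one_iff k hdim x _).2 ⟨_, rfl⟩
    rw [map_units_inv, map_inv₀, hp, hz, ← exp_neg, ← exp_zero, exp_le_exp] at h1
    omega
  have : X.presheaf.germ W x.1 hx a = b * (p * p) := by
    refine algebraMap_stalk_injective x.1 ?_
    rw [algebraMap_germ_secK hx a, map_mul, map_mul, hb, hp, div_mul_cancel₀ _ (mul_ne_zero hz0 hz0)]
  rw [this, pow_two]
  exact Ideal.mul_mem_left _ _ (Ideal.mul_mem_mul hpm hpm)

variable {L : X.Modules} (hL : PicF.IsInvertible L)

lemma exists_germ_eq (σ : Γ(L, ⊤)) (x : ZetaLib.ClosedPt X) :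
    ∃ (U : X.Opens) (hxU : x.1 ∈ U) (e : Γ(L, U)) (a : Γ(X, U)), IsGen L U e ∧
      germM L ⊤ x.1 trivial σ = X.presheaf.germ U x.1 hxU a • germM L U x.1 hxU e ∧
      (toPlace k hdim x).1 (crd (triv hL) ⊤ trivial σ) =
        (toPlace k hdim x).1 (secK U (genericPoint_mem hxU) a) * exp (divOf k hdim hL (toPlace k hdim x)) := by
  obtain ⟨U, e, hxU, he⟩ := exists_isGen hL x.1
  obtain ⟨a, ha, -⟩ := he.exists_eq le_rfl (QCoh.res L le_top σ)
  rw [QCoh.res_self] at ha
  refine ⟨U, hxU, e, a, he, ?_, ?_⟩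
  · rw [← germM_smul, ← ha]
    exact (L.presheaf.germ_res_apply (homOfLE le_top) x.1 hxU σ).symm
  · rw [← crd_res (triv hL) (le_top : U ≤ ⊤) (genericPoint_mem hxU) σ, ha, crd_smul, map_mul,
      val_gen' (triv hL) k hdim hL he x hxU]
    rfl

/-- A section lies in `m·L_x` iff its order is less than the maximal one. -/
lemma germ_mem_smul_iff (σ : Γ(L, ⊤)) (x : ZetaLib.ClosedPt X) :
    germM L ⊤ x.1 trivial σ ∈
        IsLocalRing.maximalIdeal (X.presheaf.stalk x.1) • (⊤ : Submodule (X.presheaf.stalk x.1) (L.presheaf.stalk x.1)) ↔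
      (toPlace k hdim x).1 (crd (triv hL) ⊤ trivial σ) < exp (divOf k hdim hL (toPlace k hdim x)) := by
  obtain ⟨U, hxU, e, a, he, h1, h2⟩ := exists_germ_eq k hdim hL σ x
  rw [h1, h2]
  have hb := PicLaw.bijective_toSpanSingleton_germ he x.1 hxU
  set T := LinearMap.toSpanSingleton (X.presheaf.stalk x.1) (L.presheaf.stalk x.1) (germM L U x.1 hxU e)
  have hmap : Submodule.map T (IsLocalRing.maximalIdeal (X.presheaf.stalk x.1)) =
      IsLocalRing.maximalIdeal (X.presheaf.stalk x.1) • ⊤ := by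
    conv_lhs => rw [show IsLocalRing.maximalIdeal (X.presheaf.stalk x.1) =
      IsLocalRing.maximalIdeal (X.presheaf.stalk x.1) • (⊤ : Ideal _) by rw [smul_eq_mul, Ideal.mul_top]]
    rw [Submodule.map_smul'', Submodule.map_top, LinearMap.range_eq_top.mpr hb.2]
  rw [← hmap]
  change T (X.presheaf.germ U x.1 hxU a) ∈ _ ↔ _
  rw [show T (X.presheaf.germ U x.1 hxU a) ∈ Submodule.map T (IsLocalRing.maximalIdeal _) ↔
      X.presheaf.germ U x.1 hxU a ∈ IsLocalRing.maximalIdeal _ from
        ⟨fun ⟨_, hy, e⟩ => hb.1 e ▸ hy, fun h => ⟨_, h, rfl⟩⟩, val_germ_lt_one_iff k hdim x hxU a]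
  exact (mul_lt_iff_lt_one_left exp_pos).symm

/-- A section of order at most two less than the maximal one lies in `m²·L_x`. -/
lemma germ_mem_sq_smul (σ : Γ(L, ⊤)) (x : ZetaLib.ClosedPt X)
    (h : (toPlace k hdim x).1 (crd (triv hL) ⊤ trivial σ) ≤ exp (divOf k hdim hL (toPlace k hdim x) - 2)) :
    germM L ⊤ x.1 trivial σ ∈
      IsLocalRing.maximalIdeal (X.presheaf.stalk x.1) ^ 2 • (⊤ : Submodule (X.presheaf.stalk x.1) (L.presheaf.stalk x.1)) := by
  obtain ⟨U, hxU, e, a, he, h1, h2⟩ := exists_germ_eq k hdim hL σ x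
  rw [h1]
  refine Submodule.smul_mem_smul (germ_mem_sq_of_val k hdim x hxU a ?_) trivial
  rw [h2, sub_eq_add_neg, exp_add, mul_comm (exp (divOf k hdim hL _))] at h
  exact le_of_mul_le_mul_right h exp_pos

section AlgClosed

variable [IsAlgClosed k]

/-- The global functions of the divisor give a crd-value. -/
lemma crd_mem_L (σ : Γ(L, ⊤)) : crd (triv hL) ⊤ trivial σ ∈ FunFld.L (divOf k hdim hL) := fun Q => by
  obtain ⟨y, rfl⟩ := (placeEquiv k hdim).surjective Q
  exact val_crd_le (triv hL) k hdim hL (W := ⊤) trivial σ y trivial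

include k in
lemma exists_ne_closedPt (x : ZetaLib.ClosedPt X) :
    ∃ y : ZetaLib.ClosedPt X, y ≠ x := by
  obtain ⟨Q, hQ⟩ := exists_place_not_mem (isFunctionField_of_isAlgClosed (X := X) k hdim) {toPlace k hdim x}
  refine ⟨(placeEquiv k hdim).symm Q, fun e => hQ (Finset.mem_singleton.2 ?_)⟩
  rw [← e]
  exact ((placeEquiv k hdim).apply_symm_apply Q).symm

/-- The twisting sheaf of an embedded curve separates. -/
theorem isSep_of_closedImmersion {n : ℕ} (f : X ⟶ CohB1.ProjSpace n k) [IsClosedImmersion f]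
    (hf : f ≫ CohB1.ProjSpace.toSpec n k = X ↘ Spec (CommRingCat.of k))
    (hL : PicF.IsInvertible (SepTang48.Lf f)) : IsSep k (divOf k hdim hL) := by
  have hK := isFunctionField_of_isAlgClosed (X := X) k hdim
  set D := divOf k hdim hL
  let sect : (Fin (n + 1) → k) → Γ(SepTang48.Lf f, ⊤) := fun c =>
    ∑ j, ProjUP.toGlobal (X ↘ Spec (CommRingCat.of k)) (c j) •
      ProjUP.pullSec f (Twist.twistProjSpace n k 1) (ProjUP.coord n k j)
  let v : (Fin (n + 1) → k) → X.functionField := fun c => crd (triv hL) ⊤ trivial (sect c)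
  have hv : ∀ c, v c ∈ FunFld.L D := fun c => crd_mem_L k hdim hL _
  have key : ∀ x y : ZetaLib.ClosedPt X, y ≠ x → ∃ c,
      (toPlace k hdim y).1 (v c) < exp (D (toPlace k hdim y)) ∧
      (toPlace k hdim x).1 (v c) = exp (D (toPlace k hdim x)) := by
    intro x y hne
    obtain ⟨c, h1, h2⟩ := SepTang48.sepStrong (f := f) hf y.1 x.1 y.2 x.2 (fun e => hne (Subtype.ext e))
    refine ⟨c, (germ_mem_smul_iff k hdim hL _ y).1 h1, le_antisymm (hv c _) (not_lt.1 fun h => h2 ?_)⟩
    exact (germ_mem_smul_iff k hdim hL _ x).2 h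
  have gg : ∀ Q : Place k X.functionField, ell (D - Finsupp.single Q 1) < ell D := fun Q => by
    obtain ⟨x, rfl⟩ := (placeEquiv k hdim).surjective Q
    obtain ⟨y, hy⟩ := exists_ne_closedPt k hdim x
    obtain ⟨c, -, hc⟩ := key x y hy
    exact (FF.ell_lt_iff_exists hK D _).2 ⟨_, hv c, hc⟩
  intro P Q
  rw [sub_sub, add_comm (Finsupp.single P 1), ← sub_sub]
  have h1 := gg Q
  have h2 : ell (D - Finsupp.single Q 1 - Finsupp.single P 1) < ell (D - Finsupp.single Q 1) := by
    classical
    obtain ⟨x, rfl⟩ := (placeEquiv k hdim).surjective P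
    obtain ⟨y, rfl⟩ := (placeEquiv k hdim).surjective Q
    refine (FF.ell_lt_iff_exists hK _ _).2 ?_
    by_cases hxy : y = x
    · subst hxy
      -- a uniformiser among the sections
      have hex : ∃ c, (toPlace k hdim y).1 (v c) = exp (D (toPlace k hdim y) - 1) := by
        by_contra! hno
        set m := IsLocalRing.maximalIdeal (X.presheaf.stalk y.1)
        have hle : m • (⊤ : Submodule (X.presheaf.stalk y.1) ((SepTang48.Lf f).presheaf.stalk y.1)) ≤ m ^ 2 • ⊤ := by
          refine le_trans (SepTang48.tang (f := f) hf y.1 y.2) (sup_le (Submodule.span_le.2 ?_) le_rfl)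
          rintro w ⟨c, rfl, hc⟩
          refine germ_mem_sq_smul k hdim hL _ y ?_
          have h := (germ_mem_smul_iff k hdim hL _ y).1 hc
          rw [FF.lt_exp_iff] at h
          rw [show D (toPlace k hdim y) - 2 = D (toPlace k hdim y) - 1 - 1 by ring, ← FF.lt_exp_iff]
          exact lt_of_le_of_ne h (hno c)
        obtain ⟨U, e, hyU, he⟩ := exists_isGen hL y.1
        have hb := PicLaw.bijective_toSpanSingleton_germ he y.1 hyU
        set T := LinearMap.toSpanSingleton (X.presheaf.stalk y.1) ((SepTang48.Lf f).presheaf.stalk y.1)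
          (germM (SepTang48.Lf f) U y.1 hyU e)
        have hmap : ∀ I : Ideal (X.presheaf.stalk y.1), Submodule.map T I = I • ⊤ := fun I => by
          conv_lhs => rw [show I = I • (⊤ : Ideal _) by rw [smul_eq_mul, Ideal.mul_top]]
          rw [Submodule.map_smul'', Submodule.map_top, LinearMap.range_eq_top.mpr hb.2]
        rw [← hmap, ← hmap, Submodule.map_le_map_iff_of_injective hb.1, pow_two] at hle
        haveI := isDVR k hdim y.2
        refine IsDiscreteValuationRing.not_a_field (X.presheaf.stalk y.1)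
          (Submodule.eq_bot_of_le_smul_of_le_jacobson_bot m m (IsNoetherian.noetherian _) hle
            (IsLocalRing.jacobson_eq_maximalIdeal ⊥ bot_ne_top).ge)
      obtain ⟨c, hc⟩ := hex
      refine ⟨v c, (FF.mem_L_sub_single zero_le_one).2 ⟨hv c, hc.le⟩, ?_⟩
      rw [Finsupp.sub_apply, Finsupp.single_eq_same]
      exact hc
    · obtain ⟨c, hc1, hc2⟩ := key x y hxy
      refine ⟨v c, (FF.mem_L_sub_single zero_le_one).2 ⟨hv c, (FF.lt_exp_iff _ _).1 hc1⟩, ?_⟩
      change (toPlace k hdim x).1 (v c) =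
        exp ((D - Finsupp.single (toPlace k hdim y) 1 : Divisor k X.functionField) (toPlace k hdim x))
      rw [Finsupp.sub_apply, Finsupp.single_apply, if_neg (fun e => hxy (toPlace_injective k hdim e)), sub_zero]
      exact hc2
  have h3 := (FF.ell_sub_single_le hK D Q).2
  have h4 := (FF.ell_sub_single_le hK (D - Finsupp.single Q 1) P).2
  have := FF.deg_eq_one hK P
  have := FF.deg_eq_one hK Q
  omega

/-! ### The converse -/

/-- A separating divisor has no special quotients of length two. -/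
theorem isTwoNonspecial_of_isSep (hs : IsSep k (divOf k hdim hL)) :
    CurveSimple.IsTwoNonspecial k L := by
  intro F i hi hF hχ
  haveI := hi
  haveI : L.IsQuasicoherent := ProjTwist.isQCoh_of_isInvertible hL
  haveI := hF.1
  haveI : IsLocallyNoetherian X := LocallyOfFiniteType.isLocallyNoetherian (X ↘ Spec (CommRingCat.of k))
  have hLf := VBLib.isFinLocFree_of_ofRank (ProjTwist.isFinLocFreeOfRank_one hL)
  have hP : ∀ x : X, IsPrincipalIdealRing (X.presheaf.stalk x) := fun x => by
    haveI := FFCurve.hv (X := X) k hdim x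
    have hN : IsNoetherianRing (X.presheaf.stalk x) := inferInstance
    exact (IsBezout.TFAE.out 0 1).mp hN
  have hFf := VBLib.isFinLocFree_of_mono hP i hLf
  have hr : VBLib.rk F ≤ 1 := (VBLib.rk_le_of_mono i (VBLib.isCoh_of_isFinLocFree hLf)).trans
    (VBLib.rk_eq (ProjTwist.isFinLocFreeOfRank_one hL)).le
  have hK := isFunctionField_of_isAlgClosed (X := X) k hdim
  rcases Nat.le_one_iff_eq_zero_or_eq_one.1 hr with h0 | h1
  · have hz := VBLib.isZero_of_rk_eq_zero hFf h0
    haveI : Subsingleton (Coh.HH X F 1) := ChiPoly.subsingleton_HH_of_isZero hz 1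
    rw [Module.finrank_zero_of_subsingleton]; exact Nat.zero_le _
  have hFi : PicF.IsInvertible F :=
    Desc44.ProjBundle.isInvertible_of_rank_one (h1 ▸ VBLib.ofRank_rk hFf)
  set D := divOf k hdim hL
  set E := divOf k hdim hFi
  -- the divisor of `F` is at most that of `L`
  obtain ⟨a, ha⟩ := exists_crd_app (triv hFi) (triv hL) i
  have ha0 : a ≠ 0 := by
    intro e
    obtain ⟨U, g, hU, hg⟩ := exists_isGen hFi (genericPoint X)
    have h := ha U hU g
    rw [e, zero_mul] at h
    have h' : i.app U g = 0 := crd_injective (triv hL) hL U hU (h.trans (map_zero _).symm)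
    exact crd_gen_ne_zero (triv hFi) hg hU
      (by rw [QCoh.app_injective_of_mono i U (h'.trans (map_zero _).symm), map_zero])
  set G := D + div k a - E
  have hG : 0 ≤ G := fun P => by
    obtain ⟨x, rfl⟩ := (placeEquiv k hdim).surjective P
    obtain ⟨U, g, hxU, hg⟩ := exists_isGen hFi x.1
    have h1 := val_crd_le (triv hL) k hdim hL (genericPoint_mem hxU) (i.app U g) x hxU
    rw [ha U _ g, map_mul, val_gen' (triv hFi) k hdim hFi hg x hxU, FF.val_eq_exp_ord _ ha0, ← exp_add,
      exp_le_exp] at h1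
    change 0 ≤ (D + div k a - E) (toPlace k hdim x)
    rw [Finsupp.sub_apply, Finsupp.add_apply, div_apply' k hdim]
    change -(toPlace k hdim x).ord a + E (toPlace k hdim x) ≤ D (toPlace k hdim x) at h1
    omega
  have hGd : G.deg ≤ 2 := by
    rw [euler_eq_deg k hdim hK hL, euler_eq_deg k hdim hK hFi] at hχ
    rw [FF.deg_sub, FF.deg_add, FF.deg_div (isFF (X := X) k hdim)]
    simp only [D, E] at hχ ⊢
    omega
  have hE : ell E = ell (D - G) := by
    refine DivEq.ell_eq k hdim ⟨a, ha0, ?_⟩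
    simp only [G]
    abel
  suffices hkey : (ell (D - G) : ℤ) + G.deg ≤ ell D by
    have e1 := finrank_one k hdim hK hFi
    have e2 := finrank_one k hdim hK hL
    have e3 : E.deg = D.deg - G.deg := by
      rw [FF.deg_sub, FF.deg_add, FF.deg_div (isFF (X := X) k hdim)]; ring
    change (_ : ℤ) = (ell E : ℤ) - E.deg - 1 + _ at e1
    change (_ : ℤ) = (ell D : ℤ) - D.deg - 1 + _ at e2
    rw [hE] at e1
    omega
  classical
  have hdeg1 := fun P => FF.deg_eq_one (k := k) hK P
  by_cases hG0 : G = 0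
  · rw [hG0, sub_zero, FF.deg_zero']; simp
  obtain ⟨P, hP'⟩ : ∃ P, 1 ≤ G P := by
    by_contra! h
    exact hG0 (Finsupp.ext fun P => le_antisymm (by have := h P; simp only [Finsupp.coe_zero, Pi.zero_apply]; omega) (hG P))
  set G1 := G - Finsupp.single P 1
  have hG1 : 0 ≤ G1 := fun Q => by
    simp only [G1, Finsupp.coe_zero, Pi.zero_apply]
    rw [Finsupp.sub_apply, Finsupp.single_apply]
    have := hG Q
    change 0 ≤ G Q at this
    split_ifs with e
    · subst e; omega
    · omega
  have hG1d : G1.deg = G.deg - 1 := by rw [FF.deg_sub, FF.deg_single, hdeg1]; simp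
  by_cases hG10 : G1 = 0
  · rw [show D - G = D - Finsupp.single P 1 by rw [show G = Finsupp.single P 1 from sub_eq_zero.1 hG10]]
    have := hs P P
    have h1 := (FF.ell_sub_single_le hK (D - Finsupp.single P 1) P).2
    rw [hG10, FF.deg_zero'] at hG1d
    have := hdeg1 P
    omega
  obtain ⟨Q, hQ'⟩ : ∃ Q, 1 ≤ G1 Q := by
    by_contra! h
    exact hG10 (Finsupp.ext fun Q => le_antisymm (by have := h Q; simp only [Finsupp.coe_zero, Pi.zero_apply]; omega) (hG1 Q))
  set G2 := G1 - Finsupp.single Q 1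
  have hG2 : 0 ≤ G2 := fun R => by
    simp only [G2, Finsupp.coe_zero, Pi.zero_apply]
    rw [Finsupp.sub_apply, Finsupp.single_apply]
    have := hG1 R
    change 0 ≤ G1 R at this
    split_ifs with e
    · subst e; omega
    · omega
  have h := FF.deg_mono hG2
  rw [FF.deg_zero', FF.deg_sub, FF.deg_single, hdeg1] at h
  have hle : D - G ≤ D - Finsupp.single P 1 - Finsupp.single Q 1 := fun R => by
    have := hG2 R
    simp only [G2, G1, Finsupp.sub_apply, Finsupp.coe_zero, Pi.zero_apply] at this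
    simp only [Finsupp.sub_apply]
    omega
  have h5 := (FF.relDim_L_ell (isFF (X := X) k hdim) hle).1
  have := hs P Q
  omega

/-- A separating invertible module is very ample. -/
theorem exists_closedImmersion_of_isSep (hs : IsSep k (divOf k hdim hL)) :
    ∃ (n : ℕ) (i : X ⟶ CohB1.ProjSpace n k), IsClosedImmersion i ∧
      i ≫ CohB1.ProjSpace.toSpec n k = X ↘ Spec (CommRingCat.of k) ∧
      Nonempty ((Scheme.Modules.pullback i).obj (Twist.twistProjSpace n k 1) ≅ L) := by
  have hK := isFunctionField_of_isAlgClosed (X := X) k hdim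
  set D := divOf k hdim hL
  obtain ⟨P0⟩ := FF.nonempty_place (isFF (X := X) k hdim)
  have h2 : 2 ≤ ell D := by have := hs P0 P0; omega
  have hgg : ∀ x : ZetaLib.ClosedPt X, ∃ z : X.functionField, z ∈ FunFld.L D ∧
      (toPlace k hdim x).1 z = exp (D (toPlace k hdim x)) := fun x => by
    refine (FF.ell_lt_iff_exists hK D _).1 ?_
    have h := hs (toPlace k hdim x) (toPlace k hdim x)
    have h' := (FF.ell_sub_single_le hK (D - Finsupp.single (toPlace k hdim x) 1) (toPlace k hdim x)).2
    have := FF.deg_eq_one (k := k) hK (toPlace k hdim x)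
    omega
  have hLc := VBLib.isCoh_of_ofRank (ProjTwist.isFinLocFreeOfRank_one hL)
  haveI := EulerChar.finite_HH k L hLc 0
  have hf0 := finrank_zero k hdim hK hL
  obtain ⟨n, hn⟩ : ∃ n, Module.finrank k (Coh.HH X L 0) = n + 1 :=
    ⟨ell D - 1, by rw [hf0]; change ell D = _; omega⟩
  have hgen : ∀ y : X, ∃ t : Coh.structureModule X ⟶ L, y ∈ CohB1.genLocus L t := by
    have key : ∀ x : ZetaLib.ClosedPt X, ∃ s : Coh.structureModule X ⟶ L,
        x.1 ∈ CohB1.genLocus L s := by
      intro x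
      obtain ⟨z, hz, hzx⟩ := hgg x
      obtain ⟨σ, hσ⟩ := exists_crd_eq (triv hL) k hdim hL ⊤ trivial z fun w _ => hz _
      exact ⟨homOfSec σ, mem_genLocus_of_val k hdim hL σ x (by rw [hσ]; exact hzx)⟩
    intro y
    by_cases hy : y = genericPoint X
    · obtain ⟨x⟩ := exists_closedPt (X := X) k hdim
      obtain ⟨s, hs⟩ := key x
      exact ⟨s, hy ▸ genericPoint_mem hs⟩
    · exact key ⟨y, VarDim.isClosed_singleton_of_ne_genericPoint k hdim hy⟩
  obtain ⟨b, hb⟩ := CurveSimple.exists_generatedBy k hn hgen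
  have hd : Curv2.deg k X L 1 ≠ 0 := by
    rw [deg_eq k hdim hK hL]
    intro h0
    obtain ⟨z, hz, hzP⟩ := hgg ((placeEquiv k hdim).symm P0)
    have h1 := hs P0 P0
    have h3 : D - Finsupp.single P0 1 - Finsupp.single P0 1 ≤ D :=
      (sub_le_self _ (Finsupp.single_nonneg.2 zero_le_one)).trans (sub_le_self _ (Finsupp.single_nonneg.2 zero_le_one))
    have h4 := (FF.relDim_L_ell (isFF (X := X) k hdim) h3).2.1
    have hz0 : z ≠ 0 := fun e => by rw [e, map_zero] at hzP; exact exp_pos.ne hzP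
    have h5 : 0 ≤ D + div k z := (FF.mem_L_iff (isFF (X := X) k hdim) hz0).1 hz
    have h6 := FF.ell_le_of_nonneg hK h5
    rw [FF.deg_add, FF.deg_div (isFF (X := X) k hdim), FF.Any.ell_add_div (isFF (X := X) k hdim) hz0] at h6
    rw [FF.deg_sub, FF.deg_sub, FF.deg_single, FF.deg_eq_one hK P0] at h4
    change D.deg = 0 at h0
    push_cast at h4 h6
    omega
  obtain ⟨φ, hfin, hφ, hτ, hgen', hcoef⟩ := CurveSimple.exists_finite_morph k hdim hL hd _ hb
  refine ⟨n, φ, ?_, hφ, hτ⟩
  haveI := hfin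
  haveI := ProjProper.Basic.isProper_toSpec n k
  letI : (CohB1.ProjSpace n k).Over (Spec (CommRingCat.of k)) := ⟨CohB1.ProjSpace.toSpec n k⟩
  haveI : LocallyOfFiniteType ((CohB1.ProjSpace n k) ↘ Spec (CommRingCat.of k)) :=
    (inferInstance : LocallyOfFiniteType (CohB1.ProjSpace.toSpec n k))
  refine CurveSimple.isClosedImmersion_of_lin k hdim φ hφ hL (isTwoNonspecial_of_isSep k hdim hL hs)
    (fun i => SepTang48.D k n i) (fun i => SepTang48.isAffineOpen_D k n i) (SepTang48.iSup_D k n)
    (fun i => QCoh.res L le_top (ProperFin.h0Sec L (b i))) hgen' fun σ i => ?_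
  choose r hr using hcoef i
  set c := fun j => b.repr ((ProperFin.h0Sec L).symm σ) j
  refine ⟨∑ j, QCoh.rres le_top (ProperFin.glob k (CohB1.ProjSpace n k) (c j)) * r j, ?_⟩
  conv_lhs => rw [← (ProperFin.h0Sec L).apply_symm_apply σ, ← b.sum_repr ((ProperFin.h0Sec L).symm σ),
    map_sum, map_sum]
  rw [map_sum, Finset.sum_smul]
  refine Finset.sum_congr rfl fun j _ => ?_
  rw [show ProperFin.h0Sec L (c j • b j) = (show Γ(X, ⊤) from Coh.toGlobal (X ↘ Spec (CommRingCat.of k)) (c j)) • ProperFin.h0Sec L (b j)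
    from ProperFin.h0Sec_smul L (Coh.toGlobal (X ↘ Spec (CommRingCat.of k)) (c j)) (b j),
    QCoh.res_smul, map_mul, mul_smul, ← hr j, Props.GenPull.app_rres,
    ProperFin.toGlobal_comp (Y := CohB1.ProjSpace n k) φ hφ (c j)]
  rfl

end AlgClosed

end Groth.Agent.FFCurve
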