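import Groth.Agent.FFCurve.CSEquality
import Groth.Agent.FFCurve.DoubleCover
import Groth.Agent.FFCurve.VeryAmple
import Groth.Agent.FFCurve.EtaleOutsideTwo
import Mathlib.AlgebraicGeometry.AlgClosed.Basic
import Mathlib.AlgebraicGeometry.ZariskisMainTheorem

/-!
# Two double covers attaining the Castelnuovo–Severi bound embed the curve in the product
-/

set_option autoImplicit false
set_option linter.style.haveILetI false
set_option linter.unusedSectionVars false
set_option synthInstance.maxHeartbeats 200000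
set_option maxHeartbeats 1000000
set_option backward.isDefEq.respectTransparency false
set_option backward.isDefEq.respectTransparency.types false

universe u

open CategoryTheory CategoryTheory.Limits AlgebraicGeometry TopologicalSpace FunFld WithZero
open Groth.Agent.CurveCoh

noncomputable section

namespace Groth.Agent.FFCurve.TwoCovers

attribute [local instance] Curv2.resAlgebra

variable (k : Type u) [Field k] {X Y : Scheme.{u}} [IsIntegral X] [IsIntegral Y]
  [X.Over (Spec (CommRingCat.of k))] [Y.Over (Spec (CommRingCat.of k))]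
  [IsProper (X ↘ Spec (CommRingCat.of k))] [IsProper (Y ↘ Spec (CommRingCat.of k))]
  [RegCurve X] [RegCurve Y]

section

variable (f : X ⟶ Y) (e : f (genericPoint X) = genericPoint Y)

omit [RegCurve X] [RegCurve Y] in
lemma algebraMap_stalkMap (x : X) (a : Y.presheaf.stalk (f x)) :
    algebraMap (X.presheaf.stalk x) X.functionField (f.stalkMap x a) =
      VBLib.PushTrace.genMap f e (algebraMap (Y.presheaf.stalk (f x)) Y.functionField a) := by
  obtain ⟨U, hU, s, rfl⟩ := TopCat.Presheaf.exists_germ_eq Y.presheaf (t := a)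
  rw [Scheme.Hom.germ_stalkMap_apply, algebraMap_germ_secK, algebraMap_germ_secK]
  exact (VBLib.PushTrace.genMap_germ f e U _ _ s).symm

end

variable (hdim : topologicalKrullDim X = 1)
include hdim

lemma val_lt_one_of_mem (x : ZetaLib.ClosedPt X) {b : X.presheaf.stalk x.1}
    (hb : b ∈ IsLocalRing.maximalIdeal (X.presheaf.stalk x.1)) :
    (toPlace k hdim x).1 (algebraMap (X.presheaf.stalk x.1) X.functionField b) ≤ exp (-1) := by
  obtain ⟨U, hU, s, rfl⟩ := TopCat.Presheaf.exists_germ_eq X.presheaf (t := b)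
  have h := (val_germ_lt_one_iff k hdim x hU s).1 hb
  rw [← algebraMap_germ_secK hU s] at h
  set v := (toPlace k hdim x).1 (algebraMap (X.presheaf.stalk x.1) X.functionField (X.presheaf.germ U x.1 hU s))
  rcases eq_or_ne v 0 with h0 | h0
  · rw [h0]; exact zero_le
  · rw [← exp_log h0, ← exp_zero, exp_lt_exp] at h
    rw [← exp_log h0, exp_le_exp]
    omega

lemma val_le_of_mem_sq (x : ZetaLib.ClosedPt X) {b : X.presheaf.stalk x.1}
    (hb : b ∈ IsLocalRing.maximalIdeal (X.presheaf.stalk x.1) ^ 2) :
    (toPlace k hdim x).1 (algebraMap (X.presheaf.stalk x.1) X.functionField b) ≤ exp (-2) := by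
  rw [pow_two] at hb
  refine Submodule.mul_induction_on hb (fun r hr s hs => ?_) (fun r s hr hs => ?_)
  · rw [map_mul, map_mul, show (-2 : ℤ) = -1 + -1 by norm_num, exp_add]
    exact mul_le_mul' (val_lt_one_of_mem k hdim x hr) (val_lt_one_of_mem k hdim x hs)
  · rw [map_add]
    exact (Valuation.map_add _ _ _).trans (max_le hr hs)

variable [IsAlgClosed k] (hdimY : topologicalKrullDim Y = 1)
  (f : X ⟶ Y) (e : f (genericPoint X) = genericPoint Y)
  (hf : f ≫ (Y ↘ Spec (CommRingCat.of k)) = X ↘ Spec (CommRingCat.of k))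
include hdimY hf

/-- Functions from the target are nearly constant at two points with the same image. -/
theorem nearConst (x x' : ZetaLib.ClosedPt X) (h : f x.1 = f x'.1)
    (hm : x = x' → Ideal.map (f.stalkMap x.1).hom (IsLocalRing.maximalIdeal (Y.presheaf.stalk (f x.1))) ≤
      IsLocalRing.maximalIdeal (X.presheaf.stalk x.1) ^ 2)
    (z : Y.functionField) (hz : (toPlace k hdim x).1 (VBLib.PushTrace.genMap f e z) ≤ 1) :
    CS.NearConst (Finsupp.single (toPlace k hdim x) 1 + Finsupp.single (toPlace k hdim x') 1)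
      (VBLib.PushTrace.genMap f e z) := by
  classical
  haveI := FFCurve.hv (X := Y) k hdimY (f x.1)
  obtain ⟨a, rfl⟩ : ∃ a : Y.presheaf.stalk (f x.1),
      algebraMap (Y.presheaf.stalk (f x.1)) Y.functionField a = z := by
    rcases eq_or_ne z 0 with rfl | hz0
    · exact ⟨0, map_zero _⟩
    rcases ValuationRing.isInteger_or_isInteger (Y.presheaf.stalk (f x.1)) z with h' | ⟨a, ha⟩
    · exact h'
    · by_cases hu : IsUnit a
      · obtain ⟨u, rfl⟩ := hu
        exact ⟨((u⁻¹ : (Y.presheaf.stalk (f x.1))ˣ) : Y.presheaf.stalk (f x.1)),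
          by rw [map_units_inv, ha, inv_inv]⟩
      · exfalso
        have hmem : f.stalkMap x.1 a ∈ IsLocalRing.maximalIdeal (X.presheaf.stalk x.1) := by
          rw [IsLocalRing.mem_maximalIdeal, mem_nonunits_iff]
          exact fun hu' => hu (IsUnit.of_map (f.stalkMap x.1).hom a hu')
        have h1 := val_lt_one_of_mem k hdim x hmem
        rw [algebraMap_stalkMap f e, ha, map_inv₀, map_inv₀] at h1
        have h0 : (toPlace k hdim x).1 (VBLib.PushTrace.genMap f e z) ≠ 0 := by
          rwa [Valuation.ne_zero_iff, map_ne_zero]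
        exact absurd ((one_le_inv_iff₀.2 ⟨zero_lt_iff.2 h0, hz⟩).trans h1)
          (not_le.2 (by rw [← exp_zero, exp_lt_exp]; omega))
  haveI : LocallyOfFiniteType (Y ↘ Spec (CommRingCat.of k)) := inferInstance
  have hyc : IsClosed ({f x.1} : Set Y) := by
    haveI : IsProper f := by
      haveI : IsProper (f ≫ (Y ↘ Spec (CommRingCat.of k))) := by rw [hf]; infer_instance
      exact IsProper.of_comp f (Y ↘ Spec (CommRingCat.of k))
    simpa [Set.image_singleton] using f.isClosedMap _ x.2
  obtain ⟨c, hc⟩ := (EtaleOutside.resMap_bijective (k := k) hyc).1.2 (Y.residue (f x.1) a)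
  set γ := Y.presheaf.germ ⊤ (f x.1) trivial (Coh.toGlobal (Y ↘ Spec (CommRingCat.of k)) c)
  have ham : a - γ ∈ IsLocalRing.maximalIdeal (Y.presheaf.stalk (f x.1)) := by
    have hc' : Y.residue (f x.1) γ = Y.residue (f x.1) a := hc
    refine (IsLocalRing.residue_eq_zero_iff _).1 ?_
    show Y.residue (f x.1) (a - γ) = 0
    rw [map_sub, hc', sub_self]
  have hγ : VBLib.PushTrace.genMap f e (algebraMap _ Y.functionField γ) = algebraMap k X.functionField c := by
    rw [algebraMap_k_stalk k (f x.1) c]
    exact genMap_algebraMap k f e hf c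
  refine ⟨c, fun P hP => ?_⟩
  rw [← hγ, ← map_sub, ← map_sub]
  by_cases hxx : x = x'
  · subst hxx
    obtain rfl : P = toPlace k hdim x := by
      by_contra hne
      exact hP (by simp [Ne.symm hne])
    rw [Finsupp.add_apply, Finsupp.single_eq_same, ← algebraMap_stalkMap f e]
    exact (val_le_of_mem_sq k hdim x (hm rfl (Ideal.mem_map_of_mem _ ham))).trans_eq (by norm_num)
  · have hne : toPlace k hdim x ≠ toPlace k hdim x' := fun h' => hxx (toPlace_injective k hdim h')
    have hloc : ∀ (w : ZetaLib.ClosedPt X) (hw : f x.1 = f w.1),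
        (toPlace k hdim w).1 (VBLib.PushTrace.genMap f e (algebraMap _ Y.functionField (a - γ))) ≤ exp (-1) := by
      rintro w hw
      generalize hy : f x.1 = y at a γ ham ⊢
      obtain rfl : y = f w.1 := hy ▸ hw
      rw [← algebraMap_stalkMap f e]
      refine val_lt_one_of_mem k hdim w ?_
      rw [IsLocalRing.mem_maximalIdeal, mem_nonunits_iff]
      exact fun hu' => (IsLocalRing.mem_maximalIdeal _).1 ham (IsUnit.of_map (f.stalkMap w.1).hom _ hu')
    rcases eq_or_ne P (toPlace k hdim x) with rfl | hPx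
    · rw [Finsupp.add_apply, Finsupp.single_eq_same, Finsupp.single_eq_of_ne hne]
      exact (hloc x rfl).trans_eq (by norm_num)
    · obtain rfl : P = toPlace k hdim x' := by
        by_contra hne'
        exact hP (by simp [Ne.symm hPx, Ne.symm hne'])
      rw [Finsupp.add_apply, Finsupp.single_eq_same, Finsupp.single_eq_of_ne hne.symm]
      exact (hloc x' h).trans_eq (by norm_num)

end Groth.Agent.FFCurve.TwoCovers

namespace Groth.Agent.FFCurve.TwoCovers

attribute [local instance] Curv2.resAlgebra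

variable (k : Type u) [Field k] [IsAlgClosed k] [CharZero k] {X Y P₁ P₂ : Scheme.{u}}
  [IsIntegral X] [X.Over (Spec (CommRingCat.of k))] [IsProper (X ↘ Spec (CommRingCat.of k))] [RegCurve X]

/-- A closed point where some function pulled back is a uniformizer is unramified. -/
theorem formallyUnramified_stalkMap (hdim : topologicalKrullDim X = 1)
    [Y.Over (Spec (CommRingCat.of k))] [LocallyOfFiniteType (Y ↘ Spec (CommRingCat.of k))] (f : X ⟶ Y)
    (hf : f ≫ (Y ↘ Spec (CommRingCat.of k)) = X ↘ Spec (CommRingCat.of k)) (x : ZetaLib.ClosedPt X)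
    (hm : ¬ Ideal.map (f.stalkMap x.1).hom (IsLocalRing.maximalIdeal (Y.presheaf.stalk (f x.1))) ≤
      IsLocalRing.maximalIdeal (X.presheaf.stalk x.1) ^ 2) :
    (f.stalkMap x.1).hom.FormallyUnramified := by
  haveI : LocallyOfFiniteType f := by
    haveI : LocallyOfFiniteType (f ≫ (Y ↘ Spec (CommRingCat.of k))) := by rw [hf]; infer_instance
    exact locallyOfFiniteType_of_comp f (Y ↘ Spec (CommRingCat.of k))
  haveI := isDVR (X := X) k hdim x.2
  set m := IsLocalRing.maximalIdeal (X.presheaf.stalk x.1)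
  set I := Ideal.map (f.stalkMap x.1).hom (IsLocalRing.maximalIdeal (Y.presheaf.stalk (f x.1)))
  have hI : I = m := by
    obtain ⟨ϖ, hϖ⟩ := IsDiscreteValuationRing.exists_irreducible (X.presheaf.stalk x.1)
    have hI0 : I ≠ ⊥ := fun h => hm (by rw [h]; exact bot_le)
    obtain ⟨n, hn⟩ := IsDiscreteValuationRing.ideal_eq_span_pow_irreducible hI0 hϖ
    rw [← Ideal.span_singleton_pow, ← hϖ.maximalIdeal_eq] at hn
    match n, hn with
    | 0, hn =>
      exfalso
      have hle : I ≤ m := Ideal.map_le_iff_le_comap.2 fun a ha => by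
        rw [Ideal.mem_comap, IsLocalRing.mem_maximalIdeal, mem_nonunits_iff]
        exact fun hu => (IsLocalRing.mem_maximalIdeal _).1 ha (IsUnit.of_map (f.stalkMap x.1).hom a hu)
      rw [hn, pow_zero, Ideal.one_eq_top] at hle
      exact (IsLocalRing.maximalIdeal.isMaximal _).ne_top (top_le_iff.1 hle)
    | 1, hn => rw [hn, pow_one]
    | n + 2, hn => exact absurd (hn ▸ Ideal.pow_le_pow_right (by omega)) hm
  algebraize [(f.stalkMap x.1).hom]
  haveI : IsLocalHom (algebraMap (Y.presheaf.stalk (f x.1)) (X.presheaf.stalk x.1)) :=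
    inferInstanceAs <| IsLocalHom (f.stalkMap x.1).hom
  haveI : Algebra.EssFiniteType (Y.presheaf.stalk (f x.1)) (X.presheaf.stalk x.1) := by
    rw [← RingHom.essFiniteType_algebraMap, RingHom.algebraMap_toAlgebra]
    exact LocallyOfFiniteType.stalkMap f x.1
  haveI : Algebra.IsSeparable (IsLocalRing.ResidueField (Y.presheaf.stalk (f x.1)))
      (IsLocalRing.ResidueField (X.presheaf.stalk x.1)) := by
    have hsurj : Function.Surjective (algebraMap (IsLocalRing.ResidueField (Y.presheaf.stalk (f x.1)))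
        (IsLocalRing.ResidueField (X.presheaf.stalk x.1))) := fun z => by
      obtain ⟨c, rfl⟩ := (EtaleOutside.resMap_bijective (k := k) x.2).1.2 z
      refine ⟨Curv2.resMap k Y (f x.1) c, ?_⟩
      rw [← EtaleOutside.residueFieldMap_resMap f hf x.1 c]
      rfl
    exact ⟨fun z => by
      obtain ⟨w, rfl⟩ := hsurj z
      exact isSeparable_algebraMap w⟩
  rw [RingHom.FormallyUnramified]
  exact Algebra.FormallyUnramified.iff_map_maximalIdeal_eq.2 ⟨inferInstance, hI⟩

lemma congrFU {A B : Scheme.{u}} {f g : A ⟶ B} (h : f = g) (x : A)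
    (hu : (f.stalkMap x).hom.FormallyUnramified) : (g.stalkMap x).hom.FormallyUnramified := by
  subst h; exact hu

variable [IsIntegral P₁] [IsIntegral P₂]
  [P₁.Over (Spec (CommRingCat.of k))] [P₂.Over (Spec (CommRingCat.of k))]
  [IsProper (P₁ ↘ Spec (CommRingCat.of k))] [IsProper (P₂ ↘ Spec (CommRingCat.of k))] [RegCurve P₁] [RegCurve P₂]

/-- When the Castelnuovo–Severi bound is attained the product map is a closed immersion. -/
theorem isClosedImmersion_lift (hdim : topologicalKrullDim X = 1)
    (hdim₁ : topologicalKrullDim P₁ = 1) (hdim₂ : topologicalKrullDim P₂ = 1)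
    (f₁ : X ⟶ P₁) (hf₁ : f₁ ≫ (P₁ ↘ Spec (CommRingCat.of k)) = X ↘ Spec (CommRingCat.of k))
    [IsFinite f₁] [Flat f₁] (hr₁ : ∀ y : P₁, Scheme.Hom.finrank f₁ y = 2)
    (f₂ : X ⟶ P₂) (hf₂ : f₂ ≫ (P₂ ↘ Spec (CommRingCat.of k)) = X ↘ Spec (CommRingCat.of k))
    [IsFinite f₂] [Flat f₂] (hr₂ : ∀ y : P₂, Scheme.Hom.finrank f₂ y = 2)
    (hne : ¬ ∃ e : P₁ ≅ P₂, e.hom ≫ (P₂ ↘ Spec (CommRingCat.of k)) = (P₁ ↘ Spec (CommRingCat.of k)) ∧
      f₁ ≫ e.hom = f₂)
    (hg : Curv2.genus k X = 2 * Curv2.genus k P₁ + 2 * Curv2.genus k P₂ + 1) :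
    IsClosedImmersion (pullback.lift f₁ f₂ (hf₁.trans hf₂.symm) :
        X ⟶ pullback (P₁ ↘ Spec (CommRingCat.of k)) (P₂ ↘ Spec (CommRingCat.of k))) := by
  classical
  haveI : IsLocallyNoetherian P₁ := LocallyOfFiniteType.isLocallyNoetherian (P₁ ↘ Spec (CommRingCat.of k))
  haveI : IsLocallyNoetherian P₂ := LocallyOfFiniteType.isLocallyNoetherian (P₂ ↘ Spec (CommRingCat.of k))
  have e₁ := map_genericPoint k hdim hdim₁ f₁
  have e₂ := map_genericPoint k hdim hdim₂ f₂
  have hK := isFunctionField_of_isAlgClosed (X := X) k hdim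
  have hK₁ := isFunctionField_of_isAlgClosed (X := P₁) k hdim₁
  have hK₂ := isFunctionField_of_isAlgClosed (X := P₂) k hdim₂
  letI := (VBLib.PushTrace.genMap f₁ e₁).toAlgebra
  letI := (VBLib.PushTrace.genMap f₂ e₂).toAlgebra
  haveI : IsScalarTower k P₁.functionField X.functionField :=
    IsScalarTower.of_algebraMap_eq fun c => (genMap_algebraMap k f₁ e₁ hf₁ c).symm
  haveI : IsScalarTower k P₂.functionField X.functionField :=
    IsScalarTower.of_algebraMap_eq fun c => (genMap_algebraMap k f₂ e₂ hf₂ c).symm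
  have h₁ := (finrank_genMap f₁ e₁).trans (hr₁ _)
  have h₂ := (finrank_genMap f₂ e₂).trans (hr₂ _)
  haveI : CharZero P₁.functionField := charZero_of_injective_algebraMap (algebraMap k P₁.functionField).injective
  haveI : CharZero P₂.functionField := charZero_of_injective_algebraMap (algebraMap k P₂.functionField).injective
  haveI : FiniteDimensional P₁.functionField X.functionField := Module.finite_of_finrank_pos (by omega)
  haveI : FiniteDimensional P₂.functionField X.functionField := Module.finite_of_finrank_pos (by omega)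
  rw [genus_eq_genus k hdim hK, genus_eq_genus k hdim₁ hK₁, genus_eq_genus k hdim₂ hK₂] at hg
  have key : ∀ x x' : ZetaLib.ClosedPt X, f₁ x.1 = f₁ x'.1 → f₂ x.1 = f₂ x'.1 →
      x = x' ∧ ((f₁.stalkMap x.1).hom.FormallyUnramified ∨ (f₂.stalkMap x.1).hom.FormallyUnramified) := by
    intro x x' h h'
    by_contra hcon
    rw [not_and, not_or] at hcon
    have hm₁ : x = x' → Ideal.map (f₁.stalkMap x.1).hom (IsLocalRing.maximalIdeal (P₁.presheaf.stalk (f₁ x.1))) ≤
        IsLocalRing.maximalIdeal (X.presheaf.stalk x.1) ^ 2 := fun hx => by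
      by_contra hn
      exact (hcon hx).1 (formallyUnramified_stalkMap k hdim f₁ hf₁ x hn)
    have hm₂ : x = x' → Ideal.map (f₂.stalkMap x.1).hom (IsLocalRing.maximalIdeal (P₂.presheaf.stalk (f₂ x.1))) ≤
        IsLocalRing.maximalIdeal (X.presheaf.stalk x.1) ^ 2 := fun hx => by
      by_contra hn
      exact (hcon hx).2 (formallyUnramified_stalkMap k hdim f₂ hf₂ x hn)
    exact CS.not_nearConst hK hK₁ hK₂ h₁ h₂
      (fun he => hne (exists_iso_of_range_eq k f₁ e₁ hf₁ f₂ e₂ hf₂ he))
      (by exact_mod_cast hg) (toPlace k hdim x) (toPlace k hdim x')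
      (fun z hz _ => nearConst k hdim hdim₁ f₁ e₁ hf₁ x x' h hm₁ z hz)
      (fun z hz _ => nearConst k hdim hdim₂ f₂ e₂ hf₂ x x' h' hm₂ z hz)
  set ι := (pullback.lift f₁ f₂ (hf₁.trans hf₂.symm) :
        X ⟶ pullback (P₁ ↘ Spec (CommRingCat.of k)) (P₂ ↘ Spec (CommRingCat.of k)))
  have hι₁ : ι ≫ pullback.fst _ _ = f₁ := pullback.lift_fst _ _ _
  have hι₂ : ι ≫ pullback.snd _ _ = f₂ := pullback.lift_snd _ _ _
  have hproper : IsProper ι := by
    haveI : IsProper (ι ≫ pullback.fst _ _) := by rw [hι₁]; infer_instance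
    exact IsProper.of_comp ι (pullback.fst _ _)
  haveI : LocallyOfFiniteType ι := inferInstance
  haveI : FormallyUnramified ι := by
    refine HasRingHomProperty.of_stalkMap RingHom.FormallyUnramified.ofLocalizationPrime fun x => ?_
    have hclosed : ∀ w : ZetaLib.ClosedPt X, (ι.stalkMap w.1).hom.FormallyUnramified := fun w => by
      rcases (key w w rfl rfl).2 with hu | hu
      · replace hu := congrFU (hι₁).symm w.1 hu
        rw [Scheme.Hom.stalkMap_comp] at hu
        exact RingHom.FormallyUnramified.of_comp hu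
      · replace hu := congrFU (hι₂).symm w.1 hu
        rw [Scheme.Hom.stalkMap_comp] at hu
        exact RingHom.FormallyUnramified.of_comp hu
    by_cases hx : x = genericPoint X
    · subst hx
      obtain ⟨w⟩ := exists_closedPt (X := X) k hdim
      have hs : genericPoint X ⤳ w.1 := genericPoint_specializes _
      have h1 : (X.presheaf.stalkSpecializes hs).hom.FormallyUnramified := by
        show (algebraMap (X.presheaf.stalk w.1) X.functionField).FormallyUnramified
        rw [RingHom.formallyUnramified_algebraMap]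
        exact .of_isLocalization (nonZeroDivisors (X.presheaf.stalk w.1))
      have h2 := (hclosed w).comp h1
      rw [← CommRingCat.hom_comp, ← Scheme.Hom.stalkSpecializes_stalkMap ι _ _ hs, CommRingCat.hom_comp] at h2
      exact RingHom.FormallyUnramified.of_comp h2
    · exact hclosed ⟨x, VarDim.isClosed_singleton_of_ne_genericPoint k hdim hx⟩
  haveI : Surjective (pullback.diagonal ι) := by
    refine ⟨fun z => ?_⟩
    by_contra hz
    let ι' := pullback.fst ι ι
    haveI : LocallyOfFiniteType (ι' ≫ (X ↘ Spec (CommRingCat.of k))) := inferInstance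
    haveI : JacobsonSpace ↥(pullback ι ι) := LocallyOfFiniteType.jacobsonSpace (ι' ≫ (X ↘ Spec (CommRingCat.of k)))
    obtain ⟨p, hp, hpc⟩ := nonempty_inter_closedPoints (X := ↥(pullback ι ι))
      (Z := (Set.range (pullback.diagonal ι))ᶜ) ⟨z, hz⟩
      (pullback.diagonal ι).isOpenEmbedding.isOpen_range.isClosed_compl.isLocallyClosed
    let π := pointOfClosedPoint (ι' ≫ (X ↘ Spec (CommRingCat.of k))) p hpc
    have hπ := pointOfClosedPoint_comp (ι' ≫ (X ↘ Spec (CommRingCat.of k))) p hpc
    have hsnd : pullback.snd ι ι ≫ (X ↘ Spec (CommRingCat.of k)) = ι' ≫ (X ↘ Spec (CommRingCat.of k)) := by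
      rw [← hf₁, ← Category.assoc, ← Category.assoc, ← hι₁, ← Category.assoc, ← Category.assoc,
        ← pullback.condition]
    haveI : IsProper (pullback.snd ι ι) := inferInstance
    have hc1 : IsClosed ({pullback.fst ι ι p} : Set X) := by
      simpa [Set.image_singleton] using (pullback.fst ι ι).isClosedMap _ hpc
    have hc2 : IsClosed ({pullback.snd ι ι p} : Set X) := by
      simpa [Set.image_singleton] using (pullback.snd ι ι).isClosedMap _ hpc
    have hpp : ι (pullback.fst ι ι p) = ι (pullback.snd ι ι p) := by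
      rw [← Scheme.Hom.comp_apply, ← Scheme.Hom.comp_apply, pullback.condition]
    have hxx : pullback.fst ι ι p = pullback.snd ι ι p := by
      refine congrArg Subtype.val (key ⟨_, hc1⟩ ⟨_, hc2⟩ ?_ ?_).1
      · simp only [← hι₁, Scheme.Hom.comp_apply, hpp]
      · simp only [← hι₂, Scheme.Hom.comp_apply, hpp]
    have heq : π ≫ pullback.fst ι ι = π ≫ pullback.snd ι ι := by
      refine ext_of_apply_closedPoint_eq (X ↘ Spec (CommRingCat.of k)) (by rw [Category.assoc]; exact hπ)
        (by rw [Category.assoc, hsnd]; exact hπ) ?_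
      simp only [Scheme.Hom.comp_apply, π, pointOfClosedPoint_apply]
      exact hxx
    have hπd : (π ≫ pullback.fst ι ι) ≫ pullback.diagonal ι = π := by
      apply pullback.hom_ext
      · simp
      · simp [heq]
    refine hp ⟨(π ≫ pullback.fst ι ι) (IsLocalRing.closedPoint k), ?_⟩
    rw [← Scheme.Hom.comp_apply, hπd, pointOfClosedPoint_apply]
  haveI : Mono ι := by
    rw [← pullback.isIso_diagonal_iff]
    exact (isIso_iff_isOpenImmersion_and_epi_base _).2 ⟨inferInstance, (TopCat.epi_iff_surjective _).2 (pullback.diagonal ι).surjective⟩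
  exact (IsClosedImmersion.iff_isProper_and_mono _).2 ⟨hproper, inferInstance⟩

end Groth.Agent.FFCurve.TwoCovers
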