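import Groth.Agent.FFCurve.HenselSplit
import Groth.Agent.Hens.BranchUnibranch
import Groth.Agent.Hens.GRingFinite
import Groth.Agent.Hensel.NagataHens
import Groth.Agent.NormFinCpl.Scheme
import Groth.Agent.RedNorm.Nagata
import Groth.Agent.FFCurve.NormalCount
import Groth.Agent.S12463
import Groth.Agent.S12630
import Groth.Agent.S0547
import Groth.Agent.S9241
import Groth.Agent.S7654

/-!
# The completion of an ordinary `n`-fold point
-/

set_option autoImplicit false
set_option linter.style.haveILetI false
set_option backward.isDefEq.respectTransparency false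
set_option backward.isDefEq.respectTransparency.types false
set_option maxHeartbeats 1000000

universe u

open IsLocalRing

noncomputable section

namespace Groth.Agent.FFCurve.WedgeCpl

theorem isSepClosed_of_ringEquiv {k K : Type u} [Field k] [Field K] [IsSepClosed k] (e : k ≃+* K) :
    IsSepClosed K :=
  IsSepClosed.of_exists_root K fun p hm hi hs => by
    have hd : (p.map (e.symm : K →+* k)).degree ≠ 0 := by
      rw [Polynomial.degree_map]
      exact (Polynomial.degree_pos_of_irreducible hi).ne'
    obtain ⟨x, hx⟩ := IsSepClosed.exists_root (p.map (e.symm : K →+* k)) hd hs.map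
    refine ⟨e x, ?_⟩
    rw [Polynomial.IsRoot, Polynomial.eval_map] at hx
    apply e.symm.injective
    rw [map_zero, ← hx, Polynomial.eval₂_eq_eval_map]
    show (e.symm : K →+* k) (p.eval (e x)) = _
    rw [← Polynomial.eval₂_at_apply, Polynomial.eval₂_eq_eval_map]
    simp

theorem numBranches_le_numGeomBranches (A : Type u) [CommRing A] [IsLocalRing A] :
    Brnch.numBranches A ≤ Brnch.numGeomBranches A := by
  haveI := Hens.nontrivial_normRed A
  haveI := Hens.isIntegral_normRed A
  unfold Brnch.numBranches Brnch.numGeomBranches
  split_ifs with h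
  · have hne : ∀ m : MaximalSpectrum (CAlg2.normRed A), Nonempty (Brnch.Emb A m) := fun m =>
      haveI := m.isMaximal
      (Hens.emb_nonempty_and_subsingleton_iff A m.asIdeal).1
    exact ENat.card_le_card_of_injective (f := fun m => (⟨m, (hne m).some⟩ : Σ m', Brnch.Emb A m'))
      fun a b hab => congrArg Sigma.fst hab
  · exact le_rfl

/-- The normalization of a reduced ring is that of its reduction. -/
theorem card_maximalSpectrum_integralClosure (A : Type u) [CommRing A] [IsLocalRing A] [IsNoetherianRing A]
    [IsReduced A] : ENat.card (MaximalSpectrum (integralClosure A (FractionRing A))) = Brnch.numBranches A := by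
  let e : A ≃+* CAlg2.red A := RingEquiv.ofBijective (Ideal.Quotient.mk (nilradical A))
    ⟨fun a b h => by
      have := Ideal.Quotient.eq.mp h
      rw [nilradical_eq_zero] at this
      exact sub_eq_zero.mp this, Ideal.Quotient.mk_surjective⟩
  let F : FractionRing A ≃+* FractionRing (CAlg2.red A) := IsFractionRing.ringEquivOfRingEquiv e
  have hF : ∀ a : A, F (algebraMap A _ a) = algebraMap (CAlg2.red A) _ (e a) := fun a =>
    IsFractionRing.ringEquivOfRingEquiv_algebraMap e a
  have hmem : ∀ x : FractionRing A, x ∈ integralClosure A (FractionRing A) →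
      F x ∈ integralClosure (CAlg2.red A) (FractionRing (CAlg2.red A)) := fun x hx => by
    simp only [mem_integralClosure_iff] at hx ⊢
    exact hx.map_of_comp_eq e.toRingHom F.toRingHom (RingHom.ext fun a => (hF a).symm)
  have hmem' : ∀ y, y ∈ integralClosure (CAlg2.red A) (FractionRing (CAlg2.red A)) →
      F.symm y ∈ integralClosure A (FractionRing A) := fun y hy => by
    simp only [mem_integralClosure_iff] at hy ⊢
    refine hy.map_of_comp_eq e.symm.toRingHom F.symm.toRingHom (RingHom.ext fun b => ?_)
    apply F.injective
    show F (algebraMap A _ (e.symm b)) = F (F.symm (algebraMap (CAlg2.red A) _ b))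
    rw [hF, e.apply_symm_apply, F.apply_symm_apply]
  let G : integralClosure A (FractionRing A) ≃+* CAlg2.normRed A :=
    { toFun := fun x => ⟨F x.1, hmem x.1 x.2⟩
      invFun := fun y => ⟨F.symm y.1, hmem' y.1 y.2⟩
      left_inv := fun x => Subtype.ext (F.symm_apply_apply x.1)
      right_inv := fun y => Subtype.ext (F.apply_symm_apply y.1)
      map_mul' := fun x y => Subtype.ext (map_mul F x.1 y.1)
      map_add' := fun x y => Subtype.ext (map_add F x.1 y.1) }
  unfold Brnch.numBranches
  rw [if_pos (minimalPrimes.finite_of_isNoetherianRing A)]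
  refine ENat.card_congr
      ⟨fun m => ⟨m.asIdeal.comap G.symm.toRingHom,
          haveI := m.isMaximal; Ideal.comap_isMaximal_of_surjective _ G.symm.surjective⟩,
        fun m => ⟨m.asIdeal.comap G.toRingHom, haveI := m.isMaximal; Ideal.comap_isMaximal_of_surjective _ G.surjective⟩,
        fun m => MaximalSpectrum.ext ?_, fun m => MaximalSpectrum.ext ?_⟩
  · show (m.asIdeal.comap G.symm.toRingHom).comap G.toRingHom = m.asIdeal
    ext z
    show G.symm (G z) ∈ m.asIdeal ↔ _
    rw [G.symm_apply_apply]
  · show (m.asIdeal.comap G.toRingHom).comap G.symm.toRingHom = m.asIdeal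
    ext z
    show G (G.symm z) ∈ m.asIdeal ↔ _
    rw [G.apply_symm_apply]

theorem isReduced_cpl (A : Type u) [CommRing A] [IsLocalRing A] [IsReduced A] (hN : CAlg.IsNagata A) :
    IsReduced (AdicCompletion (maximalIdeal A) A) := by
  haveI := hN.1
  haveI := Hensel.isReduced_tensor_cpl_of_finite_reduced hN A
  exact isReduced_of_injective (Algebra.TensorProduct.lid A (EGA4.Cpl A)).symm
    (AlgEquiv.injective _)

/-- A complete reduced one-dimensional local ring with residue field a sep closed coefficient field
and `δ + 1` branches is the ring of tuples of power series with common constant term. -/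
theorem exists_hom_of_complete (k : Type u) [Field k] [IsSepClosed k] (B : Type u) [CommRing B] [IsLocalRing B]
    [IsNoetherianRing B] [IsAdicComplete (maximalIdeal B) B] [IsReduced B] [Algebra k B]
    (hN : CAlg.IsNagata B) (hdim : ringKrullDim B = 1) (hres : Function.Bijective (algebraMap k (ResidueField B)))
    (n : ℕ) (hn : Brnch.numBranches B = n) (hδ : Curv2.deltaInv B + 1 = n) :
    ∃ φ : B →+* (Fin n → PowerSeries k),
      Function.Injective φ ∧ (∀ c : k, φ (algebraMap k B c) = fun _ => algebraMap k (PowerSeries k) c) ∧
      Set.range φ = {f : Fin n → PowerSeries k |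
        ∀ i j : Fin n, PowerSeries.constantCoeff (f i) = PowerSeries.constantCoeff (f j)} := by
  classical
  haveI : HenselianLocalRing B := Hensel.henselianLocalRing_of_henselianRing inferInstance
  haveI : IsSepClosed (ResidueField B) := isSepClosed_of_ringEquiv (RingEquiv.ofBijective _ hres)
  haveI hfin : Module.Finite B (integralClosure B (FractionRing B)) :=
    RedNorm.finite_integralClosure_of_isNagata B hN
  have heq : Curv2.deltaInv B + 1 = Brnch.numGeomBranches B := by
    haveI : Module.Finite (CAlg2.red B) (CAlg2.normRed B) :=
      RedNorm.finite_integralClosure_congr (RingEquiv.ofBijective (Ideal.Quotient.mk (nilradical B))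
        ⟨fun a b h => by
          have := Ideal.Quotient.eq.mp h
          rw [nilradical_eq_zero] at this
          exact sub_eq_zero.mp this, Ideal.Quotient.mk_surjective⟩ : B ≃+* CAlg2.red B) hfin
    refine le_antisymm ?_ (RedNorm.numGeomBranches_le B inferInstance)
    rw [hδ, ← hn]
    exact numBranches_le_numGeomBranches B
  obtain ⟨hdvr, hdiag⟩ := Groth.Agent.S12463.result B hN hdim heq
  have hcard : ENat.card (MaximalSpectrum (integralClosure B (FractionRing B))) = (n : ℕ∞) :=
    (card_maximalSpectrum_integralClosure B).trans hn
  have hbij := HenselSplit.bijective_toPiLocalization (R := B) (integralClosure B (FractionRing B))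
  haveI : Finite (MaximalSpectrum (integralClosure B (FractionRing B))) :=
    HenselSplit.finite_maximalSpectrum (R := B) _
  cases nonempty_fintype (MaximalSpectrum (integralClosure B (FractionRing B)))
  have hc' : Fintype.card (MaximalSpectrum (integralClosure B (FractionRing B))) = n := by
    rw [ENat.card_eq_coe_fintype_card] at hcard
    exact_mod_cast hcard
  let σ : Fin n ≃ MaximalSpectrum (integralClosure B (FractionRing B)) :=
    ((Fintype.equivFin _).trans (finCongr hc')).symm
  let ι := fun M : MaximalSpectrum (integralClosure B (FractionRing B)) =>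
    (algebraMap _ (Localization.AtPrime M.asIdeal)).comp
      ((algebraMap B (integralClosure B (FractionRing B))).comp (algebraMap k B))
  have hmax : ∀ (M : MaximalSpectrum (integralClosure B (FractionRing B))) (b : B), b ∈ maximalIdeal B →
      algebraMap _ (Localization.AtPrime M.asIdeal) (algebraMap B (integralClosure B (FractionRing B)) b) ∈
        maximalIdeal (Localization.AtPrime M.asIdeal) := fun M b hb => by
    rw [IsLocalization.AtPrime.to_map_mem_maximal_iff (Localization.AtPrime M.asIdeal) M.asIdeal]
    haveI := M.isMaximal
    haveI := Ideal.isMaximal_comap_of_isIntegral_of_isMaximal (R := B) M.asIdeal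
    show b ∈ M.asIdeal.comap (algebraMap B _)
    rw [eq_maximalIdeal this]
    exact hb
  have hconst : ∀ b : B, ∃ c : k, b - algebraMap k B c ∈ maximalIdeal B := fun b => by
    obtain ⟨c, hc⟩ := hres.2 (residue B b)
    refine ⟨c, ?_⟩
    rw [← residue_eq_zero_iff, map_sub, ← hc, IsScalarTower.algebraMap_apply k B (ResidueField B)]
    exact sub_self _
  have hE : ∀ M : MaximalSpectrum (integralClosure B (FractionRing B)),
      ∃ e : PowerSeries k ≃+* Localization.AtPrime M.asIdeal, ∀ c, e (algebraMap k _ c) = ι M c := fun M => by
    haveI := M.isMaximal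
    obtain ⟨⟨hd, hv⟩, hs⟩ := hdvr M
    haveI := hd
    haveI := hv
    obtain ⟨-, hcompl⟩ := Hens.finite_and_isAdicComplete_localization (R₀ := B) M.asIdeal
    haveI := hcompl
    letI : Algebra k (Localization.AtPrime M.asIdeal) := (ι M).toAlgebra
    have hb : Function.Bijective (algebraMap k (ResidueField (Localization.AtPrime M.asIdeal))) := by
      refine ⟨RingHom.injective _, fun z => ?_⟩
      obtain ⟨b, rfl⟩ := hs z
      obtain ⟨c, hc⟩ := hconst b
      refine ⟨c, ?_⟩
      symm
      show residue _ _ = residue _ (ι M c)
      rw [← sub_eq_zero, ← map_sub, residue_eq_zero_iff]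
      show algebraMap (integralClosure B (FractionRing B)) _ (algebraMap B (integralClosure B (FractionRing B)) b) -
        algebraMap (integralClosure B (FractionRing B)) _ (algebraMap B (integralClosure B (FractionRing B)) (algebraMap k B c)) ∈ _
      have h2 := hmax M _ hc
      rw [map_sub, map_sub] at h2
      exact h2
    obtain ⟨x, hx⟩ := IsDiscreteValuationRing.exists_irreducible (Localization.AtPrime M.asIdeal)
    obtain ⟨e, -⟩ := Groth.Agent.S12630.result k (Localization.AtPrime M.asIdeal) hb x hx.maximalIdeal_eq
    exact ⟨e.toRingEquiv, fun c => e.commutes c⟩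
  choose E hE using hE
  have hcc : ∀ (M : MaximalSpectrum (integralClosure B (FractionRing B))) (f : PowerSeries k),
      E M f - ι M (PowerSeries.constantCoeff f) ∈ maximalIdeal (Localization.AtPrime M.asIdeal) := fun M f => by
    rw [← hE M, ← (map_sub (E M) f (algebraMap k (PowerSeries k) (PowerSeries.constantCoeff f))), mem_maximalIdeal, mem_nonunits_iff, MulEquiv.isUnit_map,
      PowerSeries.isUnit_iff_constantCoeff, map_sub, PowerSeries.algebraMap_eq, PowerSeries.constantCoeff_C, sub_self]
    exact not_isUnit_zero
  have hinjι : ∀ (M : MaximalSpectrum (integralClosure B (FractionRing B))) (c : k),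
      ι M c ∈ maximalIdeal (Localization.AtPrime M.asIdeal) → c = 0 := fun M c hc => by
    by_contra hne
    exact (mem_nonunits_iff.1 ((mem_maximalIdeal _).1 hc)) ((isUnit_iff_ne_zero.2 hne).map (ι M))
  let φ : B →+* (Fin n → PowerSeries k) :=
    Pi.ringHom fun i => ((E (σ i)).symm.toRingHom.comp
      ((algebraMap _ (Localization.AtPrime (σ i).asIdeal)).comp (algebraMap B (integralClosure B (FractionRing B)))))
  haveI : FaithfulSMul B (integralClosure B (FractionRing B)) :=
    (faithfulSMul_iff_algebraMap_injective _ _).mpr fun a b h =>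
      IsFractionRing.injective B (FractionRing B) (congrArg Subtype.val h)
  refine ⟨φ, fun a b hab => ?_, fun c => funext fun i => ?_, ?_⟩
  · refine FaithfulSMul.algebraMap_injective B (integralClosure B (FractionRing B)) (hbij.1 (funext fun M => ?_))
    obtain ⟨i, rfl⟩ := σ.surjective M
    exact (E (σ i)).symm.injective (congrFun hab i)
  · exact (RingEquiv.symm_apply_eq _).2 (hE (σ i) c).symm
  · apply Set.Subset.antisymm
    · rintro _ ⟨b, rfl⟩
      obtain ⟨c, hc⟩ := hconst b
      have key : ∀ i, PowerSeries.constantCoeff (φ b i) = c := fun i => by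
        have h1 := hcc (σ i) (φ b i)
        rw [show E (σ i) (φ b i) = _ from (E (σ i)).apply_symm_apply _] at h1
        have h2 := hmax (σ i) _ hc
        rw [map_sub, map_sub] at h2
        simp only [RingHom.comp_apply] at h1
        have h1' := sub_eq_zero.1 ((map_sub _ _ _).symm.trans ((residue_eq_zero_iff (R := Localization.AtPrime (σ i).asIdeal) _).2 h1))
        have h2' := sub_eq_zero.1 ((map_sub _ _ _).symm.trans ((residue_eq_zero_iff (R := Localization.AtPrime (σ i).asIdeal) _).2 h2))
        have h3 : ι (σ i) (PowerSeries.constantCoeff (φ b i)) - ι (σ i) c ∈ maximalIdeal (Localization.AtPrime (σ i).asIdeal) :=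
          (residue_eq_zero_iff (R := Localization.AtPrime (σ i).asIdeal) _).1 ((map_sub _ _ _).trans (sub_eq_zero.2 (h1'.symm.trans h2')))
        refine sub_eq_zero.1 (hinjι (σ i) _ ?_)
        rw [map_sub]
        exact h3
      exact fun i j => (key i).trans (key j).symm
    · intro f hf
      obtain ⟨a', ha'⟩ := hbij.2 fun M => E M (f (σ.symm M))
      have hmem : ∀ M : MaximalSpectrum (integralClosure B (FractionRing B)),
          a' - algebraMap B _ (algebraMap k B (PowerSeries.constantCoeff (f (σ.symm M)))) ∈ M.asIdeal := fun M => by
        haveI := M.isMaximal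
        rw [← IsLocalization.AtPrime.to_map_mem_maximal_iff (Localization.AtPrime M.asIdeal) M.asIdeal, map_sub]
        rw [show algebraMap _ (Localization.AtPrime M.asIdeal) a' = E M (f (σ.symm M)) from congrFun ha' M]
        exact hcc M _
      have hex : ∃ c : k, ∀ M : MaximalSpectrum (integralClosure B (FractionRing B)),
          PowerSeries.constantCoeff (f (σ.symm M)) = c := by
        rcases isEmpty_or_nonempty (Fin n) with he | ⟨⟨i⟩⟩
        · exact ⟨0, fun M => isEmptyElim (σ.symm M)⟩
        · exact ⟨_, fun M => hf _ i⟩
      obtain ⟨c, hc⟩ := hex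
      obtain ⟨b, hb⟩ := hdiag a' ⟨algebraMap k B c, fun M => by rw [← hc M]; exact hmem M⟩
      refine ⟨b, funext fun i => (RingEquiv.symm_apply_eq _).2 ?_⟩
      show algebraMap (integralClosure B (FractionRing B)) (Localization.AtPrime (σ i).asIdeal) (algebraMap B (integralClosure B (FractionRing B)) b) = _
      rw [hb]
      exact (congrFun ha' (σ i)).trans (by rw [σ.symm_apply_apply])

end Groth.Agent.FFCurve.WedgeCpl
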